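import Groth.Agent.H63.LocTensor
import Mathlib.AlgebraicGeometry.Morphisms.Flat
import Mathlib.AlgebraicGeometry.AffineScheme

/-!
# The local rings of a base change `X_K` of a `k`-scheme to a field extension

`exists_prime_ringEquiv_stalk`: for a cartesian square `Y = X ×_k K`, and `x' ∈ Y` over `x ∈ X`, the
local ring `O_{Y,x'}` is the localization of `K ⊗[k] O_{X,x}` at a prime lying over `m_x`.
-/

set_option autoImplicit false
universe u
open CategoryTheory Limits AlgebraicGeometry TensorProduct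

namespace Groth.Agent.H63.StalkBaseChange

lemma primeCompl_map_ringEquiv {R P : Type*} [CommRing R] [CommRing P] (e : R ≃+* P)
    (q : Ideal P) [q.IsPrime] :
    (q.comap e.toRingHom).primeCompl.map e.toMonoidHom = q.primeCompl := by
  ext x
  simp only [Submonoid.mem_map]
  constructor
  · rintro ⟨y, hy, rfl⟩
    exact hy
  · intro hx
    refine ⟨e.symm x, ?_, by simp⟩
    show e.symm x ∉ q.comap e.toRingHom
    rw [Ideal.mem_comap]
    simpa using hx

variable {k K : Type u} [Field k] [Field K] [Algebra k K] {X Y : Scheme.{u}}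

/-- The `k`-algebra structure on the local ring of a `k`-scheme. -/
@[reducible] noncomputable def stalkAlgebra (f : X ⟶ Spec (CommRingCat.of k)) (x : X) :
    Algebra k (X.presheaf.stalk x) :=
  ((Scheme.ΓSpecIso (CommRingCat.of k)).inv ≫ f.appTop ≫ X.presheaf.germ ⊤ x trivial).hom.toAlgebra

theorem exists_prime_ringEquiv_stalk (f : X ⟶ Spec (CommRingCat.of k)) (π : Y ⟶ X)
    (s : Y ⟶ Spec (CommRingCat.of K))
    (H : IsPullback π s f (Spec.map (CommRingCat.ofHom (algebraMap k K)))) (x' : Y) (x : X)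
    (hx : π.base x' = x) :
    letI := stalkAlgebra f x
    ∃ (Q : Ideal (K ⊗[k] X.presheaf.stalk x)) (_ : Q.IsPrime),
      (∀ a ∈ IsLocalRing.maximalIdeal (X.presheaf.stalk x), (1 : K) ⊗ₜ[k] a ∈ Q) ∧
      Nonempty (Localization.AtPrime Q ≃+* Y.presheaf.stalk x') := by
  subst hx
  letI algk := stalkAlgebra f (π.base x')
  -- affine open neighbourhood of `x`
  obtain ⟨U, hU, hxU, -⟩ := TopologicalSpace.Opens.isBasis_iff_nbhd.mp X.isBasis_affineOpens
    (U := ⊤) (x := π.base x') trivial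
  have hU : IsAffineOpen U := hU
  let ι := Spec.map (CommRingCat.ofHom (algebraMap k K))
  let US : (Spec (CommRingCat.of k)).Opens := ⊤
  let UT : (Spec (CommRingCat.of K)).Opens := ⊤
  have hUS : IsAffineOpen US := isAffineOpen_top _
  have hUT : IsAffineOpen UT := isAffineOpen_top _
  have hUST : UT ≤ ι ⁻¹ᵁ US := le_top
  have hUSX : U ≤ f ⁻¹ᵁ US := le_top
  let UY : Y.Opens := π ⁻¹ᵁ U ⊓ s ⁻¹ᵁ UT
  have hUY : UY = π ⁻¹ᵁ U ⊓ s ⁻¹ᵁ UT := rfl
  have hx'UY : x' ∈ UY := ⟨hxU, trivial⟩
  have hUY' : IsAffineOpen UY := by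
    have : IsAffine _ := hUS
    have : IsAffine _ := hUT
    have : IsAffine _ := hU
    exact .of_isIso (Scheme.Hom.isPullback_resLE H hUST hUSX hUY).isoPullback.hom
  have hiso := isIso_pushoutSection_of_isAffineOpen H hUST hUSX hUY hUS hUT hU
  have hPO := (isIso_pushoutSection_iff H hUST hUSX hUY).mp hiso
  -- transport to a pushout square over `k`
  let fk : CommRingCat.of k ⟶ Γ(X, U) :=
    (Scheme.ΓSpecIso (CommRingCat.of k)).inv ≫ f.appLE US U hUSX
  let fK : CommRingCat.of K ⟶ Γ(Y, UY) :=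
    (Scheme.ΓSpecIso (CommRingCat.of K)).inv ≫ s.appLE UT UY (by simp [UY])
  have hPO' : IsPushout fk (CommRingCat.ofHom (algebraMap k K)) (π.appLE U UY (by simp [UY])) fK := by
    refine IsPushout.of_iso hPO (Scheme.ΓSpecIso (CommRingCat.of k)) (Iso.refl _)
      (Scheme.ΓSpecIso (CommRingCat.of K)) (Iso.refl _) ?_ ?_ ?_ ?_
    · simp [fk]
    · have : ι.appLE US UT hUST = ι.appTop := by
        rw [Scheme.Hom.appTop, Scheme.Hom.app_eq_appLE]
        rfl
      rw [this]
      exact Scheme.ΓSpecIso_naturality _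
    · simp
    · simp [fK]
  letI algA : Algebra k Γ(X, U) := fk.hom.toAlgebra
  have hT := (CommRingCat.isPushout_tensorProduct k K Γ(X, U)).flip
  have hfk : CommRingCat.ofHom (algebraMap k Γ(X, U)) = fk := rfl
  rw [hfk] at hT
  let e := hT.isoIsPushout _ _ hPO'
  have he_inl : CommRingCat.ofHom (Algebra.TensorProduct.includeRight (R := k) (A := K)
      (B := Γ(X, U))).toRingHom ≫ e.hom = π.appLE U UY (by simp [UY]) :=
    hT.inl_isoIsPushout_hom _ _ hPO'
  let eR : K ⊗[k] Γ(X, U) ≃+* Γ(Y, UY) := e.commRingCatIsoToRingEquiv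
  -- primes
  let q'' : Ideal Γ(Y, UY) := (hUY'.primeIdealOf ⟨x', hx'UY⟩).asIdeal
  let q' : Ideal (K ⊗[k] Γ(X, U)) := q''.comap eR.toRingHom
  let p : Ideal Γ(X, U) := (hU.primeIdealOf ⟨π.base x', hxU⟩).asIdeal
  have hp : q'.comap (Algebra.TensorProduct.includeRight : Γ(X, U) →ₐ[k] K ⊗[k] Γ(X, U)).toRingHom
      = p := by
    have h1 := IsAffineOpen.comap_primeIdealOf_appLE (f := π) U hU UY hUY' (by simp [UY]) hx'UY
    have h2 := congrArg PrimeSpectrum.asIdeal h1
    refine Eq.trans ?_ h2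
    show Ideal.comap _ (Ideal.comap eR.toRingHom q'') = Ideal.comap _ q''
    rw [Ideal.comap_comap]
    congr 1
    rw [← he_inl]
    rfl
  -- the stalks as localizations
  letI algx : Algebra Γ(X, U) (X.presheaf.stalk (π.base x')) :=
    TopCat.Presheaf.algebra_section_stalk X.presheaf ⟨π.base x', hxU⟩
  letI algx' : Algebra Γ(Y, UY) (Y.presheaf.stalk x') :=
    TopCat.Presheaf.algebra_section_stalk Y.presheaf ⟨x', hx'UY⟩
  haveI hlx : IsLocalization.AtPrime (X.presheaf.stalk (π.base x')) p :=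
    hU.isLocalization_stalk ⟨π.base x', hxU⟩
  haveI hlx' : IsLocalization.AtPrime (Y.presheaf.stalk x') q'' :=
    hUY'.isLocalization_stalk ⟨x', hx'UY⟩
  haveI hst : IsScalarTower k Γ(X, U) (X.presheaf.stalk (π.base x')) := by
    apply IsScalarTower.of_algebraMap_eq'
    show ((Scheme.ΓSpecIso (CommRingCat.of k)).inv ≫ f.appTop ≫
      X.presheaf.germ ⊤ (π.base x') trivial).hom =
      (X.presheaf.germ U (π.base x') hxU).hom.comp fk.hom
    rw [← CommRingCat.hom_comp]
    congr 1
    simp only [fk, Scheme.Hom.appLE, Scheme.Hom.appTop, Category.assoc,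
      TopCat.Presheaf.germ_res]
    rfl
  obtain ⟨Q, hQ, hQm, ⟨e1⟩⟩ :=
    Groth.Agent.H63.LocTensor.exists_prime_ringEquiv_localization_tensor k K Γ(X, U) q' p hp
      (X.presheaf.stalk (π.base x'))
  refine ⟨Q, hQ, ?_, ?_⟩
  · intro a ha
    apply hQm
    rw [IsLocalization.AtPrime.map_eq_maximalIdeal p]
    exact ha
  · have e2 : Localization.AtPrime q' ≃+* Y.presheaf.stalk x' :=
      IsLocalization.ringEquivOfRingEquiv (M := q'.primeCompl) (T := q''.primeCompl)
        (Localization.AtPrime q') (Y.presheaf.stalk x') eR (primeCompl_map_ringEquiv eR q'')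
    exact ⟨e1.trans e2⟩

end Groth.Agent.H63.StalkBaseChange
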