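import Mathlib
import Groth.Agent.S9246

/-!
# Smooth algebras over regular rings are regular
-/

set_option autoImplicit false
set_option linter.style.haveILetI false
universe u
open TensorProduct

namespace Groth.Agent.H63.SmoothRegular

theorem isRegularLocalRing_of_eq {B : Type u} [CommRing B] (I q : Ideal B) [hI : I.IsPrime]
    [hq : q.IsPrime] (h : I = q) (hreg : IsRegularLocalRing (Localization.AtPrime I)) :
    IsRegularLocalRing (Localization.AtPrime q) := by
  subst h
  exact hreg

/-- A smooth algebra over a regular ring is a regular ring. -/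
theorem isRegularRing_of_smooth (A B : Type u) [CommRing A] [CommRing B] [Algebra A B]
    [IsRegularRing A] [Algebra.Smooth A B] : IsRegularRing B := by
  haveI : IsNoetherianRing B := Algebra.FiniteType.isNoetherianRing A B
  rw [isRegularRing_iff]
  intro q hq
  obtain ⟨s, hs, hstd⟩ := Algebra.Smooth.exists_span_eq_top_isStandardSmooth A B
  obtain ⟨x, hxs, hxq⟩ : ∃ x ∈ s, x ∉ q := by
    by_contra hcon
    push Not at hcon
    have h1 : Ideal.span s ≤ q := Ideal.span_le.mpr hcon
    rw [hs] at h1
    exact hq.ne_top (top_le_iff.mp h1)
  haveI := hstd x hxs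
  obtain ⟨n, g, -, hg⟩ := RingHom.IsStandardSmooth.exists_etale_mvPolynomial
    (f := algebraMap A (Localization.Away x)) (RingHom.isStandardSmooth_algebraMap.mpr inferInstance)
  letI : Algebra (MvPolynomial (Fin n) A) (Localization.Away x) := g.toAlgebra
  haveI : Algebra.Etale (MvPolynomial (Fin n) A) (Localization.Away x) := hg
  have hdisj : Disjoint (Submonoid.powers x : Set B) (q : Set B) := by
    rw [Set.disjoint_left]
    rintro _ ⟨m, rfl⟩ hm
    exact hxq (hq.mem_of_pow_mem m hm)
  let q' : Ideal (Localization.Away x) := Ideal.map (algebraMap B (Localization.Away x)) q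
  haveI hq' : q'.IsPrime :=
    IsLocalization.isPrime_of_isPrime_disjoint (Submonoid.powers x) _ q hq hdisj
  have hcomap : q'.comap (algebraMap B (Localization.Away x)) = q :=
    IsLocalization.under_map_of_isPrime_disjoint (Submonoid.powers x) _ hq hdisj
  have h1 : IsRegularLocalRing (Localization.AtPrime q') := by
    rw [← Groth.Agent.S9246.result (MvPolynomial (Fin n) A) (Localization.Away x) q']
    infer_instance
  let e := IsLocalization.localizationLocalizationAtPrimeIsoLocalization (Submonoid.powers x) q'
  have h2 : IsRegularLocalRing
      (Localization.AtPrime (q'.comap (algebraMap B (Localization (Submonoid.powers x))))) :=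
    IsRegularLocalRing.of_ringEquiv e.symm.toRingEquiv
  exact isRegularLocalRing_of_eq _ q hcomap h2

end Groth.Agent.H63.SmoothRegular
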