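import Mathlib
import Groth.Agent.H63.SmoothRegular
import Groth.Prelude.Def_Found

/-!
# Geometric regularity and smooth maps
-/

set_option autoImplicit false
set_option linter.style.haveILetI false
universe u
open TensorProduct CategoryTheory AlgebraicGeometry

namespace Groth.Agent.H63.SmoothRegular

/-- `S9408`. -/
theorem isGeometricallyRegular_of_smooth (k : Type u) [Field k] (A : Type u) [CommRing A]
    [Algebra k A] (B : Type u) [CommRing B] [Algebra k B] [Algebra A B]
    [IsScalarTower k A B] [Algebra.Smooth A B] (hA : CAlg.IsGeometricallyRegular k A) :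
    CAlg.IsGeometricallyRegular k B := by
  intro k' _ _ hfin
  haveI h0 : IsRegularRing (k' ⊗[k] A) := hA k' hfin
  haveI h1 : IsRegularRing (A ⊗[k] k') :=
    IsRegularRing.of_ringEquiv (Algebra.TensorProduct.comm k k' A).toRingEquiv
  haveI h2 : IsRegularRing ((A ⊗[k] k') ⊗[A] B) :=
    isRegularRing_of_smooth (A ⊗[k] k') ((A ⊗[k] k') ⊗[A] B)
  let e1 : (A ⊗[k] k') ⊗[A] B ≃+* B ⊗[A] (A ⊗[k] k') :=
    (Algebra.TensorProduct.comm A (A ⊗[k] k') B).toRingEquiv
  let e2 : B ⊗[A] (A ⊗[k] k') ≃+* B ⊗[k] k' :=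
    (Algebra.TensorProduct.cancelBaseChange k A A B k').toRingEquiv
  let e3 : B ⊗[k] k' ≃+* k' ⊗[k] B := (Algebra.TensorProduct.comm k B k').toRingEquiv
  exact IsRegularRing.of_ringEquiv ((e1.trans e2).trans e3)

theorem isGeometricallyRegular_self (k : Type u) [Field k] : CAlg.IsGeometricallyRegular k k := by
  intro k' _ _ _
  haveI : IsRegularRing k' := inferInstance
  exact IsRegularRing.of_ringEquiv (Algebra.TensorProduct.rid k k k').symm.toRingEquiv

/-- A smooth ring map is regular. -/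
theorem isRegularHom_of_smooth (R S : Type u) [CommRing R] [CommRing S] [Algebra R S]
    [Algebra.Smooth R S] : CAlg.IsRegularHom R S := by
  refine ⟨inferInstance, fun p _ => ?_⟩
  haveI : Algebra.Smooth p.ResidueField (p.Fiber S) := inferInstance
  refine ⟨Algebra.FiniteType.isNoetherianRing p.ResidueField (p.Fiber S), ?_⟩
  exact isGeometricallyRegular_of_smooth p.ResidueField p.ResidueField (p.Fiber S)
    (isGeometricallyRegular_self _)

/-- `S1535` in general form. -/
theorem isRegularLocalRing_stalk_of_smooth {K : Type u} [Field K] {X : Scheme.{u}}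
    (f : X ⟶ Spec (CommRingCat.of K)) [Smooth f] (x : X) :
    IsRegularLocalRing (X.presheaf.stalk x) := by
  obtain ⟨_, ⟨U, hU, rfl⟩, hxU, -⟩ :=
    X.isBasis_affineOpens.exists_subset_of_mem_open (Set.mem_univ x) isOpen_univ
  have hV : IsAffineOpen (⊤ : (Spec (CommRingCat.of K)).Opens) := isAffineOpen_top _
  have hUV : U ≤ f ⁻¹ᵁ ⊤ := le_top
  have hsm := f.smooth_appLE hV hU hUV
  letI : Algebra Γ(Spec (CommRingCat.of K), ⊤) Γ(X, U) := (f.appLE ⊤ U hUV).hom.toAlgebra
  haveI : Algebra.Smooth Γ(Spec (CommRingCat.of K), ⊤) Γ(X, U) := hsm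
  haveI : IsRegularRing K := inferInstance
  haveI : IsRegularRing Γ(Spec (CommRingCat.of K), ⊤) :=
    IsRegularRing.of_ringEquiv (Scheme.ΓSpecIso (CommRingCat.of K)).commRingCatIsoToRingEquiv.symm
  haveI : IsRegularRing Γ(X, U) := isRegularRing_of_smooth Γ(Spec (CommRingCat.of K), ⊤) Γ(X, U)
  letI : Algebra Γ(X, U) (X.presheaf.stalk x) := X.presheaf.algebra_section_stalk ⟨x, hxU⟩
  haveI : IsLocalization.AtPrime (X.presheaf.stalk x) (hU.primeIdealOf ⟨x, hxU⟩).asIdeal :=
    hU.isLocalization_stalk ⟨x, hxU⟩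
  exact IsRegularLocalRing.of_ringEquiv
    (IsLocalization.algEquiv (hU.primeIdealOf ⟨x, hxU⟩).asIdeal.primeCompl
      (Localization.AtPrime (hU.primeIdealOf ⟨x, hxU⟩).asIdeal) (X.presheaf.stalk x)).toRingEquiv

end Groth.Agent.H63.SmoothRegular
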