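import Mathlib

/-!
# Tangent data of an augmented Noetherian local ring (helper63)
-/

set_option autoImplicit false
open IsLocalRing

namespace Groth.Agent.H63.TangentData

variable {A K : Type*} [CommRing A] [IsLocalRing A] [Field K] (α : K →+* A) (φ : A →+* K)

theorem ker_eq_maximalIdeal (h : φ.comp α = RingHom.id K) : RingHom.ker φ = maximalIdeal A := by
  have hsurj : Function.Surjective φ := fun k => ⟨α k, RingHom.congr_fun h k⟩
  haveI := RingHom.ker_isMaximal_of_surjective φ hsurj
  exact IsLocalRing.eq_maximalIdeal inferInstance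

theorem sub_mem (h : φ.comp α = RingHom.id K) (a : A) : a - α (φ a) ∈ maximalIdeal A := by
  rw [← ker_eq_maximalIdeal α φ h, RingHom.mem_ker, map_sub]
  have h1 : φ (α (φ a)) = φ a := RingHom.congr_fun h (φ a)
  rw [h1, sub_self]

theorem exists_tangent_data [IsNoetherianRing A] (h : φ.comp α = RingHom.id K) :
    ∃ (n : ℕ) (x : Fin n → A) (d : Fin n → (A →+ K)),
      (∀ i, x i ∈ maximalIdeal A) ∧
      (∀ i a b, d i (a * b) = φ a * d i b + φ b * d i a) ∧
      (∀ i k, d i (α k) = 0) ∧
      (∀ i j, d i (x j) = if i = j then 1 else 0) ∧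
      (∀ y ∈ maximalIdeal A, ∃ c : Fin n → A, y - ∑ i, c i * x i ∈ maximalIdeal A ^ 2) := by
  classical
  have hker := ker_eq_maximalIdeal α φ h
  have hαφ : ∀ k, φ (α k) = k := fun k => RingHom.congr_fun h k
  let φb : ResidueField A →+* K := Ideal.Quotient.lift (maximalIdeal A) φ
    (fun a ha => by rw [← hker] at ha; exact ha)
  have hφb : ∀ a, φb (algebraMap A (ResidueField A) a) = φ a :=
    fun a => Ideal.Quotient.lift_mk _ _ _
  let b := Module.finBasis (ResidueField A) (CotangentSpace A)
  choose xs hxs using fun i => (maximalIdeal A).toCotangent_surjective (b i)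
  let p : A → maximalIdeal A := fun a => ⟨a - α (φ a), sub_mem α φ h a⟩
  have hp_add : ∀ a a', p (a + a') = p a + p a' := by
    intro a a'
    apply Subtype.ext
    simp only [p, map_add, Submodule.coe_add]
    ring
  have hp_mul : ∀ a a', p (a * a') = α (φ a) • p a' + α (φ a') • p a +
      ⟨(p a : A) * (p a' : A), Ideal.mul_mem_left _ _ (p a').2⟩ := by
    intro a a'
    apply Subtype.ext
    simp only [p, map_mul, Submodule.coe_add, Submodule.coe_smul, smul_eq_mul]
    ring
  have hp_alg : ∀ k, p (α k) = 0 := by
    intro k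
    apply Subtype.ext
    simp only [p, hαφ, sub_self, Submodule.coe_zero]
  have hp_mem : ∀ y : maximalIdeal A, p (y : A) = y := by
    intro y
    apply Subtype.ext
    have h0 : φ (y : A) = 0 := by
      have h2 : (y : A) ∈ RingHom.ker φ := by rw [hker]; exact y.2
      exact h2
    simp only [p, h0, map_zero, sub_zero]
  let d : Fin _ → (A →+ K) := fun i =>
    { toFun := fun a => φb (b.coord i ((maximalIdeal A).toCotangent (p a)))
      map_zero' := by
        have h0 : p 0 = 0 := by simpa using hp_alg 0
        simp only [h0, map_zero]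
      map_add' := fun a a' => by simp only [hp_add, map_add] }
  have hd : ∀ i a, d i a = φb (b.coord i ((maximalIdeal A).toCotangent (p a))) := fun _ _ => rfl
  have hsm : ∀ (i : Fin _) (r : A) (w : CotangentSpace A),
      φb (b.coord i (r • w)) = φ r * φb (b.coord i w) := by
    intro i r w
    rw [← algebraMap_smul (ResidueField A) r w, map_smul, smul_eq_mul, map_mul, hφb]
  refine ⟨_, fun i => (xs i : A), d, fun i => (xs i).2, ?_, ?_, ?_, ?_⟩
  · intro i a a'
    have h0 : (maximalIdeal A).toCotangent
        ⟨(p a : A) * (p a' : A), Ideal.mul_mem_left _ _ (p a').2⟩ = 0 := by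
      rw [Ideal.toCotangent_eq_zero, pow_two]
      exact Ideal.mul_mem_mul (p a).2 (p a').2
    have h1 : (maximalIdeal A).toCotangent (p (a * a')) =
        α (φ a) • (maximalIdeal A).toCotangent (p a') +
          α (φ a') • (maximalIdeal A).toCotangent (p a) := by
      rw [hp_mul, map_add, map_add, h0, add_zero, map_smul, map_smul]
    rw [hd, hd, hd, h1, map_add, map_add, hsm, hsm, hαφ, hαφ]
  · intro i k
    rw [hd, hp_alg, map_zero, map_zero, map_zero]
  · intro i j
    rw [hd, hp_mem, hxs, Module.Basis.coord_apply, Module.Basis.repr_self, Finsupp.single_apply]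
    split_ifs with h1 h2 h2
    · exact map_one _
    · exact absurd h1.symm h2
    · exact absurd h2.symm h1
    · exact map_zero _
  · intro y hy
    choose c hc using fun i => Ideal.Quotient.mk_surjective
      (b.repr ((maximalIdeal A).toCotangent ⟨y, hy⟩) i)
    refine ⟨c, ?_⟩
    have h1 : (maximalIdeal A).toCotangent ⟨y, hy⟩ =
        (maximalIdeal A).toCotangent (∑ i, c i • xs i) := by
      rw [map_sum]
      conv_lhs => rw [← b.sum_repr ((maximalIdeal A).toCotangent ⟨y, hy⟩)]
      refine Finset.sum_congr rfl (fun i _ => ?_)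
      rw [map_smul, hxs i, ← hc i]
      exact algebraMap_smul (ResidueField A) (c i) (b i)
    rw [Ideal.toCotangent_eq] at h1
    simpa using h1

end Groth.Agent.H63.TangentData
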