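import Mathlib
import Groth.Prelude.Def_AlgGrp

/-!
# Translations for actions of group objects in `Over S` (helper63)

For an action `a` of a group object `G` on `X` (objects of `Over S`): functor-of-points identities,
left translations `L τ : G ≅ G`, the automorphisms `A τ : X ≅ X` and equivariance of orbit maps.
-/

set_option autoImplicit false
universe u
open CategoryTheory MonoidalCategory CartesianMonoidalCategory MonObj GrpObj AlgebraicGeometry

namespace Groth.Agent.H63.ActionTranslate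

variable {S : Scheme.{u}} {G X : Over S} [GrpObj G] (a : AlgGrp.Action G X)

lemma act_one {T : Over S} (y : T ⟶ X) : lift (toUnit T ≫ η[G]) y ≫ a.act = y := by
  have := lift (toUnit T) y ≫= a.one_act
  rwa [lift_whiskerRight_assoc, lift_leftUnitor_hom] at this

lemma act_one' {T : Over S} (y : T ⟶ X) : lift (1 : T ⟶ G) y ≫ a.act = y := act_one a y

lemma act_mul {T : Over S} (g h : T ⟶ G) (y : T ⟶ X) :
    lift (g * h) y ≫ a.act = lift g (lift h y ≫ a.act) ≫ a.act := by
  have := lift (lift g h) y ≫= a.mul_act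
  rwa [lift_whiskerRight_assoc, lift_lift_associator_hom_assoc, lift_whiskerLeft_assoc] at this

lemma comp_orbitMap {T : Over S} (x : 𝟙_ (Over S) ⟶ X) (g : T ⟶ G) :
    g ≫ a.orbitMap x = lift g (toUnit T ≫ x) ≫ a.act := by
  unfold AlgGrp.Action.orbitMap
  rw [comp_lift_assoc, Category.comp_id, ← Category.assoc, comp_toUnit]

/-- Left translation by a section of `G`. -/
noncomputable def L (τ : 𝟙_ (Over S) ⟶ G) : G ⟶ G := (toUnit G ≫ τ) * 𝟙 G

lemma L_comp (τ τ' : 𝟙_ (Over S) ⟶ G) : L τ ≫ L τ' = L (τ' * τ) := by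
  unfold L
  rw [MonObj.comp_mul, Category.comp_id, ← Category.assoc, comp_toUnit, ← _root_.mul_assoc,
    ← MonObj.comp_mul]

lemma L_one : L (1 : 𝟙_ (Over S) ⟶ G) = 𝟙 G := by
  unfold L
  rw [MonObj.comp_one, _root_.one_mul]

/-- Left translation as an isomorphism. -/
noncomputable def Liso (τ : 𝟙_ (Over S) ⟶ G) : G ≅ G where
  hom := L τ
  inv := L τ⁻¹
  hom_inv_id := by rw [L_comp, _root_.inv_mul_cancel, L_one]
  inv_hom_id := by rw [L_comp, _root_.mul_inv_cancel, L_one]

lemma point_comp_L (σ τ : 𝟙_ (Over S) ⟶ G) : σ ≫ L τ = τ * σ := by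
  unfold L
  rw [MonObj.comp_mul, Category.comp_id, ← Category.assoc, comp_toUnit, toUnit_unit,
    Category.id_comp]

/-- The automorphism of `X` given by a section of `G`. -/
noncomputable def A (τ : 𝟙_ (Over S) ⟶ G) : X ⟶ X := lift (toUnit X ≫ τ) (𝟙 X) ≫ a.act

lemma A_comp (τ τ' : 𝟙_ (Over S) ⟶ G) : A a τ ≫ A a τ' = A a (τ' * τ) := by
  have h1 : A a τ ≫ A a τ' = lift (toUnit X ≫ τ') (A a τ) ≫ a.act := by
    conv_lhs => rw [A]
    rw [A, comp_lift_assoc, Category.comp_id, ← Category.assoc, comp_toUnit]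
    rfl
  rw [h1]
  conv_lhs => rw [A]
  rw [← act_mul, A, MonObj.comp_mul]

lemma A_one : A a (1 : 𝟙_ (Over S) ⟶ G) = 𝟙 X := by
  unfold A
  rw [MonObj.comp_one]
  exact act_one' a _

/-- The automorphism of `X` given by a section of `G`, as an isomorphism. -/
noncomputable def Aiso (τ : 𝟙_ (Over S) ⟶ G) : X ≅ X where
  hom := A a τ
  inv := A a τ⁻¹
  hom_inv_id := by rw [A_comp, _root_.inv_mul_cancel, A_one]
  inv_hom_id := by rw [A_comp, _root_.mul_inv_cancel, A_one]

/-- Equivariance of the orbit map. -/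
lemma L_comp_orbitMap (x : 𝟙_ (Over S) ⟶ X) (τ : 𝟙_ (Over S) ⟶ G) :
    L τ ≫ a.orbitMap x = a.orbitMap x ≫ A a τ := by
  rw [comp_orbitMap]
  have h1 : lift (L τ) (toUnit G ≫ x) ≫ a.act =
      lift (toUnit G ≫ τ) (a.orbitMap x) ≫ a.act := by
    unfold L
    rw [act_mul]
    rfl
  rw [h1, A, comp_lift_assoc, Category.comp_id, ← Category.assoc, comp_toUnit]

lemma point_comp_orbitMap (x : 𝟙_ (Over S) ⟶ X) (σ : 𝟙_ (Over S) ⟶ G) :
    σ ≫ a.orbitMap x = lift σ x ≫ a.act := by
  rw [comp_orbitMap, toUnit_unit, Category.id_comp]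

lemma smoothLocus_congr {G X : Scheme.{u}} {f g : G ⟶ X} [LocallyOfFinitePresentation f]
    [LocallyOfFinitePresentation g] (h : f = g) : f.smoothLocus = g.smoothLocus := by
  subst h; rfl

/-- The smooth locus of `φ` is stable under an automorphism of the source covering an automorphism
of the target. -/
lemma mem_smoothLocus_of_iso_comm {G X : Scheme.{u}} (φ : G ⟶ X) [LocallyOfFinitePresentation φ]
    (ℓ : G ⟶ G) (α : X ⟶ X) [IsIso ℓ] [IsIso α] (h : ℓ ≫ φ = φ ≫ α) (g : G)
    (hg : g ∈ φ.smoothLocus) : ℓ g ∈ φ.smoothLocus := by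
  have h1 : g ∈ (ℓ ≫ φ).smoothLocus := by
    have h2 : (ℓ ≫ φ).smoothLocus = (φ ≫ α).smoothLocus := smoothLocus_congr h
    rw [h2, Scheme.Hom.mem_smoothLocus, Scheme.Hom.stalkMap_comp]
    exact (RingHom.FormallySmooth.respectsIso.cancel_left_isIso (α.stalkMap (φ g))
      (φ.stalkMap g)).mpr hg
  rwa [← Scheme.Hom.preimage_smoothLocus_eq, Scheme.Hom.mem_preimage] at h1

/-- Over an algebraically closed field, every closed point of a locally finite type scheme is the
image of a section. -/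
lemma exists_section_of_isClosed {k : Type u} [Field k] [IsAlgClosed k]
    (Z : Over (Spec (CommRingCat.of k))) [LocallyOfFiniteType Z.hom] (z : Z.left)
    (hz : IsClosed {z}) :
    ∃ σ : 𝟙_ (Over (Spec (CommRingCat.of k))) ⟶ Z, σ.left (IsLocalRing.closedPoint k) = z :=
  ⟨Over.homMk (U := 𝟙_ (Over (Spec (CommRingCat.of k)))) (V := Z) (pointOfClosedPoint Z.hom z hz)
    (pointOfClosedPoint_comp Z.hom z hz), pointOfClosedPoint_apply Z.hom z hz _⟩

end Groth.Agent.H63.ActionTranslate
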