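import Mathlib
import Groth.Agent.H68.FlatLoc
import Groth.Agent.H40.MaxOpen2

/-!
# A surjective homomorphism of group schemes over a field onto a reduced group is flat (helper63)
-/

set_option autoImplicit false
set_option linter.style.haveILetI false
set_option linter.unusedSectionVars false
universe u
open CategoryTheory CategoryTheory.Limits AlgebraicGeometry MonoidalCategory
  CartesianMonoidalCategory MonObj

namespace Groth.Agent.H63.GrpHomFlat

/-- Flatness is local on the source for flat surjective maps. -/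
theorem flat_of_flat_comp {X' X Y : Scheme.{u}} (p : X' ⟶ X) (f : X ⟶ Y) [Flat p] [Surjective p]
    [Flat (p ≫ f)] : Flat f := by
  refine Flat.of_stalkMap f (fun x => ?_)
  obtain ⟨t, rfl⟩ := p.surjective x
  exact Groth.Agent.H68.FlatLoc.flat_stalkMap_of_comp p f t

theorem flat_fromSpecStalk (X : Scheme.{u}) (x : X) : Flat (X.fromSpecStalk x) := by
  obtain ⟨_, ⟨U, hU, rfl⟩, hxU, -⟩ :=
    X.isBasis_affineOpens.exists_subset_of_mem_open (Set.mem_univ x) isOpen_univ
  rw [← hU.fromSpecStalk_eq_fromSpecStalk hxU]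
  dsimp [IsAffineOpen.fromSpecStalk]
  have : Flat (Spec.map (X.presheaf.germ U x hxU)) := by
    rw [Flat.SpecMap_iff]
    letI : Algebra Γ(X, U) (X.presheaf.stalk x) := (X.presheaf.germ U x hxU).hom.toAlgebra
    haveI := hU.isLocalization_stalk ⟨x, hxU⟩
    exact IsLocalization.flat (X.presheaf.stalk x) (hU.primeIdealOf ⟨x, hxU⟩).asIdeal.primeCompl
  have h2 : IsOpenImmersion hU.fromSpec := hU.isOpenImmersion_fromSpec
  exact Flat.comp _ _

/-- A nonempty reduced scheme has a point whose local ring is a field. -/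
theorem exists_isField_stalk (H : Scheme.{u}) [IsReduced H] [Nonempty H] :
    ∃ ξ : H, IsField (H.presheaf.stalk ξ) := by
  obtain ⟨x₀⟩ := ‹Nonempty H›
  have hirr := isIrreducible_irreducibleComponent (x := x₀)
  have hcl := isClosed_irreducibleComponent (x := x₀)
  refine ⟨hirr.genericPoint, isField_stalk_of_closure_mem_irreducibleComponents H _ ?_⟩
  rw [show closure {hirr.genericPoint} = irreducibleComponent x₀ from
    hirr.isGenericPoint_genericPoint hcl]
  exact irreducibleComponent_mem_irreducibleComponents x₀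

section Shear

variable {C : Type*} [Category C] [CartesianMonoidalCategory C] {G : C} [GrpObj G] {X : C}

/-- `(g, x) ↦ (g · a x, x)`. -/
def shear (a : X ⟶ G) : G ⊗ X ⟶ G ⊗ X := lift (fst G X * (snd G X ≫ a)) (snd G X)

lemma shear_fst (a : X ⟶ G) : shear a ≫ fst G X = fst G X * (snd G X ≫ a) := lift_fst _ _

lemma shear_snd (a : X ⟶ G) : shear a ≫ snd G X = snd G X := lift_snd _ _

lemma shear_comp (a b : X ⟶ G) : shear a ≫ shear b = shear (a * b) := by
  apply CartesianMonoidalCategory.hom_ext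
  · rw [Category.assoc, shear_fst, MonObj.comp_mul, shear_fst, ← Category.assoc, shear_snd,
      shear_fst, MonObj.comp_mul, _root_.mul_assoc]
  · rw [Category.assoc, shear_snd, shear_snd, shear_snd]

lemma shear_one : shear (1 : X ⟶ G) = 𝟙 _ := by
  apply CartesianMonoidalCategory.hom_ext
  · rw [shear_fst, MonObj.comp_one, _root_.mul_one, Category.id_comp]
  · rw [shear_snd, Category.id_comp]

instance (a : X ⟶ G) : IsIso (shear a) :=
  ⟨shear a⁻¹, by rw [shear_comp, _root_.mul_inv_cancel, shear_one],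
    by rw [shear_comp, _root_.inv_mul_cancel, shear_one]⟩

lemma whiskerLeft_eq_lift {A B : C} (f : A ⟶ B) : G ◁ f = lift (fst G A) (snd G A ≫ f) := by
  apply CartesianMonoidalCategory.hom_ext
  · rw [whiskerLeft_fst, lift_fst]
  · rw [whiskerLeft_snd, lift_snd]

lemma mul_comp_hom {H : C} [GrpObj H] (φ : G ⟶ H) [IsMonHom φ] (a : X ⟶ G) :
    (fst G X * (snd G X ≫ a)) ≫ φ = (G ◁ (a ≫ φ)) ≫ (φ ▷ H) ≫ μ[H] := by
  rw [MonObj.mul_comp, whiskerLeft_eq_lift, lift_whiskerRight_assoc, ← Hom.mul_def,
    Category.assoc]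

end Shear

section Key

variable {k : Type u} [Field k] {G H : Over (Spec (CommRingCat.of k))} [GrpObj G] [GrpObj H]

theorem flat_left_of_isField (φ : G ⟶ H) [IsMonHom φ] [Surjective φ.left] (ξ : H.left)
    (hξ : IsField (H.left.presheaf.stalk ξ)) : Flat φ.left := by
  letI : Field (H.left.presheaf.stalk ξ) := hξ.toField
  haveI : Flat (H.left.fromSpecStalk ξ) := flat_fromSpecStalk _ _
  haveI : IsIntegral (Spec (H.left.presheaf.stalk ξ)) := inferInstance
  haveI : Subsingleton (Spec (H.left.presheaf.stalk ξ)) :=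
    inferInstanceAs (Subsingleton (PrimeSpectrum (H.left.presheaf.stalk ξ)))
  haveI : Flat (pullback.snd φ.left (H.left.fromSpecStalk ξ)) := inferInstance
  obtain ⟨Pₒ, a, hψ, hne⟩ : ∃ (Pₒ : Over (Spec (CommRingCat.of k))) (a : Pₒ ⟶ G),
      Flat (a ≫ φ).left ∧ Nonempty Pₒ.left := by
    refine ⟨Over.mk (pullback.fst φ.left (H.left.fromSpecStalk ξ) ≫ G.hom),
      Over.homMk (pullback.fst φ.left (H.left.fromSpecStalk ξ)) rfl, ?_, ?_⟩
    · have e : (Over.homMk (pullback.fst φ.left (H.left.fromSpecStalk ξ)) rfl ≫ φ :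
          Over.mk (pullback.fst φ.left (H.left.fromSpecStalk ξ) ≫ G.hom) ⟶ H).left =
          pullback.snd φ.left (H.left.fromSpecStalk ξ) ≫ H.left.fromSpecStalk ξ :=
        pullback.condition
      rw [e]
      infer_instance
    · obtain ⟨u, hu⟩ := φ.left.surjective ξ
      obtain ⟨z, -, -⟩ := Scheme.Pullback.exists_preimage_pullback (f := φ.left)
        (g := H.left.fromSpecStalk ξ) u (IsLocalRing.closedPoint _)
        (by rw [hu]; exact (H.left.fromSpecStalk_closedPoint).symm)
      exact ⟨z⟩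
  haveI : Flat G.hom := inferInstance
  haveI : Flat Pₒ.hom := inferInstance
  haveI : Surjective Pₒ.hom := ⟨fun s => by
    obtain ⟨z⟩ := hne
    exact ⟨z, @Subsingleton.elim (PrimeSpectrum k) inferInstance _ _⟩⟩
  haveI hf1 : Flat (fst G Pₒ).left := by rw [Over.fst_left]; infer_instance
  haveI hs1 : Surjective (fst G Pₒ).left := by rw [Over.fst_left]; infer_instance
  haveI : IsIso (shear a).left :=
    (inferInstance : IsIso ((Over.forget _).map (shear a)))
  have hm : (fst G Pₒ * (snd G Pₒ ≫ a)).left = (shear a).left ≫ (fst G Pₒ).left := by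
    rw [← Over.comp_left, shear_fst]
  haveI hmf : Flat (fst G Pₒ * (snd G Pₒ ≫ a)).left := by rw [hm]; infer_instance
  haveI hms : Surjective (fst G Pₒ * (snd G Pₒ ≫ a)).left := by rw [hm]; infer_instance
  have SQ2 : IsPullback (fst G H).left ((φ ▷ H) ≫ μ[H]).left (toUnit G).left (toUnit H).left :=
    (Groth.Agent.H40.MaxOpen.sq_prod φ).map (Over.forget _)
  have hflat_m : Flat ((φ ▷ H) ≫ μ[H]).left :=
    MorphismProperty.of_isPullback (P := @Flat) SQ2 (inferInstance : Flat G.hom)
  have hflat_w : Flat (G ◁ (a ≫ φ)).left := by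
    rw [Over.whiskerLeft_left]
    exact MorphismProperty.pullbackMap (P := @Flat) (inferInstance : Flat (𝟙 _)) hψ
      (Category.id_comp _).symm (Over.w (a ≫ φ)).symm
  haveI : Flat ((fst G Pₒ * (snd G Pₒ ≫ a)).left ≫ φ.left) := by
    rw [← Over.comp_left, mul_comp_hom, Over.comp_left]
    exact Flat.comp _ _
  exact flat_of_flat_comp (fst G Pₒ * (snd G Pₒ ≫ a)).left φ.left

theorem flat_left_of_isReduced (φ : G ⟶ H) [IsMonHom φ] [Surjective φ.left] [IsReduced H.left] :
    Flat φ.left := by
  haveI : Nonempty H.left := ⟨η[H].left (IsLocalRing.closedPoint k)⟩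
  obtain ⟨ξ, hξ⟩ := exists_isField_stalk H.left
  exact flat_left_of_isField φ ξ hξ

end Key

end Groth.Agent.H63.GrpHomFlat
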