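import Mathlib
import Groth.Prelude.Def_AlgGrp
import Groth.Agent.H63.GrpHomFlat
import Groth.Agent.H63.ActionTranslate

/-!
# Flatness of homomorphisms / orbit maps from flatness at one point (helper63)
-/

set_option autoImplicit false
set_option linter.style.haveILetI false
set_option linter.unusedSectionVars false
universe u
open CategoryTheory CategoryTheory.Limits AlgebraicGeometry MonoidalCategory
  CartesianMonoidalCategory MonObj

namespace Groth.Agent.H63.GrpFlatPt

open Groth.Agent.H63.GrpHomFlat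

section General

variable {S : Scheme.{u}} {G : Over S} [GrpObj G]

/-- the multiplication-with-a-test-object map `(g, p) ↦ g · a p` is flat and surjective when the
test object is flat and surjective over the base -/
theorem flat_surjective_mulMap (Pₒ : Over S) (a : Pₒ ⟶ G) [Flat Pₒ.hom] [Surjective Pₒ.hom] :
    Flat (fst G Pₒ * (snd G Pₒ ≫ a)).left ∧ Surjective (fst G Pₒ * (snd G Pₒ ≫ a)).left := by
  haveI hf1 : Flat (fst G Pₒ).left := by rw [Over.fst_left]; infer_instance
  haveI hs1 : Surjective (fst G Pₒ).left := by rw [Over.fst_left]; infer_instance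
  haveI : IsIso (shear a).left :=
    (inferInstance : IsIso ((Over.forget _).map (shear a)))
  have hm : (fst G Pₒ * (snd G Pₒ ≫ a)).left = (shear a).left ≫ (fst G Pₒ).left := by
    rw [← Over.comp_left, shear_fst]
  rw [hm]
  exact ⟨inferInstance, inferInstance⟩

theorem flat_whiskerLeft {A B : Over S} (f : A ⟶ B) (hf : Flat f.left) : Flat (G ◁ f).left := by
  rw [Over.whiskerLeft_left]
  exact MorphismProperty.pullbackMap (P := @Flat) (inferInstance : Flat (𝟙 _)) hf
    (Category.id_comp _).symm (Over.w f).symm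

/-- Flatness of a homomorphism from flatness after composing with a flat surjective test object. -/
theorem flat_left_of_flat_comp {H : Over S} [GrpObj H] [Flat G.hom] (φ : G ⟶ H) [IsMonHom φ]
    (Pₒ : Over S) (a : Pₒ ⟶ G) [Flat Pₒ.hom] [Surjective Pₒ.hom] (hψ : Flat (a ≫ φ).left) :
    Flat φ.left := by
  obtain ⟨hmf, hms⟩ := flat_surjective_mulMap Pₒ a
  haveI := hmf
  haveI := hms
  have SQ2 : IsPullback (fst G H).left ((φ ▷ H) ≫ μ[H]).left (toUnit G).left (toUnit H).left :=
    (Groth.Agent.H40.MaxOpen.sq_prod φ).map (Over.forget _)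
  have hflat_m : Flat ((φ ▷ H) ≫ μ[H]).left :=
    MorphismProperty.of_isPullback (P := @Flat) SQ2 (inferInstance : Flat G.hom)
  have hflat_w : Flat (G ◁ (a ≫ φ)).left := flat_whiskerLeft _ hψ
  haveI : Flat ((fst G Pₒ * (snd G Pₒ ≫ a)).left ≫ φ.left) := by
    rw [← Over.comp_left, mul_comp_hom, Over.comp_left]
    exact Flat.comp _ _
  exact flat_of_flat_comp (fst G Pₒ * (snd G Pₒ ≫ a)).left φ.left

variable {X : Over S} (act : AlgGrp.Action G X)

open Groth.Agent.H63.ActionTranslate in
theorem sq_act : IsPullback (fst G X) act.act (toUnit G) (toUnit X) := by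
  refine Groth.Agent.H40.FpqcFam.isPullback_of_pts (toUnit_unique _ _) ?_
  intro T g x _
  refine ⟨lift g (lift g⁻¹ x ≫ act.act), ⟨lift_fst _ _, ?_⟩, ?_⟩
  · rw [← act_mul, _root_.mul_inv_cancel, act_one']
  · rintro q ⟨hq1, hq2⟩
    have hq : q = lift (q ≫ fst G X) (q ≫ snd G X) := by
      apply CartesianMonoidalCategory.hom_ext
      · rw [lift_fst]
      · rw [lift_snd]
    apply CartesianMonoidalCategory.hom_ext
    · rw [lift_fst, hq1]
    · rw [lift_snd, ← hq2]
      conv_rhs => rw [hq]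
      rw [hq1, ← act_mul, _root_.inv_mul_cancel, act_one']

theorem flat_act [Flat G.hom] : Flat act.act.left := by
  have SQ : IsPullback (fst G X).left act.act.left (toUnit G).left (toUnit X).left :=
    (sq_act act).map (Over.forget _)
  exact MorphismProperty.of_isPullback (P := @Flat) SQ (inferInstance : Flat G.hom)

open Groth.Agent.H63.ActionTranslate in
theorem mul_comp_orbitMap (s₀ : 𝟙_ (Over S) ⟶ X) {Pₒ : Over S} (a : Pₒ ⟶ G) :
    (fst G Pₒ * (snd G Pₒ ≫ a)) ≫ act.orbitMap s₀ =
      (G ◁ (a ≫ act.orbitMap s₀)) ≫ act.act := by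
  rw [comp_orbitMap, act_mul, ← comp_orbitMap, whiskerLeft_eq_lift, Category.assoc]

/-- Flatness of an orbit map from flatness after composing with a flat surjective test object. -/
theorem flat_orbitMap_of_flat_comp [Flat G.hom] (s₀ : 𝟙_ (Over S) ⟶ X)
    (Pₒ : Over S) (a : Pₒ ⟶ G) [Flat Pₒ.hom] [Surjective Pₒ.hom]
    (hψ : Flat (a ≫ act.orbitMap s₀).left) : Flat (act.orbitMap s₀).left := by
  obtain ⟨hmf, hms⟩ := flat_surjective_mulMap Pₒ a
  haveI := hmf
  haveI := hms
  have hflat_m : Flat act.act.left := flat_act act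
  have hflat_w : Flat (G ◁ (a ≫ act.orbitMap s₀)).left := flat_whiskerLeft _ hψ
  haveI : Flat ((fst G Pₒ * (snd G Pₒ ≫ a)).left ≫ (act.orbitMap s₀).left) := by
    rw [← Over.comp_left, mul_comp_orbitMap, Over.comp_left]
    exact Flat.comp _ _
  exact flat_of_flat_comp (fst G Pₒ * (snd G Pₒ ≫ a)).left (act.orbitMap s₀).left

end General

section Artin

variable (A : Type u) [CommRing A] [IsArtinianRing A] [IsLocalRing A]

theorem subsingleton_primeSpectrum : Subsingleton (PrimeSpectrum A) :=
  ⟨fun p q => PrimeSpectrum.ext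
    ((IsLocalRing.eq_maximalIdeal (IsArtinianRing.isMaximal_of_isPrime p.asIdeal)).trans
      (IsLocalRing.eq_maximalIdeal (IsArtinianRing.isMaximal_of_isPrime q.asIdeal)).symm)⟩

variable {A} {G : Over (Spec (CommRingCat.of A))} [GrpObj G] [Flat G.hom]

theorem flat_comp_of_flat_stalkMap {Y : Scheme.{u}} (f : G.left ⟶ Y) (x : G.left)
    (h : (f.stalkMap x).hom.Flat) : Flat (G.left.fromSpecStalk x ≫ f) := by
  rw [← Scheme.SpecMap_stalkMap_fromSpecStalk]
  haveI : Flat (Y.fromSpecStalk (f x)) := flat_fromSpecStalk _ _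
  haveI : Flat (Spec.map (f.stalkMap x)) := by
    rw [Flat.SpecMap_iff]
    exact h
  infer_instance

/-- the local scheme of `G` at a point as a flat surjective test object -/
theorem exists_testObject (x : G.left) :
    ∃ (Pₒ : Over (Spec (CommRingCat.of A))) (a : Pₒ ⟶ G), Flat Pₒ.hom ∧ Surjective Pₒ.hom ∧
      ∀ {Y : Scheme.{u}} (f : G.left ⟶ Y), (f.stalkMap x).hom.Flat → Flat (a.left ≫ f) := by
  haveI : Flat (G.left.fromSpecStalk x) := flat_fromSpecStalk _ _
  refine ⟨Over.mk (G.left.fromSpecStalk x ≫ G.hom), Over.homMk (G.left.fromSpecStalk x) rfl,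
    (inferInstance : Flat (G.left.fromSpecStalk x ≫ G.hom)), ⟨fun s => ?_⟩,
    fun f hf => flat_comp_of_flat_stalkMap f x hf⟩
  exact ⟨IsLocalRing.closedPoint _,
    @Subsingleton.elim (PrimeSpectrum A) (subsingleton_primeSpectrum A) _ _⟩

theorem flat_hom_of_flat_at_point {H : Over (Spec (CommRingCat.of A))} [GrpObj H] (u : G ⟶ H)
    [IsMonHom u] (h : ∃ x : G.left, (u.left.stalkMap x).hom.Flat) : Flat u.left := by
  obtain ⟨x, hx⟩ := h
  obtain ⟨Pₒ, a, hP1, hP2, ha⟩ := exists_testObject x
  haveI := hP1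
  haveI := hP2
  refine flat_left_of_flat_comp u Pₒ a ?_
  rw [Over.comp_left]
  exact ha u.left hx

theorem flat_orbitMap_of_flat_at_point {X : Over (Spec (CommRingCat.of A))}
    (act : AlgGrp.Action G X) (s₀ : 𝟙_ (Over (Spec (CommRingCat.of A))) ⟶ X)
    (h : ∃ g : G.left, ((act.orbitMap s₀).left.stalkMap g).hom.Flat) :
    Flat (act.orbitMap s₀).left := by
  obtain ⟨x, hx⟩ := h
  obtain ⟨Pₒ, a, hP1, hP2, ha⟩ := exists_testObject x
  haveI := hP1
  haveI := hP2
  refine flat_orbitMap_of_flat_comp act s₀ Pₒ a ?_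
  rw [Over.comp_left]
  exact ha (act.orbitMap s₀).left hx

end Artin

end Groth.Agent.H63.GrpFlatPt
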