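import Mathlib

/-!
# Morphisms of finite type `k`-schemes that are surjective on `K`-points (`K ⊇ k` algebraically
closed) are surjective.  (helper63)
-/

universe u
open CategoryTheory CategoryTheory.Limits AlgebraicGeometry Topology

namespace Groth.Agent.H63.SurjK

section Top

theorem nonempty_inter_closedPoints_of_isConstructible {X : Type*} [TopologicalSpace X]
    [JacobsonSpace X] {s : Set X} (hs : IsConstructible s) (hne : s.Nonempty) :
    (s ∩ closedPoints X).Nonempty := by
  revert hne
  induction s, hs using BooleanSubalgebra.closure_sdiff_sup_induction with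
  | isSublattice =>
    exact ⟨fun s hs t ht ↦ ⟨hs.1.union ht.1, hs.2.union ht.2⟩,
      fun s hs t ht ↦ ⟨hs.1.inter ht.1, hs.2.inter_isOpen ht.2 ht.1⟩⟩
  | bot_mem => exact ⟨isOpen_empty, .empty⟩
  | top_mem => exact ⟨isOpen_univ, .univ⟩
  | sdiff U hU V hV =>
    intro hne
    refine nonempty_inter_closedPoints hne ?_
    rw [Set.sdiff_eq]
    exact hU.1.isLocallyClosed.inter hV.1.isClosed_compl.isLocallyClosed
  | sup s _ t _ hs' ht' =>
    rintro ⟨x, hx | hx⟩
    · obtain ⟨y, hy, hyc⟩ := hs' ⟨x, hx⟩
      exact ⟨y, Or.inl hy, hyc⟩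
    · obtain ⟨y, hy, hyc⟩ := ht' ⟨x, hx⟩
      exact ⟨y, Or.inr hy, hyc⟩

/-- every point of a Jacobson space specializes to a closed point -/
theorem exists_closedPoint_specializes {X : Type*} [TopologicalSpace X] [JacobsonSpace X] (x : X) :
    ∃ x₀ : X, IsClosed ({x₀} : Set X) ∧ x ⤳ x₀ := by
  obtain ⟨x₀, hx₀, hc⟩ := nonempty_inter_closedPoints (X := X) (Z := closure {x})
    ⟨x, subset_closure rfl⟩ isClosed_closure.isLocallyClosed
  exact ⟨x₀, hc, specializes_iff_mem_closure.mpr hx₀⟩

end Top

section Kpt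

variable (k K : Type u) [Field k] [Field K] [Algebra k K]

/-- `Spec K` as a `k`-scheme. -/
noncomputable abbrev Kpt : Over (Spec (CommRingCat.of k)) :=
  Over.mk (Spec.map (CommRingCat.ofHom (algebraMap k K)))

variable {k} [IsAlgClosed K]

/-- `K`-point over a closed point of a locally finite type `k`-scheme. -/
theorem exists_Kpoint_of_isClosed (X : Over (Spec (CommRingCat.of k))) [LocallyOfFiniteType X.hom]
    (x : X.left) (hx : IsClosed ({x} : Set X.left)) :
    ∃ p : Kpt k K ⟶ X, ∀ s, p.left.base s = x := by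
  haveI := isClosed_singleton_iff_isClosedImmersion.mp hx
  haveI : JacobsonSpace (Spec (CommRingCat.of k)) := inferInstance
  have hfin : IsFinite (X.left.fromSpecResidueField x ≫ X.hom) :=
    (isFinite_iff_locallyOfFiniteType_of_jacobsonSpace).mpr inferInstance
  let φ : CommRingCat.of k ⟶ X.left.residueField x :=
    Spec.preimage (X.left.fromSpecResidueField x ≫ X.hom)
  have hφ : Spec.map φ = X.left.fromSpecResidueField x ≫ X.hom := Spec.map_preimage _
  have hφfin : φ.hom.Finite := by
    rw [← IsFinite.SpecMap_iff, hφ]; exact hfin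
  letI : Algebra k (X.left.residueField x) := φ.hom.toAlgebra
  haveI : Module.Finite k (X.left.residueField x) := hφfin
  haveI : Algebra.IsAlgebraic k (X.left.residueField x) := Algebra.IsAlgebraic.of_finite k _
  let ψ : X.left.residueField x →ₐ[k] K := IsAlgClosed.lift
  refine ⟨Over.homMk (Spec.map (CommRingCat.ofHom ψ.toRingHom) ≫
    X.left.fromSpecResidueField x) ?_, fun s => ?_⟩
  · change (_ ≫ _) ≫ X.hom = Spec.map _
    rw [Category.assoc, ← hφ, ← Spec.map_comp]
    congr 1
    ext r
    exact ψ.commutes r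
  · change (X.left.fromSpecResidueField x).base _ = x
    exact Scheme.fromSpecResidueField_apply _ _

/-- a nonempty locally finite type `k`-scheme has a `K`-point -/
theorem exists_Kpoint (X : Over (Spec (CommRingCat.of k))) [LocallyOfFiniteType X.hom]
    [Nonempty X.left] : Nonempty (Kpt k K ⟶ X) := by
  haveI : JacobsonSpace X.left := LocallyOfFiniteType.jacobsonSpace X.hom
  obtain ⟨x⟩ := ‹Nonempty X.left›
  obtain ⟨x₀, hx₀, -⟩ := exists_closedPoint_specializes x
  obtain ⟨p, -⟩ := exists_Kpoint_of_isClosed K X x₀ hx₀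
  exact ⟨p⟩

/-- A morphism of finite type `k`-schemes which is surjective on `K`-points is surjective. -/
theorem surjective_of_forall_Kpoint {X Y : Over (Spec (CommRingCat.of k))}
    [LocallyOfFiniteType X.hom] [QuasiCompact X.hom] [LocallyOfFiniteType Y.hom]
    [QuasiCompact Y.hom] (ψ : X ⟶ Y)
    (h : ∀ y : Kpt k K ⟶ Y, ∃ x : Kpt k K ⟶ X, x ≫ ψ = y) : Surjective ψ.left := by
  haveI : JacobsonSpace Y.left := LocallyOfFiniteType.jacobsonSpace Y.hom
  haveI : IsLocallyNoetherian Y.left := LocallyOfFiniteType.isLocallyNoetherian Y.hom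
  haveI : CompactSpace Y.left := QuasiCompact.compactSpace_of_compactSpace Y.hom
  haveI : IsLocallyNoetherian X.left := LocallyOfFiniteType.isLocallyNoetherian X.hom
  haveI : CompactSpace X.left := QuasiCompact.compactSpace_of_compactSpace X.hom
  haveI : IsNoetherian X.left := {}
  haveI : QuasiCompact ψ.left := inferInstance
  haveI : LocallyOfFiniteType (ψ.left ≫ Y.hom) := by rw [Over.w ψ]; infer_instance
  haveI : LocallyOfFiniteType ψ.left := locallyOfFiniteType_of_comp ψ.left Y.hom
  haveI : LocallyOfFinitePresentation ψ.left := inferInstance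
  have hc : IsConstructible (Set.range ψ.left.base) := by
    rw [← Set.image_univ]
    exact ψ.left.isConstructible_image .univ
  refine ⟨fun y => ?_⟩
  by_contra hy
  obtain ⟨z, hz, hzc⟩ := nonempty_inter_closedPoints_of_isConstructible hc.compl
    ⟨y, (show y ∈ (Set.range ψ.left.base)ᶜ from hy)⟩
  obtain ⟨p, hp⟩ := exists_Kpoint_of_isClosed K Y z hzc
  obtain ⟨x, hx⟩ := h p
  obtain ⟨s⟩ : Nonempty (Spec (CommRingCat.of K)) := inferInstance
  apply hz
  refine ⟨x.left.base s, ?_⟩
  rw [← hp s, ← hx]
  rfl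

end Kpt

end Groth.Agent.H63.SurjK
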