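import Mathlib
import Groth.Prelude.Def_AlgGrp
import Groth.Agent.H63.GrpFlatPt
import Groth.Agent.H63.SurjK

/-!
# Equivariant morphisms to a reduced homogeneous space are faithfully flat (helper63)

`k` a field, `K ⊇ k` algebraically closed, `G` a finite type `k`-group acting on finite type
`k`-schemes `X`, `Y`; `f : X ⟶ Y` equivariant, `X` nonempty, `Y` reduced, `G(K)` transitive on
`Y(K)`.  Then `f` is flat and surjective.
-/

universe u
open CategoryTheory CategoryTheory.Limits AlgebraicGeometry MonoidalCategory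
  CartesianMonoidalCategory MonObj

namespace Groth.Agent.H63.EquivFlat

open Groth.Agent.H63.GrpHomFlat Groth.Agent.H63.GrpFlatPt Groth.Agent.H63.SurjK
  Groth.Agent.H63.ActionTranslate

section Gen

theorem exists_preimage_of_isPullback {P X Y Z : Scheme.{u}} {fst : P ⟶ X} {snd : P ⟶ Y}
    {f : X ⟶ Z} {g : Y ⟶ Z} (h : IsPullback fst snd f g) (x : X) (y : Y)
    (hxy : f.base x = g.base y) : ∃ p : P, fst.base p = x ∧ snd.base p = y := by
  obtain ⟨z, hz1, hz2⟩ := Scheme.Pullback.exists_preimage_pullback x y hxy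
  refine ⟨h.isoPullback.inv.base z, ?_, ?_⟩
  · have := congrArg (fun t => t.base z) h.isoPullback_inv_fst
    simp only [Scheme.Hom.comp_base, TopCat.comp_app] at this
    rw [this, hz1]
  · have := congrArg (fun t => t.base z) h.isoPullback_inv_snd
    simp only [Scheme.Hom.comp_base, TopCat.comp_app] at this
    rw [this, hz2]

variable {C : Type*} [Category C] [CartesianMonoidalCategory C]

theorem sq_snd' (G : C) {P X : C} (p : P ⟶ X) : IsPullback (snd G P) (G ◁ p) p (snd G X) := by
  refine Groth.Agent.H40.FpqcFam.isPullback_of_pts (whiskerLeft_snd _ _).symm ?_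
  intro T x y hxy
  refine ⟨lift (y ≫ fst G X) x, ⟨lift_snd _ _, ?_⟩, ?_⟩
  · rw [lift_whiskerLeft, hxy]
    apply CartesianMonoidalCategory.hom_ext
    · rw [lift_fst]
    · rw [lift_snd]
  · rintro q ⟨hq1, hq2⟩
    apply CartesianMonoidalCategory.hom_ext
    · rw [lift_fst, ← hq2, Category.assoc, whiskerLeft_fst]
    · rw [lift_snd, hq1]

end Gen

section Main

variable {k : Type u} [Field k] {G X Y : Over (Spec (CommRingCat.of k))} [GrpObj G]
  (a : AlgGrp.Action G X) (b : AlgGrp.Action G Y) (f : X ⟶ Y)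

/-- test object: `X ×_Y Spec 𝒪_{Y,ξ}` -/
noncomputable def testObj (ξ : Y.left) : Over (Spec (CommRingCat.of k)) :=
  Over.mk (pullback.fst f.left (Y.left.fromSpecStalk ξ) ≫ X.hom)

noncomputable def testMap (ξ : Y.left) : testObj f ξ ⟶ X :=
  Over.homMk (pullback.fst f.left (Y.left.fromSpecStalk ξ)) rfl

/-- `(g, p) ↦ g · p` -/
noncomputable def mMap (ξ : Y.left) : G ⊗ testObj f ξ ⟶ X := (G ◁ testMap f ξ) ≫ a.act

theorem flat_testMap (ξ : Y.left) : Flat (testMap f ξ).left := by
  haveI : Flat (Y.left.fromSpecStalk ξ) := flat_fromSpecStalk _ _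
  change Flat (pullback.fst f.left (Y.left.fromSpecStalk ξ))
  infer_instance

theorem flat_mMap (ξ : Y.left) : Flat (mMap a f ξ).left := by
  haveI : Flat G.hom := inferInstance
  haveI := flat_whiskerLeft (G := G) (testMap f ξ) (flat_testMap f ξ)
  haveI := flat_act a
  unfold mMap
  rw [Over.comp_left]
  infer_instance

variable {a b f}

theorem flat_of_surjective_mMap (hf : (G ◁ f) ≫ b.act = a.act ≫ f) (ξ : Y.left)
    (hξ : IsField (Y.left.presheaf.stalk ξ)) (hs : Surjective (mMap a f ξ).left) :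
    Flat f.left := by
  letI : Field (Y.left.presheaf.stalk ξ) := hξ.toField
  haveI : Flat (Y.left.fromSpecStalk ξ) := flat_fromSpecStalk _ _
  haveI : IsIntegral (Spec (Y.left.presheaf.stalk ξ)) := inferInstance
  haveI : Subsingleton (Spec (Y.left.presheaf.stalk ξ)) :=
    inferInstanceAs (Subsingleton (PrimeSpectrum (Y.left.presheaf.stalk ξ)))
  haveI : Flat (pullback.snd f.left (Y.left.fromSpecStalk ξ)) := inferInstance
  haveI : Flat G.hom := inferInstance
  have h1 : Flat (testMap f ξ ≫ f).left := by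
    have e : (testMap f ξ ≫ f).left =
        pullback.snd f.left (Y.left.fromSpecStalk ξ) ≫ Y.left.fromSpecStalk ξ :=
      pullback.condition
    rw [e]
    exact MorphismProperty.comp_mem _ _ _ ‹Flat (pullback.snd f.left (Y.left.fromSpecStalk ξ))›
      ‹Flat (Y.left.fromSpecStalk ξ)›
  haveI := flat_mMap a f ξ
  haveI := hs
  have h2 : mMap a f ξ ≫ f = (G ◁ (testMap f ξ ≫ f)) ≫ b.act := by
    unfold mMap
    rw [Category.assoc, ← hf, ← Category.assoc, ← MonoidalCategory.whiskerLeft_comp]
  haveI : Flat ((mMap a f ξ).left ≫ f.left) := by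
    rw [← Over.comp_left, h2, Over.comp_left]
    haveI := flat_whiskerLeft (G := G) (testMap f ξ ≫ f) h1
    haveI := flat_act b
    infer_instance
  exact flat_of_flat_comp (mMap a f ξ).left f.left

theorem surjective_mMap [LocallyOfFiniteType X.hom] (ξ : Y.left)
    (hΛ : Surjective (lift a.act (snd G X ≫ f)).left) : Surjective (mMap a f ξ).left := by
  haveI : JacobsonSpace X.left := LocallyOfFiniteType.jacobsonSpace X.hom
  haveI : Subsingleton (Spec (CommRingCat.of k)) :=
    inferInstanceAs (Subsingleton (PrimeSpectrum k))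
  have hcl : ∀ x : X.left, IsClosed ({x} : Set X.left) →
      x ∈ Set.range (mMap a f ξ).left.base := by
    intro x hx
    obtain ⟨w, hw1, hw2⟩ := Scheme.Pullback.exists_preimage_pullback (f := X.hom) (g := Y.hom)
      x ξ (Subsingleton.elim _ _)
    obtain ⟨z, hz⟩ := hΛ.surj w
    have h1 : a.act.left.base z = x := by
      have e : a.act = lift a.act (snd G X ≫ f) ≫ fst X Y := (lift_fst _ _).symm
      rw [e, Over.comp_left, Scheme.Hom.comp_base, TopCat.comp_app, hz, Over.fst_left]
      exact hw1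
    have h2 : f.left.base ((snd G X).left.base z) = ξ := by
      have e : snd G X ≫ f = lift a.act (snd G X ≫ f) ≫ snd X Y := (lift_snd _ _).symm
      have e' := congrArg (fun t => t.left.base z) e
      simp only [Over.comp_left, Scheme.Hom.comp_base, TopCat.comp_app] at e'
      rw [e', hz, Over.snd_left]
      exact hw2
    obtain ⟨p₀, hp₀, -⟩ := Scheme.Pullback.exists_preimage_pullback (f := f.left)
      (g := Y.left.fromSpecStalk ξ) ((snd G X).left.base z)
      (IsLocalRing.closedPoint _) (by rw [h2]; exact (Y.left.fromSpecStalk_closedPoint).symm)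
    have SQ : IsPullback (snd G (testObj f ξ)).left (G ◁ testMap f ξ).left (testMap f ξ).left
        (snd G X).left := (sq_snd' G (testMap f ξ)).map (Over.forget _)
    obtain ⟨z', -, hz'2⟩ := exists_preimage_of_isPullback SQ p₀ z hp₀
    refine ⟨z', ?_⟩
    unfold mMap
    rw [Over.comp_left, Scheme.Hom.comp_base, TopCat.comp_app, hz'2, h1]
  haveI := flat_mMap a f ξ
  refine ⟨fun x => ?_⟩
  obtain ⟨x₀, hx₀, hsp⟩ := exists_closedPoint_specializes x
  obtain ⟨z₀, hz₀⟩ := hcl x₀ hx₀
  rw [← hz₀] at hsp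
  obtain ⟨z, -, hz⟩ := Flat.generalizingMap (mMap a f ξ).left hsp
  exact ⟨z, hz⟩

variable {K : Type u} [Field K] [Algebra k K] [IsAlgClosed K]

theorem flat_surjective_of_equivariant [LocallyOfFiniteType G.hom] [QuasiCompact G.hom]
    [LocallyOfFiniteType X.hom] [QuasiCompact X.hom] [LocallyOfFiniteType Y.hom]
    [QuasiCompact Y.hom] [Nonempty X.left] [IsReduced Y.left]
    (hf : (G ◁ f) ≫ b.act = a.act ≫ f)
    (htr : ∀ y y' : Kpt k K ⟶ Y, ∃ g : Kpt k K ⟶ G, lift g y ≫ b.act = y') :
    Flat f.left ∧ Surjective f.left := by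
  have hff : ∀ {T : Over (Spec (CommRingCat.of k))} (g : T ⟶ G) (x : T ⟶ X),
      (lift g x ≫ a.act) ≫ f = lift g (x ≫ f) ≫ b.act := by
    intro T g x
    rw [Category.assoc, ← hf, lift_whiskerLeft_assoc]
  -- surjectivity
  have hsurj : Surjective f.left := by
    obtain ⟨x₀⟩ := exists_Kpoint K X
    refine surjective_of_forall_Kpoint K f fun y => ?_
    obtain ⟨g, hg⟩ := htr (x₀ ≫ f) y
    exact ⟨lift g x₀ ≫ a.act, by rw [hff, hg]⟩
  refine ⟨?_, hsurj⟩
  haveI : Nonempty Y.left := ⟨f.left.base (Classical.arbitrary _)⟩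
  obtain ⟨ξ, hξ⟩ := exists_isField_stalk Y.left
  -- Λ
  haveI : LocallyOfFiniteType (G ⊗ X).hom := by rw [Over.tensorObj_hom]; infer_instance
  haveI : QuasiCompact (G ⊗ X).hom := by rw [Over.tensorObj_hom]; infer_instance
  haveI : LocallyOfFiniteType (X ⊗ Y).hom := by rw [Over.tensorObj_hom]; infer_instance
  haveI : QuasiCompact (X ⊗ Y).hom := by rw [Over.tensorObj_hom]; infer_instance
  have hΛ : Surjective (lift a.act (snd G X ≫ f)).left := by
    refine surjective_of_forall_Kpoint K _ fun w => ?_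
    obtain ⟨g, hg⟩ := htr ((w ≫ fst X Y) ≫ f) (w ≫ snd X Y)
    refine ⟨lift g⁻¹ (lift g (w ≫ fst X Y) ≫ a.act), ?_⟩
    apply CartesianMonoidalCategory.hom_ext
    · rw [Category.assoc, lift_fst, ← act_mul, _root_.inv_mul_cancel, act_one']
    · rw [Category.assoc, lift_snd, lift_snd_assoc, hff, hg]
  exact flat_of_surjective_mMap hf ξ hξ (surjective_mMap ξ hΛ)

end Main

end Groth.Agent.H63.EquivFlat
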