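import Mathlib
import Groth.Prelude.Def_AlgGrp
import Groth.Agent.H63.GrpHomFlat
import Groth.Agent.H40.GrpQC

/-!
# Kernels of homomorphisms of group schemes: `G ×_H G ≅ G × N`, smoothness of a hom vs its kernel
(helper63)
-/

set_option autoImplicit false
set_option linter.style.haveILetI false
set_option linter.unusedSectionVars false
universe u
open CategoryTheory CategoryTheory.Limits AlgebraicGeometry MonoidalCategory
  CartesianMonoidalCategory MonObj

namespace Groth.Agent.H63.GrpKernel

section Sq

variable {S : Scheme.{u}} {G H N : Over S} [GrpObj G] [GrpObj H]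

/-- `G × N ≅ G ×_H G` via `(g, n) ↦ (g, g · i n)`. -/
theorem kernel_sq (φ : G ⟶ H) [IsMonHom φ] (i : N ⟶ G) (hN : AlgGrp.IsKernel i φ) :
    IsPullback (fst G N) (fst G N * (snd G N ≫ i)) φ φ := by
  have hi : i ≫ φ = 1 := by
    rw [hN.w]
    rfl
  refine Groth.Agent.H40.FpqcFam.isPullback_of_pts ?_ ?_
  · rw [MonObj.mul_comp, Category.assoc, hi, MonObj.comp_one, _root_.mul_one]
  · intro T x y hxy
    have hker : (x⁻¹ * y) ≫ φ = toUnit T ≫ η[H] := by
      rw [MonObj.mul_comp, GrpObj.inv_comp, hxy, _root_.inv_mul_cancel]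
      rfl
    have hn : hN.lift (x⁻¹ * y) (toUnit T) hker ≫ i = x⁻¹ * y := hN.lift_fst _ _ _
    refine ⟨lift x (hN.lift (x⁻¹ * y) (toUnit T) hker), ⟨lift_fst _ _, ?_⟩, ?_⟩
    · rw [MonObj.comp_mul, lift_fst, ← Category.assoc, lift_snd, hn]
      group
    · rintro q ⟨hq1, hq2⟩
      apply CartesianMonoidalCategory.hom_ext
      · rw [lift_fst, hq1]
      · rw [lift_snd]
        apply hN.hom_ext
        · rw [hn, ← hq2, ← hq1, MonObj.comp_mul, Category.assoc]
          group
        · exact toUnit_unique _ _

end Sq

section Field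

variable (k : Type u) [Field k] (G H N : Over (Spec (CommRingCat.of k))) [GrpObj G] [GrpObj H]

/-- A surjective homomorphism onto a reduced group, from a quasi-compact group, is smooth iff its
kernel is smooth. -/
theorem smooth_hom_iff_smooth_kernel [QuasiCompact G.hom] [IsReduced H.left]
    (φ : G ⟶ H) [IsMonHom φ] [Surjective φ.left] (i : N ⟶ G) (hN : AlgGrp.IsKernel i φ) :
    Smooth φ.left ↔ Smooth N.hom := by
  constructor
  · intro h
    have sq : IsPullback i.left (toUnit N).left φ.left η[H].left := hN.map (Over.forget _)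
    exact MorphismProperty.of_isPullback (P := @Smooth) sq h
  · intro h
    haveI : Flat φ.left := Groth.Agent.H63.GrpHomFlat.flat_left_of_isReduced φ
    haveI : QuasiCompact φ.left := Groth.Agent.H40.GrpQC.quasiCompact_left φ
    have sq : IsPullback (fst G N).left (fst G N * (snd G N ≫ i)).left φ.left φ.left :=
      (kernel_sq φ i hN).map (Over.forget _)
    have hfst : Smooth (fst G N).left := by
      rw [Over.fst_left]
      infer_instance
    exact MorphismProperty.of_isPullback_of_descendsAlong
      (P := @Smooth) (Q := @Surjective ⊓ @Flat ⊓ @QuasiCompact) sq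
      ⟨⟨inferInstance, inferInstance⟩, inferInstance⟩ hfst

end Field

end Groth.Agent.H63.GrpKernel
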