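import Mathlib
import Groth.Agent.H63.SmoothRegular2
import Groth.Agent.H23.RegularLocal
import Groth.Prelude.Def_Curv2

/-!
# Smooth over a field: geometrically reduced and geometrically regular
-/

set_option autoImplicit false
set_option linter.style.haveILetI false
universe u
open CategoryTheory AlgebraicGeometry Limits

namespace Groth.Agent.H63.SmoothRegular

theorem isReduced_of_smooth_field {K : Type u} [Field K] {Z : Scheme.{u}}
    (g : Z ⟶ Spec (CommRingCat.of K)) [Smooth g] : IsReduced Z := by
  haveI : ∀ z : Z, IsReduced (Z.presheaf.stalk z) := fun z => by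
    haveI := isRegularLocalRing_stalk_of_smooth g z
    haveI : IsDomain (Z.presheaf.stalk z) :=
      Groth.Agent.H23.isDomain_of_isRegularLocalRing _
    infer_instance
  exact isReduced_of_isReduced_stalk Z

/-- `S1628`. -/
theorem geomReduced_and_geomRegular_of_smooth (k : Type u) [Field k] (X : Scheme.{u})
    [X.Over (Spec (CommRingCat.of k))] [Smooth (X ↘ (Spec (CommRingCat.of k)))] :
    GeometricallyReduced (X ↘ (Spec (CommRingCat.of k))) ∧
      ∀ x : X, Curv2.IsGeomRegularAt k X x := by
  constructor
  · refine ⟨fun K _ y Z fst snd hpb => ?_⟩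
    haveI : Smooth snd := MorphismProperty.of_isPullback (P := @Smooth) hpb inferInstance
    exact isReduced_of_smooth_field snd
  · intro x k' _ _ _ x' _
    exact isRegularLocalRing_stalk_of_smooth
      (pullback.snd (X ↘ Spec (CommRingCat.of k))
        (Spec.map (CommRingCat.ofHom (algebraMap k k')))) x'

end Groth.Agent.H63.SmoothRegular
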