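import Mathlib
import Groth.Prelude.Def_AlgGrp
import Groth.Agent.H63.GrpKernel
import Groth.Agent.H63.EquivFlat
import Groth.Agent.H63.SmoothRegular3
import Groth.Agent.S0082
import Groth.Agent.S5342

/-!
# Extensions of algebraic groups: affine / smooth / connected pass from `N`, `Q` to `G` (helper63)
-/

set_option autoImplicit false
set_option linter.style.haveILetI false
universe u
open CategoryTheory CategoryTheory.Limits AlgebraicGeometry MonoidalCategory
  CartesianMonoidalCategory MonObj Topology

namespace Groth.Agent.H63.GrpExt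

open Groth.Agent.H63.GrpKernel Groth.Agent.H63.EquivFlat

variable {k : Type u} [Field k] {N G Q : Over (Spec (CommRingCat.of k))} [GrpObj G] [GrpObj Q]

theorem quasiCompact_of_finiteType {X Y : Scheme.{u}} (g : X ⟶ Spec (CommRingCat.of k))
    [LocallyOfFiniteType g] [QuasiCompact g] (f : X ⟶ Y) : QuasiCompact f := by
  haveI : IsLocallyNoetherian X := LocallyOfFiniteType.isLocallyNoetherian g
  haveI : CompactSpace X := QuasiCompact.compactSpace_of_compactSpace g
  haveI : IsNoetherian X := {}
  infer_instance

set_option backward.isDefEq.respectTransparency.types false in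
theorem isAffine_of_extension [LocallyOfFiniteType G.hom] [QuasiCompact G.hom]
    (i : N ⟶ G) (q : G ⟶ Q) [IsMonHom q] [Flat q.left] [Surjective q.left]
    (hker : AlgGrp.IsKernel i q) [IsAffine N.left] [IsAffine Q.left] : IsAffine G.left := by
  have SQ : IsPullback (fst G N).left (fst G N * (snd G N ≫ i)).left q.left q.left :=
    (kernel_sq q i hker).map (Over.forget _)
  haveI : IsAffineHom N.hom := inferInstance
  haveI : IsAffineHom (fst G N).left := by
    rw [Over.fst_left]
    exact MorphismProperty.pullback_fst (P := @IsAffineHom) _ _ inferInstance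
  haveI : QuasiCompact q.left := quasiCompact_of_finiteType G.hom q.left
  have hq : (@Surjective ⊓ @Flat ⊓ @QuasiCompact : MorphismProperty Scheme.{u}) q.left :=
    ⟨⟨inferInstance, inferInstance⟩, inferInstance⟩
  haveI := Groth.Agent.S0082.result.{u}
  haveI : IsAffineHom q.left := MorphismProperty.of_isPullback_of_descendsAlong
    (P := @IsAffineHom) (Q := (@Surjective ⊓ @Flat ⊓ @QuasiCompact : MorphismProperty Scheme.{u}))
    SQ hq inferInstance
  exact isAffine_of_isAffineHom q.left

theorem smooth_of_extension [QuasiCompact G.hom]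
    (i : N ⟶ G) (q : G ⟶ Q) [IsMonHom q] [Surjective q.left]
    (hker : AlgGrp.IsKernel i q) [Smooth N.hom] [Smooth Q.hom] : Smooth G.hom := by
  haveI : IsReduced Q.left := Groth.Agent.H63.SmoothRegular.isReduced_of_smooth_field Q.hom
  haveI : Smooth q.left := (smooth_hom_iff_smooth_kernel k G Q N q i hker).mpr inferInstance
  rw [← Over.w q]
  infer_instance

theorem connected_of_extension [GrpObj N] [LocallyOfFiniteType G.hom] [LocallyOfFiniteType Q.hom]
    (i : N ⟶ G) (q : G ⟶ Q) [IsMonHom q] [Flat q.left] [Surjective q.left]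
    (hker : AlgGrp.IsKernel i q) [ConnectedSpace N.left] [ConnectedSpace Q.left] :
    ConnectedSpace G.left := by
  haveI : IsLocallyNoetherian Q.left := LocallyOfFiniteType.isLocallyNoetherian Q.hom
  haveI : LocallyOfFiniteType (q.left ≫ Q.hom) := by rw [Over.w q]; infer_instance
  haveI : LocallyOfFiniteType q.left := locallyOfFiniteType_of_comp q.left Q.hom
  haveI : LocallyOfFinitePresentation q.left := inferInstance
  have hopen : IsOpenMap q.left.base := q.left.isOpenMap
  have hco : IsCoinducing q.left.base :=
    (hopen.isQuotientMap q.left.continuous q.left.surjective).isCoinducing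
  have SQ : IsPullback (fst G N).left (fst G N * (snd G N ≫ i)).left q.left q.left :=
    (kernel_sq q i hker).map (Over.forget _)
  have hi : i ≫ q = 1 := by
    rw [hker.w]
    rfl
  have hfib : ∀ y : Q.left, _root_.IsConnected (q.left.base ⁻¹' {y}) := by
    intro y
    obtain ⟨g, hg⟩ := q.left.surjective y
    let Kₒ : Over (Spec (CommRingCat.of k)) := Over.mk (G.left.fromSpecResidueField g ≫ G.hom)
    let g' : Kₒ ⟶ G := Over.homMk (G.left.fromSpecResidueField g) rfl
    haveI : ConnectedSpace Kₒ.left :=
      (inferInstance : ConnectedSpace (PrimeSpectrum (G.left.residueField g)))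
    haveI : ConnectedSpace ↥(N ⊗ Kₒ).left :=
      Groth.Agent.S5342.result k N.left Kₒ.left N.hom Kₒ.hom η[N].left (Over.w η[N])
    let ψ : N ⊗ Kₒ ⟶ G := (snd N Kₒ ≫ g') * (fst N Kₒ ≫ i)
    have hψq : ψ ≫ q = snd N Kₒ ≫ g' ≫ q := by
      rw [MonObj.mul_comp, Category.assoc, Category.assoc, hi, MonObj.comp_one, _root_.mul_one]
    have hg' : ∀ s, g'.left.base s = g := fun s => Scheme.fromSpecResidueField_apply _ _
    have hrange : Set.range ψ.left.base = q.left.base ⁻¹' {y} := by
      apply Set.Subset.antisymm
      · rintro _ ⟨p, rfl⟩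
        have h := congrArg (fun t => t.left.base p) hψq
        simp only [Over.comp_left, Scheme.Hom.comp_base, TopCat.comp_app] at h
        rw [Set.mem_preimage, Set.mem_singleton_iff, h, hg', hg]
      · intro g₂ hg₂
        rw [Set.mem_preimage, Set.mem_singleton_iff] at hg₂
        obtain ⟨z, hz1, hz2⟩ := exists_preimage_of_isPullback SQ g g₂ (by rw [hg, hg₂])
        -- the square exhibiting `N ⊗ Kₒ` as the base change of `g'`
        have SQ2 : IsPullback (lift (snd N Kₒ ≫ g') (fst N Kₒ)) (snd N Kₒ) (fst G N) g' := by
          refine Groth.Agent.H40.FpqcFam.isPullback_of_pts (lift_fst _ _) ?_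
          intro T x t hxt
          refine ⟨lift (x ≫ snd G N) t, ⟨?_, lift_snd _ _⟩, ?_⟩
          · apply CartesianMonoidalCategory.hom_ext
            · rw [Category.assoc, lift_fst, lift_snd_assoc, hxt]
            · rw [Category.assoc, lift_snd, lift_fst]
          · rintro m ⟨hm1, hm2⟩
            apply CartesianMonoidalCategory.hom_ext
            · rw [lift_fst, ← hm1, Category.assoc, lift_snd]
            · rw [lift_snd, hm2]
        have SQ2' : IsPullback (lift (snd N Kₒ ≫ g') (fst N Kₒ)).left (snd N Kₒ).left
            (fst G N).left g'.left := SQ2.map (Over.forget _)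
        obtain ⟨s⟩ : Nonempty (Spec (G.left.residueField g)) := inferInstance
        obtain ⟨p, hp1, -⟩ := exists_preimage_of_isPullback SQ2' z s (by
          change (fst G N).left.base z = g'.left.base s
          rw [hz1, hg'])
        refine ⟨p, ?_⟩
        have e : ψ = lift (snd N Kₒ ≫ g') (fst N Kₒ) ≫ (fst G N * (snd G N ≫ i)) := by
          rw [MonObj.comp_mul, lift_fst, lift_snd_assoc]
        rw [e, Over.comp_left, Scheme.Hom.comp_base, TopCat.comp_app, hp1, hz2]
    rw [← hrange]
    exact isConnected_range ψ.left.continuous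
  have h := hco.isConnected_preimage_of_isClosed hfib isClosed_univ isConnected_univ
  rw [Set.preimage_univ] at h
  exact connectedSpace_iff_univ.mpr h

end Groth.Agent.H63.GrpExt
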