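import Mathlib
import Groth.Agent.H63.SurjK

/-!
# Lifting `K`-points along surjective morphisms of locally finite type `k`-schemes (helper63)
-/

universe u
open CategoryTheory CategoryTheory.Limits AlgebraicGeometry Topology

namespace Groth.Agent.H63.SurjK

variable {k : Type u} (K : Type u) [Field k] [Field K] [Algebra k K] [IsAlgClosed K]

/-- A surjective morphism from a locally finite type `k`-scheme is surjective on `K`-points
(`K` algebraically closed). -/
theorem exists_Kpoint_lift {X Y : Over (Spec (CommRingCat.of k))} [LocallyOfFiniteType X.hom]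
    (q : X ⟶ Y) [Surjective q.left] (y : Kpt k K ⟶ Y) : ∃ x : Kpt k K ⟶ X, x ≫ q = y := by
  haveI : LocallyOfFiniteType (q.left ≫ Y.hom) := by rw [Over.w q]; infer_instance
  haveI : LocallyOfFiniteType q.left := locallyOfFiniteType_of_comp q.left Y.hom
  let sndK : pullback q.left y.left ⟶ Spec (CommRingCat.of K) := pullback.snd q.left y.left
  haveI : LocallyOfFiniteType sndK := inferInstanceAs (LocallyOfFiniteType (pullback.snd q.left y.left))
  haveI : JacobsonSpace ↥(pullback q.left y.left) := LocallyOfFiniteType.jacobsonSpace sndK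
  obtain ⟨s⟩ : Nonempty (Spec (CommRingCat.of K)) := inferInstance
  obtain ⟨g₀, hg₀⟩ := q.left.surjective (y.left.base s)
  obtain ⟨z, -, -⟩ := Scheme.Pullback.exists_preimage_pullback (f := q.left) (g := y.left)
    g₀ s hg₀
  obtain ⟨z₀, hz₀, -⟩ := exists_closedPoint_specializes z
  let pt : Spec (CommRingCat.of K) ⟶ pullback q.left y.left :=
    pointOfClosedPoint sndK z₀ hz₀
  have hpt : pt ≫ pullback.snd q.left y.left = 𝟙 _ := pointOfClosedPoint_comp sndK _ _
  have h1 : (pt ≫ pullback.fst q.left y.left) ≫ q.left = y.left := by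
    rw [Category.assoc, pullback.condition, ← Category.assoc, hpt, Category.id_comp]
  refine ⟨Over.homMk (pt ≫ pullback.fst q.left y.left) ?_, ?_⟩
  · rw [← Over.w q, ← Category.assoc, h1]
    exact Over.w y
  · ext
    exact h1

end Groth.Agent.H63.SurjK
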