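import Mathlib
import Groth.Prelude.Def_AlgGrp
import Groth.Agent.H63.GrpExt
import Groth.Agent.H63.SurjK2

/-!
# Connectedness of a group acting transitively with connected stabilizer (helper63)
-/

set_option autoImplicit false
set_option linter.style.haveILetI false
universe u
open CategoryTheory CategoryTheory.Limits AlgebraicGeometry MonoidalCategory
  CartesianMonoidalCategory MonObj Topology

namespace Groth.Agent.H63.GrpExt

open Groth.Agent.H63.EquivFlat Groth.Agent.H63.ActionTranslate Groth.Agent.H63.SurjK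

section Gen

variable {S : Scheme.{u}} {G : Over S} [GrpObj G]

/-- left multiplication action of `G` on itself -/
noncomputable def mulAction (G : Over S) [GrpObj G] : AlgGrp.Action G G where
  act := μ[G]
  one_act := MonObj.one_mul G
  mul_act := MonObj.mul_assoc G

variable {X H : Over S} (a : AlgGrp.Action G X) (x₀ : 𝟙_ (Over S) ⟶ X)

theorem orbitMap_equivariant :
    (G ◁ a.orbitMap x₀) ≫ a.act = (mulAction G).act ≫ a.orbitMap x₀ := by
  have h := Groth.Agent.H63.GrpFlatPt.mul_comp_orbitMap a x₀ (𝟙 G)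
  rw [Category.comp_id, Category.id_comp] at h
  rw [← h]
  change _ = μ[G] ≫ _
  congr 1
  rw [Hom.mul_def, lift_fst_snd, Category.id_comp]

theorem stabilizer_sq (i : H ⟶ G) [Mono i]
    (hH : ∀ (T : Over S) (g : T ⟶ G),
      (∃ h : T ⟶ H, h ≫ i = g) ↔ g ≫ a.orbitMap x₀ = toUnit T ≫ x₀) :
    IsPullback (fst G H) (fst G H * (snd G H ≫ i)) (a.orbitMap x₀) (a.orbitMap x₀) := by
  have hio : i ≫ a.orbitMap x₀ = toUnit H ≫ x₀ := (hH H i).mp ⟨𝟙 H, Category.id_comp _⟩
  refine Groth.Agent.H40.FpqcFam.isPullback_of_pts ?_ ?_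
  · rw [comp_orbitMap a x₀ (fst G H * (snd G H ≫ i)), act_mul, ← comp_orbitMap, Category.assoc,
      hio, ← Category.assoc, toUnit_unique (snd G H ≫ toUnit H) (toUnit _), ← comp_orbitMap]
  · intro T x y hxy
    have hker : (x⁻¹ * y) ≫ a.orbitMap x₀ = toUnit T ≫ x₀ := by
      rw [comp_orbitMap, act_mul, ← comp_orbitMap, ← hxy, comp_orbitMap, ← act_mul,
        _root_.inv_mul_cancel, act_one']
    obtain ⟨h, hh⟩ := (hH T (x⁻¹ * y)).mpr hker
    refine ⟨lift x h, ⟨lift_fst _ _, ?_⟩, ?_⟩
    · rw [MonObj.comp_mul, lift_fst, lift_snd_assoc, hh, _root_.mul_inv_cancel_left]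
    · rintro m ⟨hm1, hm2⟩
      apply CartesianMonoidalCategory.hom_ext
      · rw [lift_fst, hm1]
      · rw [lift_snd, ← cancel_mono i, hh, ← hm2, MonObj.comp_mul, hm1,
          _root_.inv_mul_cancel_left, Category.assoc]

end Gen

section Field

variable {k : Type u} [Field k] {N G X : Over (Spec (CommRingCat.of k))} [GrpObj G] [GrpObj N]

theorem connected_of_fibration (i : N ⟶ G) (o : G ⟶ X)
    (SQ₀ : IsPullback (fst G N) (fst G N * (snd G N ≫ i)) o o)
    (hsurj : Function.Surjective o.left.base) (hopen : IsOpenMap o.left.base)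
    [ConnectedSpace N.left] [ConnectedSpace X.left] : ConnectedSpace G.left := by
  have hco : IsCoinducing o.left.base :=
    (hopen.isQuotientMap o.left.continuous hsurj).isCoinducing
  have SQ : IsPullback (fst G N).left (fst G N * (snd G N ≫ i)).left o.left o.left :=
    SQ₀.map (Over.forget _)
  have hfib : ∀ y : X.left, _root_.IsConnected (o.left.base ⁻¹' {y}) := by
    intro y
    obtain ⟨g, hg⟩ := hsurj y
    let Kₒ : Over (Spec (CommRingCat.of k)) := Over.mk (G.left.fromSpecResidueField g ≫ G.hom)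
    let g' : Kₒ ⟶ G := Over.homMk (G.left.fromSpecResidueField g) rfl
    haveI : ConnectedSpace Kₒ.left :=
      (inferInstance : ConnectedSpace (PrimeSpectrum (G.left.residueField g)))
    haveI : ConnectedSpace ↥(N ⊗ Kₒ).left :=
      Groth.Agent.S5342.result k N.left Kₒ.left N.hom Kₒ.hom η[N].left (Over.w η[N])
    let ψ : N ⊗ Kₒ ⟶ G := (snd N Kₒ ≫ g') * (fst N Kₒ ≫ i)
    have e : ψ = lift (snd N Kₒ ≫ g') (fst N Kₒ) ≫ (fst G N * (snd G N ≫ i)) := by
      rw [MonObj.comp_mul, lift_fst, lift_snd_assoc]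
    have hψq : ψ ≫ o = snd N Kₒ ≫ g' ≫ o := by
      rw [e, Category.assoc, ← SQ₀.w, lift_fst_assoc, Category.assoc]
    have hg' : ∀ s, g'.left.base s = g := fun s => Scheme.fromSpecResidueField_apply _ _
    have hrange : Set.range ψ.left.base = o.left.base ⁻¹' {y} := by
      apply Set.Subset.antisymm
      · rintro _ ⟨p, rfl⟩
        have h := congrArg (fun t => t.left.base p) hψq
        simp only [Over.comp_left, Scheme.Hom.comp_base, TopCat.comp_app] at h
        rw [Set.mem_preimage, Set.mem_singleton_iff, h, hg', hg]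
      · intro g₂ hg₂
        rw [Set.mem_preimage, Set.mem_singleton_iff] at hg₂
        obtain ⟨z, hz1, hz2⟩ := exists_preimage_of_isPullback SQ g g₂ (by rw [hg, hg₂])
        have SQ2 : IsPullback (lift (snd N Kₒ ≫ g') (fst N Kₒ)) (snd N Kₒ) (fst G N) g' := by
          refine Groth.Agent.H40.FpqcFam.isPullback_of_pts (lift_fst _ _) ?_
          intro T x t hxt
          refine ⟨lift (x ≫ snd G N) t, ⟨?_, lift_snd _ _⟩, ?_⟩
          · apply CartesianMonoidalCategory.hom_ext
            · rw [Category.assoc, lift_fst, lift_snd_assoc, hxt]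
            · rw [Category.assoc, lift_snd, lift_fst]
          · rintro m ⟨hm1, hm2⟩
            apply CartesianMonoidalCategory.hom_ext
            · rw [lift_fst, ← hm1, Category.assoc, lift_snd]
            · rw [lift_snd, hm2]
        have SQ2' : IsPullback (lift (snd N Kₒ ≫ g') (fst N Kₒ)).left (snd N Kₒ).left
            (fst G N).left g'.left := SQ2.map (Over.forget _)
        obtain ⟨s⟩ : Nonempty (Spec (G.left.residueField g)) := inferInstance
        obtain ⟨p, hp1, -⟩ := exists_preimage_of_isPullback SQ2' z s (by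
          change (fst G N).left.base z = g'.left.base s
          rw [hz1, hg'])
        refine ⟨p, ?_⟩
        rw [e, Over.comp_left, Scheme.Hom.comp_base, TopCat.comp_app, hp1, hz2]
    rw [← hrange]
    exact isConnected_range ψ.left.continuous
  have h := hco.isConnected_preimage_of_isClosed hfib isClosed_univ isConnected_univ
  rw [Set.preimage_univ] at h
  exact connectedSpace_iff_univ.mpr h

variable [IsAlgClosed k]

theorem connected_of_transitive [LocallyOfFiniteType G.hom] [QuasiCompact G.hom]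
    [Smooth X.hom] [ConnectedSpace X.left] (a : AlgGrp.Action G X)
    (x₀ : 𝟙_ (Over (Spec (CommRingCat.of k))) ⟶ X) (hsurj : Surjective (a.orbitMap x₀).left)
    (i : N ⟶ G) [Mono i]
    (hH : ∀ (T : Over (Spec (CommRingCat.of k))) (g : T ⟶ G),
      (∃ h : T ⟶ N, h ≫ i = g) ↔ g ≫ a.orbitMap x₀ = toUnit T ≫ x₀)
    [ConnectedSpace N.left] : ConnectedSpace G.left := by
  haveI := hsurj
  haveI : IsReduced X.left := Groth.Agent.H63.SmoothRegular.isReduced_of_smooth_field X.hom
  haveI : LocallyOfFiniteType X.hom := inferInstance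
  haveI : CompactSpace G.left := QuasiCompact.compactSpace_of_compactSpace G.hom
  haveI : CompactSpace X.left :=
    (a.orbitMap x₀).left.surjective.compactSpace (a.orbitMap x₀).left.continuous
  haveI : IsLocallyNoetherian X.left := LocallyOfFiniteType.isLocallyNoetherian X.hom
  haveI : IsNoetherian X.left := {}
  haveI : QuasiCompact X.hom := inferInstance
  haveI : Nonempty G.left := ⟨η[G].left.base (IsLocalRing.closedPoint k)⟩
  have htr : ∀ y y' : Kpt k k ⟶ X, ∃ g : Kpt k k ⟶ G, lift g y ≫ a.act = y' := by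
    intro y y'
    obtain ⟨c₁, hc₁⟩ := exists_Kpoint_lift k (a.orbitMap x₀) y
    obtain ⟨c₂, hc₂⟩ := exists_Kpoint_lift k (a.orbitMap x₀) y'
    refine ⟨c₂ * c₁⁻¹, ?_⟩
    rw [← hc₁, ← hc₂, comp_orbitMap, ← act_mul, inv_mul_cancel_right, ← comp_orbitMap]
  obtain ⟨hflat, -⟩ := flat_surjective_of_equivariant (K := k) (a := mulAction G) (b := a)
    (f := a.orbitMap x₀) (orbitMap_equivariant a x₀) htr
  haveI := hflat
  haveI : LocallyOfFiniteType ((a.orbitMap x₀).left ≫ X.hom) := by
    rw [Over.w (a.orbitMap x₀)]; infer_instance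
  haveI : LocallyOfFiniteType (a.orbitMap x₀).left :=
    locallyOfFiniteType_of_comp (a.orbitMap x₀).left X.hom
  haveI : LocallyOfFinitePresentation (a.orbitMap x₀).left := inferInstance
  exact connected_of_fibration i (a.orbitMap x₀) (stabilizer_sq a x₀ i hH)
    (a.orbitMap x₀).left.surjective (a.orbitMap x₀).left.isOpenMap

end Field

end Groth.Agent.H63.GrpExt
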