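import Mathlib
import Groth.Prelude.Def_AlgGrp
import Groth.Agent.H63.GrpExt2

/-!
# Orbits of algebraic group actions are locally closed (helper63)
-/

set_option autoImplicit false
set_option linter.style.haveILetI false
universe u
open CategoryTheory CategoryTheory.Limits AlgebraicGeometry MonoidalCategory
  CartesianMonoidalCategory MonObj Topology

namespace Groth.Agent.H63.OrbitLC

open Groth.Agent.H63.EquivFlat Groth.Agent.H63.ActionTranslate Groth.Agent.H63.GrpExt

section Top

/-- The part of a constructible set which is open in its closure is dense in it. -/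
theorem exists_open_of_isConstructible {X : Type*} [TopologicalSpace X] {s : Set X}
    (hs : IsConstructible s) :
    ∀ W : Set X, IsOpen W → (W ∩ s).Nonempty →
      ∃ U : Set X, IsOpen U ∧ U ⊆ W ∧ (U ∩ closure s).Nonempty ∧ U ∩ closure s ⊆ s := by
  induction s, hs using BooleanSubalgebra.closure_sdiff_sup_induction with
  | isSublattice =>
    exact ⟨fun s hs t ht ↦ ⟨hs.1.union ht.1, hs.2.union ht.2⟩,
      fun s hs t ht ↦ ⟨hs.1.inter ht.1, hs.2.inter_isOpen ht.2 ht.1⟩⟩
  | bot_mem => exact ⟨isOpen_empty, .empty⟩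
  | top_mem => exact ⟨isOpen_univ, .univ⟩
  | sdiff A hA B hB =>
    intro W hW hne
    refine ⟨W ∩ A, hW.inter hA.1, Set.inter_subset_left, ?_, ?_⟩
    · obtain ⟨x, hxW, hxA, hxB⟩ := hne
      exact ⟨x, ⟨hxW, hxA⟩, subset_closure ⟨hxA, hxB⟩⟩
    · rintro x ⟨⟨-, hxA⟩, hxc⟩
      have : closure (A \ B) ⊆ Bᶜ :=
        closure_minimal (fun y hy => hy.2) hB.1.isClosed_compl
      exact ⟨hxA, this hxc⟩
  | sup s _ t _ hs' ht' =>
    intro W hW hne0
    by_cases h1 : (W ∩ (closure t)ᶜ ∩ s).Nonempty
    · obtain ⟨U, hUo, hUW, hne, hsub⟩ :=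
        hs' (W ∩ (closure t)ᶜ) (hW.inter isClosed_closure.isOpen_compl) h1
      refine ⟨U, hUo, hUW.trans Set.inter_subset_left, ?_, ?_⟩
      · exact hne.mono (Set.inter_subset_inter_right _ (closure_mono Set.subset_union_left))
      · rintro x ⟨hxU, hxc⟩
        change x ∈ closure (s ∪ t) at hxc
        rw [closure_union] at hxc
        rcases hxc with hxc | hxc
        · exact Or.inl (hsub ⟨hxU, hxc⟩)
        · exact absurd hxc (hUW hxU).2
    · by_cases h2 : (W ∩ (closure s)ᶜ ∩ t).Nonempty
      · obtain ⟨U, hUo, hUW, hne, hsub⟩ :=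
          ht' (W ∩ (closure s)ᶜ) (hW.inter isClosed_closure.isOpen_compl) h2
        refine ⟨U, hUo, hUW.trans Set.inter_subset_left, ?_, ?_⟩
        · exact hne.mono (Set.inter_subset_inter_right _ (closure_mono Set.subset_union_right))
        · rintro x ⟨hxU, hxc⟩
          change x ∈ closure (s ∪ t) at hxc
          rw [closure_union] at hxc
          rcases hxc with hxc | hxc
          · exact absurd hxc (hUW hxU).2
          · exact Or.inr (hsub ⟨hxU, hxc⟩)
      · have hst : W ∩ s ⊆ closure t := by
          intro x hx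
          by_contra hxc
          exact h1 ⟨x, ⟨hx.1, hxc⟩, hx.2⟩
        have hWt : (W ∩ t).Nonempty := by
          obtain ⟨x, hxW, hx | hx⟩ := hne0
          · exact mem_closure_iff.mp (hst ⟨hxW, hx⟩) W hW hxW
          · exact ⟨x, hxW, hx⟩
        obtain ⟨U, hUo, hUW, hne, hsub⟩ := ht' W hW hWt
        refine ⟨U, hUo, hUW, ?_, ?_⟩
        · exact hne.mono (Set.inter_subset_inter_right _ (closure_mono Set.subset_union_right))
        · rintro x ⟨hxU, hxc⟩
          change x ∈ closure (s ∪ t) at hxc
          rw [closure_union] at hxc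
          rcases hxc with hxc | hxc
          · have h3 : x ∈ closure (W ∩ s) := hW.inter_closure ⟨hUW hxU, hxc⟩
            have h4 : x ∈ closure t := closure_minimal hst isClosed_closure h3
            exact Or.inr (hsub ⟨hxU, h4⟩)
          · exact Or.inr (hsub ⟨hxU, hxc⟩)

end Top

section Orbit

variable {S : Scheme.{u}} {G X : Over S} [GrpObj G] (a : AlgGrp.Action G X)
  (x : 𝟙_ (Over S) ⟶ X)

/-- the orbit is stable under the action -/
theorem act_mem_orbit (w : ↥(G ⊗ X).left)
    (hw : (snd G X).left.base w ∈ Set.range (a.orbitMap x).left.base) :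
    a.act.left.base w ∈ Set.range (a.orbitMap x).left.base := by
  obtain ⟨g₁, hg₁⟩ := hw
  have SQβ : IsPullback (snd G G).left (G ◁ a.orbitMap x).left (a.orbitMap x).left
      (snd G X).left := (sq_snd' G (a.orbitMap x)).map (Over.forget _)
  obtain ⟨v, -, hv2⟩ := exists_preimage_of_isPullback SQβ g₁ w hg₁
  refine ⟨μ[G].left.base v, ?_⟩
  have h := congrArg (fun t => t.left.base v) (orbitMap_equivariant a x)
  simp only [Over.comp_left, Scheme.Hom.comp_base, TopCat.comp_app] at h
  rw [hv2] at h
  exact h.symm

theorem sq_mul_snd : IsPullback μ[G] (snd G G) (toUnit G) (toUnit G) := by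
  refine Groth.Agent.H40.FpqcFam.isPullback_of_pts (toUnit_unique _ _) ?_
  intro T m s _
  refine ⟨lift (m * s⁻¹) s, ⟨?_, lift_snd _ _⟩, ?_⟩
  · rw [← Hom.mul_def, _root_.inv_mul_cancel_right]
  · rintro q ⟨hq1, hq2⟩
    apply CartesianMonoidalCategory.hom_ext
    · have hμ : q ≫ μ[G] = (q ≫ fst G G) * (q ≫ snd G G) := by
        rw [Hom.mul_def, ← comp_lift, lift_fst_snd, Category.comp_id]
      rw [lift_fst, ← hq1, ← hq2, hμ, _root_.mul_inv_cancel_right]
    · rw [lift_snd, hq2]

/-- the "inverse" map `(g, x) ↦ (g⁻¹, g x)` -/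
theorem exists_swap (w : ↥(G ⊗ X).left) :
    ∃ w' : ↥(G ⊗ X).left, (snd G X).left.base w' = a.act.left.base w ∧
      a.act.left.base w' = (snd G X).left.base w := by
  refine ⟨(lift (fst G X)⁻¹ a.act).left.base w, ?_, ?_⟩
  · have e : lift (fst G X)⁻¹ a.act ≫ snd G X = a.act := lift_snd _ _
    have h := congrArg (fun t => t.left.base w) e
    simpa only [Over.comp_left, Scheme.Hom.comp_base, TopCat.comp_app] using h
  · have e : lift (fst G X)⁻¹ a.act ≫ a.act = snd G X := by
      have h2 : lift (fst G X)⁻¹ a.act =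
          lift (fst G X)⁻¹ (lift (fst G X) (snd G X) ≫ a.act) := by
        rw [lift_fst_snd, Category.id_comp]
      rw [h2, ← act_mul, _root_.inv_mul_cancel, act_one']
    have h := congrArg (fun t => t.left.base w) e
    simpa only [Over.comp_left, Scheme.Hom.comp_base, TopCat.comp_app] using h

end Orbit

section Field

variable {k : Type u} [Field k] {G X : Over (Spec (CommRingCat.of k))} [GrpObj G]
  (a : AlgGrp.Action G X) (x : 𝟙_ (Over (Spec (CommRingCat.of k))) ⟶ X)

/-- transitivity on the orbit -/
theorem exists_act_eq (y u : X.left) (hy : y ∈ Set.range (a.orbitMap x).left.base)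
    (hu : u ∈ Set.range (a.orbitMap x).left.base) :
    ∃ w : ↥(G ⊗ X).left, (snd G X).left.base w = u ∧ a.act.left.base w = y := by
  obtain ⟨g₁, rfl⟩ := hy
  obtain ⟨g₂, rfl⟩ := hu
  haveI : Subsingleton ↥(𝟙_ (Over (Spec (CommRingCat.of k)))).left :=
    inferInstanceAs (Subsingleton (PrimeSpectrum k))
  have SQ : IsPullback μ[G].left (snd G G).left (toUnit G).left (toUnit G).left :=
    (sq_mul_snd (G := G)).map (Over.forget _)
  obtain ⟨v, hv1, hv2⟩ := exists_preimage_of_isPullback SQ g₁ g₂ (Subsingleton.elim _ _)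
  refine ⟨(G ◁ a.orbitMap x).left.base v, ?_, ?_⟩
  · have e : (G ◁ a.orbitMap x) ≫ snd G X = snd G G ≫ a.orbitMap x := whiskerLeft_snd _ _
    have h := congrArg (fun t => t.left.base v) e
    simp only [Over.comp_left, Scheme.Hom.comp_base, TopCat.comp_app] at h
    rw [h, hv2]
  · have h := congrArg (fun t => t.left.base v) (orbitMap_equivariant a x)
    simp only [Over.comp_left, Scheme.Hom.comp_base, TopCat.comp_app] at h
    rw [h]
    change (a.orbitMap x).left.base (μ[G].left.base v) = _
    rw [hv1]

theorem isLocallyClosed_range_orbitMap [LocallyOfFiniteType G.hom] [QuasiCompact G.hom]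
    [LocallyOfFiniteType X.hom] [QuasiCompact X.hom] :
    IsLocallyClosed (Set.range (a.orbitMap x).left.base) := by
  set o := a.orbitMap x with ho
  haveI : IsLocallyNoetherian X.left := LocallyOfFiniteType.isLocallyNoetherian X.hom
  haveI : CompactSpace X.left := QuasiCompact.compactSpace_of_compactSpace X.hom
  haveI : QuasiCompact o.left := quasiCompact_of_finiteType G.hom o.left
  haveI : LocallyOfFiniteType (o.left ≫ X.hom) := by rw [Over.w o]; infer_instance
  haveI : LocallyOfFiniteType o.left := locallyOfFiniteType_of_comp o.left X.hom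
  haveI : LocallyOfFinitePresentation o.left := inferInstance
  have hc : IsConstructible (Set.range o.left.base) := by
    rw [← Set.image_univ]
    exact o.left.isConstructible_image .univ
  have hne : (Set.univ ∩ Set.range o.left.base).Nonempty :=
    ⟨o.left.base (η[G].left.base (IsLocalRing.closedPoint k)), trivial, ⟨_, rfl⟩⟩
  obtain ⟨U', hU'o, -, hU'ne, hU'sub⟩ := exists_open_of_isConstructible hc Set.univ isOpen_univ hne
  -- openness of the action and of the projection
  haveI : Flat G.hom := inferInstance
  haveI : LocallyOfFinitePresentation G.hom := inferInstance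
  haveI : UniversallyOpen G.hom := inferInstance
  have hp₂ : IsOpenMap (snd G X).left.base := by
    haveI : UniversallyOpen (snd G X).left := by rw [Over.snd_left]; infer_instance
    exact (snd G X).left.isOpenMap
  have hα : IsOpenMap a.act.left.base := by
    haveI := Groth.Agent.H63.GrpFlatPt.flat_act a
    haveI : LocallyOfFiniteType (G ⊗ X).hom := by rw [Over.tensorObj_hom]; infer_instance
    haveI : LocallyOfFiniteType (a.act.left ≫ X.hom) := by rw [Over.w a.act]; infer_instance
    haveI : LocallyOfFiniteType a.act.left := locallyOfFiniteType_of_comp a.act.left X.hom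
    haveI : LocallyOfFinitePresentation a.act.left := inferInstance
    exact a.act.left.isOpenMap
  -- closure of the orbit is stable
  have hF3 : ∀ w : ↥(G ⊗ X).left, (snd G X).left.base w ∈ closure (Set.range o.left.base) →
      a.act.left.base w ∈ closure (Set.range o.left.base) := by
    intro w hw
    have h1 : w ∈ closure ((snd G X).left.base ⁻¹' Set.range o.left.base) := by
      rw [← hp₂.preimage_closure_eq_closure_preimage (snd G X).left.continuous]
      exact hw
    have h2 := image_closure_subset_closure_image a.act.left.continuous ⟨w, h1, rfl⟩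
    refine closure_mono ?_ h2
    rintro _ ⟨w', hw', rfl⟩
    exact act_mem_orbit a x w' hw'
  have hV : IsOpen (a.act.left.base '' ((snd G X).left.base ⁻¹' U')) :=
    hα _ (hU'o.preimage (snd G X).left.continuous)
  have heq : Set.range o.left.base =
      a.act.left.base '' ((snd G X).left.base ⁻¹' U') ∩ closure (Set.range o.left.base) := by
    apply Set.Subset.antisymm
    · intro y hy
      refine ⟨?_, subset_closure hy⟩
      obtain ⟨u, hu1, hu2⟩ := hU'ne
      obtain ⟨w, hw1, hw2⟩ := exists_act_eq a x y u hy (hU'sub ⟨hu1, hu2⟩)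
      exact ⟨w, by rw [Set.mem_preimage, hw1]; exact hu1, hw2⟩
    · rintro y ⟨⟨w, hw1, rfl⟩, hyc⟩
      obtain ⟨w', hw'1, hw'2⟩ := exists_swap a w
      have h1 : (snd G X).left.base w ∈ closure (Set.range o.left.base) := by
        rw [← hw'2]
        exact hF3 w' (by rw [hw'1]; exact hyc)
      exact act_mem_orbit a x w (hU'sub ⟨hw1, h1⟩)
  rw [heq]
  exact hV.isLocallyClosed.inter isClosed_closure.isLocallyClosed

end Field

end Groth.Agent.H63.OrbitLC
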