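import Mathlib
import Groth.Agent.H49.SmoothFppf

/-!
# Smoothness over a field descends along flat surjective morphisms (helper63)
(consequence of helper49's pointwise EGA IV 17.7.7)
-/

set_option autoImplicit false
set_option linter.style.haveILetI false
universe u
open CategoryTheory CategoryTheory.Limits AlgebraicGeometry

namespace Groth.Agent.H63.SmoothDesc

/-- If `g : X ⟶ Y` is flat and surjective, `f : Y ⟶ S` is locally of finite presentation and
`g ≫ f` is smooth, then `f` is smooth. -/
theorem smooth_of_flat_surjective_comp {X Y S : Scheme.{u}} (g : X ⟶ Y) (f : Y ⟶ S)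
    [Flat g] [Surjective g] [LocallyOfFinitePresentation f] [Smooth (g ≫ f)] : Smooth f := by
  rw [← Scheme.Hom.smoothLocus_eq_top_iff]
  ext y
  simp only [TopologicalSpace.Opens.coe_top, Set.mem_univ, iff_true]
  obtain ⟨x, rfl⟩ := g.surjective y
  refine Groth.Agent.H49.SmoothFppf.mem_smoothLocus_of_flat_of_comp f g x (Flat.stalkMap g x) ?_
  rw [(g ≫ f).smoothLocus_eq_top]
  trivial

/-- over a field -/
theorem smooth_over_field_of_flat_surjective {k : Type u} [Field k]
    {G X : Over (Spec (CommRingCat.of k))} (o : G ⟶ X) [Flat o.left] [Surjective o.left]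
    [Smooth G.hom] [LocallyOfFiniteType X.hom] : Smooth X.hom := by
  haveI : LocallyOfFinitePresentation X.hom := inferInstance
  haveI : Smooth (o.left ≫ X.hom) := by rw [Over.w o]; infer_instance
  exact smooth_of_flat_surjective_comp o.left X.hom

end Groth.Agent.H63.SmoothDesc
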