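import Mathlib
import Groth.Prelude.Def_AlgGrp
import Groth.Agent.H63.OrbitLC
import Groth.Agent.H63.SmoothDesc
import Groth.Agent.H63.SurjK2
import Groth.Agent.H51.Reduced

/-!
# The reduced orbit of a smooth group is smooth (helper63)
-/

set_option autoImplicit false
set_option linter.style.haveILetI false
universe u
open CategoryTheory CategoryTheory.Limits AlgebraicGeometry MonoidalCategory
  CartesianMonoidalCategory MonObj Topology TopologicalSpace

namespace Groth.Agent.H63.OrbitSmooth

open Groth.Agent.H63.EquivFlat Groth.Agent.H63.ActionTranslate Groth.Agent.H63.GrpExt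
  Groth.Agent.H63.SurjK Groth.Agent.H63.OrbitLC

section Lift

/-- kernel of a morphism from a reduced scheme -/
theorem ker_eq_vanishingIdeal {Y Z : Scheme.{u}} (g : Y ⟶ Z) [IsReduced Y] :
    g.ker = Scheme.IdealSheafData.vanishingIdeal (.closure (Set.range g.base)) := by
  rw [← Scheme.IdealSheafData.map_bot, ← Scheme.nilradical_eq_bot,
    ← Scheme.IdealSheafData.vanishingIdeal_top, Scheme.IdealSheafData.map_vanishingIdeal]
  congr 2
  simp

/-- a morphism from a reduced scheme whose image lies in the image of a reduced closed subscheme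
factors through it -/
theorem exists_lift_closedImmersion {X Y Z : Scheme.{u}} (f : X ⟶ Z) [IsClosedImmersion f]
    [IsReduced X] (g : Y ⟶ Z) [IsReduced Y] (h : Set.range g.base ⊆ Set.range f.base) :
    ∃ φ : Y ⟶ X, φ ≫ f = g := by
  have H : f.ker ≤ g.ker := by
    rw [ker_eq_vanishingIdeal f, ker_eq_vanishingIdeal g]
    apply Scheme.IdealSheafData.vanishingIdeal_antimono
    exact closure_mono h
  exact ⟨IsClosedImmersion.lift f g H, IsClosedImmersion.lift_fac f g H⟩

/-- the same for immersions -/
theorem exists_lift_immersion {X Y Z : Scheme.{u}} (f : X ⟶ Z) [IsImmersion f]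
    [IsReduced X] (g : Y ⟶ Z) [IsReduced Y] (h : Set.range g.base ⊆ Set.range f.base) :
    ∃ φ : Y ⟶ X, φ ≫ f = g := by
  have hU : Set.range g.base ⊆ Set.range f.coborderRange.ι.base := by
    refine h.trans ?_
    rw [Scheme.Opens.range_ι]
    exact subset_coborder
  let g' : Y ⟶ f.coborderRange := IsOpenImmersion.lift f.coborderRange.ι g hU
  have hg' : g' ≫ f.coborderRange.ι = g := IsOpenImmersion.lift_fac _ _ _
  have h' : Set.range g'.base ⊆ Set.range f.liftCoborder.base := by
    rintro _ ⟨y, rfl⟩
    obtain ⟨x, hx⟩ := h ⟨y, rfl⟩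
    refine ⟨x, f.coborderRange.ι.isOpenEmbedding.injective ?_⟩
    have e1 : f.coborderRange.ι.base (f.liftCoborder.base x) = f.base x := by
      have := congrArg (fun t => t.base x) f.liftCoborder_ι
      simpa only [Scheme.Hom.comp_base, TopCat.comp_app] using this
    have e2 : f.coborderRange.ι.base (g'.base y) = g.base y := by
      have := congrArg (fun t => t.base y) hg'
      simpa only [Scheme.Hom.comp_base, TopCat.comp_app] using this
    rw [e1, e2, hx]
  obtain ⟨φ, hφ⟩ := exists_lift_closedImmersion f.liftCoborder g' h'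
  refine ⟨φ, ?_⟩
  rw [← f.liftCoborder_ι, ← Category.assoc, hφ, hg']

end Lift

section Main

variable {k : Type u} [Field k] {G X : Over (Spec (CommRingCat.of k))} [GrpObj G]

theorem smooth_orbit [Smooth G.hom] [QuasiCompact G.hom] [LocallyOfFiniteType X.hom]
    [QuasiCompact X.hom] (a : AlgGrp.Action G X)
    (x : 𝟙_ (Over (Spec (CommRingCat.of k))) ⟶ X) (O : Scheme.{u}) (i : O ⟶ X.left)
    [IsImmersion i] [IsReduced O]
    (hO : Set.range i.base = Set.range (a.orbitMap x).left.base) : Smooth (i ≫ X.hom) := by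
  haveI : IsReduced G.left := Groth.Agent.H63.SmoothRegular.isReduced_of_smooth_field G.hom
  haveI : LocallyOfFiniteType G.hom := inferInstance
  let Oₒ : Over (Spec (CommRingCat.of k)) := Over.mk (i ≫ X.hom)
  let iₒ : Oₒ ⟶ X := Over.homMk i rfl
  haveI : Mono i := inferInstance
  haveI : Mono iₒ := (Over.forget _).mono_of_mono_map (inferInstanceAs (Mono i))
  -- the orbit map factors through `O`
  obtain ⟨φ, hφ⟩ := exists_lift_immersion i (a.orbitMap x).left (by rw [hO])
  let φₒ : G ⟶ Oₒ := Over.homMk φ (by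
    change φ ≫ i ≫ X.hom = G.hom
    rw [← Category.assoc, hφ, Over.w])
  have hφi : φₒ ≫ iₒ = a.orbitMap x := Over.OverMorphism.ext hφ
  -- the action restricts to `O`
  haveI : Smooth (pullback.snd G.hom Oₒ.hom) := inferInstance
  haveI : IsReduced Oₒ.left := inferInstanceAs (IsReduced O)
  haveI : IsReduced (G ⊗ Oₒ).left :=
    Groth.Agent.H51.isReduced_of_smooth (pullback.snd G.hom Oₒ.hom)
  have hrange : Set.range ((G ◁ iₒ) ≫ a.act).left.base ⊆ Set.range i.base := by
    rintro _ ⟨w, rfl⟩
    rw [hO, Over.comp_left, Scheme.Hom.comp_base, TopCat.comp_app]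
    apply act_mem_orbit a x
    have e : (G ◁ iₒ) ≫ snd G X = snd G Oₒ ≫ iₒ := whiskerLeft_snd _ _
    have h := congrArg (fun t => t.left.base w) e
    simp only [Over.comp_left, Scheme.Hom.comp_base, TopCat.comp_app] at h
    rw [h, ← hO]
    exact ⟨_, rfl⟩
  obtain ⟨β, hβ⟩ := exists_lift_immersion i ((G ◁ iₒ) ≫ a.act).left hrange
  let βₒ : G ⊗ Oₒ ⟶ Oₒ := Over.homMk β (by
    change β ≫ i ≫ X.hom = (G ⊗ Oₒ).hom
    rw [← Category.assoc, hβ, Over.w])
  have hβi : βₒ ≫ iₒ = (G ◁ iₒ) ≫ a.act := Over.OverMorphism.ext hβ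
  let b : AlgGrp.Action G Oₒ :=
    { act := βₒ
      one_act := by
        rw [← cancel_mono iₒ, Category.assoc, hβi, ← Category.assoc, ← whisker_exchange,
          Category.assoc, a.one_act, leftUnitor_naturality]
      mul_act := by
        rw [← cancel_mono iₒ]
        simp only [Category.assoc]
        rw [hβi, ← MonoidalCategory.whiskerLeft_comp_assoc, hβi,
          MonoidalCategory.whiskerLeft_comp_assoc, ← associator_naturality_right_assoc,
          ← a.mul_act, ← whisker_exchange_assoc] }
  have hb : b.act = βₒ := rfl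
  -- equivariance
  have hf : (G ◁ φₒ) ≫ b.act = (mulAction G).act ≫ φₒ := by
    rw [← cancel_mono iₒ, Category.assoc, Category.assoc, hb, hβi,
      ← MonoidalCategory.whiskerLeft_comp_assoc, hφi, orbitMap_equivariant]
  -- surjectivity of `φ`
  haveI hφs : Surjective φₒ.left := ⟨by
    intro p
    obtain ⟨g, hg⟩ : i.base p ∈ Set.range (a.orbitMap x).left.base := by rw [← hO]; exact ⟨p, rfl⟩
    refine ⟨g, i.isEmbedding.injective ?_⟩
    have h := congrArg (fun t => t.base g) hφ
    simp only [Scheme.Hom.comp_base, TopCat.comp_app] at h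
    change i.base (φ.base g) = i.base p
    rw [h, hg]⟩
  -- finiteness of `O`
  haveI : LocallyOfFiniteType Oₒ.hom := inferInstanceAs (LocallyOfFiniteType (i ≫ X.hom))
  haveI : IsLocallyNoetherian X.left := LocallyOfFiniteType.isLocallyNoetherian X.hom
  haveI : CompactSpace X.left := QuasiCompact.compactSpace_of_compactSpace X.hom
  haveI : IsNoetherian X.left := {}
  haveI : NoetherianSpace X.left := inferInstance
  haveI : NoetherianSpace Oₒ.left := i.isEmbedding.isInducing.noetherianSpace
  haveI : QuasiCompact Oₒ.hom := inferInstance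
  haveI : Nonempty G.left := ⟨η[G].left.base (IsLocalRing.closedPoint k)⟩
  -- transitivity on geometric points
  have htr : ∀ y y' : Kpt k (AlgebraicClosure k) ⟶ Oₒ,
      ∃ g : Kpt k (AlgebraicClosure k) ⟶ G, lift g y ≫ b.act = y' := by
    intro y y'
    obtain ⟨c₁, hc₁⟩ := exists_Kpoint_lift (AlgebraicClosure k) φₒ y
    obtain ⟨c₂, hc₂⟩ := exists_Kpoint_lift (AlgebraicClosure k) φₒ y'
    refine ⟨c₂ * c₁⁻¹, ?_⟩
    rw [← cancel_mono iₒ, Category.assoc, hb, hβi, lift_whiskerLeft_assoc, ← hc₁, ← hc₂,
      Category.assoc, Category.assoc, hφi, comp_orbitMap, ← act_mul, inv_mul_cancel_right,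
      ← comp_orbitMap]
  obtain ⟨hflat, -⟩ := flat_surjective_of_equivariant (K := AlgebraicClosure k)
    (a := mulAction G) (b := b) (f := φₒ) hf htr
  haveI : Flat φ := hflat
  haveI : Surjective φ := hφs
  haveI : LocallyOfFinitePresentation (i ≫ X.hom) := inferInstance
  haveI : Smooth (φ ≫ i ≫ X.hom) := by
    rw [← Category.assoc, hφ, Over.w]
    infer_instance
  exact Groth.Agent.H63.SmoothDesc.smooth_of_flat_surjective_comp φ (i ≫ X.hom)

end Main

end Groth.Agent.H63.OrbitSmooth
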