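import Mathlib
import Groth.Prelude.Def_AlgGrp
import Groth.Prelude.Def_AGF
import Groth.Agent.H63.OrbitSmooth
import Groth.Agent.H40.FpqcDesc

/-!
# The reduced orbit of a reduced group is the quotient by the stabilizer (helper63)
-/

set_option autoImplicit false
set_option linter.style.haveILetI false
universe u
open CategoryTheory CategoryTheory.Limits AlgebraicGeometry MonoidalCategory
  CartesianMonoidalCategory MonObj Topology TopologicalSpace

namespace Groth.Agent.H63.OrbitQuot

open Groth.Agent.H63.EquivFlat Groth.Agent.H63.ActionTranslate Groth.Agent.H63.GrpExt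
  Groth.Agent.H63.OrbitLC Groth.Agent.H63.SurjK Groth.Agent.H63.OrbitSmooth

section Sch

theorem isReduced_vanishingIdeal_subscheme {X : Scheme.{u}} (C : TopologicalSpace.Closeds X) :
    IsReduced (Scheme.IdealSheafData.vanishingIdeal C).subscheme := by
  have : ∀ U, IsReduced ((Scheme.IdealSheafData.vanishingIdeal C).subschemeCover.openCover.X U) := by
    intro (U : X.affineOpens)
    show IsReduced (Spec (CommRingCat.of
      (Γ(X, U.1) ⧸ (Scheme.IdealSheafData.vanishingIdeal C).ideal U)))
    have hrad : ((Scheme.IdealSheafData.vanishingIdeal C).ideal U).IsRadical := by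
      rw [Scheme.IdealSheafData.vanishingIdeal_ideal]
      exact PrimeSpectrum.isRadical_vanishingIdeal _
    have : _root_.IsReduced (Γ(X, U.1) ⧸ (Scheme.IdealSheafData.vanishingIdeal C).ideal U) :=
      (Ideal.isRadical_iff_quotient_reduced _).mp hrad
    infer_instance
  exact IsReduced.of_openCover _ (Scheme.IdealSheafData.vanishingIdeal C).subschemeCover.openCover

/-- the reduced induced subscheme structure on a locally closed subset -/
theorem exists_reduced_immersion (X : Scheme.{u}) (W : Set X) (hW : IsLocallyClosed W) :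
    ∃ (O : Scheme.{u}) (i : O ⟶ X), IsImmersion i ∧ IsReduced O ∧ Set.range i.base = W := by
  let U : X.Opens := ⟨coborder W, hW.isOpen_coborder⟩
  have hmem : ∀ p : U.toScheme, U.ι.base p ∈ coborder W := fun p => by
    have h : U.ι.base p ∈ Set.range U.ι.base := ⟨p, rfl⟩
    rw [Scheme.Opens.range_ι] at h
    exact h
  have hT : IsClosed (U.ι.base ⁻¹' W) := by
    refine (U.ι.isOpenEmbedding.isInducing.isClosed_iff).mpr ⟨closure W, isClosed_closure, ?_⟩
    ext p
    constructor
    · intro hp
      have h2 : U.ι.base p ∈ coborder W ∩ closure W := ⟨hmem p, hp⟩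
      rw [coborder_inter_closure] at h2
      exact h2
    · intro hp
      exact subset_closure hp
  let C : TopologicalSpace.Closeds U.toScheme := ⟨U.ι.base ⁻¹' W, hT⟩
  refine ⟨(Scheme.IdealSheafData.vanishingIdeal C).subscheme,
    (Scheme.IdealSheafData.vanishingIdeal C).subschemeι ≫ U.ι, inferInstance,
    isReduced_vanishingIdeal_subscheme C, ?_⟩
  rw [Scheme.Hom.comp_base, TopCat.coe_comp, Set.range_comp,
    Scheme.IdealSheafData.range_subschemeι, Scheme.IdealSheafData.coe_support_vanishingIdeal]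
  change U.ι.base '' (U.ι.base ⁻¹' W) = W
  rw [Set.image_preimage_eq_inter_range, Scheme.Opens.range_ι]
  exact Set.inter_eq_left.mpr subset_coborder

/-- factoring through an immersion can be checked after a surjective scheme-theoretically
dominant morphism -/
theorem exists_lift_of_isSchemeTheoreticallyDominant {W V X Z : Scheme.{u}} (j : W ⟶ V)
    [IsSchemeTheoreticallyDominant j] [Surjective j] (F : V ⟶ X) (z : Z ⟶ X) [IsImmersion z]
    (c : W ⟶ Z) (hc : j ≫ F = c ≫ z) : ∃ d : V ⟶ Z, d ≫ z = F := by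
  have hU : Set.range F.base ⊆ Set.range z.coborderRange.ι.base := by
    rintro _ ⟨v, rfl⟩
    obtain ⟨w, rfl⟩ := j.surjective v
    rw [Scheme.Opens.range_ι]
    apply subset_coborder
    have h := congrArg (fun t => t.base w) hc
    simp only [Scheme.Hom.comp_base, TopCat.comp_app] at h
    exact ⟨c.base w, h.symm⟩
  let F' : V ⟶ z.coborderRange := IsOpenImmersion.lift z.coborderRange.ι F hU
  have hF' : F' ≫ z.coborderRange.ι = F := IsOpenImmersion.lift_fac _ _ _
  have hc' : j ≫ F' = c ≫ z.liftCoborder := by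
    rw [← cancel_mono z.coborderRange.ι, Category.assoc, hF', Category.assoc,
      z.liftCoborder_ι, hc]
  have H : z.liftCoborder.ker ≤ F'.ker := by
    have h1 : (j ≫ F').ker = F'.ker := by
      rw [Scheme.Hom.ker_comp, j.ker_eq_bot, Scheme.IdealSheafData.map_bot]
    rw [← h1, hc']
    exact Scheme.Hom.le_ker_comp c z.liftCoborder
  refine ⟨IsClosedImmersion.lift z.liftCoborder F' H, ?_⟩
  have h2 : IsClosedImmersion.lift z.liftCoborder F' H ≫ z =
      (IsClosedImmersion.lift z.liftCoborder F' H ≫ z.liftCoborder) ≫ z.coborderRange.ι := by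
    rw [Category.assoc, z.liftCoborder_ι]
  rw [h2, IsClosedImmersion.lift_fac, hF']

end Sch

section Cat

variable {S : Scheme.{u}}

theorem isPullback_of_comp_mono {C : Type*} [Category C] {R A B Y X : C} {p₁ : R ⟶ A}
    {p₂ : R ⟶ B} {f : A ⟶ Y} {g : B ⟶ Y} (m : Y ⟶ X)
    [Mono m] (h : IsPullback p₁ p₂ (f ≫ m) (g ≫ m)) : IsPullback p₁ p₂ f g := by
  refine Groth.Agent.H40.FpqcFam.isPullback_of_pts ?_ ?_
  · rw [← cancel_mono m, Category.assoc, Category.assoc, h.w]
  · intro T x y hxy
    have hxy' : x ≫ f ≫ m = y ≫ g ≫ m := by rw [← Category.assoc, hxy, Category.assoc]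
    refine ⟨h.lift x y hxy', ⟨h.lift_fst _ _ _, h.lift_snd _ _ _⟩, ?_⟩
    rintro q ⟨hq1, hq2⟩
    apply h.hom_ext
    · rw [hq1, h.lift_fst]
    · rw [hq2, h.lift_snd]

/-- two effective quotients with the same kernel pair are isomorphic -/
theorem exists_iso_of_kernelPair {R G Y Z : Over S} (p₁ p₂ : R ⟶ G) (π : G ⟶ Y) (ψ : G ⟶ Z)
    [EffectiveEpi π.left] [EffectiveEpi ψ.left] (h₁ : IsPullback p₁ p₂ π π)
    (h₂ : IsPullback p₁ p₂ ψ ψ) : ∃ e : Y ≅ Z, π ≫ e.hom = ψ := by
  obtain ⟨e, he⟩ := Groth.Agent.H40.FpqcDesc.exists_desc π ψ (fun W g₁ g₂ hg => by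
    rw [← h₁.lift_fst g₁ g₂ hg, Category.assoc, h₂.w, ← Category.assoc, h₁.lift_snd])
  obtain ⟨e', he'⟩ := Groth.Agent.H40.FpqcDesc.exists_desc ψ π (fun W g₁ g₂ hg => by
    rw [← h₂.lift_fst g₁ g₂ hg, Category.assoc, h₁.w, ← Category.assoc, h₂.lift_snd])
  haveI : Epi π.left := inferInstance
  haveI : Epi ψ.left := inferInstance
  haveI := Groth.Agent.H40.FpqcDesc.epi_of_epi_left π
  haveI := Groth.Agent.H40.FpqcDesc.epi_of_epi_left ψ
  refine ⟨⟨e, e', ?_, ?_⟩, he⟩
  · rw [← cancel_epi π, ← Category.assoc, he, he', Category.comp_id]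
  · rw [← cancel_epi ψ, ← Category.assoc, he', he, Category.comp_id]

variable {G X H : Over S} [GrpObj G] (a : AlgGrp.Action G X) (x₀ : 𝟙_ (Over S) ⟶ X)

/-- the kernel pair of the orbit map in terms of the stabilizer -/
theorem kernelPair_orbitMap (i : H ⟶ G) (hH : IsPullback i (toUnit H) (a.orbitMap x₀) x₀) :
    IsPullback (fst G H) ((G ◁ i) ≫ μ[G]) (a.orbitMap x₀) (a.orbitMap x₀) := by
  haveI : Mono x₀ := by
    haveI : IsSplitMono x₀ := ⟨⟨⟨toUnit X, toUnit_unique _ _⟩⟩⟩
    infer_instance
  haveI : Mono i := hH.mono_fst_of_mono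
  have h := stabilizer_sq a x₀ i (fun T g => by
    constructor
    · rintro ⟨h, rfl⟩
      rw [Category.assoc, hH.w, ← Category.assoc, toUnit_unique (h ≫ toUnit H) (toUnit T)]
    · intro hg
      exact ⟨hH.lift g (toUnit T) hg, hH.lift_fst _ _ _⟩)
  have e : fst G H * (snd G H ≫ i) = (G ◁ i) ≫ μ[G] := by
    rw [Hom.mul_def, Groth.Agent.H63.GrpHomFlat.whiskerLeft_eq_lift]
  rwa [e] at h

end Cat

section Field

variable {k : Type u} [Field k] {G X : Over (Spec (CommRingCat.of k))} [GrpObj G]

/-- The reduced orbit of a rational point under a reduced group `G` of finite type is `G`-stable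
and the orbit map onto it is faithfully flat. -/
theorem exists_orbit_action [LocallyOfFiniteType G.hom] [QuasiCompact G.hom] [IsReduced G.left]
    [LocallyOfFiniteType X.hom] [QuasiCompact X.hom] (a : AlgGrp.Action G X)
    (x : 𝟙_ (Over (Spec (CommRingCat.of k))) ⟶ X) (O : Over (Spec (CommRingCat.of k)))
    (i : O ⟶ X) [IsImmersion i.left] [IsReduced O.left]
    (hO : Set.range i.left.base = Set.range (a.orbitMap x).left.base) :
    ∃ (b : AlgGrp.Action G O) (φ : G ⟶ O), φ ≫ i = a.orbitMap x ∧
      (G ◁ i) ≫ a.act = b.act ≫ i ∧ (G ◁ φ) ≫ b.act = (mulAction G).act ≫ φ ∧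
      Flat φ.left ∧ Surjective φ.left ∧ LocallyOfFiniteType O.hom ∧ QuasiCompact O.hom := by
  haveI : Mono i.left := inferInstance
  haveI : Mono i := (Over.forget _).mono_of_mono_map (inferInstanceAs (Mono i.left))
  -- the orbit map factors through `O`
  obtain ⟨φ₀, hφ₀⟩ := exists_lift_immersion i.left (a.orbitMap x).left (by rw [hO])
  let φ : G ⟶ O := Over.homMk φ₀ (by
    rw [← Over.w i, ← Category.assoc, hφ₀, Over.w])
  have hφi : φ ≫ i = a.orbitMap x := Over.OverMorphism.ext hφ₀
  -- surjectivity of `φ`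
  haveI hφs : Surjective φ.left := ⟨by
    intro p
    obtain ⟨g, hg⟩ : i.left.base p ∈ Set.range (a.orbitMap x).left.base := by
      rw [← hO]; exact ⟨p, rfl⟩
    refine ⟨g, i.left.isEmbedding.injective ?_⟩
    have h := congrArg (fun t => t.base g) hφ₀
    simp only [Scheme.Hom.comp_base, TopCat.comp_app] at h
    change i.left.base (φ₀.base g) = i.left.base p
    rw [h, hg]⟩
  -- finiteness
  haveI : LocallyOfFiniteType (i.left ≫ X.hom) := inferInstance
  haveI hlftO : LocallyOfFiniteType O.hom := by rw [← Over.w i]; infer_instance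
  haveI : IsLocallyNoetherian X.left := LocallyOfFiniteType.isLocallyNoetherian X.hom
  haveI : CompactSpace X.left := QuasiCompact.compactSpace_of_compactSpace X.hom
  haveI : IsNoetherian X.left := {}
  haveI : NoetherianSpace X.left := inferInstance
  haveI : NoetherianSpace O.left := i.left.isEmbedding.isInducing.noetherianSpace
  haveI hqcO : QuasiCompact O.hom := inferInstance
  haveI : IsLocallyNoetherian G.left := LocallyOfFiniteType.isLocallyNoetherian G.hom
  haveI : CompactSpace G.left := QuasiCompact.compactSpace_of_compactSpace G.hom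
  haveI : IsNoetherian G.left := {}
  haveI : QuasiCompact φ.left := inferInstance
  -- scheme-theoretic dominance
  haveI : IsSchemeTheoreticallyDominant φ.left := IsSchemeTheoreticallyDominant.of_isDominant _
  haveI : IsIntegral (Spec (CommRingCat.of k)) := inferInstance
  haveI : Subsingleton (Spec (CommRingCat.of k)) :=
    inferInstanceAs (Subsingleton (PrimeSpectrum k))
  haveI : Flat G.hom := inferInstance
  haveI : Flat (snd G O).left := inferInstanceAs (Flat (pullback.snd G.hom O.hom))
  have SQ : IsPullback (snd G G).left (G ◁ φ).left φ.left (snd G O).left :=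
    (sq_snd' G φ).map (Over.forget _)
  haveI : IsSchemeTheoreticallyDominant (G ◁ φ).left :=
    IsSchemeTheoreticallyDominant.of_isPullback SQ
  haveI : Surjective (G ◁ φ).left := MorphismProperty.of_isPullback (P := @Surjective) SQ hφs
  -- the action restricts to `O`
  have hc : (G ◁ φ).left ≫ ((G ◁ i) ≫ a.act).left = ((mulAction G).act ≫ φ).left ≫ i.left := by
    rw [← Over.comp_left, ← Over.comp_left, Category.assoc, hφi, ← orbitMap_equivariant,
      ← MonoidalCategory.whiskerLeft_comp_assoc, hφi]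
  obtain ⟨β, hβ⟩ := exists_lift_of_isSchemeTheoreticallyDominant (G ◁ φ).left
    ((G ◁ i) ≫ a.act).left i.left _ hc
  let βₒ : G ⊗ O ⟶ O := Over.homMk β (by
    rw [← Over.w i, ← Category.assoc, hβ, Over.w])
  have hβi : βₒ ≫ i = (G ◁ i) ≫ a.act := Over.OverMorphism.ext hβ
  let b : AlgGrp.Action G O :=
    { act := βₒ
      one_act := by
        rw [← cancel_mono i, Category.assoc, hβi, ← Category.assoc, ← whisker_exchange,
          Category.assoc, a.one_act, leftUnitor_naturality]
      mul_act := by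
        rw [← cancel_mono i]
        simp only [Category.assoc]
        rw [hβi, ← MonoidalCategory.whiskerLeft_comp_assoc, hβi,
          MonoidalCategory.whiskerLeft_comp_assoc, ← associator_naturality_right_assoc,
          ← a.mul_act, ← whisker_exchange_assoc] }
  have hb : b.act = βₒ := rfl
  -- equivariance
  have hf : (G ◁ φ) ≫ b.act = (mulAction G).act ≫ φ := by
    rw [← cancel_mono i, Category.assoc, Category.assoc, hb, hβi,
      ← MonoidalCategory.whiskerLeft_comp_assoc, hφi, orbitMap_equivariant]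
  haveI : Nonempty G.left := ⟨η[G].left.base (IsLocalRing.closedPoint k)⟩
  -- transitivity on geometric points
  have htr : ∀ y y' : Kpt k (AlgebraicClosure k) ⟶ O,
      ∃ g : Kpt k (AlgebraicClosure k) ⟶ G, lift g y ≫ b.act = y' := by
    intro y y'
    obtain ⟨c₁, hc₁⟩ := exists_Kpoint_lift (AlgebraicClosure k) φ y
    obtain ⟨c₂, hc₂⟩ := exists_Kpoint_lift (AlgebraicClosure k) φ y'
    refine ⟨c₂ * c₁⁻¹, ?_⟩
    rw [← cancel_mono i, Category.assoc, hb, hβi, lift_whiskerLeft_assoc, ← hc₁, ← hc₂,
      Category.assoc, Category.assoc, hφi, comp_orbitMap, ← act_mul, inv_mul_cancel_right,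
      ← comp_orbitMap]
  obtain ⟨hflat, -⟩ := flat_surjective_of_equivariant (K := AlgebraicClosure k)
    (a := mulAction G) (b := b) (f := φ) hf htr
  exact ⟨b, φ, hφi, hβi.symm, hf, hflat, hφs, hlftO, hqcO⟩

end Field

end Groth.Agent.H63.OrbitQuot
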