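import Mathlib

/-!
# Local rings with enough derivations are reduced in characteristic zero (helper63)

`isReduced_of_derivations`: a Noetherian local ring `A` in which every nonzero natural number is a
unit, with `x i ∈ m` spanning `m` modulo `m²` and derivations `D i` with `D i (x j) ≡ δ_ij mod m`,
is reduced (Euler operator argument).
-/

set_option autoImplicit false
open IsLocalRing

namespace Groth.Agent.H63.DerReduced

variable {A : Type*} [CommRing A]

theorem exists_pow_deriv_eq_zero (hn : ∀ n : ℕ, n ≠ 0 → IsUnit ((n : ℕ) : A))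
    (D : Derivation ℤ A A) (x : A) :
    ∀ a b : ℕ, x ^ a * (D x) ^ b = 0 → ∃ c : ℕ, (D x) ^ c = 0 := by
  intro a
  induction a with
  | zero => intro b h; exact ⟨b, by simpa using h⟩
  | succ a ih =>
    intro b h
    apply ih (2 * b + 1)
    have h1 : D (x ^ (a + 1) * (D x) ^ b) = 0 := by rw [h, map_zero]
    rw [D.leibniz, D.leibniz_pow x (a + 1)] at h1
    have h1' : x ^ (a + 1) * D ((D x) ^ b) +
        (D x) ^ b * (((a + 1 : ℕ) : A) * (x ^ a * D x)) = 0 := by
      simpa [smul_eq_mul, nsmul_eq_mul] using h1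
    have h2 : ((a + 1 : ℕ) : A) * (x ^ a * (D x) ^ (2 * b + 1)) = 0 := by
      linear_combination (D x) ^ b * h1' - D ((D x) ^ b) * h
    exact (hn (a + 1) (Nat.succ_ne_zero a)).mul_right_eq_zero.mp h2

/-- In characteristic zero, derivations preserve nilpotent elements. -/
theorem isNilpotent_deriv (hn : ∀ n : ℕ, n ≠ 0 → IsUnit ((n : ℕ) : A))
    (D : Derivation ℤ A A) {x : A} (hx : IsNilpotent x) : IsNilpotent (D x) := by
  obtain ⟨N, hN⟩ := hx
  obtain ⟨c, hc⟩ := exists_pow_deriv_eq_zero hn D x N 0 (by rw [hN, zero_mul])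
  exact ⟨c, hc⟩

variable [IsLocalRing A]
variable {ι : Type*} [Fintype ι] [DecidableEq ι] (x : ι → A) (D : ι → Derivation ℤ A A)

/-- The Euler operator `∑ xᵢ Dᵢ`. -/
def euler : A →+ A where
  toFun a := ∑ i, x i * D i a
  map_zero' := by simp
  map_add' a b := by simp [mul_add, Finset.sum_add_distrib]

lemma euler_apply (a : A) : euler x D a = ∑ i, x i * D i a := rfl

lemma euler_mul (a b : A) : euler x D (a * b) = a * euler x D b + b * euler x D a := by
  simp only [euler_apply, Derivation.leibniz, smul_eq_mul, mul_add, Finset.sum_add_distrib,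
    Finset.mul_sum]
  congr 1 <;> exact Finset.sum_congr rfl (fun i _ => by ring)

lemma euler_mem (hx : ∀ i, x i ∈ maximalIdeal A) (a : A) : euler x D a ∈ maximalIdeal A := by
  rw [euler_apply]
  exact Ideal.sum_mem _ (fun i _ => Ideal.mul_mem_right _ _ (hx i))

lemma euler_sub_self_mem (hx : ∀ i, x i ∈ maximalIdeal A)
    (hspan : ∀ y ∈ maximalIdeal A, ∃ c : ι → A, y - ∑ i, c i * x i ∈ maximalIdeal A ^ 2)
    (hD : ∀ i j, D i (x j) - (if i = j then 1 else 0) ∈ maximalIdeal A) :
    ∀ y ∈ maximalIdeal A, euler x D y - y ∈ maximalIdeal A ^ 2 := by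
  have hprod : ∀ z ∈ maximalIdeal A ^ 2, euler x D z ∈ maximalIdeal A ^ 2 := by
    intro z hz
    rw [pow_two] at hz ⊢
    refine Submodule.mul_induction_on (C := fun r => euler x D r ∈ maximalIdeal A * maximalIdeal A)
      hz ?_ ?_
    · intro u hu v hv
      show euler x D (u * v) ∈ _
      rw [euler_mul]
      exact Ideal.add_mem _ (Ideal.mul_mem_mul hu (euler_mem x D hx v))
        (Ideal.mul_mem_mul hv (euler_mem x D hx u))
    · intro a b ha hb
      show euler x D (a + b) ∈ _
      rw [map_add]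
      exact Ideal.add_mem _ ha hb
  have hxj : ∀ j, euler x D (x j) - x j ∈ maximalIdeal A ^ 2 := by
    intro j
    have h : euler x D (x j) - x j = ∑ i, x i * (D i (x j) - (if i = j then 1 else 0)) := by
      simp [euler_apply, mul_sub, Finset.sum_sub_distrib]
    rw [h, pow_two]
    exact Ideal.sum_mem _ (fun i _ => Ideal.mul_mem_mul (hx i) (hD i j))
  intro y hy
  obtain ⟨c, hc⟩ := hspan y hy
  have h1 : euler x D (y - ∑ i, c i * x i) - (y - ∑ i, c i * x i) ∈ maximalIdeal A ^ 2 :=
    Ideal.sub_mem _ (hprod _ hc) hc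
  have h2 : ∀ i, euler x D (c i * x i) - c i * x i ∈ maximalIdeal A ^ 2 := by
    intro i
    rw [euler_mul]
    have h : c i * euler x D (x i) + x i * euler x D (c i) - c i * x i =
        c i * (euler x D (x i) - x i) + x i * euler x D (c i) := by ring
    rw [h]
    refine Ideal.add_mem _ (Ideal.mul_mem_left _ _ (hxj i)) ?_
    rw [pow_two]
    exact Ideal.mul_mem_mul (hx i) (euler_mem x D hx _)
  have h3 : euler x D y - y = (euler x D (y - ∑ i, c i * x i) - (y - ∑ i, c i * x i)) +
      ∑ i, (euler x D (c i * x i) - c i * x i) := by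
    rw [map_sub, map_sum, Finset.sum_sub_distrib]
    ring
  rw [h3]
  exact Ideal.add_mem _ h1 (Ideal.sum_mem _ (fun i _ => h2 i))

lemma euler_sub_smul_mem (hx : ∀ i, x i ∈ maximalIdeal A)
    (hspan : ∀ y ∈ maximalIdeal A, ∃ c : ι → A, y - ∑ i, c i * x i ∈ maximalIdeal A ^ 2)
    (hD : ∀ i j, D i (x j) - (if i = j then 1 else 0) ∈ maximalIdeal A) :
    ∀ (q : ℕ) (y : A), y ∈ maximalIdeal A ^ q →
      euler x D y - ((q : ℕ) : A) * y ∈ maximalIdeal A ^ (q + 1) := by
  intro q
  induction q with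
  | zero =>
    intro y _
    simp only [Nat.cast_zero, zero_mul, sub_zero, zero_add, pow_one]
    exact euler_mem x D hx y
  | succ q ih =>
    intro y hy
    rw [pow_succ] at hy
    refine Submodule.mul_induction_on
      (C := fun r => euler x D r - ((q + 1 : ℕ) : A) * r ∈ maximalIdeal A ^ (q + 1 + 1)) hy ?_ ?_
    · intro u hu v hv
      show euler x D (u * v) - ((q + 1 : ℕ) : A) * (u * v) ∈ _
      have h1 := ih u hu
      have h2 := euler_sub_self_mem x D hx hspan hD v hv
      have h : euler x D (u * v) - ((q + 1 : ℕ) : A) * (u * v) =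
          u * (euler x D v - v) + v * (euler x D u - ((q : ℕ) : A) * u) := by
        rw [euler_mul]; push_cast; ring
      rw [h]
      refine Ideal.add_mem _ ?_ ?_
      · have h3 := Ideal.mul_mem_mul hu h2
        rw [← pow_add] at h3
        exact h3
      · have h3 := Ideal.mul_mem_mul hv h1
        rw [← pow_succ'] at h3
        exact h3
    · intro a b ha hb
      show euler x D (a + b) - ((q + 1 : ℕ) : A) * (a + b) ∈ _
      have h : euler x D (a + b) - ((q + 1 : ℕ) : A) * (a + b) =
          (euler x D a - ((q + 1 : ℕ) : A) * a) + (euler x D b - ((q + 1 : ℕ) : A) * b) := by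
        rw [map_add]; ring
      rw [h]
      exact Ideal.add_mem _ ha hb

/-- A proper ideal stable under the derivations `D i` is zero. -/
theorem eq_bot_of_stable [IsNoetherianRing A] (hn : ∀ n : ℕ, n ≠ 0 → IsUnit ((n : ℕ) : A))
    (hx : ∀ i, x i ∈ maximalIdeal A)
    (hspan : ∀ y ∈ maximalIdeal A, ∃ c : ι → A, y - ∑ i, c i * x i ∈ maximalIdeal A ^ 2)
    (hD : ∀ i j, D i (x j) - (if i = j then 1 else 0) ∈ maximalIdeal A)
    (I : Ideal A) (hI : I ≠ ⊤) (hstab : ∀ i, ∀ a ∈ I, D i a ∈ I) : I = ⊥ := by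
  by_contra hI0
  have hex : ∃ q : ℕ, ¬ I ≤ maximalIdeal A ^ q := by
    by_contra hall
    push_neg at hall
    apply hI0
    rw [eq_bot_iff, ← Ideal.iInf_pow_eq_bot_of_isLocalRing (maximalIdeal A)
      (Ideal.IsPrime.ne_top inferInstance)]
    exact le_iInf hall
  classical
  let q₀ := Nat.find hex
  have hq₀ : ¬ I ≤ maximalIdeal A ^ q₀ := Nat.find_spec hex
  have hIm : I ≤ maximalIdeal A := IsLocalRing.le_maximalIdeal hI
  have hq₀2 : 2 ≤ q₀ := by
    by_contra hlt
    push_neg at hlt
    interval_cases q₀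
    · exact hq₀ (by rw [pow_zero, Ideal.one_eq_top]; exact le_top)
    · exact hq₀ (by rw [pow_one]; exact hIm)
  obtain ⟨q, hq⟩ : ∃ q, q₀ = q + 1 := ⟨q₀ - 1, by omega⟩
  have hq1 : 1 ≤ q := by omega
  have hIq : I ≤ maximalIdeal A ^ q := by
    by_contra hcon
    have := Nat.find_min' hex hcon
    omega
  rw [hq] at hq₀
  obtain ⟨a, haI, ha⟩ := Set.not_subset.mp hq₀
  have h1 : euler x D a ∈ maximalIdeal A ^ (q + 1) := by
    rw [euler_apply, pow_succ']
    exact Ideal.sum_mem _ (fun i _ => Ideal.mul_mem_mul (hx i) (hIq (hstab i a haI)))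
  have h2 := euler_sub_smul_mem x D hx hspan hD q a (hIq haI)
  have h3 : ((q : ℕ) : A) * a ∈ maximalIdeal A ^ (q + 1) := by
    have := Ideal.sub_mem _ h1 h2
    rwa [sub_sub_cancel] at this
  obtain ⟨u, hu⟩ := hn q (by omega)
  apply ha
  have h4 : a = (↑u⁻¹ : A) * (((q : ℕ) : A) * a) := by
    rw [← mul_assoc, ← hu, Units.inv_mul, one_mul]
  rw [h4]
  exact Ideal.mul_mem_left _ _ h3

/-- **Reducedness from derivations** (characteristic zero). -/
theorem isReduced_of_derivations [IsNoetherianRing A]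
    (hn : ∀ n : ℕ, n ≠ 0 → IsUnit ((n : ℕ) : A))
    (hx : ∀ i, x i ∈ maximalIdeal A)
    (hspan : ∀ y ∈ maximalIdeal A, ∃ c : ι → A, y - ∑ i, c i * x i ∈ maximalIdeal A ^ 2)
    (hD : ∀ i j, D i (x j) - (if i = j then 1 else 0) ∈ maximalIdeal A) : IsReduced A := by
  rw [← nilradical_eq_bot_iff]
  apply eq_bot_of_stable x D hn hx hspan hD
  · intro htop
    have h1 : (1 : A) ∈ nilradical A := htop ▸ Submodule.mem_top
    rw [mem_nilradical] at h1
    exact not_isNilpotent_one h1
  · intro i a ha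
    rw [mem_nilradical] at ha ⊢
    exact isNilpotent_deriv hn (D i) ha

end Groth.Agent.H63.DerReduced
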