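import Mathlib
import Groth.Agent.H63.DerReduced
import Groth.Agent.H63.TangentData

/-!
# Invariant derivations on the local ring at the unit of a monoid scheme over a field (helper63)

For a monoid object `G` in schemes over a field `K` with unit section `e`, every tangent vector
`t : O_{G,e} → K[ε]` is the value at `e` of a derivation of `O_{G,e}` ("invariant vector field").
Consequence (`isReduced_stalk_unit`): in characteristic zero, `O_{G,e}` is reduced as soon as it is
Noetherian.
-/

set_option autoImplicit false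
universe u
open CategoryTheory CategoryTheory.Limits AlgebraicGeometry MonoidalCategory
  CartesianMonoidalCategory MonObj
open TrivSqZeroExt

namespace Groth.Agent.H63.GrpDer

section DualNumbers

/-- The map on dual numbers induced by a ring homomorphism. -/
def dmap {R R' : Type*} [CommRing R] [CommRing R'] (f : R →+* R') :
    DualNumber R →+* DualNumber R' where
  toFun z := inl (f z.fst) + inr (f z.snd)
  map_one' := by ext <;> simp
  map_mul' a b := by ext <;> simp [mul_comm]
  map_zero' := by ext <;> simp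
  map_add' a b := by ext <;> simp

/-- The augmentation of the dual numbers. -/
def dfst (R : Type*) [CommRing R] : DualNumber R →+* R where
  toFun := fst
  map_one' := fst_one
  map_mul' := fst_mul
  map_zero' := fst_zero
  map_add' := fst_add

@[simp] lemma dfst_apply {R : Type*} [CommRing R] (z : DualNumber R) : dfst R z = z.fst := rfl
@[simp] lemma dmap_fst {R R' : Type*} [CommRing R] [CommRing R'] (f : R →+* R')
    (z : DualNumber R) : (dmap f z).fst = f z.fst := by simp [dmap]
@[simp] lemma dmap_snd {R R' : Type*} [CommRing R] [CommRing R'] (f : R →+* R')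
    (z : DualNumber R) : (dmap f z).snd = f z.snd := by simp [dmap]

instance {A : Type*} [CommRing A] [IsLocalRing A] : IsLocalRing (DualNumber A) where
  isUnit_or_isUnit_of_add_one {a b} h := by
    have h1 : a.fst + b.fst = 1 := by rw [← fst_add, h, fst_one]
    rcases IsLocalRing.isUnit_or_isUnit_of_add_one h1 with h2 | h2
    · exact Or.inl (isUnit_iff_isUnit_fst.mpr h2)
    · exact Or.inr (isUnit_iff_isUnit_fst.mpr h2)

instance {A : Type*} [CommRing A] : IsLocalHom (dfst A) where
  map_nonunit _ h := isUnit_iff_isUnit_fst.mpr h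

lemma dfst_comp_inl (R : Type*) [CommRing R] : (dfst R).comp (inlHom R R) = RingHom.id R := by
  ext; simp [inlHom]

lemma dfst_comp_dmap {R R' : Type*} [CommRing R] [CommRing R'] (f : R →+* R') :
    (dfst R').comp (dmap f) = f.comp (dfst R) := by
  refine RingHom.ext fun z => ?_
  simp

lemma dmap_comp_inl {R R' : Type*} [CommRing R] [CommRing R'] (f : R →+* R') :
    (dmap f).comp (inlHom R R) = (inlHom R' R').comp f := by
  ext z <;> simp [inlHom]

lemma dmap_comp {R R' R'' : Type*} [CommRing R] [CommRing R'] [CommRing R'']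
    (f : R →+* R') (g : R' →+* R'') : (dmap g).comp (dmap f) = dmap (g.comp f) := by
  ext z <;> simp

lemma dmap_id (R : Type*) [CommRing R] : dmap (RingHom.id R) = RingHom.id _ := by
  ext z <;> simp

end DualNumbers

section Factor

lemma exists_factor {X : Scheme.{u}} {R : CommRingCat.{u}} [IsLocalRing R] (f : Spec R ⟶ X)
    (x : X) (hx : f (IsLocalRing.closedPoint R) = x) :
    ∃ Φ : X.presheaf.stalk x ⟶ R, Spec.map Φ ≫ X.fromSpecStalk x = f := by
  subst hx
  exact ⟨_, Scheme.Spec_stalkClosedPointTo_fromSpecStalk f⟩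

lemma factor_unique {X : Scheme.{u}} {R : CommRingCat.{u}} (x : X)
    {Φ Ψ : X.presheaf.stalk x ⟶ R}
    (h : Spec.map Φ ≫ X.fromSpecStalk x = Spec.map Ψ ≫ X.fromSpecStalk x) : Φ = Ψ :=
  Spec.map_injective ((cancel_mono _).mp h)

end Factor

variable {K : Type u} [Field K]

/-- The object of `Over (Spec K)` attached to a ring under `K`. -/
noncomputable abbrev T {R : Type u} [CommRing R] (β : K →+* R) : Over (Spec (CommRingCat.of K)) :=
  Over.mk (Spec.map (CommRingCat.ofHom β))

/-- The morphism of `Over (Spec K)` attached to a ring map under `K`. -/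
noncomputable def Tmap {R R' : Type u} [CommRing R] [CommRing R'] {β : K →+* R} {β' : K →+* R'}
    (ψ : R →+* R') (h : ψ.comp β = β') : T β' ⟶ T β :=
  Over.homMk (Spec.map (CommRingCat.ofHom ψ)) (by
    show Spec.map (CommRingCat.ofHom ψ) ≫ Spec.map (CommRingCat.ofHom β) =
      Spec.map (CommRingCat.ofHom β')
    rw [← Spec.map_comp, ← CommRingCat.ofHom_comp, h])

@[simp] lemma Tmap_left {R R' : Type u} [CommRing R] [CommRing R'] {β : K →+* R} {β' : K →+* R'}
    (ψ : R →+* R') (h : ψ.comp β = β') : (Tmap ψ h).left = Spec.map (CommRingCat.ofHom ψ) := rfl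

lemma Tmap_comp {R R' R'' : Type u} [CommRing R] [CommRing R'] [CommRing R''] {β : K →+* R}
    {β' : K →+* R'} {β'' : K →+* R''} (ψ : R →+* R') (h : ψ.comp β = β') (ψ' : R' →+* R'')
    (h' : ψ'.comp β' = β'') :
    Tmap ψ' h' ≫ Tmap ψ h = Tmap (ψ'.comp ψ) (by rw [RingHom.comp_assoc, h, h']) := by
  apply Over.OverMorphism.ext
  simp only [Over.comp_left, Tmap_left]
  rw [← Spec.map_comp, ← CommRingCat.ofHom_comp]

lemma Tmap_eq_id {R : Type u} [CommRing R] {β : K →+* R} (ψ : R →+* R) (h : ψ.comp β = β)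
    (hψ : ψ = RingHom.id R) : Tmap ψ h = 𝟙 (T β) := by
  subst hψ
  apply Over.OverMorphism.ext
  simp only [Tmap_left, Over.id_left]
  exact Spec.map_id _

variable (G : Over (Spec (CommRingCat.of K))) [MonObj G]

/-- The unit section. -/
noncomputable def e : Spec (CommRingCat.of K) ⟶ G.left := η[G].left

lemma e_hom : e G ≫ G.hom = 𝟙 _ := Over.w η[G]

/-- The unit point. -/
noncomputable def e₀ : G.left := (e G) (IsLocalRing.closedPoint K)

/-- The local ring at the unit point. -/
abbrev A : Type u := G.left.presheaf.stalk (e₀ G)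

/-- The structure map `K → O_{G,e}`. -/
noncomputable def α : K →+* A G := (Spec.preimage (G.left.fromSpecStalk (e₀ G) ≫ G.hom)).hom

lemma Spec_map_α :
    Spec.map (CommRingCat.ofHom (α G)) = G.left.fromSpecStalk (e₀ G) ≫ G.hom := by
  rw [α, CommRingCat.ofHom_hom]
  exact Spec.map_preimage _

/-- The augmentation `O_{G,e} → K`. -/
noncomputable def φ : A G →+* K := (Scheme.stalkClosedPointTo (e G)).hom

lemma Spec_map_φ :
    Spec.map (CommRingCat.ofHom (φ G)) ≫ G.left.fromSpecStalk (e₀ G) = e G := by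
  exact Scheme.Spec_stalkClosedPointTo_fromSpecStalk (e G)

lemma φ_comp_α : (φ G).comp (α G) = RingHom.id K := by
  have h : Spec.map (CommRingCat.ofHom ((φ G).comp (α G))) = Spec.map (𝟙 (CommRingCat.of K)) := by
    rw [CommRingCat.ofHom_comp, Spec.map_comp, Spec_map_α, ← Category.assoc, Spec_map_φ, e_hom,
      Spec.map_id]
  exact congrArg CommRingCat.Hom.hom (Spec.map_injective h)

/-- The canonical point `Spec O_{G,e} → G`. -/
noncomputable def c : T (α G) ⟶ G :=
  Over.homMk (G.left.fromSpecStalk (e₀ G)) (by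
    show G.left.fromSpecStalk (e₀ G) ≫ G.hom = Spec.map (CommRingCat.ofHom (α G))
    exact (Spec_map_α G).symm)

lemma Tmap_c_eq_one {R : Type u} [CommRing R] (β : K →+* R) (ψ : A G →+* R)
    (h : ψ.comp (α G) = β) (hψ : ψ = β.comp (φ G)) : Tmap ψ h ≫ c G = 1 := by
  rw [Hom.one_def]
  apply Over.OverMorphism.ext
  rw [Over.comp_left, Over.comp_left, Tmap_left]
  show Spec.map (CommRingCat.ofHom ψ) ≫ G.left.fromSpecStalk (e₀ G) =
    Spec.map (CommRingCat.ofHom β) ≫ e G
  rw [← Spec_map_φ, ← Category.assoc, ← Spec.map_comp, ← CommRingCat.ofHom_comp, hψ]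

theorem exists_lift (t : A G →+* DualNumber K) (ht1 : t.comp (α G) = inlHom K K)
    (ht2 : (dfst K).comp t = φ G) :
    ∃ Φ : A G →+* DualNumber (A G), (dfst (A G)).comp Φ = RingHom.id _ ∧
      (dmap (φ G)).comp Φ = t := by
  have hj : (dmap (α G)).comp (inlHom K K) = (inlHom (A G) (A G)).comp (α G) :=
    dmap_comp_inl (α G)
  have hπ : (dfst (A G)).comp ((inlHom (A G) (A G)).comp (α G)) = α G := by
    rw [← RingHom.comp_assoc, dfst_comp_inl, RingHom.id_comp]
  have hρ : (dmap (φ G)).comp ((inlHom (A G) (A G)).comp (α G)) = inlHom K K := by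
    rw [← RingHom.comp_assoc, dmap_comp_inl, RingHom.comp_assoc, φ_comp_α, RingHom.comp_id]
  let g₁ : T ((inlHom (A G) (A G)).comp (α G)) ⟶ G := Tmap (inlHom (A G) (A G)) rfl ≫ c G
  let g₂ : T ((inlHom (A G) (A G)).comp (α G)) ⟶ G :=
    Tmap (dmap (α G)) hj ≫ Tmap t ht1 ≫ c G
  -- restriction along `ε ↦ 0`
  have h1 : Tmap (dfst (A G)) hπ ≫ (g₁ * g₂) = c G := by
    rw [MonObj.comp_mul]
    have ha : Tmap (dfst (A G)) hπ ≫ g₁ = c G := by
      show Tmap _ hπ ≫ Tmap _ _ ≫ c G = c G
      rw [← Category.assoc, Tmap_comp, Tmap_eq_id _ _ (dfst_comp_inl _), Category.id_comp]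
    have hb : Tmap (dfst (A G)) hπ ≫ g₂ = 1 := by
      show Tmap _ hπ ≫ Tmap _ hj ≫ Tmap t ht1 ≫ c G = 1
      rw [← Category.assoc, Tmap_comp, ← Category.assoc, Tmap_comp]
      apply Tmap_c_eq_one
      rw [dfst_comp_dmap, RingHom.comp_assoc, ht2]
    rw [ha, hb, _root_.mul_one]
  -- restriction along the augmentation of `A`
  have h5 : Tmap (dmap (φ G)) hρ ≫ (g₁ * g₂) = Tmap t ht1 ≫ c G := by
    rw [MonObj.comp_mul]
    have ha : Tmap (dmap (φ G)) hρ ≫ g₁ = 1 := by
      show Tmap _ hρ ≫ Tmap _ _ ≫ c G = 1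
      rw [← Category.assoc, Tmap_comp]
      apply Tmap_c_eq_one
      exact dmap_comp_inl (φ G)
    have hb : Tmap (dmap (φ G)) hρ ≫ g₂ = Tmap t ht1 ≫ c G := by
      show Tmap _ hρ ≫ Tmap _ hj ≫ Tmap t ht1 ≫ c G = _
      rw [← Category.assoc, Tmap_comp,
        Tmap_eq_id _ _ (by rw [dmap_comp, φ_comp_α, dmap_id]), Category.id_comp]
    rw [ha, hb, _root_.one_mul]
  have h13 : Spec.map (CommRingCat.ofHom (dfst (A G))) ≫ (g₁ * g₂).left =
      G.left.fromSpecStalk (e₀ G) := congrArg (fun f => f.left) h1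
  -- the closed point goes to the unit point
  haveI : IsLocalHom (CommRingCat.ofHom (dfst (A G))).hom :=
    inferInstanceAs (IsLocalHom (dfst (A G)))
  have hcp : (g₁ * g₂).left (IsLocalRing.closedPoint (DualNumber (A G))) = e₀ G := by
    have h3 : (Spec.map (CommRingCat.ofHom (dfst (A G)))) (IsLocalRing.closedPoint (A G)) =
        IsLocalRing.closedPoint (DualNumber (A G)) := Spec_closedPoint
    calc (g₁ * g₂).left (IsLocalRing.closedPoint (DualNumber (A G)))
        = (g₁ * g₂).left ((Spec.map (CommRingCat.ofHom (dfst (A G))))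
            (IsLocalRing.closedPoint (A G))) := congrArg _ h3.symm
      _ = (Spec.map (CommRingCat.ofHom (dfst (A G))) ≫ (g₁ * g₂).left)
            (IsLocalRing.closedPoint (A G)) := rfl
      _ = (G.left.fromSpecStalk (e₀ G)) (IsLocalRing.closedPoint (A G)) := by rw [h13]
      _ = e₀ G := Scheme.fromSpecStalk_closedPoint
  obtain ⟨Φ, hΦ⟩ := exists_factor (R := CommRingCat.of (DualNumber (A G))) (g₁ * g₂).left
    (e₀ G) hcp
  have h4 : Φ ≫ CommRingCat.ofHom (dfst (A G)) = 𝟙 _ := by
    apply factor_unique (e₀ G)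
    rw [Spec.map_comp, Category.assoc, hΦ, h13, Spec.map_id]
    exact (Category.id_comp _).symm
  have h6 : Φ ≫ CommRingCat.ofHom (dmap (φ G)) = CommRingCat.ofHom t := by
    apply factor_unique (e₀ G)
    rw [Spec.map_comp, Category.assoc, hΦ]
    exact congrArg (fun f => f.left) h5
  exact ⟨Φ.hom, congrArg CommRingCat.Hom.hom h4, congrArg CommRingCat.Hom.hom h6⟩

theorem exists_derivation (t : A G →+* DualNumber K) (ht1 : t.comp (α G) = inlHom K K)
    (ht2 : (dfst K).comp t = φ G) :
    ∃ D : Derivation ℤ (A G) (A G), ∀ a, φ G (D a) = (t a).snd := by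
  obtain ⟨Φ, hΦ1, hΦ2⟩ := exists_lift G t ht1 ht2
  have hfst : ∀ a, (Φ a).fst = a := fun a => RingHom.congr_fun hΦ1 a
  let D0 : A G →+ A G :=
    { toFun := fun a => (Φ a).snd
      map_zero' := by simp
      map_add' := fun a b => by simp }
  refine ⟨Derivation.mk' D0.toIntLinearMap ?_, ?_⟩
  · intro a b
    show (Φ (a * b)).snd = a • (Φ b).snd + b • (Φ a).snd
    rw [map_mul, DualNumber.snd_mul, hfst, hfst, smul_eq_mul, smul_eq_mul]
    ring
  · intro a
    have h := RingHom.congr_fun hΦ2 a
    show φ G (Φ a).snd = (t a).snd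
    rw [← h]
    simp

/-- **The local ring at the unit of a monoid scheme over a field of characteristic zero is
reduced** (as soon as it is Noetherian). -/
theorem isReduced_stalk_unit [CharZero K] [IsNoetherianRing (A G)] : IsReduced (A G) := by
  have h := φ_comp_α G
  obtain ⟨n, x, d, hx, hdmul, hdα, hdx, hspan⟩ :=
    Groth.Agent.H63.TangentData.exists_tangent_data (α G) (φ G) h
  have hker := Groth.Agent.H63.TangentData.ker_eq_maximalIdeal (α G) (φ G) h
  have ht : ∀ i, ∃ t : A G →+* DualNumber K, t.comp (α G) = inlHom K K ∧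
      (dfst K).comp t = φ G ∧ ∀ a, (t a).snd = d i a := by
    intro i
    have hd1 : d i 1 = 0 := by
      have := hdα i 1
      rwa [map_one] at this
    refine ⟨{ toFun := fun a => inl (φ G a) + inr (d i a)
              map_one' := ?_
              map_mul' := ?_
              map_zero' := ?_
              map_add' := ?_ }, ?_, ?_, ?_⟩
    · ext <;> simp [hd1]
    · intro a b
      ext <;> simp [hdmul i a b, mul_comm]
    · ext <;> simp
    · intro a b
      ext <;> simp
    · refine RingHom.ext fun k => ?_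
      have hk : φ G (α G k) = k := RingHom.congr_fun h k
      ext <;> simp [hdα i k, hk, inlHom]
    · refine RingHom.ext fun a => ?_
      simp
    · intro a
      simp
  choose t ht1 ht2 ht3 using ht
  have hD : ∀ i, ∃ D : Derivation ℤ (A G) (A G), ∀ a, φ G (D a) = (t i a).snd :=
    fun i => exists_derivation G (t i) (ht1 i) (ht2 i)
  choose D hD using hD
  apply Groth.Agent.H63.DerReduced.isReduced_of_derivations x D ?_ hx hspan ?_
  · intro m hm
    have h1 : ((m : ℕ) : A G) = α G (m : K) := (map_natCast (α G) m).symm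
    rw [h1]
    exact (IsUnit.mk0 _ (Nat.cast_ne_zero.mpr hm)).map (α G)
  · intro i j
    rw [← hker, RingHom.mem_ker, map_sub, hD, ht3, hdx]
    split_ifs <;> simp

end Groth.Agent.H63.GrpDer
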