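import Mathlib

/-!
# Affine charts of the fibres of a morphism (helper63)

For `f : X ⟶ Y`, `y ∈ V` (affine open of `Y`) and `U ≤ f ⁻¹ᵁ V` affine, the open `ι ⁻¹ᵁ U` of the
fibre `f.fiber y` is affine and its coordinate ring is the fibre ring `p.Fiber Γ(X, U)`, where `p`
is the prime of `Γ(Y, V)` corresponding to `y`, compatibly with `κ(p) ≃ κ(y)`.
-/

set_option autoImplicit false
universe u
open CategoryTheory CategoryTheory.Limits AlgebraicGeometry TensorProduct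

namespace Groth.Agent.H63.FibreChart

theorem top_le_fromSpecStalk_preimage (Y : Scheme.{u}) (y : Y) (V : Y.Opens) (hy : y ∈ V) :
    ⊤ ≤ (Y.fromSpecStalk y) ⁻¹ᵁ V := by
  intro z _
  have hz : (Y.fromSpecStalk y) z ∈ Set.range (Y.fromSpecStalk y) := ⟨z, rfl⟩
  rw [Scheme.range_fromSpecStalk] at hz
  exact hz.mem_open V.2 hy

theorem appLE_fromSpecStalk (Y : Scheme.{u}) (y : Y) (V : Y.Opens) (hy : y ∈ V)
    (e1 : ⊤ ≤ (Y.fromSpecStalk y) ⁻¹ᵁ V) :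
    (Y.fromSpecStalk y).appLE V ⊤ e1 =
      Y.presheaf.germ V y hy ≫ (Scheme.ΓSpecIso (Y.presheaf.stalk y)).inv := by
  rw [Scheme.Hom.appLE, Scheme.fromSpecStalk_app hy, Category.assoc, Category.assoc,
    ← CategoryTheory.Functor.map_comp]
  have : ((homOfLE (le_top : (Y.fromSpecStalk y) ⁻¹ᵁ V ≤ ⊤)).op ≫ (homOfLE e1).op) = 𝟙 _ :=
    Subsingleton.elim _ _
  rw [this, CategoryTheory.Functor.map_id, Category.comp_id]

theorem appLE_fromSpecResidueField (Y : Scheme.{u}) (y : Y) (V : Y.Opens) (hy : y ∈ V)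
    (h : ⊤ ≤ (Y.fromSpecResidueField y) ⁻¹ᵁ V) :
    (Y.fromSpecResidueField y).appLE V ⊤ h =
      Y.presheaf.germ V y hy ≫ Y.residue y ≫ (Scheme.ΓSpecIso (Y.residueField y)).inv := by
  have h2 : ∀ (e : (⊤ : (Spec (Y.residueField y)).Opens) ≤ (Spec.map (Y.residue y)) ⁻¹ᵁ ⊤),
      (Spec.map (Y.residue y)).appLE ⊤ ⊤ e = (Spec.map (Y.residue y)).appTop := by
    intro e
    exact (Scheme.Hom.app_eq_appLE (f := Spec.map (Y.residue y)) (U := ⊤)).symm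
  have key : ∀ (e : ⊤ ≤ (Spec.map (Y.residue y) ≫ Y.fromSpecStalk y) ⁻¹ᵁ V),
      (Spec.map (Y.residue y) ≫ Y.fromSpecStalk y).appLE V ⊤ e =
        Y.presheaf.germ V y hy ≫ Y.residue y ≫ (Scheme.ΓSpecIso (Y.residueField y)).inv := by
    intro e
    have e2 : (⊤ : (Spec (Y.residueField y)).Opens) ≤ Spec.map (Y.residue y) ⁻¹ᵁ ⊤ :=
      fun _ _ => trivial
    rw [← Scheme.Hom.appLE_comp_appLE (Spec.map (Y.residue y)) (Y.fromSpecStalk y) V ⊤ ⊤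
      (top_le_fromSpecStalk_preimage Y y V hy) e2, appLE_fromSpecStalk Y y V hy, h2,
      Category.assoc, ← Scheme.ΓSpecIso_inv_naturality]
  exact key h

/-- `κ(p) ≃ κ(y)` for `p` the prime of `y` in an affine open `V`. -/
theorem exists_residueField_equiv (Y : Scheme.{u}) (V : Y.Opens) (hV : IsAffineOpen V) (y : Y)
    (hy : y ∈ V) :
    ∃ τ : (hV.primeIdealOf ⟨y, hy⟩).asIdeal.ResidueField ≃+* Y.residueField y,
      ∀ a : Γ(Y, V), τ (algebraMap Γ(Y, V) _ a) =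
        (Y.residue y).hom ((Y.presheaf.germ V y hy).hom a) := by
  letI : Algebra Γ(Y, V) (Y.presheaf.stalk y) := (Y.presheaf.germ V y hy).hom.toAlgebra
  haveI : IsLocalization.AtPrime (Y.presheaf.stalk y) (hV.primeIdealOf ⟨y, hy⟩).asIdeal :=
    hV.isLocalization_stalk ⟨y, hy⟩
  let l : Localization.AtPrime (hV.primeIdealOf ⟨y, hy⟩).asIdeal ≃ₐ[Γ(Y, V)] Y.presheaf.stalk y :=
    IsLocalization.algEquiv (hV.primeIdealOf ⟨y, hy⟩).asIdeal.primeCompl _ _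
  refine ⟨IsLocalRing.ResidueField.mapEquiv l.toRingEquiv, fun a => ?_⟩
  rw [IsScalarTower.algebraMap_apply Γ(Y, V)
    (Localization.AtPrime (hV.primeIdealOf ⟨y, hy⟩).asIdeal)
    (hV.primeIdealOf ⟨y, hy⟩).asIdeal.ResidueField]
  have h1 : l (algebraMap Γ(Y, V) _ a) = (Y.presheaf.germ V y hy).hom a := l.commutes a
  rw [← h1]
  rfl


set_option maxHeartbeats 800000 in
/-- **Fibre chart**. -/
theorem bridge {X Y : Scheme.{u}} (f : X ⟶ Y) (y : Y) (V : Y.Opens) (hV : IsAffineOpen V)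
    (hy : y ∈ V) (U : X.Opens) (hU : IsAffineOpen U) (hUV : U ≤ f ⁻¹ᵁ V) :
    letI := (f.appLE V U hUV).hom.toAlgebra
    IsAffineOpen ((f.fiberι y) ⁻¹ᵁ U) ∧
    ∃ (σ : (hV.primeIdealOf ⟨y, hy⟩).asIdeal.ResidueField ≃+* Y.residueField y)
      (e : (hV.primeIdealOf ⟨y, hy⟩).asIdeal.Fiber Γ(X, U) ≃+*
        Γ(f.fiber y, (f.fiberι y) ⁻¹ᵁ U)),
      ∀ c, e (algebraMap _ _ c) =
        ((Scheme.ΓSpecIso (Y.residueField y)).inv ≫ (f.fiberToSpecResidueField y).appTop ≫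
          (f.fiber y).presheaf.map (homOfLE le_top).op).hom (σ c) := by
  have H : IsPullback (f.fiberι y) (f.fiberToSpecResidueField y) f (Y.fromSpecResidueField y) :=
    IsPullback.of_hasPullback f (Y.fromSpecResidueField y)
  have hUST : (⊤ : (Spec (Y.residueField y)).Opens) ≤ (Y.fromSpecResidueField y) ⁻¹ᵁ V := by
    intro z _
    show (Y.fromSpecResidueField y) z ∈ V
    rw [Scheme.fromSpecResidueField_apply]
    exact hy
  have hUY : (f.fiberι y) ⁻¹ᵁ U =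
      (f.fiberι y) ⁻¹ᵁ U ⊓ (f.fiberToSpecResidueField y) ⁻¹ᵁ ⊤ := by simp
  have hTop : IsAffineOpen (⊤ : (Spec (Y.residueField y)).Opens) := isAffineOpen_top _
  have hiso := isIso_pushoutSection_of_isAffineOpen H hUST hUV hUY hV hTop hU
  have PO := (isIso_pushoutSection_iff H hUST hUV hUY).mp hiso
  have haff : IsAffineOpen ((f.fiberι y) ⁻¹ᵁ U) := by
    have : IsAffine _ := hV
    have : IsAffine _ := hTop
    have : IsAffine _ := hU
    exact .of_isIso (Scheme.Hom.isPullback_resLE H hUST hUV hUY).isoPullback.hom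
  refine ⟨haff, ?_⟩
  obtain ⟨τ₀, hτ₀⟩ := exists_residueField_equiv Y V hV y hy
  letI algAB : Algebra Γ(Y, V) Γ(X, U) := (f.appLE V U hUV).hom.toAlgebra
  letI algAK : Algebra Γ(Y, V) Γ(Spec (Y.residueField y), ⊤) :=
    ((Y.fromSpecResidueField y).appLE V ⊤ hUST).hom.toAlgebra
  letI algBG : Algebra Γ(X, U) Γ(f.fiber y, (f.fiberι y) ⁻¹ᵁ U) :=
    ((f.fiberι y).appLE U ((f.fiberι y) ⁻¹ᵁ U) le_rfl).hom.toAlgebra
  letI algKG : Algebra Γ(Spec (Y.residueField y), ⊤) Γ(f.fiber y, (f.fiberι y) ⁻¹ᵁ U) :=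
    ((f.fiberToSpecResidueField y).appLE ⊤ ((f.fiberι y) ⁻¹ᵁ U) (by simp)).hom.toAlgebra
  letI algAG : Algebra Γ(Y, V) Γ(f.fiber y, (f.fiberι y) ⁻¹ᵁ U) :=
    (f.appLE V U hUV ≫
      (f.fiberι y).appLE U ((f.fiberι y) ⁻¹ᵁ U) le_rfl).hom.toAlgebra
  haveI : IsScalarTower Γ(Y, V) Γ(X, U) Γ(f.fiber y, (f.fiberι y) ⁻¹ᵁ U) :=
    IsScalarTower.of_algebraMap_eq' rfl
  haveI : IsScalarTower Γ(Y, V) Γ(Spec (Y.residueField y), ⊤)
      Γ(f.fiber y, (f.fiberι y) ⁻¹ᵁ U) :=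
    IsScalarTower.of_algebraMap_eq' (congrArg CommRingCat.Hom.hom PO.w)
  have AP : Algebra.IsPushout Γ(Y, V) Γ(Spec (Y.residueField y), ⊤) Γ(X, U)
      Γ(f.fiber y, (f.fiberι y) ⁻¹ᵁ U) :=
    CommRingCat.isPushout_iff_isPushout.mp PO.flip
  let ε := Algebra.IsPushout.equiv Γ(Y, V) Γ(Spec (Y.residueField y), ⊤) Γ(X, U)
      Γ(f.fiber y, (f.fiberι y) ⁻¹ᵁ U)
  let γ : Y.residueField y ≃+* Γ(Spec (Y.residueField y), ⊤) :=
    (Scheme.ΓSpecIso (Y.residueField y)).commRingCatIsoToRingEquiv.symm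
  let τA : (hV.primeIdealOf ⟨y, hy⟩).asIdeal.ResidueField ≃ₐ[Γ(Y, V)]
      Γ(Spec (Y.residueField y), ⊤) :=
    AlgEquiv.ofRingEquiv (f := τ₀.trans γ) (fun a => by
      show γ (τ₀ (algebraMap _ _ a)) = ((Y.fromSpecResidueField y).appLE V ⊤ hUST).hom a
      rw [hτ₀, appLE_fromSpecResidueField Y y V hy hUST]
      rfl)
  refine ⟨τ₀, (Algebra.TensorProduct.congr τA AlgEquiv.refl).toRingEquiv.trans ε.toRingEquiv,
    fun c => ?_⟩
  have h1 : algebraMap (hV.primeIdealOf ⟨y, hy⟩).asIdeal.ResidueField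
      ((hV.primeIdealOf ⟨y, hy⟩).asIdeal.Fiber Γ(X, U)) c = c ⊗ₜ[Γ(Y, V)] (1 : Γ(X, U)) := by
    rw [Algebra.TensorProduct.algebraMap_apply]
    rfl
  rw [h1]
  show ε (Algebra.TensorProduct.congr τA AlgEquiv.refl (c ⊗ₜ[Γ(Y, V)] (1 : Γ(X, U)))) = _
  rw [Algebra.TensorProduct.congr_apply, Algebra.TensorProduct.map_tmul]
  have h2 : (τA c) ⊗ₜ[Γ(Y, V)] (1 : Γ(X, U)) =
      algebraMap Γ(Spec (Y.residueField y), ⊤) (Γ(Spec (Y.residueField y), ⊤) ⊗[Γ(Y, V)] Γ(X, U))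
        (τA c) := by
    rw [Algebra.TensorProduct.algebraMap_apply]
    rfl
  show ε ((τA c) ⊗ₜ[Γ(Y, V)] (1 : Γ(X, U))) = _
  rw [h2, ε.commutes]
  rfl

end Groth.Agent.H63.FibreChart
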