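import Mathlib.RingTheory.Localization.BaseChange
import Mathlib.RingTheory.Localization.LocalizationLocalization
import Mathlib.RingTheory.Localization.AtPrime.Basic
import Mathlib.RingTheory.Localization.Ideal

/-!
# Localizations of `K ⊗[k] A` at a prime versus `K ⊗[k] A_p`
-/

set_option autoImplicit false
universe u
open TensorProduct

namespace Groth.Agent.H63.LocTensor

/-- For a prime `q'` of `K ⊗[k] A` lying over the prime `p` of `A`, the local ring `(K ⊗ A)_{q'}`
is the localization of `K ⊗[k] A_p` at a prime `Q` containing the image of `p A_p`. -/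
theorem exists_prime_ringEquiv_localization_tensor (k K A : Type u) [CommRing k] [CommRing K]
    [CommRing A] [Algebra k K] [Algebra k A] (q' : Ideal (K ⊗[k] A)) [hq' : q'.IsPrime]
    (p : Ideal A) [p.IsPrime]
    (hp : q'.comap (Algebra.TensorProduct.includeRight : A →ₐ[k] K ⊗[k] A).toRingHom = p)
    (Ap : Type u) [CommRing Ap] [Algebra A Ap] [Algebra k Ap] [IsScalarTower k A Ap]
    [IsLocalization.AtPrime Ap p] :
    ∃ (Q : Ideal (K ⊗[k] Ap)) (_ : Q.IsPrime),
      (∀ a ∈ Ideal.map (algebraMap A Ap) p, (1 : K) ⊗ₜ[k] a ∈ Q) ∧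
      Nonempty (Localization.AtPrime Q ≃+* Localization.AtPrime q') := by
  let M' : Submonoid (K ⊗[k] A) :=
    p.primeCompl.map (Algebra.TensorProduct.includeRight (R := k) (A := K))
  letI alg : Algebra (K ⊗[k] A) (K ⊗[k] Ap) :=
    (Algebra.TensorProduct.map (AlgHom.id k K) (IsScalarTower.toAlgHom k A Ap)).toAlgebra
  haveI : IsScalarTower K (K ⊗[k] A) (K ⊗[k] Ap) :=
    .of_algebraMap_eq <| by intro; simp [RingHom.algebraMap_toAlgebra]
  haveI hloc : IsLocalization M' (K ⊗[k] Ap) :=
    IsLocalization.tensorProduct_tensorProduct_right k K p.primeCompl Ap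
      (by ext; simp [RingHom.algebraMap_toAlgebra])
  have hdisj : Disjoint (M' : Set (K ⊗[k] A)) (q' : Set (K ⊗[k] A)) := by
    rw [Set.disjoint_left]
    rintro _ ⟨a, ha, rfl⟩ hmem
    apply ha
    rw [← hp]
    exact hmem
  let Q : Ideal (K ⊗[k] Ap) := Ideal.map (algebraMap (K ⊗[k] A) (K ⊗[k] Ap)) q'
  haveI hQ : Q.IsPrime := IsLocalization.isPrime_of_isPrime_disjoint M' _ q' hq' hdisj
  have hcomap : Q.comap (algebraMap (K ⊗[k] A) (K ⊗[k] Ap)) = q' :=
    IsLocalization.under_map_of_isPrime_disjoint M' _ hq' hdisj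
  refine ⟨Q, hQ, ?_, ?_⟩
  · intro a ha
    have hle : Ideal.map (algebraMap A Ap) p ≤
        Q.comap (Algebra.TensorProduct.includeRight : Ap →ₐ[k] K ⊗[k] Ap).toRingHom := by
      rw [Ideal.map_le_iff_le_comap]
      intro a₀ ha₀
      rw [Ideal.mem_comap, Ideal.mem_comap]
      have h1 : (1 : K) ⊗ₜ[k] a₀ ∈ q' := by
        rw [← hp] at ha₀
        exact ha₀
      have h2 : algebraMap (K ⊗[k] A) (K ⊗[k] Ap) ((1 : K) ⊗ₜ[k] a₀) ∈ Q :=
        Ideal.mem_map_of_mem _ h1
      simpa [RingHom.algebraMap_toAlgebra] using h2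
    exact hle ha
  · have h1 : IsLocalization.AtPrime (Localization.AtPrime Q)
        (Q.comap (algebraMap (K ⊗[k] A) (K ⊗[k] Ap))) :=
      IsLocalization.isLocalization_isLocalization_atPrime_isLocalization M'
        (Localization.AtPrime Q) Q
    have h2 : IsLocalization.AtPrime (Localization.AtPrime Q) q' := by
      convert h1 using 2
      exact hcomap.symm
    exact ⟨(IsLocalization.algEquiv q'.primeCompl (Localization.AtPrime Q)
      (Localization.AtPrime q')).toRingEquiv⟩

end Groth.Agent.H63.LocTensor
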