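import Groth.Agent.Lead.GeomReg
import Groth.Agent.S2036
import Groth.Agent.S2035
import Groth.Agent.S4573
import Groth.Agent.S5807
import Groth.Agent.H63.LocTensor
import Groth.Agent.H71.RegularLoc

/-!
# EGA IV 6.7.7: geometric regularity, purely inseparable and finitely generated extensions

* `isRegularRing_tensor_of_isGeometricallyRegular` (a ⇒ c): `S` Noetherian geometrically regular,
  `K/k` a finitely generated field extension ⇒ `K ⊗ S` regular.
* `isGeometricallyRegular_of_purelyInseparable` (b ⇒ a): `k' ⊗ S` regular for all finite purely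
  inseparable `k'` ⇒ `S` geometrically regular.
-/

set_option autoImplicit false
universe u
open TensorProduct IsLocalRing

namespace Groth.Agent.H63.GeomRegKey

/-- Lead.GeomReg.fs_localization_tensor for prime (not nec. maximal) ideals. -/
theorem fs_localization_tensor_prime {k A : Type u} [Field k] [CommRing A] [IsLocalRing A]
    [Algebra k A] (h : CAlgX.IsAdicFormallySmooth k A (maximalIdeal A))
    (k' : Type u) [Field k'] [Algebra k k'] (𝔫 : Ideal (k' ⊗[k] A)) [𝔫.IsPrime]
    (hcontr : ∀ a ∈ maximalIdeal A, (1 : k') ⊗ₜ[k] a ∈ 𝔫) :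
    CAlgX.IsAdicFormallySmooth k' (Localization.AtPrime 𝔫)
      (maximalIdeal (Localization.AtPrime 𝔫)) := by
  intro C _ _ J hJ ψ hψ
  obtain ⟨j, hj⟩ := hψ
  letI algkC : Algebra k C := Algebra.compHom C (algebraMap k k')
  haveI hST : IsScalarTower k k' C := IsScalarTower.of_algebraMap_eq (fun x => rfl)
  let ι : A →ₐ[k] k' ⊗[k] A := Algebra.TensorProduct.includeRight
  let φ : A →ₐ[k] C ⧸ J :=
    { toRingHom := (ψ.toRingHom.comp
        (algebraMap (k' ⊗[k] A) (Localization.AtPrime 𝔫))).comp ι.toRingHom
      commutes' := fun x => by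
        show ψ (algebraMap (k' ⊗[k] A) (Localization.AtPrime 𝔫) (ι (algebraMap k A x))) =
          algebraMap k (C ⧸ J) x
        rw [ι.commutes, IsScalarTower.algebraMap_apply k k' (k' ⊗[k] A),
          ← IsScalarTower.algebraMap_apply k' (k' ⊗[k] A) (Localization.AtPrime 𝔫), ψ.commutes]
        rfl }
  have hφ : ∀ x ∈ maximalIdeal A ^ j, φ x = 0 := by
    intro x hx
    apply hj
    have hle : (maximalIdeal A).map ((algebraMap (k' ⊗[k] A) (Localization.AtPrime 𝔫)).comp
        ι.toRingHom) ≤ maximalIdeal (Localization.AtPrime 𝔫) := by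
      rw [Ideal.map_le_iff_le_comap]
      intro a ha
      rw [Ideal.mem_comap]
      show algebraMap (k' ⊗[k] A) (Localization.AtPrime 𝔫) (ι a) ∈ _
      rw [IsLocalization.AtPrime.to_map_mem_maximal_iff (Localization.AtPrime 𝔫) 𝔫]
      exact hcontr a ha
    have h1 := Ideal.mem_map_of_mem ((algebraMap (k' ⊗[k] A) (Localization.AtPrime 𝔫)).comp
        ι.toRingHom) hx
    rw [Ideal.map_pow] at h1
    exact Ideal.pow_right_mono hle j h1
  obtain ⟨φt, hφt⟩ := h C J hJ φ ⟨j, hφ⟩
  let Φ : k' ⊗[k] A →ₐ[k'] C :=
    Algebra.TensorProduct.lift (Algebra.ofId k' C) φt (fun _ _ => Commute.all _ _)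
  have hΦ : ∀ r, Ideal.Quotient.mk J (Φ r) =
      ψ (algebraMap (k' ⊗[k] A) (Localization.AtPrime 𝔫) r) := by
    intro r
    induction r using TensorProduct.induction_on with
    | zero => simp
    | tmul a b =>
      have h1 : (a ⊗ₜ[k] b : k' ⊗[k] A) = algebraMap k' (k' ⊗[k] A) a * ι b := by
        rw [Algebra.TensorProduct.algebraMap_apply, Algebra.TensorProduct.includeRight_apply,
          Algebra.TensorProduct.tmul_mul_tmul, mul_one, one_mul]
        rfl
      have h2 : Φ (a ⊗ₜ[k] b) = algebraMap k' C a * φt b :=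
        Algebra.TensorProduct.lift_tmul _ _ _ a b
      rw [h2, h1, map_mul, map_mul, map_mul,
        ← IsScalarTower.algebraMap_apply k' (k' ⊗[k] A) (Localization.AtPrime 𝔫), ψ.commutes]
      congr 1
      exact AlgHom.congr_fun hφt b
    | add x y hx hy => rw [map_add, map_add, map_add, map_add, hx, hy]
  have hunits : ∀ y : 𝔫.primeCompl, IsUnit (Φ y) := by
    intro y
    rw [← IsNilpotent.isUnit_quotient_mk_iff (I := J) ⟨2, hJ⟩, hΦ]
    exact (IsLocalization.map_units (Localization.AtPrime 𝔫) y).map ψ
  let χ : Localization.AtPrime 𝔫 →ₐ[k'] C := IsLocalization.liftAlgHom (M := 𝔫.primeCompl) hunits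
  refine ⟨χ, ?_⟩
  apply AlgHom.coe_ringHom_injective
  apply IsLocalization.ringHom_ext 𝔫.primeCompl
  refine RingHom.ext fun r => ?_
  show Ideal.Quotient.mk J (χ (algebraMap (k' ⊗[k] A) (Localization.AtPrime 𝔫) r)) =
    ψ (algebraMap (k' ⊗[k] A) (Localization.AtPrime 𝔫) r)
  rw [← hΦ]
  congr 1
  exact IsLocalization.lift_eq _ r

section Loc

variable (k K S : Type u) [Field k] [Field K] [Algebra k K] [CommRing S] [Algebra k S]

/-- `K ⊗ S` regular ⇒ `K ⊗ S_q` regular. -/
theorem isRegularRing_tensor_localization (q : Ideal S) [q.IsPrime]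
    (h : IsRegularRing (K ⊗[k] S)) : IsRegularRing (K ⊗[k] Localization.AtPrime q) := by
  haveI := h
  haveI : IsRegularRing (Localization (q.primeCompl.map
      (Algebra.TensorProduct.includeRight (R := k) (A := K)))) :=
    Groth.Agent.S5807.isRegularRing_localization _ _
  exact IsRegularRing.of_ringEquiv
    (IsLocalization.tensorProductEquivOfMapIncludeRight k K q.primeCompl
      (Localization.AtPrime q) (Localization (q.primeCompl.map
      (Algebra.TensorProduct.includeRight (R := k) (A := K))))).symm.toRingEquiv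

/-- `K ⊗ S` is regular as soon as its local rings `(K ⊗ S_q)_{Q'}` are. -/
theorem isRegularRing_tensor_of_forall [IsNoetherianRing (K ⊗[k] S)]
    (h : ∀ (q : Ideal S) [q.IsPrime] (Q' : Ideal (K ⊗[k] Localization.AtPrime q)) [Q'.IsPrime],
      (∀ a ∈ maximalIdeal (Localization.AtPrime q), (1 : K) ⊗ₜ[k] a ∈ Q') →
      IsRegularLocalRing (Localization.AtPrime Q')) : IsRegularRing (K ⊗[k] S) := by
  rw [isRegularRing_iff]
  intro Q hQ
  let q : Ideal S := Q.comap (Algebra.TensorProduct.includeRight : S →ₐ[k] K ⊗[k] S).toRingHom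
  haveI : q.IsPrime := Ideal.comap_isPrime _ _
  obtain ⟨Q', hQ', hQm, ⟨e⟩⟩ :=
    Groth.Agent.H63.LocTensor.exists_prime_ringEquiv_localization_tensor k K S Q q rfl
      (Localization.AtPrime q)
  haveI := hQ'
  haveI : IsRegularLocalRing (Localization.AtPrime Q') := by
    apply h q Q'
    intro a ha
    apply hQm
    rw [IsLocalization.AtPrime.map_eq_maximalIdeal q]
    exact ha
  exact IsRegularLocalRing.of_ringEquiv e

end Loc

/-- A field has prime characteristic or characteristic zero. -/
theorem char_cases (k : Type u) [Field k] : (∃ p : ℕ, Fact p.Prime ∧ CharP k p) ∨ CharZero k := by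
  obtain ⟨p, hp⟩ := CharP.exists k
  rcases CharP.char_is_prime_or_zero k p with h | h
  · exact Or.inl ⟨p, ⟨h⟩, hp⟩
  · subst h
    exact Or.inr (CharP.charP_to_charZero k)

/-- A Noetherian local geometrically regular `k`-algebra is adic formally smooth. -/
theorem fs_of_isGeometricallyRegular (k A : Type u) [Field k] [CommRing A] [IsLocalRing A]
    [IsNoetherianRing A] [Algebra k A] (h : CAlg.IsGeometricallyRegular k A) :
    CAlgX.IsAdicFormallySmooth k A (maximalIdeal A) := by
  rcases char_cases k with ⟨p, hp, hc⟩ | h0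
  · exact (Groth.Agent.S2036.result (k := k) (A := A) p).mp h
  · haveI : IsRegularRing (k ⊗[k] A) := h k inferInstance
    haveI : IsRegularRing A := IsRegularRing.of_ringEquiv (Algebra.TensorProduct.lid k A).toRingEquiv
    haveI : IsRegularLocalRing A := IsRegularLocalRing.of_isRegularRing_of_isLocalRing A
    exact (Groth.Agent.S2035.result (k := k) (A := A)).mp inferInstance

/-- localization of a geometrically regular algebra is geometrically regular -/
theorem isGeometricallyRegular_localization (k S : Type u) [Field k] [CommRing S] [Algebra k S]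
    (q : Ideal S) [q.IsPrime] (h : CAlg.IsGeometricallyRegular k S) :
    CAlg.IsGeometricallyRegular k (Localization.AtPrime q) :=
  fun k' _ _ hfin => isRegularRing_tensor_localization k k' S q (h k' hfin)

/-- **EGA IV 6.7.7 a) ⇒ c)**. -/
theorem isRegularRing_tensor_of_isGeometricallyRegular (k S : Type u) [Field k] [CommRing S]
    [Algebra k S] [IsNoetherianRing S] (h : CAlg.IsGeometricallyRegular k S)
    (K : Type u) [Field K] [Algebra k K] [Algebra.EssFiniteType k K] :
    IsRegularRing (K ⊗[k] S) := by
  haveI hN0 : IsNoetherianRing (S ⊗[k] K) := Algebra.EssFiniteType.isNoetherianRing S (S ⊗[k] K)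
  haveI hN : IsNoetherianRing (K ⊗[k] S) :=
    isNoetherianRing_of_ringEquiv _ (Algebra.TensorProduct.comm k S K).toRingEquiv
  apply isRegularRing_tensor_of_forall
  intro q _ Q' _ hQ'
  have hfs := fs_of_isGeometricallyRegular k (Localization.AtPrime q)
    (isGeometricallyRegular_localization k S q h)
  have hfs' := fs_localization_tensor_prime hfs K Q' hQ'
  haveI hN1 : IsNoetherianRing (Localization.AtPrime q ⊗[k] K) :=
    Algebra.EssFiniteType.isNoetherianRing (Localization.AtPrime q) _
  haveI hN2 : IsNoetherianRing (K ⊗[k] Localization.AtPrime q) :=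
    isNoetherianRing_of_ringEquiv _ (Algebra.TensorProduct.comm k _ K).toRingEquiv
  exact Groth.Agent.Lead.GeomReg.regular_of_fs hfs'

/-- Noetherian local: regular after all finite purely inseparable extensions ⇒ geometrically
regular. -/
theorem isGeometricallyRegular_of_purelyInseparable_local (k A : Type u) [Field k] [CommRing A]
    [IsLocalRing A] [IsNoetherianRing A] [Algebra k A]
    (h : ∀ (k' : Type u) [Field k'] [Algebra k k'], Module.Finite k k' → IsPurelyInseparable k k' →
      IsRegularRing (k' ⊗[k] A)) : CAlg.IsGeometricallyRegular k A := by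
  apply Groth.Agent.Lead.GeomReg.isGeometricallyRegular_of_fs
  refine (Groth.Agent.S4573.result (k := k) (A := A) (ringExpChar k)).mpr ?_
  intro k' _ _ hfin hpow
  apply h k' hfin
  rw [isPurelyInseparable_iff_pow_mem k (ringExpChar k)]
  intro x
  exact ⟨1, by simpa using hpow x⟩

/-- **EGA IV 6.7.7 b) ⇒ a)**. -/
theorem isGeometricallyRegular_of_purelyInseparable (k S : Type u) [Field k] [CommRing S]
    [Algebra k S] [IsNoetherianRing S]
    (h : ∀ (k' : Type u) [Field k'] [Algebra k k'], Module.Finite k k' → IsPurelyInseparable k k' →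
      IsRegularRing (k' ⊗[k] S)) : CAlg.IsGeometricallyRegular k S := by
  intro k'' _ _ hfin
  haveI := hfin
  haveI hN0 : IsNoetherianRing (S ⊗[k] k'') := IsNoetherianRing.of_finite S (S ⊗[k] k'')
  haveI hN : IsNoetherianRing (k'' ⊗[k] S) :=
    isNoetherianRing_of_ringEquiv _ (Algebra.TensorProduct.comm k S k'').toRingEquiv
  apply isRegularRing_tensor_of_forall
  intro q _ Q' _ _
  have hq : CAlg.IsGeometricallyRegular k (Localization.AtPrime q) :=
    isGeometricallyRegular_of_purelyInseparable_local k (Localization.AtPrime q)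
      (fun k' _ _ hf hp => isRegularRing_tensor_localization k k' S q (h k' hf hp))
  haveI : IsRegularRing (k'' ⊗[k] Localization.AtPrime q) := hq k'' hfin
  infer_instance

end Groth.Agent.H63.GeomRegKey
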