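import Mathlib
import Groth.Agent.H63.FibreChart
import Groth.Agent.H63.GeomRegKey

/-!
# Regular morphisms: affine-local regular ring maps vs. flat with geometrically regular fibres
(helper63; S1474)
-/

set_option autoImplicit false
universe u
open CategoryTheory CategoryTheory.Limits AlgebraicGeometry TensorProduct

namespace Groth.Agent.H63.RegularFibres

/-- Geometric regularity transports along a semilinear ring isomorphism. -/
theorem isGeometricallyRegular_of_ringEquiv {k S k' S' : Type u} [Field k] [Field k']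
    [CommRing S] [CommRing S'] [Algebra k S] [Algebra k' S'] (σ : k ≃+* k') (e : S ≃+* S')
    (h : ∀ c, e (algebraMap k S c) = algebraMap k' S' (σ c))
    (H : CAlg.IsGeometricallyRegular k S) : CAlg.IsGeometricallyRegular k' S' := by
  intro L _ _ hfin
  letI algkk' : Algebra k k' := σ.toRingHom.toAlgebra
  letI algkL : Algebra k L := ((algebraMap k' L).comp σ.toRingHom).toAlgebra
  letI algkS' : Algebra k S' := ((algebraMap k' S').comp σ.toRingHom).toAlgebra
  haveI : IsScalarTower k k' L := IsScalarTower.of_algebraMap_eq' rfl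
  haveI : IsScalarTower k k' S' := IsScalarTower.of_algebraMap_eq' rfl
  haveI : Module.Finite k k' :=
    Module.Finite.of_surjective (Algebra.linearMap k k') σ.surjective
  haveI : Module.Finite k L := Module.Finite.trans k' L
  let eA : S ≃ₐ[k] S' := AlgEquiv.ofRingEquiv (f := e) (fun c => by rw [h]; rfl)
  haveI hreg : IsRegularRing (L ⊗[k] S) := H L inferInstance
  let step1 : L ⊗[k] S ≃ₐ[k] L ⊗[k] S' := Algebra.TensorProduct.congr AlgEquiv.refl eA
  haveI : TensorProduct.CompatibleSMul k k' L S' := ⟨fun r m n => by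
    obtain ⟨c, rfl⟩ := σ.surjective r
    have h1 : σ c • m = c • m := algebraMap_smul k' c m
    have h2 : σ c • n = c • n := algebraMap_smul k' c n
    rw [h1, h2, TensorProduct.smul_tmul]⟩
  let step2 : L ⊗[k] S' ≃ₐ[k'] L ⊗[k'] S' :=
    Algebra.TensorProduct.equivOfCompatibleSMul k' k k' L S'
  exact IsRegularRing.of_ringEquiv (step1.toRingEquiv.trans step2.toRingEquiv)

/-- Geometric regularity can be checked on the localizations at primes. -/
theorem isGeometricallyRegular_of_forall_localization (k S : Type u) [Field k] [CommRing S]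
    [Algebra k S] [IsNoetherianRing S]
    (h : ∀ (q : Ideal S) [q.IsPrime], CAlg.IsGeometricallyRegular k (Localization.AtPrime q)) :
    CAlg.IsGeometricallyRegular k S := by
  intro k'' _ _ hfin
  haveI := hfin
  haveI hN0 : IsNoetherianRing (S ⊗[k] k'') := IsNoetherianRing.of_finite S (S ⊗[k] k'')
  haveI hN : IsNoetherianRing (k'' ⊗[k] S) :=
    isNoetherianRing_of_ringEquiv _ (Algebra.TensorProduct.comm k S k'').toRingEquiv
  apply Groth.Agent.H63.GeomRegKey.isRegularRing_tensor_of_forall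
  intro q _ Q' _ _
  haveI : IsRegularRing (k'' ⊗[k] Localization.AtPrime q) := h q k'' hfin
  infer_instance

theorem exists_point_of_prime {Z : Scheme.{u}} {W : Z.Opens} (hW : IsAffineOpen W)
    (q : Ideal Γ(Z, W)) [hq : q.IsPrime] :
    ∃ (z : Z) (hz : z ∈ W), (hW.primeIdealOf ⟨z, hz⟩).asIdeal = q := by
  let x : Spec Γ(Z, W) := ⟨q, hq⟩
  let z' : W := hW.isoSpec.inv x
  refine ⟨z'.1, z'.2, ?_⟩
  have h1 : hW.isoSpec.hom (hW.isoSpec.inv x) = x := by
    rw [← Scheme.Hom.comp_apply, Iso.inv_hom_id]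
    rfl
  have : hW.primeIdealOf ⟨z'.1, z'.2⟩ = x := h1
  rw [this]

variable {X Y : Scheme.{u}}

/-- The `κ(y)`-algebra structure on sections of the fibre. -/
@[reducible] noncomputable def fibAlg (f : X ⟶ Y) (y : Y) (W : (f.fiber y).Opens) :
    Algebra ↑(Y.residueField y) ↑Γ(f.fiber y, W) :=
  ((Scheme.ΓSpecIso (Y.residueField y)).inv ≫ (f.fiberToSpecResidueField y).appTop ≫
    (f.fiber y).presheaf.map (homOfLE le_top).op).hom.toAlgebra

theorem exists_localization_equiv_stalk (f : X ⟶ Y) (y : Y) (W : (f.fiber y).Opens)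
    (hW : IsAffineOpen W) (z : f.fiber y) (hz : z ∈ W) :
    letI := fibAlg f y W
    ∃ e : Localization.AtPrime (hW.primeIdealOf ⟨z, hz⟩).asIdeal ≃+*
        (f.fiber y).presheaf.stalk z,
      ∀ c : Y.residueField y, e (algebraMap _ _ c) =
        ((Scheme.ΓSpecIso (Y.residueField y)).inv ≫ (f.fiberToSpecResidueField y).appTop ≫
          (f.fiber y).presheaf.germ ⊤ z trivial).hom c := by
  letI := fibAlg f y W
  letI : Algebra Γ(f.fiber y, W) ((f.fiber y).presheaf.stalk z) :=
    ((f.fiber y).presheaf.germ W z hz).hom.toAlgebra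
  haveI : IsLocalization.AtPrime ((f.fiber y).presheaf.stalk z)
      (hW.primeIdealOf ⟨z, hz⟩).asIdeal := hW.isLocalization_stalk ⟨z, hz⟩
  let l : Localization.AtPrime (hW.primeIdealOf ⟨z, hz⟩).asIdeal ≃ₐ[Γ(f.fiber y, W)]
      (f.fiber y).presheaf.stalk z :=
    IsLocalization.algEquiv (hW.primeIdealOf ⟨z, hz⟩).asIdeal.primeCompl _ _
  refine ⟨l.toRingEquiv, fun c => ?_⟩
  rw [IsScalarTower.algebraMap_apply (Y.residueField y) Γ(f.fiber y, W)
    (Localization.AtPrime (hW.primeIdealOf ⟨z, hz⟩).asIdeal)]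
  have h1 := l.commutes (algebraMap (Y.residueField y) Γ(f.fiber y, W) c)
  show l (algebraMap _ _ (algebraMap _ _ c)) = _
  rw [h1]
  have hcomp : ((Scheme.ΓSpecIso (Y.residueField y)).inv ≫
      (f.fiberToSpecResidueField y).appTop ≫
      (f.fiber y).presheaf.map (homOfLE le_top).op) ≫ (f.fiber y).presheaf.germ W z hz =
      (Scheme.ΓSpecIso (Y.residueField y)).inv ≫ (f.fiberToSpecResidueField y).appTop ≫
        (f.fiber y).presheaf.germ ⊤ z trivial := by
    rw [Category.assoc, Category.assoc, TopCat.Presheaf.germ_res]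
  exact congrArg (fun φ => φ.hom c) hcomp

theorem chart_iff (f : X ⟶ Y) (y : Y) (V : Y.Opens) (hV : IsAffineOpen V) (hy : y ∈ V)
    (U : X.Opens) (hU : IsAffineOpen U) (hUV : U ≤ f ⁻¹ᵁ V) (p : Ideal Γ(Y, V)) [p.IsPrime]
    (hp : (hV.primeIdealOf ⟨y, hy⟩).asIdeal = p) :
    letI := (f.appLE V U hUV).hom.toAlgebra
    letI := fibAlg f y ((f.fiberι y) ⁻¹ᵁ U)
    (IsNoetherianRing (p.Fiber Γ(X, U)) ∧
      CAlg.IsGeometricallyRegular p.ResidueField (p.Fiber Γ(X, U))) ↔
    (IsNoetherianRing Γ(f.fiber y, (f.fiberι y) ⁻¹ᵁ U) ∧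
      CAlg.IsGeometricallyRegular (Y.residueField y) Γ(f.fiber y, (f.fiberι y) ⁻¹ᵁ U)) := by
  subst hp
  letI := (f.appLE V U hUV).hom.toAlgebra
  letI := fibAlg f y ((f.fiberι y) ⁻¹ᵁ U)
  obtain ⟨-, σ, e, hc⟩ := Groth.Agent.H63.FibreChart.bridge f y V hV hy U hU hUV
  constructor
  · rintro ⟨h1, h2⟩
    exact ⟨isNoetherianRing_of_ringEquiv _ e, isGeometricallyRegular_of_ringEquiv σ e hc h2⟩
  · rintro ⟨h1, h2⟩
    refine ⟨isNoetherianRing_of_ringEquiv _ e.symm,
      isGeometricallyRegular_of_ringEquiv σ.symm e.symm ?_ h2⟩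
    intro c
    apply e.injective
    rw [e.apply_symm_apply, hc (σ.symm c), σ.apply_symm_apply]
    rfl


theorem main (f : X ⟶ Y) (hN : ∀ y : Y, IsLocallyNoetherian (f.fiber y)) :
    (∀ (U : X.Opens) (V : Y.Opens) (hU : IsAffineOpen U) (hV : IsAffineOpen V) (hUV : U ≤ f ⁻¹ᵁ V),
        letI := (f.appLE V U hUV).hom.toAlgebra
        CAlg.IsRegularHom Γ(Y, V) Γ(X, U)) ↔
      Flat f ∧ ∀ (y : Y) (W : (f.fiber y).Opens), IsAffineOpen W →
        letI : Algebra ↑(Y.residueField y) ↑Γ(f.fiber y, W) := ((Scheme.ΓSpecIso (Y.residueField y)).inv ≫ (f.fiberToSpecResidueField y).appTop ≫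
          (f.fiber y).presheaf.map (homOfLE le_top).op).hom.toAlgebra
        IsNoetherianRing ↑Γ(f.fiber y, W) ∧ CAlg.IsGeometricallyRegular ↑(Y.residueField y) ↑Γ(f.fiber y, W) := by
  constructor
  · intro hreg
    refine ⟨⟨fun {V} hV {U} hU e => (hreg U V hU hV e).1⟩, fun y W hW => ?_⟩
    haveI := hN y
    haveI hNW : IsNoetherianRing Γ(f.fiber y, W) :=
      IsLocallyNoetherian.component_noetherian ⟨W, hW⟩
    refine ⟨hNW, ?_⟩
    letI := fibAlg f y W
    apply isGeometricallyRegular_of_forall_localization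
    intro q hq
    obtain ⟨z, hz, rfl⟩ := exists_point_of_prime hW q
    obtain ⟨_, ⟨V, hV, rfl⟩, hyV, -⟩ :=
      Y.isBasis_affineOpens.exists_subset_of_mem_open (Set.mem_univ y) isOpen_univ
    have hx : f (f.fiberι y z) = y := by
      have h1 : f.fiberι y z ∈ Set.range (f.fiberι y) := ⟨z, rfl⟩
      rw [Scheme.Hom.range_fiberι] at h1
      exact h1
    have hxV : f.fiberι y z ∈ f ⁻¹ᵁ V := by
      show f (f.fiberι y z) ∈ V
      rw [hx]
      exact hyV
    obtain ⟨_, ⟨U, hU, rfl⟩, hxU, hUV⟩ :=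
      X.isBasis_affineOpens.exists_subset_of_mem_open hxV (f ⁻¹ᵁ V).2
    have hz0 : z ∈ (f.fiberι y) ⁻¹ᵁ U := hxU
    have hchart := (chart_iff f y V hV hyV U hU hUV _ rfl).mp
      ((hreg U V hU hV hUV).2 (hV.primeIdealOf ⟨y, hyV⟩).asIdeal)
    obtain ⟨haff, -⟩ := Groth.Agent.H63.FibreChart.bridge f y V hV hyV U hU hUV
    letI := fibAlg f y ((f.fiberι y) ⁻¹ᵁ U)
    have h1 := Groth.Agent.H63.GeomRegKey.isGeometricallyRegular_localization (Y.residueField y)
      Γ(f.fiber y, (f.fiberι y) ⁻¹ᵁ U) (haff.primeIdealOf ⟨z, hz0⟩).asIdeal hchart.2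
    obtain ⟨e0, he0⟩ := exists_localization_equiv_stalk f y _ haff z hz0
    obtain ⟨e1, he1⟩ := exists_localization_equiv_stalk f y W hW z hz
    refine isGeometricallyRegular_of_ringEquiv (RingEquiv.refl _) (e0.trans e1.symm)
      (fun c => ?_) h1
    show e1.symm (e0 _) = _
    rw [he0 c, ← he1 c, e1.symm_apply_apply]
    rfl
  · rintro ⟨hflat, hfib⟩ U V hU hV hUV
    refine ⟨hflat.flat_appLE hV hU hUV, fun p hp => ?_⟩
    obtain ⟨y, hy, hpy⟩ := exists_point_of_prime hV p
    obtain ⟨haff, -⟩ := Groth.Agent.H63.FibreChart.bridge f y V hV hy U hU hUV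
    exact (chart_iff f y V hV hy U hU hUV p hpy).mpr (hfib y _ haff)

end Groth.Agent.H63.RegularFibres
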