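import Mathlib
import Groth.Agent.H63.RegularFibres
import Groth.Agent.H20.FibBCGen
import Groth.Agent.H34.GRingLoc
import Groth.Agent.H1.NoetherianDescent
import Groth.Agent.H60.GorBC

/-!
# Regular morphisms and flat, locally finitely presented, surjective base change (helper63; S1476)
-/

set_option autoImplicit false
set_option linter.style.haveILetI false
universe u
open CategoryTheory CategoryTheory.Limits AlgebraicGeometry TensorProduct

namespace Groth.Agent.H63.RegularBC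

open Groth.Agent.H63.RegularFibres

variable {X Y X' Y' : Scheme.{u}}

/-- An open of a fibre with Noetherian, geometrically regular coordinate ring. -/
def GoodOpen (f : X ⟶ Y) (y : Y) (W : (f.fiber y).Opens) : Prop :=
  letI := fibAlg f y W
  IsNoetherianRing Γ(f.fiber y, W) ∧ CAlg.IsGeometricallyRegular (Y.residueField y) Γ(f.fiber y, W)

/-- If a fibre is covered by good affine opens then it is locally Noetherian and all its affine opens
are good. -/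
theorem coverGR (f : X ⟶ Y) (y : Y)
    (h : ∀ z : f.fiber y, ∃ W : (f.fiber y).Opens, IsAffineOpen W ∧ z ∈ W ∧ GoodOpen f y W) :
    IsLocallyNoetherian (f.fiber y) ∧
      ∀ W : (f.fiber y).Opens, IsAffineOpen W → GoodOpen f y W := by
  choose Wz hWaff hzW hWgood using h
  have hLN : IsLocallyNoetherian (f.fiber y) := by
    refine isLocallyNoetherian_of_affine_cover (S := fun z => ⟨Wz z, hWaff z⟩) ?_
      (fun z => (hWgood z).1)
    rw [eq_top_iff]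
    intro z _
    exact TopologicalSpace.Opens.mem_iSup.mpr ⟨z, hzW z⟩
  refine ⟨hLN, fun W hW => ?_⟩
  haveI := hLN
  haveI hNW : IsNoetherianRing Γ(f.fiber y, W) :=
    IsLocallyNoetherian.component_noetherian ⟨W, hW⟩
  refine ⟨hNW, ?_⟩
  letI := fibAlg f y W
  apply isGeometricallyRegular_of_forall_localization
  intro q hq
  obtain ⟨z, hz, rfl⟩ := exists_point_of_prime hW q
  letI := fibAlg f y (Wz z)
  have h1 := Groth.Agent.H63.GeomRegKey.isGeometricallyRegular_localization (Y.residueField y)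
    Γ(f.fiber y, Wz z) ((hWaff z).primeIdealOf ⟨z, hzW z⟩).asIdeal (hWgood z).2
  obtain ⟨e0, he0⟩ := exists_localization_equiv_stalk f y _ (hWaff z) z (hzW z)
  obtain ⟨e1, he1⟩ := exists_localization_equiv_stalk f y W hW z hz
  refine isGeometricallyRegular_of_ringEquiv (RingEquiv.refl _) (e0.trans e1.symm)
    (fun c => ?_) h1
  show e1.symm (e0 _) = _
  rw [he0 c, ← he1 c, e1.symm_apply_apply]
  rfl

/-- Sections over a "product" affine open of a fibre product. -/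
theorem exists_algEquiv_sections {f : X ⟶ Y} {f' : X' ⟶ Y'} {g' : X' ⟶ X} {g : Y' ⟶ Y}
    (hc : IsPullback g' f' f g) {V : Y.Opens} {V' : Y'.Opens} {U : X.Opens}
    (hV : IsAffineOpen V) (hV' : IsAffineOpen V') (hU : IsAffineOpen U)
    (hVV' : V' ≤ g ⁻¹ᵁ V) (hUV : U ≤ f ⁻¹ᵁ V) :
    IsAffineOpen (g' ⁻¹ᵁ U ⊓ f' ⁻¹ᵁ V') ∧
    (letI := (f.appLE V U hUV).hom.toAlgebra
     letI := (g.appLE V V' hVV').hom.toAlgebra
     letI := (f'.appLE V' (g' ⁻¹ᵁ U ⊓ f' ⁻¹ᵁ V') inf_le_right).hom.toAlgebra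
     Nonempty (Γ(Y', V') ⊗[Γ(Y, V)] Γ(X, U) ≃ₐ[Γ(Y', V')] Γ(X', g' ⁻¹ᵁ U ⊓ f' ⁻¹ᵁ V'))) := by
  have hUY : (g' ⁻¹ᵁ U ⊓ f' ⁻¹ᵁ V') = g' ⁻¹ᵁ U ⊓ f' ⁻¹ᵁ V' := rfl
  have haff : IsAffineOpen (g' ⁻¹ᵁ U ⊓ f' ⁻¹ᵁ V') := by
    have : IsAffine _ := hV
    have : IsAffine _ := hV'
    have : IsAffine _ := hU
    exact .of_isIso (Scheme.Hom.isPullback_resLE hc hVV' hUV hUY).isoPullback.hom
  refine ⟨haff, ?_⟩
  letI algB := (f.appLE V U hUV).hom.toAlgebra
  letI algA' := (g.appLE V V' hVV').hom.toAlgebra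
  letI algC := (f'.appLE V' (g' ⁻¹ᵁ U ⊓ f' ⁻¹ᵁ V') inf_le_right).hom.toAlgebra
  have hiso := isIso_pushoutSection_of_isAffineOpen hc hVV' hUV hUY hV hV' hU
  have hPO := (isIso_pushoutSection_iff hc hVV' hUV hUY).mp hiso
  have hT := (CommRingCat.isPushout_tensorProduct Γ(Y, V) Γ(Y', V') Γ(X, U)).flip
  have h1 : CommRingCat.ofHom (algebraMap Γ(Y, V) Γ(X, U)) = f.appLE V U hUV := rfl
  have h2 : CommRingCat.ofHom (algebraMap Γ(Y, V) Γ(Y', V')) = g.appLE V V' hVV' := rfl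
  rw [h1, h2] at hT
  let e := hT.isoIsPushout _ _ hPO
  have he_inr : CommRingCat.ofHom (Algebra.TensorProduct.includeLeftRingHom
      (R := Γ(Y, V)) (A := Γ(Y', V')) (B := Γ(X, U))) ≫ e.hom =
      f'.appLE V' (g' ⁻¹ᵁ U ⊓ f' ⁻¹ᵁ V') (by simp) :=
    hT.inr_isoIsPushout_hom _ _ hPO
  exact ⟨AlgEquiv.ofRingEquiv (f := e.commRingCatIsoToRingEquiv) (fun a' =>
    congrArg (fun φ => φ.hom a') he_inr)⟩

/-- Descent of the fibre conditions (Noetherian, geometrically regular) from a base change. -/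
theorem fibre_descent (A B A' : Type u) [CommRing A] [CommRing B] [CommRing A'] [Algebra A B]
    [Algebra A A'] (p' : Ideal A') [p'.IsPrime]
    (h : IsNoetherianRing (p'.Fiber (A' ⊗[A] B)) ∧
      CAlg.IsGeometricallyRegular p'.ResidueField (p'.Fiber (A' ⊗[A] B))) :
    IsNoetherianRing ((p'.comap (algebraMap A A')).Fiber B) ∧
      CAlg.IsGeometricallyRegular (p'.comap (algebraMap A A')).ResidueField
        ((p'.comap (algebraMap A A')).Fiber B) := by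
  refine ⟨?_, Groth.Agent.H20.FibBCGen.geomRegular_fibre_of_baseChange A B A' p' h.2⟩
  obtain ⟨alg, -, -, ⟨E⟩⟩ := Groth.Agent.H20.FibBCGen.core A B A' p' p'.ResidueField
  letI := alg
  haveI := h.1
  haveI h1 : IsNoetherianRing (p'.ResidueField ⊗[p'.ResidueField] p'.Fiber (A' ⊗[A] B)) :=
    isNoetherianRing_of_ringEquiv _
      (Algebra.TensorProduct.lid p'.ResidueField (p'.Fiber (A' ⊗[A] B))).symm.toRingEquiv
  haveI h2 : IsNoetherianRing (p'.ResidueField ⊗[(p'.comap (algebraMap A A')).ResidueField]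
      (p'.comap (algebraMap A A')).Fiber B) :=
    isNoetherianRing_of_ringEquiv (p'.ResidueField ⊗[p'.ResidueField] p'.Fiber (A' ⊗[A] B)) E.symm
  haveI h3 : IsNoetherianRing ((p'.comap (algebraMap A A')).Fiber B
      ⊗[(p'.comap (algebraMap A A')).ResidueField] p'.ResidueField) :=
    isNoetherianRing_of_ringEquiv _ (Algebra.TensorProduct.comm _ _ _).toRingEquiv
  exact Groth.Agent.H1.isNoetherianRing_of_faithfullyFlat ((p'.comap (algebraMap A A')).Fiber B)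
    ((p'.comap (algebraMap A A')).Fiber B
      ⊗[(p'.comap (algebraMap A A')).ResidueField] p'.ResidueField)

/-- The affine-local regularity condition. -/
def RegLocal (f : X ⟶ Y) : Prop :=
  ∀ (U : X.Opens) (V : Y.Opens) (hU : IsAffineOpen U) (hV : IsAffineOpen V) (hUV : U ≤ f ⁻¹ᵁ V),
    letI := (f.appLE V U hUV).hom.toAlgebra
    CAlg.IsRegularHom Γ(Y, V) Γ(X, U)

theorem map_fiberι (f : X ⟶ Y) (y : Y) (z : f.fiber y) : f (f.fiberι y z) = y := by
  have h1 : f.fiberι y z ∈ Set.range (f.fiberι y) := ⟨z, rfl⟩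
  rw [Scheme.Hom.range_fiberι] at h1
  exact h1

/-- Forward chart: around every point of a fibre of the base change there is a good affine open. -/
theorem fwd_chart {f : X ⟶ Y} {f' : X' ⟶ Y'} {g' : X' ⟶ X} {g : Y' ⟶ Y}
    [LocallyOfFiniteType g] (hc : IsPullback g' f' f g) (hreg : RegLocal f) (y' : Y')
    (z' : f'.fiber y') :
    ∃ W : (f'.fiber y').Opens, IsAffineOpen W ∧ z' ∈ W ∧ GoodOpen f' y' W := by
  have hx' : f' (f'.fiberι y' z') = y' := map_fiberι f' y' z'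
  have hcomm : f (g' (f'.fiberι y' z')) = g y' := by
    rw [← Scheme.Hom.comp_apply, hc.w, Scheme.Hom.comp_apply, hx']
  obtain ⟨_, ⟨V, hV, rfl⟩, hyV, -⟩ :=
    Y.isBasis_affineOpens.exists_subset_of_mem_open (Set.mem_univ (g y')) isOpen_univ
  have hy'V : y' ∈ g ⁻¹ᵁ V := hyV
  obtain ⟨_, ⟨V', hV', rfl⟩, hy'V', hVV'⟩ :=
    Y'.isBasis_affineOpens.exists_subset_of_mem_open hy'V (g ⁻¹ᵁ V).2
  have hxV : g' (f'.fiberι y' z') ∈ f ⁻¹ᵁ V := by
    show f (g' (f'.fiberι y' z')) ∈ V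
    rw [hcomm]
    exact hyV
  obtain ⟨_, ⟨U, hU, rfl⟩, hxU, hUV⟩ :=
    X.isBasis_affineOpens.exists_subset_of_mem_open hxV (f ⁻¹ᵁ V).2
  obtain ⟨haff, hE⟩ := exists_algEquiv_sections hc hV hV' hU hVV' hUV
  letI algB := (f.appLE V U hUV).hom.toAlgebra
  letI algA' := (g.appLE V V' hVV').hom.toAlgebra
  letI algC := (f'.appLE V' (g' ⁻¹ᵁ U ⊓ f' ⁻¹ᵁ V') inf_le_right).hom.toAlgebra
  obtain ⟨E⟩ := hE
  haveI : Algebra.FiniteType Γ(Y, V) Γ(Y', V') := g.finiteType_appLE hV hV' hVV'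
  have hR1 : CAlg.IsRegularHom Γ(Y', V') (Γ(Y', V') ⊗[Γ(Y, V)] Γ(X, U)) :=
    Groth.Agent.H20.FibBCGen.isRegularHom_baseChange_of_finiteType _ _ _ (hreg U V hU hV hUV)
  have hR2 : CAlg.IsRegularHom Γ(Y', V') Γ(X', g' ⁻¹ᵁ U ⊓ f' ⁻¹ᵁ V') :=
    Groth.Agent.H34.GRingLoc.isRegularHom_of_algEquiv E hR1
  have hchart := (chart_iff f' y' V' hV' hy'V' (g' ⁻¹ᵁ U ⊓ f' ⁻¹ᵁ V') haff inf_le_right _ rfl).mp
    (hR2.2 (hV'.primeIdealOf ⟨y', hy'V'⟩).asIdeal)
  obtain ⟨haffW, -⟩ := Groth.Agent.H63.FibreChart.bridge f' y' V' hV' hy'V'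
    (g' ⁻¹ᵁ U ⊓ f' ⁻¹ᵁ V') haff inf_le_right
  refine ⟨(f'.fiberι y') ⁻¹ᵁ (g' ⁻¹ᵁ U ⊓ f' ⁻¹ᵁ V'), haffW, ?_, hchart⟩
  refine ⟨hxU, ?_⟩
  show f' (f'.fiberι y' z') ∈ V'
  rw [hx']
  exact hy'V'

/-- Backward chart: around every point of a fibre of `f` over `g y'` there is a good affine open. -/
theorem bwd_chart {f : X ⟶ Y} {f' : X' ⟶ Y'} {g' : X' ⟶ X} {g : Y' ⟶ Y}
    (hc : IsPullback g' f' f g) (hreg' : RegLocal f') (y' : Y') (z : f.fiber (g y')) :
    ∃ W : (f.fiber (g y')).Opens, IsAffineOpen W ∧ z ∈ W ∧ GoodOpen f (g y') W := by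
  have hx : f (f.fiberι (g y') z) = g y' := map_fiberι f (g y') z
  obtain ⟨_, ⟨V, hV, rfl⟩, hyV, -⟩ :=
    Y.isBasis_affineOpens.exists_subset_of_mem_open (Set.mem_univ (g y')) isOpen_univ
  have hy'V : y' ∈ g ⁻¹ᵁ V := hyV
  obtain ⟨_, ⟨V', hV', rfl⟩, hy'V', hVV'⟩ :=
    Y'.isBasis_affineOpens.exists_subset_of_mem_open hy'V (g ⁻¹ᵁ V).2
  have hxV : f.fiberι (g y') z ∈ f ⁻¹ᵁ V := by
    show f (f.fiberι (g y') z) ∈ V
    rw [hx]
    exact hyV
  obtain ⟨_, ⟨U, hU, rfl⟩, hxU, hUV⟩ :=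
    X.isBasis_affineOpens.exists_subset_of_mem_open hxV (f ⁻¹ᵁ V).2
  obtain ⟨haff, hE⟩ := exists_algEquiv_sections hc hV hV' hU hVV' hUV
  letI algB := (f.appLE V U hUV).hom.toAlgebra
  letI algA' := (g.appLE V V' hVV').hom.toAlgebra
  letI algC := (f'.appLE V' (g' ⁻¹ᵁ U ⊓ f' ⁻¹ᵁ V') inf_le_right).hom.toAlgebra
  obtain ⟨E⟩ := hE
  have hR2 : CAlg.IsRegularHom Γ(Y', V') Γ(X', g' ⁻¹ᵁ U ⊓ f' ⁻¹ᵁ V') :=
    hreg' _ V' haff hV' inf_le_right
  have hR1 : CAlg.IsRegularHom Γ(Y', V') (Γ(Y', V') ⊗[Γ(Y, V)] Γ(X, U)) :=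
    Groth.Agent.H34.GRingLoc.isRegularHom_of_algEquiv E.symm hR2
  have hdesc := fibre_descent Γ(Y, V) Γ(X, U) Γ(Y', V') (hV'.primeIdealOf ⟨y', hy'V'⟩).asIdeal
    (hR1.2 _)
  have hp : (hV.primeIdealOf ⟨g y', hyV⟩).asIdeal =
      (hV'.primeIdealOf ⟨y', hy'V'⟩).asIdeal.comap (algebraMap Γ(Y, V) Γ(Y', V')) :=
    (congrArg PrimeSpectrum.asIdeal
      (IsAffineOpen.comap_primeIdealOf_appLE (f := g) V hV V' hV' hVV' hy'V')).symm
  have hchart := (chart_iff f (g y') V hV hyV U hU hUV _ hp).mp hdesc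
  obtain ⟨haffW, -⟩ := Groth.Agent.H63.FibreChart.bridge f (g y') V hV hyV U hU hUV
  exact ⟨(f.fiberι (g y')) ⁻¹ᵁ U, haffW, hxU, hchart⟩

/-- Descent of flatness along a flat surjective base change. -/
theorem flat_of_baseChange {f : X ⟶ Y} {f' : X' ⟶ Y'} {g' : X' ⟶ X} {g : Y' ⟶ Y}
    [Flat g] [Surjective g] (hc : IsPullback g' f' f g) [Flat f'] : Flat f := by
  haveI : Surjective g' := MorphismProperty.of_isPullback (P := @Surjective) hc.flip inferInstance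
  rw [Flat.iff_flat_stalkMap]
  intro x
  obtain ⟨x', rfl⟩ := g'.surjective x
  exact Groth.Agent.H60.GorBC.flat_stalkMap_of_baseChange hc x' (Flat.stalkMap g (f' x'))
    (Flat.stalkMap f' x')

theorem main {f : X ⟶ Y} {f' : X' ⟶ Y'} {g' : X' ⟶ X} {g : Y' ⟶ Y} [Flat g]
    [LocallyOfFiniteType g] [Surjective g] (hc : IsPullback g' f' f g) :
    ((∀ y : Y, IsLocallyNoetherian (f.fiber y)) ∧ RegLocal f) ↔
      ((∀ y' : Y', IsLocallyNoetherian (f'.fiber y')) ∧ RegLocal f') := by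
  constructor
  · rintro ⟨hN, hR⟩
    obtain ⟨hflat, -⟩ := (Groth.Agent.H63.RegularFibres.main f hN).mp hR
    have hcov := fun y' => coverGR f' y' (fun z' => fwd_chart hc hR y' z')
    have hN' : ∀ y' : Y', IsLocallyNoetherian (f'.fiber y') := fun y' => (hcov y').1
    haveI : Flat f' := MorphismProperty.of_isPullback (P := @Flat) hc hflat
    exact ⟨hN', (Groth.Agent.H63.RegularFibres.main f' hN').mpr
      ⟨inferInstance, fun y' W hW => (hcov y').2 W hW⟩⟩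
  · rintro ⟨hN', hR'⟩
    obtain ⟨hflat', -⟩ := (Groth.Agent.H63.RegularFibres.main f' hN').mp hR'
    have hcov : ∀ y : Y, IsLocallyNoetherian (f.fiber y) ∧
        ∀ W : (f.fiber y).Opens, IsAffineOpen W → GoodOpen f y W := by
      intro y
      obtain ⟨y', rfl⟩ := g.surjective y
      exact coverGR f (g y') (fun z => bwd_chart hc hR' y' z)
    have hN : ∀ y : Y, IsLocallyNoetherian (f.fiber y) := fun y => (hcov y).1
    haveI := hflat'
    haveI : Flat f := flat_of_baseChange hc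
    exact ⟨hN, (Groth.Agent.H63.RegularFibres.main f hN).mpr
      ⟨inferInstance, fun y W hW => (hcov y).2 W hW⟩⟩

end Groth.Agent.H63.RegularBC
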