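import Mathlib
import Groth.Agent.H63.RegularBC
import Groth.Agent.S4749
import Groth.Agent.S9412
import Groth.Agent.H25.NormalGeneral
import Groth.Agent.H34.AdicFib

/-!
# Normal morphisms and flat, locally finitely presented, surjective base change (helper63; S1475)
-/

set_option autoImplicit false
set_option linter.style.haveILetI false
set_option linter.unusedVariables false
universe u
open CategoryTheory CategoryTheory.Limits AlgebraicGeometry TensorProduct

namespace Groth.Agent.H63.NormalBC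

open Groth.Agent.H63.RegularFibres Groth.Agent.H63.RegularBC

/-! ### ring-level lemmas -/

/-- Geometric normality transports along a semilinear ring isomorphism. -/
theorem isGeomNormal_of_ringEquiv {k S k' S' : Type u} [Field k] [Field k']
    [CommRing S] [CommRing S'] [Algebra k S] [Algebra k' S'] (σ : k ≃+* k') (e : S ≃+* S')
    (h : ∀ c, e (algebraMap k S c) = algebraMap k' S' (σ c))
    (H : EGA4.IsGeomNormal k S) : EGA4.IsGeomNormal k' S' := by
  intro L _ _ hfin
  letI algkk' : Algebra k k' := σ.toRingHom.toAlgebra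
  letI algkL : Algebra k L := ((algebraMap k' L).comp σ.toRingHom).toAlgebra
  letI algkS' : Algebra k S' := ((algebraMap k' S').comp σ.toRingHom).toAlgebra
  haveI : IsScalarTower k k' L := IsScalarTower.of_algebraMap_eq' rfl
  haveI : IsScalarTower k k' S' := IsScalarTower.of_algebraMap_eq' rfl
  haveI : Module.Finite k k' :=
    Module.Finite.of_surjective (Algebra.linearMap k k') σ.surjective
  haveI : Module.Finite k L := Module.Finite.trans k' L
  let eA : S ≃ₐ[k] S' := AlgEquiv.ofRingEquiv (f := e) (fun c => by rw [h]; rfl)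
  have hreg : EGA4.IsNormalRing (L ⊗[k] S) := H L inferInstance
  let step1 : L ⊗[k] S ≃ₐ[k] L ⊗[k] S' := Algebra.TensorProduct.congr AlgEquiv.refl eA
  haveI : TensorProduct.CompatibleSMul k k' L S' := ⟨fun r m n => by
    obtain ⟨c, rfl⟩ := σ.surjective r
    have h1 : σ c • m = c • m := algebraMap_smul k' c m
    have h2 : σ c • n = c • n := algebraMap_smul k' c n
    rw [h1, h2, TensorProduct.smul_tmul]⟩
  let step2 : L ⊗[k] S' ≃ₐ[k'] L ⊗[k'] S' :=
    Algebra.TensorProduct.equivOfCompatibleSMul k' k k' L S'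
  exact Groth.Agent.H25.NormalElem.isNormalRing_of_ringEquiv
    (step1.toRingEquiv.trans step2.toRingEquiv) hreg

/-- Geometric normality can be checked on the localizations at primes. -/
theorem isGeomNormal_of_forall_localization (k S : Type u) [Field k] [CommRing S] [Algebra k S]
    (h : ∀ (q : Ideal S) [q.IsPrime], EGA4.IsGeomNormal k (Localization.AtPrime q)) :
    EGA4.IsGeomNormal k S := by
  intro k'' _ _ hfin
  apply Groth.Agent.H25.NormalElem.isNormalRing_of_ringEquiv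
    (Algebra.TensorProduct.comm k S k'').toRingEquiv
  apply Groth.Agent.H25.NormalGeneral.isNormalRing_tensor_of_forall_localization_left
  intro q _
  exact Groth.Agent.H25.NormalElem.isNormalRing_of_ringEquiv
    (Algebra.TensorProduct.comm k k'' (Localization.AtPrime q)).toRingEquiv (h q k'' hfin)

theorem isGeomNormal_localization (k S : Type u) [Field k] [CommRing S] [Algebra k S]
    (q : Ideal S) [q.IsPrime] (h : EGA4.IsGeomNormal k S) :
    EGA4.IsGeomNormal k (Localization.AtPrime q) :=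
  Groth.Agent.S9412.result k S q.primeCompl (Localization.AtPrime q) h

/-- Transfer of a normal homomorphism along an isomorphism of the target. -/
theorem isNormalHom_of_algEquiv {A C C' : Type u} [CommRing A] [CommRing C] [CommRing C']
    [Algebra A C] [Algebra A C'] (e : C ≃ₐ[A] C') (h : EGA4.IsNormalHom A C) :
    EGA4.IsNormalHom A C' := by
  obtain ⟨hfl, hfib⟩ := h
  refine ⟨Module.Flat.of_linearEquiv e.symm.toLinearEquiv, fun p _ => ?_⟩
  have h1 : Groth.Agent.H34.GenFib.GF (fun R _ => EGA4.IsNormalRing R)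
      (fun k k' _ _ _ => Module.Finite k k') A C :=
    fun p _ k' _ _ hf => hfib p k' hf
  intro k' _ _ hf
  exact Groth.Agent.H34.GenFib.GF.of_algEquiv Groth.Agent.H34.AdicFib.good_normal.iso e h1 p k' hf

/-- Base change of a normal homomorphism (no finiteness hypotheses). -/
theorem isNormalHom_baseChange (A B A' : Type u) [CommRing A] [CommRing B] [CommRing A']
    [Algebra A B] [Algebra A A'] (h : EGA4.IsNormalHom A B) :
    EGA4.IsNormalHom A' (A' ⊗[A] B) := by
  obtain ⟨hflat, hfib⟩ := h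
  haveI := hflat
  refine ⟨inferInstance, fun p' _ => ?_⟩
  intro K _ _ hfin
  letI : Algebra A' K :=
    ((algebraMap p'.ResidueField K).comp (algebraMap A' p'.ResidueField)).toAlgebra
  haveI : IsScalarTower A' p'.ResidueField K := IsScalarTower.of_algebraMap_eq (fun _ => rfl)
  letI : Algebra A K := ((algebraMap A' K).comp (algebraMap A A')).toAlgebra
  haveI : IsScalarTower A A' K := IsScalarTower.of_algebraMap_eq (fun _ => rfl)
  obtain ⟨e⟩ := Groth.Agent.S4749.fiber_baseChange_equiv A B A' p' K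
  have h1 : EGA4.IsNormalRing (K ⊗[A] B) :=
    Groth.Agent.H25.NormalHom.isNormalRing_tensor_field B hfib K
  exact Groth.Agent.H25.NormalElem.isNormalRing_of_ringEquiv e.symm h1

/-- Descent of geometric normality of a fibre (adapted from helper25's `S4749`). -/
theorem geomNormal_fibre_descent (A B A' : Type u) [CommRing A] [CommRing B] [CommRing A']
    [Algebra A B] [Algebra A A'] (p' : Ideal A') [p'.IsPrime]
    (hfib' : EGA4.IsGeomNormal p'.ResidueField (p'.Fiber (A' ⊗[A] B))) :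
    EGA4.IsGeomNormal (p'.comap (algebraMap A A')).ResidueField
      ((p'.comap (algebraMap A A')).Fiber B) := by
  intro K _ _ hfin
  haveI := hfin
  letI : Algebra A K := ((algebraMap (p'.comap (algebraMap A A')).ResidueField K).comp
    (algebraMap A (p'.comap (algebraMap A A')).ResidueField)).toAlgebra
  haveI : IsScalarTower A (p'.comap (algebraMap A A')).ResidueField K :=
    IsScalarTower.of_algebraMap_eq (fun _ => rfl)
  suffices h : EGA4.IsNormalRing (K ⊗[A] B) from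
    Groth.Agent.H25.NormalElem.isNormalRing_of_ringEquiv
      (Algebra.TensorProduct.cancelBaseChange A (p'.comap (algebraMap A A')).ResidueField
        (p'.comap (algebraMap A A')).ResidueField K B).symm.toRingEquiv h
  letI : Algebra (p'.comap (algebraMap A A')).ResidueField p'.ResidueField :=
    (Ideal.ResidueField.map (p'.comap (algebraMap A A')) p' (algebraMap A A') rfl).toAlgebra
  haveI : IsScalarTower A (p'.comap (algebraMap A A')).ResidueField p'.ResidueField := by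
    refine IsScalarTower.of_algebraMap_eq (fun a => ?_)
    show algebraMap A p'.ResidueField a = Ideal.ResidueField.map (p'.comap (algebraMap A A')) p'
        (algebraMap A A') rfl (algebraMap A _ a)
    rw [Ideal.ResidueField.map_algebraMap, ← IsScalarTower.algebraMap_apply]
  obtain ⟨m, hm⟩ := Ideal.exists_maximal
    (p'.ResidueField ⊗[(p'.comap (algebraMap A A')).ResidueField] K)
  haveI := hm
  letI : Field ((p'.ResidueField ⊗[(p'.comap (algebraMap A A')).ResidueField] K) ⧸ m) :=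
    Ideal.Quotient.field m
  haveI : Module.Finite p'.ResidueField
      (p'.ResidueField ⊗[(p'.comap (algebraMap A A')).ResidueField] K) := inferInstance
  haveI : Module.Finite p'.ResidueField
      ((p'.ResidueField ⊗[(p'.comap (algebraMap A A')).ResidueField] K) ⧸ m) :=
    Module.Finite.of_surjective (Ideal.Quotient.mkₐ p'.ResidueField m).toLinearMap
      (Ideal.Quotient.mkₐ_surjective p'.ResidueField m)
  have h2 : EGA4.IsNormalRing
      (((p'.ResidueField ⊗[(p'.comap (algebraMap A A')).ResidueField] K) ⧸ m)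
        ⊗[p'.ResidueField] (p'.Fiber (A' ⊗[A] B))) :=
    hfib' _ inferInstance
  obtain ⟨e⟩ := Groth.Agent.S4749.fiber_baseChange_equiv A B A' p'
    ((p'.ResidueField ⊗[(p'.comap (algebraMap A A')).ResidueField] K) ⧸ m)
  have h3 : EGA4.IsNormalRing
      (((p'.ResidueField ⊗[(p'.comap (algebraMap A A')).ResidueField] K) ⧸ m) ⊗[A] B) :=
    Groth.Agent.H25.NormalElem.isNormalRing_of_ringEquiv e h2
  letI : Algebra K ((p'.ResidueField ⊗[(p'.comap (algebraMap A A')).ResidueField] K) ⧸ m) :=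
    ((Ideal.Quotient.mk m).comp
      (Algebra.TensorProduct.includeRight (R := (p'.comap (algebraMap A A')).ResidueField)
        (A := p'.ResidueField) (B := K)).toRingHom).toAlgebra
  haveI : IsScalarTower (p'.comap (algebraMap A A')).ResidueField K
      ((p'.ResidueField ⊗[(p'.comap (algebraMap A A')).ResidueField] K) ⧸ m) := by
    refine IsScalarTower.of_algebraMap_eq (fun x => ?_)
    show algebraMap _ ((p'.ResidueField ⊗[(p'.comap (algebraMap A A')).ResidueField] K) ⧸ m) x =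
      Ideal.Quotient.mk m ((1 : p'.ResidueField) ⊗ₜ[(p'.comap (algebraMap A A')).ResidueField]
        (algebraMap _ K x))
    rw [IsScalarTower.algebraMap_apply (p'.comap (algebraMap A A')).ResidueField
      (p'.ResidueField ⊗[(p'.comap (algebraMap A A')).ResidueField] K)
      ((p'.ResidueField ⊗[(p'.comap (algebraMap A A')).ResidueField] K) ⧸ m),
      Ideal.Quotient.algebraMap_eq, Algebra.TensorProduct.algebraMap_apply']
  haveI : IsScalarTower A K
      ((p'.ResidueField ⊗[(p'.comap (algebraMap A A')).ResidueField] K) ⧸ m) := by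
    refine IsScalarTower.of_algebraMap_eq (fun a => ?_)
    rw [IsScalarTower.algebraMap_apply A (p'.comap (algebraMap A A')).ResidueField
      ((p'.ResidueField ⊗[(p'.comap (algebraMap A A')).ResidueField] K) ⧸ m),
      IsScalarTower.algebraMap_apply (p'.comap (algebraMap A A')).ResidueField K
      ((p'.ResidueField ⊗[(p'.comap (algebraMap A A')).ResidueField] K) ⧸ m)]
    rfl
  exact Groth.Agent.S4749.isNormalRing_tensor_of_tower' A K _ B h3

/-- Noetherianity of a fibre ring after a finite type base change. -/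
theorem noeth_fibre_baseChange (A B A' : Type u) [CommRing A] [CommRing B] [CommRing A']
    [Algebra A B] [Algebra A A'] [Algebra.FiniteType A A'] (p' : Ideal A') [p'.IsPrime]
    (h : IsNoetherianRing ((p'.comap (algebraMap A A')).Fiber B)) :
    IsNoetherianRing (p'.Fiber (A' ⊗[A] B)) := by
  obtain ⟨alg, -, hess, ⟨E⟩⟩ := Groth.Agent.H20.FibBCGen.core A B A' p' p'.ResidueField
  letI := alg
  haveI := hess inferInstance inferInstance
  haveI := h
  haveI := Groth.Agent.Lead.GeomRegBC.noeth_tensor (p'.comap (algebraMap A A')).ResidueField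
    ((p'.comap (algebraMap A A')).Fiber B) p'.ResidueField
  exact isNoetherianRing_of_ringEquiv _
    (E.trans (Algebra.TensorProduct.lid p'.ResidueField (p'.Fiber (A' ⊗[A] B))).toRingEquiv)

/-- Descent of Noetherianity of a fibre ring. -/
theorem noeth_fibre_descent (A B A' : Type u) [CommRing A] [CommRing B] [CommRing A']
    [Algebra A B] [Algebra A A'] (p' : Ideal A') [p'.IsPrime]
    (h : IsNoetherianRing (p'.Fiber (A' ⊗[A] B))) :
    IsNoetherianRing ((p'.comap (algebraMap A A')).Fiber B) := by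
  obtain ⟨alg, -, -, ⟨E⟩⟩ := Groth.Agent.H20.FibBCGen.core A B A' p' p'.ResidueField
  letI := alg
  haveI := h
  haveI h1 : IsNoetherianRing (p'.ResidueField ⊗[p'.ResidueField] p'.Fiber (A' ⊗[A] B)) :=
    isNoetherianRing_of_ringEquiv _
      (Algebra.TensorProduct.lid p'.ResidueField (p'.Fiber (A' ⊗[A] B))).symm.toRingEquiv
  haveI h2 : IsNoetherianRing (p'.ResidueField ⊗[(p'.comap (algebraMap A A')).ResidueField]
      (p'.comap (algebraMap A A')).Fiber B) :=
    isNoetherianRing_of_ringEquiv (p'.ResidueField ⊗[p'.ResidueField] p'.Fiber (A' ⊗[A] B)) E.symm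
  haveI h3 : IsNoetherianRing ((p'.comap (algebraMap A A')).Fiber B
      ⊗[(p'.comap (algebraMap A A')).ResidueField] p'.ResidueField) :=
    isNoetherianRing_of_ringEquiv _ (Algebra.TensorProduct.comm _ _ _).toRingEquiv
  exact Groth.Agent.H1.isNoetherianRing_of_faithfullyFlat ((p'.comap (algebraMap A A')).Fiber B)
    ((p'.comap (algebraMap A A')).Fiber B
      ⊗[(p'.comap (algebraMap A A')).ResidueField] p'.ResidueField)

theorem noeth_fiber_congr {A B : Type u} [CommRing A] [CommRing B] [Algebra A B] {p q : Ideal A}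
    [hp : p.IsPrime] [hq : q.IsPrime] (h : p = q) (H : IsNoetherianRing (p.Fiber B)) :
    IsNoetherianRing (q.Fiber B) := by
  subst h
  exact H

/-! ### scheme-level -/

variable {X Y X' Y' : Scheme.{u}}

/-- An open of a fibre with Noetherian, geometrically normal coordinate ring. -/
def GoodOpenN (f : X ⟶ Y) (y : Y) (W : (f.fiber y).Opens) : Prop :=
  letI := fibAlg f y W
  IsNoetherianRing Γ(f.fiber y, W) ∧ EGA4.IsGeomNormal (Y.residueField y) Γ(f.fiber y, W)

theorem chart_iff_N (f : X ⟶ Y) (y : Y) (V : Y.Opens) (hV : IsAffineOpen V) (hy : y ∈ V)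
    (U : X.Opens) (hU : IsAffineOpen U) (hUV : U ≤ f ⁻¹ᵁ V) (p : Ideal Γ(Y, V)) [p.IsPrime]
    (hp : (hV.primeIdealOf ⟨y, hy⟩).asIdeal = p) :
    letI := (f.appLE V U hUV).hom.toAlgebra
    (IsNoetherianRing (p.Fiber Γ(X, U)) ∧
      EGA4.IsGeomNormal p.ResidueField (p.Fiber Γ(X, U))) ↔
    GoodOpenN f y ((f.fiberι y) ⁻¹ᵁ U) := by
  subst hp
  letI := (f.appLE V U hUV).hom.toAlgebra
  letI := fibAlg f y ((f.fiberι y) ⁻¹ᵁ U)
  obtain ⟨-, σ, e, hc⟩ := Groth.Agent.H63.FibreChart.bridge f y V hV hy U hU hUV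
  constructor
  · rintro ⟨h1, h2⟩
    exact ⟨isNoetherianRing_of_ringEquiv _ e, isGeomNormal_of_ringEquiv σ e hc h2⟩
  · rintro ⟨h1, h2⟩
    refine ⟨isNoetherianRing_of_ringEquiv _ e.symm,
      isGeomNormal_of_ringEquiv σ.symm e.symm ?_ h2⟩
    intro c
    apply e.injective
    rw [e.apply_symm_apply, hc (σ.symm c), σ.apply_symm_apply]
    rfl

/-- If a fibre is covered by good affine opens then it is locally Noetherian and all its affine opens
are good. -/
theorem coverGN (f : X ⟶ Y) (y : Y)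
    (h : ∀ z : f.fiber y, ∃ W : (f.fiber y).Opens, IsAffineOpen W ∧ z ∈ W ∧ GoodOpenN f y W) :
    IsLocallyNoetherian (f.fiber y) ∧
      ∀ W : (f.fiber y).Opens, IsAffineOpen W → GoodOpenN f y W := by
  choose Wz hWaff hzW hWgood using h
  have hLN : IsLocallyNoetherian (f.fiber y) := by
    refine isLocallyNoetherian_of_affine_cover (S := fun z => ⟨Wz z, hWaff z⟩) ?_
      (fun z => (hWgood z).1)
    rw [eq_top_iff]
    intro z _
    exact TopologicalSpace.Opens.mem_iSup.mpr ⟨z, hzW z⟩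
  refine ⟨hLN, fun W hW => ?_⟩
  haveI := hLN
  haveI hNW : IsNoetherianRing Γ(f.fiber y, W) :=
    IsLocallyNoetherian.component_noetherian ⟨W, hW⟩
  refine ⟨hNW, ?_⟩
  letI := fibAlg f y W
  apply isGeomNormal_of_forall_localization
  intro q hq
  obtain ⟨z, hz, rfl⟩ := exists_point_of_prime hW q
  letI := fibAlg f y (Wz z)
  have h1 := isGeomNormal_localization (Y.residueField y)
    Γ(f.fiber y, Wz z) ((hWaff z).primeIdealOf ⟨z, hzW z⟩).asIdeal (hWgood z).2
  obtain ⟨e0, he0⟩ := exists_localization_equiv_stalk f y _ (hWaff z) z (hzW z)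
  obtain ⟨e1, he1⟩ := exists_localization_equiv_stalk f y W hW z hz
  refine isGeomNormal_of_ringEquiv (RingEquiv.refl _) (e0.trans e1.symm)
    (fun c => ?_) h1
  show e1.symm (e0 _) = _
  rw [he0 c, ← he1 c, e1.symm_apply_apply]
  rfl

/-- The affine-local normality condition. -/
def NormLocal (f : X ⟶ Y) : Prop :=
  ∀ (U : X.Opens) (V : Y.Opens) (hU : IsAffineOpen U) (hV : IsAffineOpen V) (hUV : U ≤ f ⁻¹ᵁ V),
    letI := (f.appLE V U hUV).hom.toAlgebra
    EGA4.IsNormalHom Γ(Y, V) Γ(X, U)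

/-- Affine-local normality from flatness and good fibres. -/
theorem normLocal_of_good (f : X ⟶ Y) [Flat f]
    (hfib : ∀ (y : Y) (W : (f.fiber y).Opens), IsAffineOpen W → GoodOpenN f y W) :
    NormLocal f := by
  intro U V hU hV hUV
  refine ⟨Flat.flat_appLE (f := f) hV hU hUV, fun p hp => ?_⟩
  obtain ⟨y, hy, hpy⟩ := exists_point_of_prime hV p
  obtain ⟨haff, -⟩ := Groth.Agent.H63.FibreChart.bridge f y V hV hy U hU hUV
  exact ((chart_iff_N f y V hV hy U hU hUV p hpy).mpr (hfib y _ haff)).2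

/-- Forward chart: around every point of a fibre of the base change there is a good affine open. -/
theorem fwd_chart_N {f : X ⟶ Y} {f' : X' ⟶ Y'} {g' : X' ⟶ X} {g : Y' ⟶ Y}
    [LocallyOfFiniteType g] (hc : IsPullback g' f' f g)
    (hN : ∀ y : Y, IsLocallyNoetherian (f.fiber y)) (hreg : NormLocal f) (y' : Y')
    (z' : f'.fiber y') :
    ∃ W : (f'.fiber y').Opens, IsAffineOpen W ∧ z' ∈ W ∧ GoodOpenN f' y' W := by
  have hx' : f' (f'.fiberι y' z') = y' := map_fiberι f' y' z'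
  have hcomm : f (g' (f'.fiberι y' z')) = g y' := by
    rw [← Scheme.Hom.comp_apply, hc.w, Scheme.Hom.comp_apply, hx']
  obtain ⟨_, ⟨V, hV, rfl⟩, hyV, -⟩ :=
    Y.isBasis_affineOpens.exists_subset_of_mem_open (Set.mem_univ (g y')) isOpen_univ
  have hy'V : y' ∈ g ⁻¹ᵁ V := hyV
  obtain ⟨_, ⟨V', hV', rfl⟩, hy'V', hVV'⟩ :=
    Y'.isBasis_affineOpens.exists_subset_of_mem_open hy'V (g ⁻¹ᵁ V).2
  have hxV : g' (f'.fiberι y' z') ∈ f ⁻¹ᵁ V := by
    show f (g' (f'.fiberι y' z')) ∈ V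
    rw [hcomm]
    exact hyV
  obtain ⟨_, ⟨U, hU, rfl⟩, hxU, hUV⟩ :=
    X.isBasis_affineOpens.exists_subset_of_mem_open hxV (f ⁻¹ᵁ V).2
  obtain ⟨haff, hE⟩ := exists_algEquiv_sections hc hV hV' hU hVV' hUV
  letI algB := (f.appLE V U hUV).hom.toAlgebra
  letI algA' := (g.appLE V V' hVV').hom.toAlgebra
  letI algC := (f'.appLE V' (g' ⁻¹ᵁ U ⊓ f' ⁻¹ᵁ V') inf_le_right).hom.toAlgebra
  obtain ⟨E⟩ := hE
  haveI : Algebra.FiniteType Γ(Y, V) Γ(Y', V') := g.finiteType_appLE hV hV' hVV'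
  have hR1 : EGA4.IsNormalHom Γ(Y', V') (Γ(Y', V') ⊗[Γ(Y, V)] Γ(X, U)) :=
    isNormalHom_baseChange _ _ _ (hreg U V hU hV hUV)
  have hR2 : EGA4.IsNormalHom Γ(Y', V') Γ(X', g' ⁻¹ᵁ U ⊓ f' ⁻¹ᵁ V') :=
    isNormalHom_of_algEquiv E hR1
  -- Noetherianity
  have hp : (hV.primeIdealOf ⟨g y', hyV⟩).asIdeal =
      (hV'.primeIdealOf ⟨y', hy'V'⟩).asIdeal.comap (algebraMap Γ(Y, V) Γ(Y', V')) :=
    (congrArg PrimeSpectrum.asIdeal
      (IsAffineOpen.comap_primeIdealOf_appLE (f := g) V hV V' hV' hVV' hy'V')).symm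
  obtain ⟨haffW0, -⟩ := Groth.Agent.H63.FibreChart.bridge f (g y') V hV hyV U hU hUV
  haveI := hN (g y')
  have hNW0 : IsNoetherianRing Γ(f.fiber (g y'), (f.fiberι (g y')) ⁻¹ᵁ U) :=
    IsLocallyNoetherian.component_noetherian ⟨_, haffW0⟩
  obtain ⟨-, -, e0, -⟩ := Groth.Agent.H63.FibreChart.bridge f (g y') V hV hyV U hU hUV
  have hN1 : IsNoetherianRing
      (((hV'.primeIdealOf ⟨y', hy'V'⟩).asIdeal.comap (algebraMap Γ(Y, V) Γ(Y', V'))).Fiber
        Γ(X, U)) :=
    noeth_fiber_congr hp (isNoetherianRing_of_ringEquiv _ e0.symm)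
  have hN2 := noeth_fibre_baseChange Γ(Y, V) Γ(X, U) Γ(Y', V')
    (hV'.primeIdealOf ⟨y', hy'V'⟩).asIdeal hN1
  have hN3 : IsNoetherianRing ((hV'.primeIdealOf ⟨y', hy'V'⟩).asIdeal.Fiber
      Γ(X', g' ⁻¹ᵁ U ⊓ f' ⁻¹ᵁ V')) :=
    isNoetherianRing_of_ringEquiv _
      (Algebra.TensorProduct.congr (AlgEquiv.refl (R := Γ(Y', V'))
        (A₁ := (hV'.primeIdealOf ⟨y', hy'V'⟩).asIdeal.ResidueField)) E).toRingEquiv
  have hchart := (chart_iff_N f' y' V' hV' hy'V' (g' ⁻¹ᵁ U ⊓ f' ⁻¹ᵁ V') haff inf_le_right _ rfl).mp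
    ⟨hN3, hR2.2 (hV'.primeIdealOf ⟨y', hy'V'⟩).asIdeal⟩
  obtain ⟨haffW, -⟩ := Groth.Agent.H63.FibreChart.bridge f' y' V' hV' hy'V'
    (g' ⁻¹ᵁ U ⊓ f' ⁻¹ᵁ V') haff inf_le_right
  refine ⟨(f'.fiberι y') ⁻¹ᵁ (g' ⁻¹ᵁ U ⊓ f' ⁻¹ᵁ V'), haffW, ?_, hchart⟩
  refine ⟨hxU, ?_⟩
  show f' (f'.fiberι y' z') ∈ V'
  rw [hx']
  exact hy'V'

/-- Backward chart: around every point of a fibre of `f` over `g y'` there is a good affine open. -/
theorem bwd_chart_N {f : X ⟶ Y} {f' : X' ⟶ Y'} {g' : X' ⟶ X} {g : Y' ⟶ Y}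
    (hc : IsPullback g' f' f g) (hN' : ∀ y' : Y', IsLocallyNoetherian (f'.fiber y'))
    (hreg' : NormLocal f') (y' : Y') (z : f.fiber (g y')) :
    ∃ W : (f.fiber (g y')).Opens, IsAffineOpen W ∧ z ∈ W ∧ GoodOpenN f (g y') W := by
  have hx : f (f.fiberι (g y') z) = g y' := map_fiberι f (g y') z
  obtain ⟨_, ⟨V, hV, rfl⟩, hyV, -⟩ :=
    Y.isBasis_affineOpens.exists_subset_of_mem_open (Set.mem_univ (g y')) isOpen_univ
  have hy'V : y' ∈ g ⁻¹ᵁ V := hyV
  obtain ⟨_, ⟨V', hV', rfl⟩, hy'V', hVV'⟩ :=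
    Y'.isBasis_affineOpens.exists_subset_of_mem_open hy'V (g ⁻¹ᵁ V).2
  have hxV : f.fiberι (g y') z ∈ f ⁻¹ᵁ V := by
    show f (f.fiberι (g y') z) ∈ V
    rw [hx]
    exact hyV
  obtain ⟨_, ⟨U, hU, rfl⟩, hxU, hUV⟩ :=
    X.isBasis_affineOpens.exists_subset_of_mem_open hxV (f ⁻¹ᵁ V).2
  obtain ⟨haff, hE⟩ := exists_algEquiv_sections hc hV hV' hU hVV' hUV
  letI algB := (f.appLE V U hUV).hom.toAlgebra
  letI algA' := (g.appLE V V' hVV').hom.toAlgebra
  letI algC := (f'.appLE V' (g' ⁻¹ᵁ U ⊓ f' ⁻¹ᵁ V') inf_le_right).hom.toAlgebra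
  obtain ⟨E⟩ := hE
  have hR2 : EGA4.IsNormalHom Γ(Y', V') Γ(X', g' ⁻¹ᵁ U ⊓ f' ⁻¹ᵁ V') :=
    hreg' _ V' haff hV' inf_le_right
  have hR1 : EGA4.IsNormalHom Γ(Y', V') (Γ(Y', V') ⊗[Γ(Y, V)] Γ(X, U)) :=
    isNormalHom_of_algEquiv E.symm hR2
  have hGN := geomNormal_fibre_descent Γ(Y, V) Γ(X, U) Γ(Y', V')
    (hV'.primeIdealOf ⟨y', hy'V'⟩).asIdeal (hR1.2 _)
  -- Noetherianity
  obtain ⟨haffW', -, e', -⟩ := Groth.Agent.H63.FibreChart.bridge f' y' V' hV' hy'V'
    (g' ⁻¹ᵁ U ⊓ f' ⁻¹ᵁ V') haff inf_le_right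
  haveI := hN' y'
  have hNW' : IsNoetherianRing Γ(f'.fiber y', (f'.fiberι y') ⁻¹ᵁ (g' ⁻¹ᵁ U ⊓ f' ⁻¹ᵁ V')) :=
    IsLocallyNoetherian.component_noetherian ⟨_, haffW'⟩
  have hN3 : IsNoetherianRing ((hV'.primeIdealOf ⟨y', hy'V'⟩).asIdeal.Fiber
      Γ(X', g' ⁻¹ᵁ U ⊓ f' ⁻¹ᵁ V')) := isNoetherianRing_of_ringEquiv _ e'.symm
  have hN2 : IsNoetherianRing ((hV'.primeIdealOf ⟨y', hy'V'⟩).asIdeal.Fiber
      (Γ(Y', V') ⊗[Γ(Y, V)] Γ(X, U))) :=
    isNoetherianRing_of_ringEquiv _
      (Algebra.TensorProduct.congr (AlgEquiv.refl (R := Γ(Y', V'))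
        (A₁ := (hV'.primeIdealOf ⟨y', hy'V'⟩).asIdeal.ResidueField)) E.symm).toRingEquiv
  have hN1 := noeth_fibre_descent Γ(Y, V) Γ(X, U) Γ(Y', V')
    (hV'.primeIdealOf ⟨y', hy'V'⟩).asIdeal hN2
  have hp : (hV.primeIdealOf ⟨g y', hyV⟩).asIdeal =
      (hV'.primeIdealOf ⟨y', hy'V'⟩).asIdeal.comap (algebraMap Γ(Y, V) Γ(Y', V')) :=
    (congrArg PrimeSpectrum.asIdeal
      (IsAffineOpen.comap_primeIdealOf_appLE (f := g) V hV V' hV' hVV' hy'V')).symm
  have hchart := (chart_iff_N f (g y') V hV hyV U hU hUV _ hp).mp ⟨hN1, hGN⟩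
  obtain ⟨haffW, -⟩ := Groth.Agent.H63.FibreChart.bridge f (g y') V hV hyV U hU hUV
  exact ⟨(f.fiberι (g y')) ⁻¹ᵁ U, haffW, hxU, hchart⟩

theorem main {f : X ⟶ Y} {f' : X' ⟶ Y'} {g' : X' ⟶ X} {g : Y' ⟶ Y} [Flat g]
    [LocallyOfFiniteType g] [Surjective g] (hc : IsPullback g' f' f g) :
    ((∀ y : Y, IsLocallyNoetherian (f.fiber y)) ∧ NormLocal f) ↔
      ((∀ y' : Y', IsLocallyNoetherian (f'.fiber y')) ∧ NormLocal f') := by
  constructor
  · rintro ⟨hN, hR⟩
    have hflat : Flat f := ⟨fun {V} hV {U} hU e => (hR U V hU hV e).1⟩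
    have hcov := fun y' => coverGN f' y' (fun z' => fwd_chart_N hc hN hR y' z')
    have hN' : ∀ y' : Y', IsLocallyNoetherian (f'.fiber y') := fun y' => (hcov y').1
    haveI : Flat f' := MorphismProperty.of_isPullback (P := @Flat) hc hflat
    exact ⟨hN', normLocal_of_good f' (fun y' W hW => (hcov y').2 W hW)⟩
  · rintro ⟨hN', hR'⟩
    have hflat' : Flat f' := ⟨fun {V} hV {U} hU e => (hR' U V hU hV e).1⟩
    have hcov : ∀ y : Y, IsLocallyNoetherian (f.fiber y) ∧
        ∀ W : (f.fiber y).Opens, IsAffineOpen W → GoodOpenN f y W := by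
      intro y
      obtain ⟨y', rfl⟩ := g.surjective y
      exact coverGN f (g y') (fun z => bwd_chart_N hc hN' hR' y' z)
    have hN : ∀ y : Y, IsLocallyNoetherian (f.fiber y) := fun y => (hcov y).1
    haveI := hflat'
    haveI : Flat f := flat_of_baseChange hc
    exact ⟨hN, normLocal_of_good f (fun y W hW => (hcov y).2 W hW)⟩

end Groth.Agent.H63.NormalBC
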