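import Mathlib
import Groth.Agent.H63.SmoothRegular2
import Groth.Agent.S9829
import Groth.Prelude.Def_EGA4b

/-!
# Smooth maps are normal homomorphisms
-/

set_option autoImplicit false
set_option linter.style.haveILetI false
universe u
open TensorProduct CategoryTheory AlgebraicGeometry

namespace Groth.Agent.H63.SmoothRegular

/-- A regular ring is a normal ring (in the sense of the prelude). -/
theorem isNormalRing_of_isRegularRing (R : Type u) [CommRing R] [IsRegularRing R] :
    EGA4.IsNormalRing R := by
  intro p _
  haveI : IsRegularLocalRing (Localization.AtPrime p) :=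
    IsRegularRing.isRegularLocalRing_localization p
  exact ⟨Groth.Agent.H23.isDomain_of_isRegularLocalRing _,
    Groth.Agent.S9829.result (Localization.AtPrime p)⟩

/-- A smooth ring map is a normal homomorphism. -/
theorem isNormalHom_of_smooth (R S : Type u) [CommRing R] [CommRing S] [Algebra R S]
    [Algebra.Smooth R S] : EGA4.IsNormalHom R S := by
  refine ⟨inferInstance, fun p _ => ?_⟩
  haveI : Algebra.Smooth p.ResidueField (p.Fiber S) := inferInstance
  intro k' _ _ hfin
  haveI : IsRegularRing (k' ⊗[p.ResidueField] p.Fiber S) :=
    isGeometricallyRegular_of_smooth p.ResidueField p.ResidueField (p.Fiber S)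
      (isGeometricallyRegular_self _) k' hfin
  exact isNormalRing_of_isRegularRing _

end Groth.Agent.H63.SmoothRegular
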