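import Mathlib
import Groth.Prelude.Def_AlgGrp

/-!
# Rigidity for schemes with only constant functions, part 1: Künneth and affine targets (helper63)
-/

set_option autoImplicit false
universe u
open CategoryTheory CategoryTheory.Limits AlgebraicGeometry
open MonoidalCategory CartesianMonoidalCategory

namespace Groth.Agent.H63.Rigid

/-- a morphism to an affine scheme from `P`, where `p : P ⟶ T` induces an isomorphism on global
sections and has a section `σ`, factors through `p` -/
theorem eq_comp_section {P T V : Scheme.{u}} [IsAffine V] (p : P ⟶ T) (σ : T ⟶ P)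
    (hσ : σ ≫ p = 𝟙 T) [IsIso p.appTop] (h : P ⟶ V) : h = p ≫ σ ≫ h := by
  apply ext_of_isAffine
  have h1 : p.appTop ≫ σ.appTop = 𝟙 _ := by
    rw [← Scheme.Hom.comp_appTop, hσ, Scheme.Hom.id_appTop]
  have h2 : σ.appTop ≫ p.appTop = 𝟙 _ := by
    have : σ.appTop = inv p.appTop := by
      rw [← cancel_epi p.appTop, h1, IsIso.hom_inv_id]
    rw [this, IsIso.inv_hom_id]
  rw [Scheme.Hom.comp_appTop, Scheme.Hom.comp_appTop, Category.assoc, h2, Category.comp_id]

lemma appLE_top_top {X Y : Scheme.{u}} (f : X ⟶ Y) (e : (⊤ : X.Opens) ≤ f ⁻¹ᵁ ⊤) :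
    f.appLE ⊤ ⊤ e = f.appTop :=
  (Scheme.Hom.app_eq_appLE f (U := ⊤)).symm

variable {k : Type u} [Field k]

/-- Künneth: if `O(X) = k` and `X` is qcqs then `O(X × T) = O(T)` for affine `T` -/
theorem isIso_snd_appTop (X T : Over (Spec (CommRingCat.of k))) [QuasiCompact X.hom]
    [QuasiSeparated X.hom]
    (hX : Function.Bijective ((Scheme.ΓSpecIso (CommRingCat.of k)).inv ≫ X.hom.appTop).hom)
    [IsAffine T.left] : IsIso (snd X T).left.appTop := by
  haveI : Subsingleton ↥(Spec (CommRingCat.of k)) :=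
    inferInstanceAs (Subsingleton (PrimeSpectrum k))
  have H : IsPullback (pullback.fst X.hom T.hom) (pullback.snd X.hom T.hom) X.hom T.hom :=
    IsPullback.of_hasPullback _ _
  haveI : CompactSpace X.left := QuasiCompact.compactSpace_of_compactSpace X.hom
  haveI : QuasiSeparatedSpace X.left := quasiSeparatedSpace_of_quasiSeparated X.hom
  have hUY : (⊤ : (pullback X.hom T.hom).Opens) =
      pullback.fst X.hom T.hom ⁻¹ᵁ ⊤ ⊓ pullback.snd X.hom T.hom ⁻¹ᵁ ⊤ := by simp
  have hiso := isIso_pushoutSection_of_isQuasiSeparated_of_flat_right H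
    (US := ⊤) (UT := ⊤) (UX := ⊤) (by simp) (by simp) hUY (isAffineOpen_top _) (isAffineOpen_top _)
    isCompact_univ (isQuasiSeparated_univ)
  have hpo := (isIso_pushoutSection_iff H _ _ hUY).mp hiso
  haveI : IsIso (X.hom.appLE ⊤ ⊤ (by simp)) := by
    have : X.hom.appLE ⊤ ⊤ (by simp) = X.hom.appTop := appLE_top_top _ _
    rw [this]
    have h1 : IsIso ((Scheme.ΓSpecIso (CommRingCat.of k)).inv ≫ X.hom.appTop) :=
      (ConcreteCategory.isIso_iff_bijective _).mpr hX
    exact (isIso_comp_left_iff _ _).mp h1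
  have h3 := hpo.isIso_inr_of_isIso
  have : (pullback.snd X.hom T.hom).appLE ⊤ ⊤ (by simp) = (pullback.snd X.hom T.hom).appTop :=
    appLE_top_top _ _
  rw [this] at h3
  exact h3

end Groth.Agent.H63.Rigid
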