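import Mathlib
import Groth.Agent.H63.Rigid1

/-!
# Rigidity, part 2: the infinitesimal step (helper63)
-/

set_option autoImplicit false
universe u
open CategoryTheory CategoryTheory.Limits AlgebraicGeometry
open MonoidalCategory CartesianMonoidalCategory

namespace Groth.Agent.H63.Rigid

section Cat

variable {C : Type*} [Category C] [CartesianMonoidalCategory C]

/-- a square is cartesian as soon as it is so on points. -/
theorem isPullback_of_pts {C : Type*} [Category C] {P₀ X₀ Y₀ Z₀ : C} {p₁ : P₀ ⟶ X₀}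
    {p₂ : P₀ ⟶ Y₀} {f : X₀ ⟶ Z₀} {g : Y₀ ⟶ Z₀} (w : p₁ ≫ f = p₂ ≫ g)
    (h : ∀ (T : C) (x : T ⟶ X₀) (y : T ⟶ Y₀), x ≫ f = y ≫ g →
      ∃! p : T ⟶ P₀, p ≫ p₁ = x ∧ p ≫ p₂ = y) : IsPullback p₁ p₂ f g :=
  ⟨⟨w⟩, ⟨PullbackCone.IsLimit.mk w (fun s => (h _ s.fst s.snd s.condition).choose)
    (fun s => (h _ s.fst s.snd s.condition).choose_spec.1.1)
    (fun s => (h _ s.fst s.snd s.condition).choose_spec.1.2)
    (fun s m h1 h2 => (h _ s.fst s.snd s.condition).choose_spec.2 m ⟨h1, h2⟩)⟩⟩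

theorem sq_whiskerLeft_snd (X : C) {T₀ T : C} (j : T₀ ⟶ T) :
    IsPullback (snd X T₀) (X ◁ j) j (snd X T) := by
  refine isPullback_of_pts (whiskerLeft_snd X j).symm ?_
  intro T'' u v huv
  refine ⟨lift (v ≫ fst X T) u, ⟨lift_snd _ _, ?_⟩, ?_⟩
  · apply CartesianMonoidalCategory.hom_ext
    · rw [Category.assoc, whiskerLeft_fst, lift_fst]
    · rw [Category.assoc, whiskerLeft_snd, lift_snd_assoc, huv]
  · rintro q' ⟨hq1, hq2⟩
    apply CartesianMonoidalCategory.hom_ext
    · rw [lift_fst, ← hq2, Category.assoc, whiskerLeft_fst]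
    · rw [lift_snd, hq1]

end Cat

variable {k : Type u} [Field k]

/-- the section of `snd X T` defined by a rational point of `X` -/
noncomputable abbrev sec {X : Over (Spec (CommRingCat.of k))}
    (x₀ : 𝟙_ (Over (Spec (CommRingCat.of k))) ⟶ X) (T : Over (Spec (CommRingCat.of k))) :
    T ⟶ X ⊗ T := lift (toUnit T ≫ x₀) (𝟙 T)

lemma comp_sec {X : Over (Spec (CommRingCat.of k))}
    (x₀ : 𝟙_ (Over (Spec (CommRingCat.of k))) ⟶ X) {T T' : Over (Spec (CommRingCat.of k))}
    (t : T' ⟶ T) : t ≫ sec x₀ T = sec x₀ T' ≫ (X ◁ t) := by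
  apply CartesianMonoidalCategory.hom_ext
  · rw [Category.assoc, lift_fst, Category.assoc, whiskerLeft_fst, lift_fst, ← Category.assoc,
      toUnit_unique (t ≫ toUnit T) (toUnit T')]
  · rw [Category.assoc, lift_snd, Category.assoc, whiskerLeft_snd, lift_snd_assoc,
      Category.comp_id, Category.id_comp]

variable (X : Over (Spec (CommRingCat.of k))) [QuasiCompact X.hom] [QuasiSeparated X.hom]
  (hX : Function.Bijective ((Scheme.ΓSpecIso (CommRingCat.of k)).inv ≫ X.hom.appTop).hom)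
  (x₀ : 𝟙_ (Over (Spec (CommRingCat.of k))) ⟶ X)

include hX in
/-- a morphism `X × T ⟶ Z`, `T` affine, with image in an affine open factors through `T` -/
theorem eq_of_range_subset_affine {T Z : Over (Spec (CommRingCat.of k))} [IsAffine T.left]
    (h : X ⊗ T ⟶ Z) (V : Z.left.Opens) (hV : IsAffineOpen V) (hr : ∀ p, h.left p ∈ V) :
    h = snd X T ≫ sec x₀ T ≫ h := by
  haveI := isIso_snd_appTop X T hX
  apply Over.OverMorphism.ext
  have hr' : Set.range h.left ⊆ Set.range V.ι := by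
    rw [Scheme.Opens.range_ι]
    rintro _ ⟨p, rfl⟩
    exact hr p
  let h' : (X ⊗ T).left ⟶ V.toScheme := IsOpenImmersion.lift V.ι h.left hr'
  have hh' : h' ≫ V.ι = h.left := IsOpenImmersion.lift_fac _ _ _
  haveI : IsAffine V.toScheme := hV
  have key := eq_comp_section (snd X T).left (sec x₀ T).left (by
    rw [← Over.comp_left, lift_snd]; rfl) h'
  simp only [Over.comp_left]
  rw [← hh']
  calc h' ≫ V.ι = ((snd X T).left ≫ (sec x₀ T).left ≫ h') ≫ V.ι := by rw [← key]
    _ = _ := by simp only [Category.assoc]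

include hX in
/-- the infinitesimal step: agreement over a one-point `T₀ ⟶ T` surjective, `T` affine -/
theorem eq_of_eq_on_point {T₀ T Z : Over (Spec (CommRingCat.of k))} [IsAffine T.left]
    (j : T₀ ⟶ T) [Surjective j.left] [Subsingleton T₀.left] (t₀ : T₀.left)
    [IsSeparated Z.hom] (h : X ⊗ T ⟶ Z)
    (heq : (X ◁ j) ≫ h = (X ◁ j) ≫ snd X T ≫ sec x₀ T ≫ h) :
    h = snd X T ≫ sec x₀ T ≫ h := by
  set z : Z.left := (j ≫ sec x₀ T ≫ h).left t₀ with hz
  obtain ⟨_, ⟨V, hV, rfl⟩, hzV, -⟩ :=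
    Z.left.isBasis_affineOpens.exists_subset_of_mem_open (Set.mem_univ z) isOpen_univ
  refine eq_of_range_subset_affine X hX x₀ h V hV ?_
  haveI : Surjective (X ◁ j).left := by
    have sq : IsPullback (snd X T₀).left (X ◁ j).left j.left (snd X T).left :=
      (sq_whiskerLeft_snd X j).map (Over.forget _)
    exact MorphismProperty.of_isPullback (P := @Surjective) sq inferInstance
  intro p
  obtain ⟨p₀, rfl⟩ := (X ◁ j).left.surjective p
  have e1 : (X ◁ j) ≫ h = snd X T₀ ≫ j ≫ sec x₀ T ≫ h := by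
    rw [heq, ← Category.assoc, whiskerLeft_snd, Category.assoc]
  have e2 := congrArg (fun m => m.left p₀) e1
  simp only [Over.comp_left, Scheme.Hom.comp_apply] at e2
  rw [e2]
  have e3 : (snd X T₀).left p₀ = t₀ := Subsingleton.elim _ _
  rw [e3]
  have e4 : z = h.left ((sec x₀ T).left (j.left t₀)) := by
    rw [hz]
    simp only [Over.comp_left, Scheme.Hom.comp_apply]
  rw [← e4]
  exact hzV

end Groth.Agent.H63.Rigid
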