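import Mathlib

/-!
# Rigidity, part 3: commutative algebra (Krull intersection, infinitesimal neighbourhoods)
(helper63)
-/

set_option autoImplicit false
universe u

namespace Groth.Agent.H63.Rigid

open IsLocalRing

/-- the spectrum of `A ⧸ m ^ (n+1)`, `A` local, is a point -/
theorem subsingleton_primeSpectrum_quot (A : Type u) [CommRing A] [IsLocalRing A] (n : ℕ) :
    Subsingleton (PrimeSpectrum (A ⧸ maximalIdeal A ^ (n + 1))) := by
  refine ⟨fun q₁ q₂ => ?_⟩
  have key : ∀ q : PrimeSpectrum (A ⧸ maximalIdeal A ^ (n + 1)),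
      q.asIdeal.comap (Ideal.Quotient.mk (maximalIdeal A ^ (n + 1))) = maximalIdeal A := by
    intro q
    have hq : (q.asIdeal.comap (Ideal.Quotient.mk (maximalIdeal A ^ (n + 1)))).IsPrime :=
      Ideal.comap_isPrime _ _
    apply le_antisymm (IsLocalRing.le_maximalIdeal hq.ne_top)
    apply hq.le_of_pow_le (n := n + 1)
    intro a ha
    rw [Ideal.mem_comap, Ideal.Quotient.eq_zero_iff_mem.mpr ha]
    exact zero_mem _
  apply PrimeSpectrum.ext
  apply Ideal.comap_injective_of_surjective (Ideal.Quotient.mk (maximalIdeal A ^ (n + 1)))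
    Ideal.Quotient.mk_surjective
  rw [key q₁, key q₂]

/-- Krull: an ideal of a Noetherian ring dying in all infinitesimal neighbourhoods of a prime
dies in a basic open neighbourhood -/
theorem exists_away_of_forall_mem_pow (D : Type u) [CommRing D] [IsNoetherianRing D]
    (p : Ideal D) [p.IsPrime] (I : Ideal D)
    (h : ∀ n : ℕ, ∀ a ∈ I,
      algebraMap D (Localization.AtPrime p) a ∈ maximalIdeal (Localization.AtPrime p) ^ (n + 1)) :
    ∃ s : D, s ∉ p ∧ ∀ a ∈ I, algebraMap D (Localization.Away s) a = 0 := by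
  classical
  haveI : IsNoetherianRing (Localization.AtPrime p) :=
    IsLocalization.isNoetherianRing p.primeCompl _ inferInstance
  have hbot : ⨅ i, maximalIdeal (Localization.AtPrime p) ^ i = ⊥ :=
    Ideal.iInf_pow_eq_bot_of_isLocalRing _ (maximalIdeal.isMaximal _).ne_top
  have key : ∀ a ∈ I, ∃ s : D, s ∉ p ∧ s * a = 0 := by
    intro a ha
    have h0 : algebraMap D (Localization.AtPrime p) a = 0 := by
      have : algebraMap D (Localization.AtPrime p) a ∈
          ⨅ i, maximalIdeal (Localization.AtPrime p) ^ i := by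
        rw [Ideal.mem_iInf]
        intro i
        cases i with
        | zero => simp
        | succ n => exact h n a ha
      rw [hbot] at this
      exact this
    obtain ⟨m, hm⟩ := (IsLocalization.map_eq_zero_iff p.primeCompl _ a).mp h0
    exact ⟨m.1, m.2, hm⟩
  choose! sf hsf using key
  obtain ⟨G, hG⟩ := (isNoetherianRing_iff_ideal_fg D).mp inferInstance I
  have hGI : ∀ g ∈ G, g ∈ I := fun g hg => hG ▸ Ideal.subset_span hg
  refine ⟨∏ g ∈ G, sf g, ?_, ?_⟩
  · intro hmem
    obtain ⟨g, hg, hgp⟩ := (Ideal.IsPrime.prod_mem_iff (hp := ‹p.IsPrime›)).mp hmem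
    exact (hsf g (hGI g hg)).1 hgp
  · intro a ha
    rw [IsLocalization.map_eq_zero_iff (Submonoid.powers (∏ g ∈ G, sf g))]
    refine ⟨⟨_, Submonoid.mem_powers _⟩, ?_⟩
    show (∏ g ∈ G, sf g) * a = 0
    rw [← hG] at ha
    refine Submodule.span_induction ?_ ?_ ?_ ?_ ha
    · intro g hg
      rw [← Finset.mul_prod_erase G sf hg, mul_comm (sf g), mul_assoc, (hsf g (hGI g hg)).2,
        mul_zero]
    · exact mul_zero _
    · intro x y _ _ hx hy
      rw [mul_add, hx, hy, add_zero]
    · intro c x _ hx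
      rw [smul_eq_mul, mul_left_comm, hx, mul_zero]

end Groth.Agent.H63.Rigid
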