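import Mathlib
import Groth.Agent.H63.Rigid2
import Groth.Agent.H63.Rigid3
import Groth.Agent.H93.Transp3
import Groth.Agent.H37.SepPts3

/-!
# Rigidity, part 4: the rigidity lemma for schemes with only constant functions (helper63)

`rigidity`: `X` qcqs over a field `k` with `O(X) = k` and a rational point `x₀`, `Y` locally
Noetherian and connected with a rational point `y₀`, `Z` separated, `f : X × Y ⟶ Z` constant on
`X × y₀`.  Then `f(x, y) = f(x₀, y)`.
-/

set_option autoImplicit false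
universe u
open CategoryTheory CategoryTheory.Limits AlgebraicGeometry
open MonoidalCategory CartesianMonoidalCategory
open Groth.Agent.H93.Centre Groth.Agent.H93.Transp

namespace Groth.Agent.H63.Rigid

variable {k : Type u} [Field k]
variable {X Y Z : Over (Spec (CommRingCat.of k))}
  (x₀ : 𝟙_ (Over (Spec (CommRingCat.of k))) ⟶ X) (f : X ⊗ Y ⟶ Z)

/-- `f(x, t) = f(x₀, t)` over `T` -/
def Good {T : Over (Spec (CommRingCat.of k))} (t : T ⟶ Y) : Prop :=
  (X ◁ t) ≫ f = snd X T ≫ t ≫ sec x₀ Y ≫ f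

variable {x₀ f}

lemma Good.comp {T T' : Over (Spec (CommRingCat.of k))} {t : T ⟶ Y} (ht : Good x₀ f t)
    (s : T' ⟶ T) : Good x₀ f (s ≫ t) := by
  unfold Good at *
  rw [MonoidalCategory.whiskerLeft_comp, Category.assoc, ht, ← Category.assoc, whiskerLeft_snd,
    Category.assoc, Category.assoc]

lemma good_iff_sec {T : Over (Spec (CommRingCat.of k))} (t : T ⟶ Y) :
    Good x₀ f t ↔ (X ◁ t) ≫ f = snd X T ≫ sec x₀ T ≫ (X ◁ t) ≫ f := by
  unfold Good
  rw [← Category.assoc (sec x₀ T), ← comp_sec, Category.assoc]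

variable (x₀ f)

/-- the good locus is a closed subscheme of `Y` -/
theorem exists_goodLocus [IsSeparated Z.hom] :
    ∃ (W : Over (Spec (CommRingCat.of k))) (incl : W ⟶ Y), IsClosedImmersion incl.left ∧
      ∀ (T : Over (Spec (CommRingCat.of k))) (t : T ⟶ Y),
        (∃ z : T ⟶ W, z ≫ incl = t) ↔ Good x₀ f t := by
  obtain ⟨W, incl, hcl, hW⟩ := eq_representable (K := k) (Y := Y) (X := X) (Z := Z)
    (fun T y x => lift x y ≫ f) (fun T y _ => y ≫ sec x₀ Y ≫ f)
    (fun T T' h y x => by rw [← Category.assoc, comp_lift])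
    (fun T T' h y x => by rw [Category.assoc])
  refine ⟨W, incl, hcl, fun T t => ?_⟩
  rw [hW T t]
  constructor
  · intro H
    have h1 := H (X ⊗ T) (snd X T) (fst X T)
    rw [Category.assoc] at h1
    unfold Good
    rw [← h1]
    congr 1
  · intro H T' s x
    have e : lift x (s ≫ t) = lift x s ≫ (X ◁ t) := by
      apply CartesianMonoidalCategory.hom_ext
      · rw [lift_fst, Category.assoc, whiskerLeft_fst, lift_fst]
      · rw [lift_snd, Category.assoc, whiskerLeft_snd, lift_snd_assoc]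
    unfold Good at H
    rw [e, Category.assoc, H, lift_snd_assoc, Category.assoc]

variable [QuasiCompact X.hom] [QuasiSeparated X.hom]
  (hX : Function.Bijective ((Scheme.ΓSpecIso (CommRingCat.of k)).inv ≫ X.hom.appTop).hom)

include hX in
/-- goodness propagates from a point to an affine scheme with that single point -/
theorem good_of_good_point [IsSeparated Z.hom] {T₀ T : Over (Spec (CommRingCat.of k))}
    [IsAffine T.left] (j : T₀ ⟶ T) [Surjective j.left] [Subsingleton T₀.left] (t₀ : T₀.left)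
    (t : T ⟶ Y) (h0 : Good x₀ f (j ≫ t)) : Good x₀ f t := by
  rw [good_iff_sec]
  refine eq_of_eq_on_point X hX x₀ j t₀ ((X ◁ t) ≫ f) ?_
  unfold Good at h0
  calc (X ◁ j) ≫ (X ◁ t) ≫ f = (X ◁ (j ≫ t)) ≫ f := by
        rw [MonoidalCategory.whiskerLeft_comp, Category.assoc]
    _ = snd X T₀ ≫ (j ≫ t) ≫ sec x₀ Y ≫ f := h0
    _ = (X ◁ j) ≫ snd X T ≫ sec x₀ T ≫ (X ◁ t) ≫ f := by
        rw [← Category.assoc (sec x₀ T), ← comp_sec, whiskerLeft_snd_assoc]
        simp only [Category.assoc]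

include hX in
/-- the infinitesimal step in terms of algebras -/
theorem exists_factor_of_point [IsSeparated Z.hom]
    {W : Over (Spec (CommRingCat.of k))} (incl : W ⟶ Y) [IsClosedImmersion incl.left]
    (hW : ∀ (T : Over (Spec (CommRingCat.of k))) (t : T ⟶ Y),
      (∃ z : T ⟶ W, z ≫ incl = t) ↔ Good x₀ f t)
    {D R κ : Type u} [CommRing D] [Algebra k D] [CommRing R] [Algebra k R] [Field κ] [Algebra k κ]
    (w : SpecO k D ⟶ Y) (θ : D →ₐ[k] R) (ρ : R →ₐ[k] κ) [Subsingleton (PrimeSpectrum R)]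
    (hκ : ∀ pt, (SpecO.map (ρ.comp θ) ≫ w).left pt ∈ Set.range incl.left) :
    ∃ x' : SpecO k R ⟶ W, SpecO.map θ ≫ w = x' ≫ incl := by
  haveI : Subsingleton ↥(SpecO k κ).left := inferInstanceAs (Subsingleton (PrimeSpectrum κ))
  let pt₀ : ↥(SpecO k κ).left := (⟨⊥, Ideal.isPrime_bot⟩ : PrimeSpectrum κ)
  haveI : Surjective (SpecO.map ρ).left :=
    ⟨fun q => ⟨pt₀, Subsingleton.elim (α := PrimeSpectrum R) _ _⟩⟩
  haveI : IsAffine (SpecO k R).left := inferInstanceAs (IsAffine (Spec (CommRingCat.of R)))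
  have h0 : Good x₀ f (SpecO.map ρ ≫ SpecO.map θ ≫ w) := by
    rw [← hW]
    haveI : IsReduced (SpecO k κ).left :=
      inferInstanceAs (IsReduced (Spec (CommRingCat.of κ)))
    obtain ⟨z₀, hz₀⟩ := Groth.Agent.H37.SepPts.exists_factor_of_range_subset' incl.left
      (SpecO.map ρ ≫ SpecO.map θ ≫ w).left (fun pt => by
        rw [← Category.assoc, ← SpecO.map_comp]
        exact hκ pt)
    exact ⟨Over.homMk z₀ (by rw [← Over.w incl, ← Category.assoc, hz₀, Over.w]),
      Over.OverMorphism.ext hz₀⟩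
  have hgood : Good x₀ f (SpecO.map θ ≫ w) :=
    good_of_good_point x₀ f hX (SpecO.map ρ) pt₀ _ h0
  obtain ⟨x', hx'⟩ := (hW _ _).mpr hgood
  exact ⟨x', hx'.symm⟩

include hX in
/-- the good locus is open: the Krull intersection argument -/
theorem exists_open_good [IsSeparated Z.hom] [IsLocallyNoetherian Y.left]
    {W : Over (Spec (CommRingCat.of k))} (incl : W ⟶ Y) [IsClosedImmersion incl.left]
    (hW : ∀ (T : Over (Spec (CommRingCat.of k))) (t : T ⟶ Y),
      (∃ z : T ⟶ W, z ≫ incl = t) ↔ Good x₀ f t)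
    (y : Y.left) (hy : y ∈ Set.range incl.left) :
    ∃ (T : Over (Spec (CommRingCat.of k))) (t : T ⟶ Y),
      IsOpenImmersion t.left ∧ y ∈ Set.range t.left ∧ Good x₀ f t := by
  obtain ⟨_, ⟨W₀, hW₀, rfl⟩, hyW, -⟩ :=
    Y.left.isBasis_affineOpens.exists_subset_of_mem_open (Set.mem_univ y) isOpen_univ
  replace hW₀ : IsAffineOpen W₀ := hW₀
  obtain ⟨alg, w, hw⟩ := exists_specO_of_hom Y Γ(Y.left, W₀) hW₀.fromSpec
  letI := alg
  haveI : IsNoetherianRing Γ(Y.left, W₀) :=
    IsLocallyNoetherian.component_noetherian ⟨W₀, hW₀⟩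
  let P : PrimeSpectrum Γ(Y.left, W₀) := hW₀.primeIdealOf ⟨y, hyW⟩
  have hP : hW₀.fromSpec P = y := hW₀.fromSpec_primeIdealOf ⟨y, hyW⟩
  haveI : P.asIdeal.IsPrime := P.isPrime
  obtain ⟨I, hI⟩ := exists_factorIdeal incl w
  -- the infinitesimal neighbourhoods
  have hn : ∀ n : ℕ, ∀ a ∈ I, algebraMap Γ(Y.left, W₀) (Localization.AtPrime P.asIdeal) a ∈
      IsLocalRing.maximalIdeal (Localization.AtPrime P.asIdeal) ^ (n + 1) := by
    intro n
    letI : Field (Localization.AtPrime P.asIdeal ⧸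
        IsLocalRing.maximalIdeal (Localization.AtPrime P.asIdeal)) := Ideal.Quotient.field _
    let θ : Γ(Y.left, W₀) →ₐ[k] (Localization.AtPrime P.asIdeal ⧸
        IsLocalRing.maximalIdeal (Localization.AtPrime P.asIdeal) ^ (n + 1)) :=
      (Ideal.Quotient.mkₐ k _).comp
        (IsScalarTower.toAlgHom k Γ(Y.left, W₀) (Localization.AtPrime P.asIdeal))
    let ρ : (Localization.AtPrime P.asIdeal ⧸
        IsLocalRing.maximalIdeal (Localization.AtPrime P.asIdeal) ^ (n + 1)) →ₐ[k]
        (Localization.AtPrime P.asIdeal ⧸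
          IsLocalRing.maximalIdeal (Localization.AtPrime P.asIdeal)) :=
      Ideal.Quotient.factorₐ k (Ideal.pow_le_self (Nat.succ_ne_zero n))
    haveI hsub : Subsingleton (PrimeSpectrum (Localization.AtPrime P.asIdeal ⧸
        IsLocalRing.maximalIdeal (Localization.AtPrime P.asIdeal) ^ (n + 1))) :=
      subsingleton_primeSpectrum_quot _ n
    -- the closed point maps to `y`
    have hpt : ∀ pt, (SpecO.map (ρ.comp θ) ≫ w).left pt ∈ Set.range incl.left := by
      intro pt
      have e1 : (SpecO.map (ρ.comp θ) ≫ w).left =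
          Spec.map (CommRingCat.ofHom (ρ.comp θ).toRingHom) ≫ hW₀.fromSpec := by
        rw [Over.comp_left, SpecO.map_left, hw]
      rw [e1]
      refine (congrArg (· ∈ Set.range incl.left) ?_).mpr hy
      refine (Scheme.Hom.comp_apply _ _ _).trans ?_
      rw [← hP]
      congr 1
      apply PrimeSpectrum.ext
      show Ideal.comap (ρ.comp θ).toRingHom (pt : PrimeSpectrum (Localization.AtPrime P.asIdeal ⧸
        IsLocalRing.maximalIdeal (Localization.AtPrime P.asIdeal))).asIdeal = P.asIdeal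
      haveI := (pt : PrimeSpectrum (Localization.AtPrime P.asIdeal ⧸
        IsLocalRing.maximalIdeal (Localization.AtPrime P.asIdeal))).isPrime
      rw [Ideal.eq_bot_of_prime (pt : PrimeSpectrum (Localization.AtPrime P.asIdeal ⧸
        IsLocalRing.maximalIdeal (Localization.AtPrime P.asIdeal))).asIdeal]
      ext d
      rw [Ideal.mem_comap, Ideal.mem_bot,
        ← IsLocalization.AtPrime.to_map_mem_maximal_iff (Localization.AtPrime P.asIdeal)
          P.asIdeal d]
      exact Ideal.Quotient.eq_zero_iff_mem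
    have h2 := (hI _ θ).mp (exists_factor_of_point x₀ f hX incl hW w θ ρ hpt)
    intro a ha
    have h3 := h2 ha
    rw [RingHom.mem_ker] at h3
    exact Ideal.Quotient.eq_zero_iff_mem.mp h3
  obtain ⟨s, hs, hzero⟩ := exists_away_of_forall_mem_pow Γ(Y.left, W₀) P.asIdeal I hn
  let θs : Γ(Y.left, W₀) →ₐ[k] Localization.Away s :=
    IsScalarTower.toAlgHom k Γ(Y.left, W₀) (Localization.Away s)
  obtain ⟨x', hx'⟩ := (hI _ θs).mpr (fun a ha => by
    rw [RingHom.mem_ker]
    exact hzero a ha)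
  refine ⟨SpecO k (Localization.Away s), SpecO.map θs ≫ w, ?_, ?_, (hW _ _).mp ⟨x', hx'.symm⟩⟩
  · rw [Over.comp_left, SpecO.map_left, hw]
    haveI : IsOpenImmersion (Spec.map (CommRingCat.ofHom θs.toRingHom)) :=
      inferInstanceAs (IsOpenImmersion (Spec.map (CommRingCat.ofHom
        (algebraMap Γ(Y.left, W₀) (Localization.Away s)))))
    haveI : IsOpenImmersion hW₀.fromSpec := hW₀.isOpenImmersion_fromSpec
    infer_instance
  · have hPs : P ∈ Set.range (PrimeSpectrum.comap (algebraMap Γ(Y.left, W₀) (Localization.Away s))) := by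
      rw [PrimeSpectrum.localization_away_comap_range (Localization.Away s) s]
      exact hs
    obtain ⟨P', hP'⟩ := hPs
    refine ⟨P', ?_⟩
    rw [Over.comp_left, SpecO.map_left, hw]
    refine (Scheme.Hom.comp_apply _ _ _).trans ?_
    rw [← hP]
    congr 1

include hX in
/-- **Rigidity lemma** for schemes with only constant global functions. -/
theorem rigidity [IsSeparated Z.hom] [IsLocallyNoetherian Y.left] [ConnectedSpace Y.left]
    (y₀ : 𝟙_ (Over (Spec (CommRingCat.of k))) ⟶ Y) (hf : Good x₀ f y₀) :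
    f = snd X Y ≫ sec x₀ Y ≫ f := by
  obtain ⟨W, incl, hcl, hW⟩ := exists_goodLocus x₀ f
  haveI := hcl
  have hclosed : IsClosed (Set.range incl.left) := incl.left.isClosedEmbedding.isClosed_range
  have hopen : IsOpen (Set.range incl.left) := by
    rw [isOpen_iff_forall_mem_open]
    intro y hy
    obtain ⟨T, t, hto, hyt, hgood⟩ := exists_open_good x₀ f hX incl hW y hy
    haveI := hto
    refine ⟨Set.range t.left, ?_, t.left.isOpenEmbedding.isOpen_range, hyt⟩
    obtain ⟨z, hz⟩ := (hW T t).mpr hgood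
    rintro _ ⟨q, rfl⟩
    refine ⟨z.left q, ?_⟩
    rw [← Scheme.Hom.comp_apply, ← Over.comp_left, hz]
  have hne : (Set.range incl.left).Nonempty := by
    obtain ⟨z, hz⟩ := (hW _ y₀).mpr hf
    let pt : ↥(𝟙_ (Over (Spec (CommRingCat.of k)))).left := IsLocalRing.closedPoint k
    refine ⟨y₀.left pt, z.left pt, ?_⟩
    rw [← Scheme.Hom.comp_apply, ← Over.comp_left, hz]
  have huniv : Set.range incl.left = Set.univ :=
    (isClopen_iff.mp ⟨hclosed, hopen⟩).resolve_left hne.ne_empty
  apply Over.OverMorphism.ext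
  apply Scheme.hom_ext_of_forall
  intro q
  have hy : (snd X Y).left q ∈ Set.range incl.left := by rw [huniv]; trivial
  obtain ⟨T, t, hto, hyt, hgood⟩ := exists_open_good x₀ f hX incl hW _ hy
  haveI := hto
  refine ⟨(snd X Y).left ⁻¹ᵁ t.left.opensRange, hyt, ?_⟩
  set U : (X ⊗ Y).left.Opens := (snd X Y).left ⁻¹ᵁ t.left.opensRange with hU
  let r : U.toScheme ⟶ T.left := IsOpenImmersion.lift t.left (U.ι ≫ (snd X Y).left) (by
    rintro _ ⟨u, rfl⟩
    exact u.2)
  have hr : r ≫ t.left = U.ι ≫ (snd X Y).left := IsOpenImmersion.lift_fac _ _ _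
  let TU : Over (Spec (CommRingCat.of k)) := Over.mk (U.ι ≫ (X ⊗ Y).hom)
  let u : TU ⟶ X ⊗ Y := Over.homMk U.ι rfl
  let r' : TU ⟶ T := Over.homMk r (by
    show r ≫ T.hom = U.ι ≫ (X ⊗ Y).hom
    rw [← Over.w t, ← Category.assoc, hr, Category.assoc, Over.w])
  have hur : u ≫ snd X Y = r' ≫ t := Over.OverMorphism.ext hr.symm
  have hg := hgood.comp r'
  unfold Good at hg
  have e : u = lift (u ≫ fst X Y) (𝟙 TU) ≫ (X ◁ (r' ≫ t)) := by
    apply CartesianMonoidalCategory.hom_ext
    · rw [Category.assoc, whiskerLeft_fst, lift_fst]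
    · rw [Category.assoc, whiskerLeft_snd, lift_snd_assoc, Category.id_comp, hur]
  have key : u ≫ f = u ≫ snd X Y ≫ sec x₀ Y ≫ f := by
    conv_lhs => rw [e]
    rw [Category.assoc, hg, lift_snd_assoc, Category.id_comp, ← hur, Category.assoc]
  exact congrArg (fun m => m.left) key

end Groth.Agent.H63.Rigid
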