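import Mathlib

/-!
# Points of an étale scheme over a field are open (helper63)
-/

set_option autoImplicit false
set_option linter.style.haveILetI false
universe u
open CategoryTheory CategoryTheory.Limits AlgebraicGeometry Opposite TopologicalSpace

namespace Groth.Agent.H63.EtalePt

theorem isOpen_singleton_of_etale {k : Type u} [Field k] {Y : Scheme.{u}}
    (g : Y ⟶ Spec (CommRingCat.of k)) [Etale g] (y : Y) : IsOpen ({y} : Set Y) := by
  obtain ⟨V, hV, hyV, -⟩ := exists_isAffineOpen_mem_and_subset (x := y) (U := ⊤) trivial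
  have h1 : (g.appLE ⊤ V (fun _ _ => trivial)).hom.Etale :=
    HasRingHomProperty.appLE @Etale g inferInstance ⟨⊤, isAffineOpen_top _⟩ ⟨V, hV⟩ _
  let β : CommRingCat.of k ⟶ Γ(Y, V) :=
    (Scheme.ΓSpecIso (CommRingCat.of k)).inv ≫ g.appLE ⊤ V (fun _ _ => trivial)
  have h2 : β.hom.Etale := by
    have : β.hom = (g.appLE ⊤ V (fun _ _ => trivial)).hom.comp
        (Scheme.ΓSpecIso (CommRingCat.of k)).symm.commRingCatIsoToRingEquiv.toRingHom := rfl
    rw [this]
    exact RingHom.Etale.stableUnderComposition _ _ (RingHom.Etale.of_bijective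
      (Scheme.ΓSpecIso (CommRingCat.of k)).symm.commRingCatIsoToRingEquiv.bijective) h1
  letI : Algebra k Γ(Y, V) := β.hom.toAlgebra
  haveI : Algebra.Etale k Γ(Y, V) := h2
  haveI : Module.Finite k Γ(Y, V) := by
    exact Algebra.FormallyUnramified.finite_of_free k Γ(Y, V)
  haveI : IsArtinianRing Γ(Y, V) := IsArtinianRing.of_finite k _
  haveI : DiscreteTopology (Spec Γ(Y, V)) :=
    inferInstanceAs (DiscreteTopology (PrimeSpectrum Γ(Y, V)))
  haveI : DiscreteTopology V := hV.isoSpec.hom.homeomorph.symm.discreteTopology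
  have h3 : IsOpen ({⟨y, hyV⟩} : Set V) := isOpen_discrete _
  have h4 := V.2.isOpenMap_subtype_val _ h3
  convert h4 using 1
  ext z
  constructor
  · rintro rfl
    exact ⟨⟨z, hyV⟩, rfl, rfl⟩
  · rintro ⟨w, hw, rfl⟩
    have hw' : w = ⟨y, hyV⟩ := hw
    rw [hw']
    rfl

end Groth.Agent.H63.EtalePt
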