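import Mathlib
import Groth.Agent.S16211
import Groth.Agent.H44.FixFG

/-!
# Fixed points of a finite group of invertible order: local smoothness (helper63)

`smooth_local`: if `Z ⟶ X` represents the fixed points of a finite group `G` (of order invertible
on `S`) acting on a smooth `S`-scheme `X`, and `U ⊆ X` is a `G`-stable affine open lying over an
affine open `V ⊆ S`, then `Z ∩ U ≅ Spec (Γ(U)/J)`, `J` generated by the `g • b - b`, is smooth
over `S`.
-/

set_option autoImplicit false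
universe u v
open CategoryTheory CategoryTheory.Limits AlgebraicGeometry

namespace Groth.Agent.H63.FixSmooth

/-- the ring map induced by a morphism to an affine scheme -/
noncomputable def toΓ {W : Scheme.{u}} {A : CommRingCat.{u}} (f : W ⟶ Spec A) : A ⟶ Γ(W, ⊤) :=
  (Scheme.ΓSpecIso A).inv ≫ f.appTop

lemma toΓ_comp_SpecMap {W : Scheme.{u}} {A A' : CommRingCat.{u}} (f : W ⟶ Spec A')
    (γ : A ⟶ A') : toΓ (f ≫ Spec.map γ) = γ ≫ toΓ f := by
  unfold toΓ
  rw [Scheme.Hom.comp_appTop, ← Category.assoc, ← Scheme.ΓSpecIso_inv_naturality, Category.assoc]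

lemma eq_toSpecΓ_comp {W : Scheme.{u}} {A : CommRingCat.{u}} (f : W ⟶ Spec A) :
    f = W.toSpecΓ ≫ Spec.map (toΓ f) := by
  unfold toΓ
  rw [Spec.map_comp, ← Category.assoc, ← Scheme.toSpecΓ_naturality, Category.assoc,
    toSpecΓ_SpecMap_ΓSpecIso_inv, Category.comp_id]

lemma appLE_eq_of_eq {X Y : Scheme.{u}} {f f' : X ⟶ Y} (h : f = f') (U : Y.Opens) (V : X.Opens)
    (e : V ≤ f ⁻¹ᵁ U) (e' : V ≤ f' ⁻¹ᵁ U) : f.appLE U V e = f'.appLE U V e' := by
  subst h; rfl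

lemma id_appLE_self {X : Scheme.{u}} (U : X.Opens) (e : U ≤ (𝟙 X) ⁻¹ᵁ U) :
    (𝟙 X : X ⟶ X).appLE U U e = 𝟙 _ := by
  simp only [Scheme.Hom.appLE, Scheme.Hom.id_app, Category.id_comp]
  exact (congrArg X.presheaf.map (Subsingleton.elim _ _)).trans (X.presheaf.map_id _)

set_option maxHeartbeats 800000 in
theorem smooth_local (S : Scheme.{u}) (X : Over S) [Smooth X.hom]
    (G : Type v) [Group G] [Finite G] (ρ : G →* Aut X) (hG : IsUnit (Nat.card G : Γ(S, ⊤)))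
    (Z : Over S) (ι : Z ⟶ X) (hι : ∀ g : G, ι ≫ (ρ g).hom = ι)
    (hZ : ∀ (T : Over S) (t : T ⟶ X), (∀ g : G, t ≫ (ρ g).hom = t) ↔ ∃! t' : T ⟶ Z, t' ≫ ι = t)
    (V : S.Opens) (U : X.left.Opens) (hV : IsAffineOpen V) (hU : IsAffineOpen U)
    (hUV : U ≤ X.hom ⁻¹ᵁ V) (hst : ∀ g : G, (ρ g).hom.left ⁻¹ᵁ U = U) :
    Smooth ((ι.left ⁻¹ᵁ U).ι ≫ Z.hom) := by
  classical
  -- `ι` is a monomorphism
  have hmono : ∀ {T : Over S} (a b : T ⟶ Z), a ≫ ι = b ≫ ι → a = b := by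
    intro T a b hab
    have hfix : ∀ g : G, (a ≫ ι) ≫ (ρ g).hom = a ≫ ι := fun g => by rw [Category.assoc, hι]
    obtain ⟨t', -, huniq⟩ := (hZ T (a ≫ ι)).mp hfix
    rw [huniq a rfl, huniq b hab.symm]
  -- the ring automorphisms
  let σ : G → (Γ(X.left, U) ⟶ Γ(X.left, U)) := fun g =>
    (ρ g).hom.left.appLE U U (le_of_eq (hst g).symm)
  have hσ_one : σ 1 = 𝟙 _ := by
    have h1 : (ρ 1).hom.left = 𝟙 X.left := by rw [map_one]; rfl
    show (ρ 1).hom.left.appLE U U _ = 𝟙 _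
    rw [appLE_eq_of_eq h1 U U _ (le_refl _)]
    exact id_appLE_self U _
  have hσ_mul : ∀ g h : G, σ (g * h) = σ g ≫ σ h := by
    intro g h
    show (ρ (g * h)).hom.left.appLE U U _ =
      (ρ g).hom.left.appLE U U _ ≫ (ρ h).hom.left.appLE U U _
    rw [Scheme.Hom.appLE_comp_appLE]
    exact appLE_eq_of_eq (by rw [map_mul]; rfl) _ _ _ _
  have hσα : ∀ g : G, X.hom.appLE V U hUV ≫ σ g = X.hom.appLE V U hUV := by
    intro g
    show X.hom.appLE V U hUV ≫ (ρ g).hom.left.appLE U U _ = _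
    rw [Scheme.Hom.appLE_comp_appLE]
    exact appLE_eq_of_eq (Over.w (ρ g).hom) _ _ _ _
  have hσspec : ∀ g : G, hU.fromSpec ≫ (ρ g).hom.left = Spec.map (σ g) ≫ hU.fromSpec :=
    fun g => (IsAffineOpen.SpecMap_appLE_fromSpec (ρ g).hom.left hU hU _).symm
  -- the algebraic structures
  letI act : MulSemiringAction G Γ(X.left, U) :=
    { smul := fun g b => (σ g⁻¹).hom b
      one_smul := fun b => by
        show (σ (1 : G)⁻¹).hom b = b
        rw [inv_one, hσ_one]; rfl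
      mul_smul := fun g h b => by
        show (σ (g * h)⁻¹).hom b = (σ g⁻¹).hom ((σ h⁻¹).hom b)
        rw [mul_inv_rev, hσ_mul]; rfl
      smul_zero := fun g => map_zero _
      smul_add := fun g a b => map_add _ a b
      smul_one := fun g => map_one _
      smul_mul := fun g a b => map_mul _ a b }
  have hsmul : ∀ (g : G) (b : Γ(X.left, U)), g • b = (σ g⁻¹).hom b := fun g b => rfl
  letI alg : Algebra Γ(S, V) Γ(X.left, U) := (X.hom.appLE V U hUV).hom.toAlgebra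
  haveI : SMulCommClass G Γ(S, V) Γ(X.left, U) := ⟨fun g r b => by
    rw [hsmul, hsmul, Algebra.smul_def, Algebra.smul_def, map_mul]
    congr 1
    exact congrArg (fun m => m.hom r) (hσα g⁻¹)⟩
  have hsm : (X.hom.appLE V U hUV).hom.Smooth :=
    HasRingHomProperty.appLE @Smooth X.hom inferInstance ⟨V, hV⟩ ⟨U, hU⟩ hUV
  haveI hSmB : Algebra.Smooth Γ(S, V) Γ(X.left, U) := hsm
  have hGR : IsUnit (Nat.card G : Γ(S, V)) := by
    have := hG.map (S.presheaf.map (homOfLE (le_top : V ≤ ⊤)).op).hom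
    simpa using this
  have hFS := Groth.Agent.S16211.result Γ(S, V) Γ(X.left, U) G hGR
  have hJ := Groth.Agent.H44.FixFG.fg_span_smul_sub Γ(S, V) Γ(X.left, U) G
  haveI : Algebra.FinitePresentation Γ(S, V)
      (Γ(X.left, U) ⧸ Ideal.span {x : Γ(X.left, U) | ∃ (g : G) (f : Γ(X.left, U)), x = g • f - f}) :=
    Algebra.FinitePresentation.quotient hJ
  have hSm : Algebra.Smooth Γ(S, V)
      (Γ(X.left, U) ⧸ Ideal.span {x : Γ(X.left, U) | ∃ (g : G) (f : Γ(X.left, U)), x = g • f - f}) :=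
    ⟨hFS, inferInstance⟩
  set J : Ideal Γ(X.left, U) :=
    Ideal.span {x : Γ(X.left, U) | ∃ (g : G) (f : Γ(X.left, U)), x = g • f - f} with hJdef
  let mk : Γ(X.left, U) ⟶ CommRingCat.of (Γ(X.left, U) ⧸ J) :=
    CommRingCat.ofHom (Ideal.Quotient.mk J)
  have hmkσ : ∀ g : G, σ g ≫ mk = mk := by
    intro g
    ext b
    show Ideal.Quotient.mk J ((σ g).hom b) = Ideal.Quotient.mk J b
    rw [Ideal.Quotient.eq]
    apply Ideal.subset_span
    refine ⟨g⁻¹, b, ?_⟩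
    rw [hsmul, inv_inv]
  have hφ : (X.hom.appLE V U hUV ≫ mk).hom.Smooth := RingHom.smooth_algebraMap.mpr hSm
  -- scheme-level monomorphism property of `ι`
  have hmonoL : ∀ {T : Scheme.{u}} (a b : T ⟶ Z.left), a ≫ ι.left = b ≫ ι.left → a = b := by
    intro T a b hab
    have hb : b ≫ Z.hom = a ≫ Z.hom := by
      rw [← Over.w ι, ← Category.assoc, ← hab, Category.assoc]
    have := hmono (T := Over.mk (a ≫ Z.hom)) (Over.homMk a rfl) (Over.homMk b hb)
      (Over.OverMorphism.ext hab)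
    exact congrArg (fun m => m.left) this
  -- the closed subscheme `Spec (B/J)`
  let j : Spec (CommRingCat.of (Γ(X.left, U) ⧸ J)) ⟶ X.left := Spec.map mk ≫ hU.fromSpec
  let CO : Over S := Over.mk (j ≫ X.hom)
  let jO : CO ⟶ X := Over.homMk j rfl
  have hfix : ∀ g : G, jO ≫ (ρ g).hom = jO := by
    intro g
    apply Over.OverMorphism.ext
    show (Spec.map mk ≫ hU.fromSpec) ≫ (ρ g).hom.left = Spec.map mk ≫ hU.fromSpec
    rw [Category.assoc, hσspec, ← Category.assoc, ← Spec.map_comp, hmkσ]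
  obtain ⟨c, hc, -⟩ := (hZ CO jO).mp hfix
  have hcl : c.left ≫ ι.left = j := congrArg (fun m => m.left) hc
  set W : Z.left.Opens := ι.left ⁻¹ᵁ U with hW
  have hrc : Set.range ⇑c.left ⊆ Set.range ⇑W.ι := by
    rw [Scheme.Opens.range_ι]
    rintro _ ⟨p, rfl⟩
    show ι.left.base (c.left.base p) ∈ U
    have e1 : ι.left.base (c.left.base p) = j.base p := congrArg (fun m => m.base p) hcl
    rw [e1]
    have e2 : j.base p ∈ Set.range ⇑hU.fromSpec := ⟨(Spec.map mk).base p, rfl⟩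
    rwa [hU.range_fromSpec] at e2
  let c' : Spec (CommRingCat.of (Γ(X.left, U) ⧸ J)) ⟶ W.toScheme :=
    IsOpenImmersion.lift W.ι c.left hrc
  have hc' : c' ≫ W.ι = c.left := IsOpenImmersion.lift_fac _ _ _
  have hrw : Set.range ⇑(W.ι ≫ ι.left) ⊆ Set.range ⇑hU.fromSpec := by
    rw [hU.range_fromSpec]
    rintro _ ⟨p, rfl⟩
    exact p.2
  let w₀ : W.toScheme ⟶ Spec Γ(X.left, U) :=
    IsOpenImmersion.lift hU.fromSpec (W.ι ≫ ι.left) hrw
  have hw₀ : w₀ ≫ hU.fromSpec = W.ι ≫ ι.left := IsOpenImmersion.lift_fac _ _ _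
  have hw₀σ : ∀ g : G, w₀ ≫ Spec.map (σ g) = w₀ := by
    intro g
    rw [← cancel_mono hU.fromSpec, Category.assoc, ← hσspec, ← Category.assoc, hw₀,
      Category.assoc]
    have e1 : ι.left ≫ (ρ g).hom.left = ι.left := congrArg (fun m => m.left) (hι g)
    rw [e1]
  have hβσ : ∀ g : G, σ g ≫ toΓ w₀ = toΓ w₀ := by
    intro g
    rw [← toΓ_comp_SpecMap, hw₀σ]
  have hβJ : J ≤ RingHom.ker (toΓ w₀).hom := by
    rw [hJdef, Ideal.span_le]
    rintro _ ⟨g, b, rfl⟩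
    show (toΓ w₀).hom (g • b - b) = 0
    rw [map_sub, hsmul, sub_eq_zero]
    exact congrArg (fun m => m.hom b) (hβσ g⁻¹)
  have hker : ∀ a ∈ J, (toΓ w₀).hom a = 0 := fun a ha => hβJ ha
  let βbar : CommRingCat.of (Γ(X.left, U) ⧸ J) ⟶ Γ(W.toScheme, ⊤) :=
    CommRingCat.ofHom (Ideal.Quotient.lift J (toΓ w₀).hom hker)
  have hβbar : mk ≫ βbar = toΓ w₀ := by
    ext b
    show Ideal.Quotient.lift J (toΓ w₀).hom hker (Ideal.Quotient.mk J b) = (toΓ w₀).hom b
    exact Ideal.Quotient.lift_mk J (toΓ w₀).hom hker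
  obtain ⟨w', hw'def⟩ : ∃ w' : W.toScheme ⟶ Spec (CommRingCat.of (Γ(X.left, U) ⧸ J)),
      w' = W.toScheme.toSpecΓ ≫ Spec.map βbar := ⟨_, rfl⟩
  have hw' : w' ≫ Spec.map mk = w₀ := by
    rw [hw'def, Category.assoc, ← Spec.map_comp, hβbar]
    exact (eq_toSpecΓ_comp w₀).symm
  haveI : IsClosedImmersion (Spec.map mk) :=
    IsClosedImmersion.spec_of_surjective mk Ideal.Quotient.mk_surjective
  haveI hjmono : Mono j := mono_comp _ _
  have h1 : w' ≫ c' = 𝟙 _ := by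
    rw [← cancel_mono W.ι]
    apply hmonoL
    simp only [Category.assoc, Category.id_comp]
    rw [reassoc_of% hc', hcl]
    show w' ≫ Spec.map mk ≫ hU.fromSpec = W.ι ≫ ι.left
    rw [← Category.assoc, hw', hw₀]
  have h2 : c' ≫ w' = 𝟙 _ := by
    rw [← cancel_mono j]
    show (c' ≫ w') ≫ Spec.map mk ≫ hU.fromSpec = 𝟙 _ ≫ j
    rw [Category.assoc, ← Category.assoc w', hw', hw₀, ← Category.assoc, hc', hcl, Category.id_comp]
  have hcomp : W.ι ≫ Z.hom = w' ≫ Spec.map (X.hom.appLE V U hUV ≫ mk) ≫ hV.fromSpec := by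
    rw [Spec.map_comp, Category.assoc, ← Category.assoc w', hw',
      IsAffineOpen.SpecMap_appLE_fromSpec X.hom hV hU hUV, ← Category.assoc, hw₀, Category.assoc,
      Over.w ι]
  rw [hcomp]
  haveI : IsIso w' := ⟨c', h1, h2⟩
  haveI : Smooth (Spec.map (X.hom.appLE V U hUV ≫ mk)) :=
    (HasRingHomProperty.Spec_iff (P := @Smooth)).mpr hφ
  infer_instance

end Groth.Agent.H63.FixSmooth

namespace Groth.Agent.H63.FixSmooth

set_option backward.isDefEq.respectTransparency false in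
theorem smooth_of_cover {X Y : Scheme.{u}} (f : X ⟶ Y) {ι : Type u} (U : ι → X.Opens)
    (hU : iSup U = ⊤) (H : ∀ i, Smooth ((U i).ι ≫ f)) : Smooth f :=
  IsZariskiLocalAtSource.of_iSup_eq_top (P := @Smooth) U hU H

end Groth.Agent.H63.FixSmooth
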