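import Mathlib
import Groth.Agent.H68.ClopenIdem
import Groth.Agent.H63.FixSmooth
import Groth.Agent.H63.EtalePt
import Groth.Agent.H75.MaxEtale

/-!
# `π₀` of a connected scheme locally of finite type over a field (helper63)
-/

set_option autoImplicit false
set_option linter.style.haveILetI false
universe u
open CategoryTheory CategoryTheory.Limits AlgebraicGeometry Opposite TopologicalSpace

namespace Groth.Agent.H63.Pi0

open Groth.Agent.H63.FixSmooth

variable {k : Type u} [Field k]

/-- idempotent global functions of a connected scheme are trivial -/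
theorem idem_trivial (C : Scheme.{u}) [ConnectedSpace C] (e : Γ(C, ⊤)) (he : IsIdempotentElem e) :
    e = 0 ∨ e = 1 := by
  have hcl := Groth.Agent.H68.ClopenIdem.isClopen_basicOpen he
  rcases isClopen_iff.mp hcl with h | h
  · left
    refine Groth.Agent.H68.ClopenIdem.eq_of_basicOpen_eq he IsIdempotentElem.zero ?_
    ext x
    simp [h]
  · right
    refine Groth.Agent.H68.ClopenIdem.eq_of_basicOpen_eq he IsIdempotentElem.one ?_
    ext x
    simp [h]


/-- a connected scheme locally of finite type over `k` maps to a finite extension of `k` -/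
theorem exists_algHom_finite (C : Scheme.{u}) (s : C ⟶ Spec (CommRingCat.of k))
    [LocallyOfFiniteType s] [Nonempty C] :
    letI : Algebra k Γ(C, ⊤) := (toΓ s).hom.toAlgebra
    ∃ (K' : Type u) (_ : Field K') (_ : Algebra k K') (_ : Module.Finite k K'),
      Nonempty (Γ(C, ⊤) →ₐ[k] K') := by
  letI : Algebra k Γ(C, ⊤) := (toΓ s).hom.toAlgebra
  obtain ⟨x⟩ : Nonempty C := inferInstance
  obtain ⟨W, hW, hxW, -⟩ := exists_isAffineOpen_mem_and_subset (x := x) (U := ⊤) trivial
  haveI : Nonempty W := ⟨⟨x, hxW⟩⟩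
  haveI : Nontrivial Γ(C, W) := inferInstance
  obtain ⟨m, hm⟩ := Ideal.exists_maximal Γ(C, W)
  let res : Γ(C, ⊤) →+* Γ(C, W) := (C.presheaf.map (homOfLE le_top).op).hom
  let πr : Γ(C, ⊤) →+* Γ(C, W) ⧸ m := (Ideal.Quotient.mk m).comp res
  letI : Field (Γ(C, W) ⧸ m) := Ideal.Quotient.field m
  letI algK : Algebra k (Γ(C, W) ⧸ m) := (πr.comp (algebraMap k Γ(C, ⊤))).toAlgebra
  have h1 : (s.appLE ⊤ W (fun _ _ => trivial)).hom.FiniteType :=
    HasRingHomProperty.appLE @LocallyOfFiniteType s inferInstance ⟨⊤, isAffineOpen_top _⟩ ⟨W, hW⟩ _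
  have h2 : res.comp (algebraMap k Γ(C, ⊤)) =
      (s.appLE ⊤ W (fun _ _ => trivial)).hom.comp (Scheme.ΓSpecIso (CommRingCat.of k)).inv.hom := by
    rfl
  have hft : RingHom.FiniteType (πr.comp (algebraMap k Γ(C, ⊤))) := by
    have : πr.comp (algebraMap k Γ(C, ⊤)) =
        (Ideal.Quotient.mk m).comp (res.comp (algebraMap k Γ(C, ⊤))) := rfl
    rw [this, h2]
    refine RingHom.FiniteType.comp (RingHom.FiniteType.of_surjective _ Ideal.Quotient.mk_surjective)
      (RingHom.FiniteType.comp h1 (RingHom.FiniteType.of_surjective _ ?_))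
    exact (ConcreteCategory.bijective_of_isIso (Scheme.ΓSpecIso (CommRingCat.of k)).inv).2
  haveI : Algebra.FiniteType k (Γ(C, W) ⧸ m) := hft
  haveI : Module.Finite k (Γ(C, W) ⧸ m) := finite_of_finite_type_of_isJacobsonRing k _
  exact ⟨Γ(C, W) ⧸ m, inferInstance, algK, inferInstance, ⟨{ πr with commutes' := fun r => rfl }⟩⟩


/-- `π₀` of a connected scheme locally of finite type over a field -/
theorem exists_pi0_of_connected (C : Scheme.{u}) (s : C ⟶ Spec (CommRingCat.of k))
    [LocallyOfFiniteType s] [ConnectedSpace C] :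
    ∃ (E : CommRingCat.{u}) (a : CommRingCat.of k ⟶ E) (q : C ⟶ Spec E),
      IsField E ∧ a.hom.Etale ∧ q ≫ Spec.map a = s ∧
      ∀ (Y : Scheme.{u}) (gY : Y ⟶ Spec (CommRingCat.of k)) (h : C ⟶ Y), Etale gY →
        h ≫ gY = s → ∃ t : Spec E ⟶ Y, q ≫ t = h := by
  letI algR : Algebra k Γ(C, ⊤) := (toΓ s).hom.toAlgebra
  obtain ⟨K', hK'f, hK'a, hK'fin, ⟨π⟩⟩ := exists_algHom_finite C s
  obtain ⟨x₀⟩ : Nonempty C := inferInstance
  haveI : Nonempty (⊤ : C.Opens) := ⟨⟨x₀, trivial⟩⟩
  haveI : Nontrivial Γ(C, ⊤) := inferInstance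
  obtain ⟨E, hEf, hEe, hEu⟩ := Groth.Agent.H75.MaxEtale.exists_max_etale_subalgebra k Γ(C, ⊤)
    (idem_trivial C) K' π
  refine ⟨CommRingCat.of E, CommRingCat.ofHom (algebraMap k E),
    C.toSpecΓ ≫ Spec.map (CommRingCat.ofHom E.val.toRingHom), hEf,
    RingHom.etale_algebraMap.mpr hEe, ?_, ?_⟩
  · rw [Category.assoc, ← Spec.map_comp]
    have : CommRingCat.ofHom (algebraMap k E) ≫ CommRingCat.ofHom E.val.toRingHom = toΓ s := by
      ext x
      rfl
    rw [this]
    exact (eq_toSpecΓ_comp s).symm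
  · intro Y gY h hgY hh
    haveI := hgY
    -- `Y` is discrete, so `h` is constant
    haveI : DiscreteTopology Y := by
      rw [discreteTopology_iff_isOpen_singleton]
      exact fun y => Groth.Agent.H63.EtalePt.isOpen_singleton_of_etale gY y
    let y : Y := h x₀
    have hconst : ∀ x : C, h x = y := fun x =>
      PreconnectedSpace.constant inferInstance h.continuous
    let U : Y.Opens := ⟨{y}, isOpen_discrete _⟩
    have hU : IsAffineOpen U := IsAffineOpen.of_subsingleton Set.subsingleton_singleton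
    have hrange : Set.range h ⊆ Set.range U.ι := by
      rw [Scheme.Opens.range_ι]
      rintro _ ⟨x, rfl⟩
      exact hconst x
    let m : C ⟶ Spec Γ(Y, U) := IsOpenImmersion.lift U.ι h hrange ≫ hU.isoSpec.hom
    have hm : m ≫ hU.fromSpec = h := by
      show (IsOpenImmersion.lift U.ι h hrange ≫ hU.isoSpec.hom) ≫ hU.fromSpec = h
      rw [Category.assoc, IsAffineOpen.isoSpec_hom_fromSpec, IsOpenImmersion.lift_fac]
    -- the `k`-algebra structure of `Γ(Y, U)`
    let β : CommRingCat.of k ⟶ Γ(Y, U) :=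
      (Scheme.ΓSpecIso (CommRingCat.of k)).inv ≫ gY.appLE ⊤ U (fun _ _ => trivial)
    have hβ : hU.fromSpec ≫ gY = Spec.map β := by
      have h1 := IsAffineOpen.SpecMap_appLE_fromSpec gY (isAffineOpen_top _) hU
        (fun _ _ => trivial)
      rw [← h1, Spec.map_comp]
      congr 1
      rw [IsAffineOpen.fromSpec_top, Scheme.isoSpec_Spec_inv]
    have hβe : β.hom.Etale := by
      have : Etale (Spec.map β) := by
        rw [← hβ]
        infer_instance
      exact (HasRingHomProperty.Spec_iff (P := @Etale)).mp this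
    have hφ : β ≫ toΓ m = toΓ s := by
      rw [← toΓ_comp_SpecMap, ← hβ, ← Category.assoc, hm, hh]
    letI algB : Algebra k Γ(Y, U) := β.hom.toAlgebra
    haveI : Algebra.Etale k Γ(Y, U) := hβe
    let φ' : Γ(Y, U) →ₐ[k] Γ(C, ⊤) :=
      { (toΓ m).hom with
        commutes' := fun r => congrArg (fun w => w.hom r) hφ }
    have hr := hEu Γ(Y, U) φ'
    let φE : Γ(Y, U) →+* E := (toΓ m).hom.codRestrict E (fun b => hr ⟨b, rfl⟩)
    have hφE : CommRingCat.ofHom φE ≫ CommRingCat.ofHom E.val.toRingHom = toΓ m := by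
      ext b
      rfl
    refine ⟨Spec.map (CommRingCat.ofHom φE) ≫ hU.fromSpec, ?_⟩
    rw [Category.assoc, ← Category.assoc (Spec.map _), ← Spec.map_comp, hφE,
      ← Category.assoc, ← eq_toSpecΓ_comp, hm]

end Groth.Agent.H63.Pi0
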