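import Mathlib
import Groth.Agent.H63.Pi0Conn

/-!
# `π₀` of a scheme locally of finite type over a field (helper63)
-/

set_option autoImplicit false
set_option linter.style.haveILetI false
universe u
open CategoryTheory CategoryTheory.Limits AlgebraicGeometry Opposite TopologicalSpace

namespace Groth.Agent.H63.Pi0

variable {k : Type u} [Field k]

/-- (helper38, `H38/SectionComp`) connected components of a Noetherian space are open -/
theorem isOpen_connectedComponent_of_noetherianSpace {α : Type*} [TopologicalSpace α]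
    [TopologicalSpace.NoetherianSpace α] (x : α) : IsOpen (connectedComponent x) := by
  rw [← isClosed_compl_iff]
  have hfin := TopologicalSpace.NoetherianSpace.finite_irreducibleComponents (α := α)
  have h : (connectedComponent x)ᶜ =
      ⋃₀ {Z ∈ irreducibleComponents α | ¬ Z ⊆ connectedComponent x} := by
    ext y
    constructor
    · intro hy
      exact ⟨irreducibleComponent y, ⟨irreducibleComponent_mem_irreducibleComponents y,
        fun h => hy (h mem_irreducibleComponent)⟩, mem_irreducibleComponent⟩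
    · rintro ⟨Z, ⟨hZ, hZx⟩, hyZ⟩ hy
      apply hZx
      have hZpre : IsPreconnected Z := hZ.1.isConnected.isPreconnected
      have h1 := hZpre.subset_connectedComponent hyZ
      rwa [← connectedComponent_eq hy] at h1
  rw [h, Set.sUnion_eq_biUnion]
  have hfin' : {Z ∈ irreducibleComponents α | ¬ Z ⊆ connectedComponent x}.Finite :=
    hfin.subset (fun Z hZ => hZ.1)
  exact hfin'.isClosed_biUnion
    (fun Z hZ => isClosed_of_mem_irreducibleComponents Z hZ.1)

/-- (helper38, `H38/SectionComp`) locally Noetherian schemes are locally connected -/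
theorem locallyConnectedSpace_of_isLocallyNoetherian (F : Scheme.{u}) [IsLocallyNoetherian F] :
    LocallyConnectedSpace F := by
  rw [locallyConnectedSpace_iff_connected_subsets]
  intro x N hN
  obtain ⟨O, hON, hO, hxO⟩ := mem_nhds_iff.1 hN
  obtain ⟨W, hW, hxW, hWO⟩ := exists_isAffineOpen_mem_and_subset (x := x) (U := ⟨O, hO⟩) hxO
  haveI : IsNoetherianRing Γ(F, W) := IsLocallyNoetherian.component_noetherian ⟨W, hW⟩
  haveI : TopologicalSpace.NoetherianSpace ↥W := noetherianSpace_of_isAffineOpen W hW
  let C : Set ↥W := connectedComponent (⟨x, hxW⟩ : ↥W)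
  have hCo : IsOpen C := isOpen_connectedComponent_of_noetherianSpace _
  refine ⟨Subtype.val '' C, ?_, ?_, ?_⟩
  · refine IsOpen.mem_nhds (W.2.isOpenMap_subtype_val _ hCo) ⟨⟨x, hxW⟩, mem_connectedComponent, rfl⟩
  · exact isPreconnected_connectedComponent.image _ continuous_subtype_val.continuousOn
  · rintro _ ⟨y, -, rfl⟩
    exact hON (hWO y.2)

set_option backward.isDefEq.respectTransparency false in
theorem exists_pi0 (X : Scheme.{u}) (f : X ⟶ Spec (CommRingCat.of k)) [LocallyOfFiniteType f] :
    ∃ (P : Scheme.{u}) (g : P ⟶ Spec (CommRingCat.of k)) (q : X ⟶ P), Etale g ∧ q ≫ g = f ∧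
      (∀ (Y : Scheme.{u}) (gY : Y ⟶ Spec (CommRingCat.of k)) (h : X ⟶ Y), Etale gY → h ≫ gY = f →
        ∃! t : P ⟶ Y, t ≫ gY = g ∧ q ≫ t = h) ∧
      Flat q ∧ Surjective q ∧
      ∀ x : ↥X, (fun x' : ↥X => q x') ⁻¹' {q x} = connectedComponent x := by
  haveI : IsLocallyNoetherian X := LocallyOfFiniteType.isLocallyNoetherian f
  haveI : LocallyConnectedSpace X := locallyConnectedSpace_of_isLocallyNoetherian X
  have hopen : ∀ c : _root_.ConnectedComponents X, IsOpen (_root_.ConnectedComponents.mk ⁻¹' {c} : Set X) := by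
    intro c
    obtain ⟨x, rfl⟩ := _root_.ConnectedComponents.surjective_coe c
    rw [connectedComponents_preimage_singleton]
    exact isOpen_connectedComponent
  let Uc : _root_.ConnectedComponents X → X.Opens := fun c => ⟨ConnectedComponents.mk ⁻¹' {c}, hopen c⟩
  have hmem : ∀ (c : _root_.ConnectedComponents X) (x : X), x ∈ Uc c ↔ _root_.ConnectedComponents.mk x = c :=
    fun c x => Iff.rfl
  have hconn : ∀ c, ConnectedSpace (Uc c) := by
    intro c
    obtain ⟨x, rfl⟩ := _root_.ConnectedComponents.surjective_coe c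
    have h1 : ((Uc (_root_.ConnectedComponents.mk x) : X.Opens) : Set X) = connectedComponent x :=
      connectedComponents_preimage_singleton
    have h2 : _root_.IsConnected ((Uc (_root_.ConnectedComponents.mk x) : X.Opens) : Set X) := by
      rw [h1]; exact isConnected_connectedComponent
    exact isConnected_iff_connectedSpace.mp h2
  have hcov : ⨆ c, Uc c = ⊤ := by
    rw [eq_top_iff]
    intro x _
    exact TopologicalSpace.Opens.mem_iSup.mpr ⟨_root_.ConnectedComponents.mk x, rfl⟩
  have hdisj : Pairwise (Function.onFun Disjoint Uc) := by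
    intro c c' hcc'
    show Disjoint (Uc c) (Uc c')
    rw [disjoint_iff, eq_bot_iff]
    rintro x ⟨h1, h2⟩
    exact hcc' (((hmem c x).mp h1).symm.trans ((hmem c' x).mp h2))
  -- `X` is the coproduct of its connected components
  obtain ⟨hX⟩ := nonempty_isColimit_cofanMk_of (fun c => (Uc c).ι)
    (by simpa only [Scheme.Opens.opensRange_ι] using hcov)
    (by simpa only [Scheme.Opens.opensRange_ι] using hdisj)
  -- local data
  have hloc := fun c => exists_pi0_of_connected (k := k) (Uc c).toScheme ((Uc c).ι ≫ f)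
  choose E a qc hEf hae hqa huniv using hloc
  let g : (∐ fun c => Spec (E c)) ⟶ Spec (CommRingCat.of k) := Sigma.desc (fun c => Spec.map (a c))
  let q : X ⟶ ∐ fun c => Spec (E c) :=
    Cofan.IsColimit.desc hX (fun c => qc c ≫ Sigma.ι (fun c => Spec (E c)) c)
  have hq : ∀ c, (Uc c).ι ≫ q = qc c ≫ Sigma.ι (fun c => Spec (E c)) c :=
    fun c => Cofan.IsColimit.fac hX _ c
  have hqg : q ≫ g = f := by
    refine Cofan.IsColimit.hom_ext hX _ _ fun c => ?_
    show (Uc c).ι ≫ q ≫ g = (Uc c).ι ≫ f
    rw [← Category.assoc, hq, Category.assoc, Sigma.ι_desc, hqa]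
  haveI hsub : ∀ c, Subsingleton (Spec (E c)) := fun c => by
    letI := (hEf c).toField
    exact inferInstanceAs (Subsingleton (PrimeSpectrum (E c)))
  haveI hint : ∀ c, IsIntegral (Spec (E c)) := fun c => by
    haveI := (hEf c).isDomain
    infer_instance
  have hflat : Flat q := by
    refine IsZariskiLocalAtSource.of_iSup_eq_top (P := @Flat) Uc hcov fun c => ?_
    rw [hq]
    infer_instance
  have hsurj : Surjective q := by
    refine ⟨fun p => ?_⟩
    obtain ⟨c, z, rfl⟩ := (sigmaOpenCover (fun c => Spec (E c))).exists_eq p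
    obtain ⟨x, hx⟩ := _root_.ConnectedComponents.surjective_coe c
    refine ⟨x, ?_⟩
    have h1 : q x = (Sigma.ι (fun c => Spec (E c)) c) ((qc c) ⟨x, hx⟩) :=
      congrArg (fun m => m.base ⟨x, hx⟩) (hq c)
    rw [h1]
    exact congrArg _ (Subsingleton.elim _ _)
  haveI := hflat
  haveI := hsurj
  haveI hepi : Epi q := Flat.epi_of_flat_of_surjective q
  refine ⟨∐ fun c => Spec (E c), g, q, ?_, hqg, ?_, hflat, hsurj, ?_⟩
  · exact IsZariskiLocalAtSource.sigmaDesc (P := @Etale) fun c =>
      (HasRingHomProperty.Spec_iff (P := @Etale)).mpr (hae c)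
  · intro Y gY h hgY hh
    have hc : ∀ c, ∃ t : Spec (E c) ⟶ Y, qc c ≫ t = (Uc c).ι ≫ h := fun c =>
      huniv c Y gY ((Uc c).ι ≫ h) hgY (by rw [Category.assoc, hh])
    choose t ht using hc
    have hqt : q ≫ Sigma.desc t = h := by
      refine Cofan.IsColimit.hom_ext hX _ _ fun c => ?_
      show (Uc c).ι ≫ q ≫ Sigma.desc t = (Uc c).ι ≫ h
      rw [← Category.assoc, hq, Category.assoc, Sigma.ι_desc, ht]
    refine ⟨Sigma.desc t, ⟨?_, hqt⟩, ?_⟩
    · rw [← cancel_epi q, ← Category.assoc, hqt, hh, hqg]
    · rintro t' ⟨-, ht'⟩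
      rw [← cancel_epi q, ht', hqt]
  · intro x
    rw [← connectedComponents_preimage_singleton]
    ext x'
    simp only [Set.mem_preimage, Set.mem_singleton_iff]
    have key : ∀ z : X, q z = (Sigma.ι (fun c => Spec (E c)) (_root_.ConnectedComponents.mk z))
        ((qc (_root_.ConnectedComponents.mk z)) ⟨z, rfl⟩) := fun z =>
      congrArg (fun m => m.base ⟨z, rfl⟩) (hq (_root_.ConnectedComponents.mk z))
    constructor
    · intro he
      rw [key x', key x] at he
      have := (sigmaι_eq_iff (fun c => Spec (E c)) _ _ _ _).mp he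
      exact congrArg Sigma.fst this
    · intro he
      rw [key x', key x]
      have hx' : x' ∈ Uc (_root_.ConnectedComponents.mk x) := he
      have h1 : q x' = (Sigma.ι (fun c => Spec (E c)) (_root_.ConnectedComponents.mk x))
          ((qc (_root_.ConnectedComponents.mk x)) ⟨x', hx'⟩) :=
        congrArg (fun m => m.base ⟨x', hx'⟩) (hq (_root_.ConnectedComponents.mk x))
      rw [← key x', h1]
      exact congrArg _ (Subsingleton.elim _ _)

end Groth.Agent.H63.Pi0
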