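import Mathlib
import Groth.Agent.H63.OrbitQuot
import Groth.Agent.H37.SepPts3
import Groth.Agent.H38.GeomRedField
import Groth.Agent.S4628
import Groth.Agent.S5331

/-!
# Properness of orbit maps (GIT 0.8-type criterion)

* `exists_reduced_subgroup`: over a perfect field, `G_red` is a closed subgroup scheme of `G`.
* `isProper_orbitMap`: over an algebraically closed field, if the orbit of a rational point `x` is
  closed and the stabilizer of `x` is proper, the orbit map `G ⟶ X` is proper.
-/

set_option autoImplicit false
universe u
open CategoryTheory CategoryTheory.Limits MonoidalCategory CartesianMonoidalCategory MonObj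
  AlgebraicGeometry

namespace Groth.Agent.H63.OrbitProper

open Groth.Agent.H63.OrbitQuot

variable {k : Type u} [Field k]

/-- over a perfect field, `G_red` is a closed subgroup scheme -/
theorem exists_reduced_subgroup [PerfectField k] (G : Over (Spec (CommRingCat.of k))) [GrpObj G] :
    ∃ (Gr : Over (Spec (CommRingCat.of k))) (_ : GrpObj Gr) (r : Gr ⟶ G), IsMonHom r ∧
      IsClosedImmersion r.left ∧ Surjective r.left ∧ IsReduced Gr.left := by
  let C : TopologicalSpace.Closeds G.left := ⊤
  let z := (Scheme.IdealSheafData.vanishingIdeal C).subschemeι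
  haveI hred : IsReduced (Scheme.IdealSheafData.vanishingIdeal C).subscheme :=
    isReduced_vanishingIdeal_subscheme C
  have hrange : Set.range ⇑z = Set.univ := by
    rw [Scheme.IdealSheafData.range_subschemeι, Scheme.IdealSheafData.coe_support_vanishingIdeal]
    rfl
  haveI : GeometricallyReduced (z ≫ G.hom) :=
    Groth.Agent.H38.GeomRedField.geomReduced_of_perfectField _
  haveI : IsReduced (pullback (z ≫ G.hom) (z ≫ G.hom)) := Groth.Agent.S4628.result _ _
  obtain ⟨str, i, hmon, hi⟩ := Groth.Agent.H37.SepPts.exists_grpObj_of_reduced_closed k G z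
    (fun x => by rw [hrange]; trivial) (fun w => by rw [hrange]; trivial)
    (fun m _ _ p => by rw [hrange]; trivial)
  refine ⟨Over.mk (z ≫ G.hom), str, i, hmon, by rw [hi]; infer_instance, ⟨?_⟩, hred⟩
  rw [hi]
  intro p
  have : p ∈ Set.range ⇑z := by rw [hrange]; trivial
  exact this

/-- over an algebraically closed field: closed orbit and proper stabilizer imply that the orbit
map is proper -/
theorem isProper_orbitMap [IsAlgClosed k] {G X H : Over (Spec (CommRingCat.of k))} [GrpObj G]
    [LocallyOfFiniteType G.hom] [QuasiCompact G.hom] [LocallyOfFiniteType X.hom]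
    [QuasiCompact X.hom] (a : AlgGrp.Action G X) (x : 𝟙_ (Over (Spec (CommRingCat.of k))) ⟶ X)
    (i : H ⟶ G) (hH : IsPullback i (toUnit H) (a.orbitMap x) x) [IsProper H.hom]
    (hcl : IsClosed (Set.range (a.orbitMap x).left.base)) : IsProper (a.orbitMap x).left := by
  haveI : Subsingleton ↥(Spec (CommRingCat.of k)) :=
    inferInstanceAs (Subsingleton (PrimeSpectrum k))
  obtain ⟨Gr, str, r, hmon, hrcl, hrs, hred⟩ := exists_reduced_subgroup G
  haveI : LocallyOfFiniteType Gr.hom := by rw [← Over.w r]; infer_instance
  haveI : QuasiCompact Gr.hom := by rw [← Over.w r]; infer_instance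
  have ho' : (a.restrict r).orbitMap x = r ≫ a.orbitMap x := by
    rw [AlgGrp.Action.comp_orbitMap]
    unfold AlgGrp.Action.orbitMap
    rw [AlgGrp.Action.lift_restrict_act, Category.id_comp]
  -- the orbit
  let C : TopologicalSpace.Closeds X.left := ⟨_, hcl⟩
  let i₀ := (Scheme.IdealSheafData.vanishingIdeal C).subschemeι
  let O : Over (Spec (CommRingCat.of k)) := Over.mk (i₀ ≫ X.hom)
  let iO : O ⟶ X := Over.homMk i₀ rfl
  haveI hiOcl : IsClosedImmersion iO.left := inferInstanceAs (IsClosedImmersion i₀)
  haveI : IsImmersion iO.left := inferInstance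
  haveI : IsReduced O.left := isReduced_vanishingIdeal_subscheme C
  have hrange : Set.range iO.left.base = Set.range ((a.restrict r).orbitMap x).left.base := by
    rw [ho', Over.comp_left, Scheme.Hom.comp_base, TopCat.coe_comp, Set.range_comp,
      Function.Surjective.range_eq r.left.surjective, Set.image_univ]
    show Set.range ⇑i₀ = _
    rw [Scheme.IdealSheafData.range_subschemeι, Scheme.IdealSheafData.coe_support_vanishingIdeal]
    rfl
  obtain ⟨b, φ, hφi, hβi, hf, hflat, hsurj, hlft, hqc⟩ :=
    exists_orbit_action (a.restrict r) x O iO hrange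
  haveI : Mono iO.left := inferInstance
  haveI : Mono iO := (Over.forget _).mono_of_mono_map (inferInstanceAs (Mono iO.left))
  let y : 𝟙_ (Over (Spec (CommRingCat.of k))) ⟶ O := η[Gr] ≫ φ
  have hy : y ≫ iO = x := by
    rw [Category.assoc, hφi, Groth.Agent.H63.ActionTranslate.point_comp_orbitMap]
    have h := Groth.Agent.H63.ActionTranslate.act_one (a.restrict r) x
    rwa [toUnit_unit, Category.id_comp] at h
  have hby : b.orbitMap y = φ := by
    rw [← cancel_mono iO, hφi]
    unfold AlgGrp.Action.orbitMap
    rw [Category.assoc, ← hβi, lift_whiskerLeft_assoc, Category.assoc, hy]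
  -- the stabilizer in `Gr`
  have hH1 : IsPullback (pullback.fst r i) (toUnit (pullback r i))
      ((a.restrict r).orbitMap x) x := by
    have h := (IsPullback.of_hasPullback r i).paste_vert hH
    rw [ho']
    rwa [toUnit_unique (pullback.snd r i ≫ toUnit H) (toUnit (pullback r i))] at h
  have hH' : IsPullback (pullback.fst r i) (toUnit (pullback r i)) (b.orbitMap y) y := by
    apply isPullback_of_comp_mono iO
    rw [hby, hφi, hy]
    exact hH1
  have hK := kernelPair_orbitMap b y (pullback.fst r i) hH'
  rw [hby] at hK
  -- the stabilizer in `Gr` is proper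
  have hP := (IsPullback.of_hasPullback r i).map (Over.forget _)
  haveI : IsClosedImmersion (pullback.snd r i).left :=
    MorphismProperty.of_isPullback (P := @IsClosedImmersion) hP hrcl
  haveI : IsProper (pullback r i).hom := by
    rw [← Over.w (pullback.snd r i)]; infer_instance
  haveI : IsProper (fst Gr (pullback r i)).left :=
    inferInstanceAs (IsProper (pullback.fst Gr.hom (pullback r i).hom))
  -- descent
  have hK' : IsPullback (fst Gr (pullback r i)).left ((Gr ◁ pullback.fst r i) ≫ μ[Gr]).left
      φ.left φ.left := hK.map (Over.forget _)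
  haveI : IsLocallyNoetherian Gr.left := LocallyOfFiniteType.isLocallyNoetherian Gr.hom
  haveI : CompactSpace Gr.left := QuasiCompact.compactSpace_of_compactSpace Gr.hom
  haveI : IsNoetherian Gr.left := {}
  haveI : QuasiCompact φ.left := inferInstance
  haveI : UniversallyClosed φ.left :=
    MorphismProperty.of_isPullback_of_descendsAlong (P := @UniversallyClosed)
      (Q := @Surjective ⊓ @Flat ⊓ @QuasiCompact) hK' ⟨⟨hsurj, hflat⟩, inferInstance⟩ inferInstance
  haveI : UniversallyClosed (r.left ≫ (a.orbitMap x).left) := by
    rw [← Over.comp_left, ← ho', ← hφi, Over.comp_left]; infer_instance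
  haveI : UniversallyClosed (a.orbitMap x).left :=
    UniversallyClosed.of_comp_surjective r.left _
  haveI : IsSeparated G.hom := Groth.Agent.S5331.result (Spec (CommRingCat.of k)) G
  haveI : IsSeparated ((a.orbitMap x).left ≫ X.hom) := by rw [Over.w]; infer_instance
  haveI : IsSeparated (a.orbitMap x).left := IsSeparated.of_comp _ X.hom
  haveI : LocallyOfFiniteType ((a.orbitMap x).left ≫ X.hom) := by rw [Over.w]; infer_instance
  haveI : LocallyOfFiniteType (a.orbitMap x).left := locallyOfFiniteType_of_comp _ X.hom
  exact {}

end Groth.Agent.H63.OrbitProper
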