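import Mathlib
import Groth.Agent.H63.OrbitProper
import Groth.Agent.H63.OrbitSmooth

/-! The homomorphism induced on reduced subgroups over a perfect field (helper63). -/

set_option autoImplicit false
universe u
open CategoryTheory CategoryTheory.Limits AlgebraicGeometry MonoidalCategory CartesianMonoidalCategory MonObj GrpObj

namespace Groth.Agent.H63.HomArtRed

/-- a morphism which becomes a homomorphism after composing with a monomorphic homomorphism is a
homomorphism -/
theorem isMonHom_of_comp_mono {C : Type*} [Category C] [CartesianMonoidalCategory C]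
    {A B D : C} [MonObj A] [MonObj B] [MonObj D] (v : A ⟶ B) (r : B ⟶ D) [Mono r] [IsMonHom r]
    [IsMonHom (v ≫ r)] : IsMonHom v where
  one_hom := by
    rw [← cancel_mono r, Category.assoc, IsMonHom.one_hom (f := v ≫ r), IsMonHom.one_hom]
  mul_hom := by
    rw [← cancel_mono r, Category.assoc, IsMonHom.mul_hom (f := v ≫ r), Category.assoc,
      IsMonHom.mul_hom (f := r), ← MonoidalCategory.tensorHom_comp_tensorHom_assoc]

/-- (R1) the reduced subgroups and the induced homomorphism. -/
theorem exists_reduced_hom {K : Type u} [Field K] [PerfectField K]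
    {G H : Over (Spec (CommRingCat.of K))} [GrpObj G] [GrpObj H] (u : G ⟶ H) [IsMonHom u] :
    ∃ (G' H' : Over (Spec (CommRingCat.of K))) (_ : GrpObj G') (_ : GrpObj H') (rG : G' ⟶ G)
      (rH : H' ⟶ H) (v : G' ⟶ H'), IsMonHom rG ∧ IsMonHom rH ∧ IsMonHom v ∧
      IsClosedImmersion rG.left ∧ Surjective rG.left ∧ IsClosedImmersion rH.left ∧
      Surjective rH.left ∧ IsReduced G'.left ∧ IsReduced H'.left ∧ v ≫ rH = rG ≫ u := by
  obtain ⟨Gr, strG, rG, hmG, hciG, hsG, hredG⟩ :=
    Groth.Agent.H63.OrbitProper.exists_reduced_subgroup G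
  obtain ⟨Hr, strH, rH, hmH, hciH, hsH, hredH⟩ :=
    Groth.Agent.H63.OrbitProper.exists_reduced_subgroup H
  obtain ⟨v₀, hv₀⟩ := Groth.Agent.H63.OrbitSmooth.exists_lift_immersion rH.left
    (rG.left ≫ u.left) (by
      intro x _
      exact hsH.surj x)
  have hw : v₀ ≫ Hr.hom = Gr.hom := by
    rw [← Over.w rH, ← Category.assoc, hv₀, Category.assoc, Over.w u, Over.w rG]
  let v : Gr ⟶ Hr := Over.homMk v₀ hw
  have hv : v ≫ rH = rG ≫ u := by
    ext
    simp only [Over.comp_left]
    exact hv₀
  haveI : Mono rH.left := inferInstance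
  haveI : Mono rH := by
    constructor
    intro Z a b hab
    ext
    rw [← cancel_mono rH.left]
    have := congrArg CommaMorphism.left hab
    simpa using this
  haveI : IsMonHom (v ≫ rH) := by rw [hv]; infer_instance
  haveI : IsMonHom v := isMonHom_of_comp_mono v rH
  exact ⟨Gr, Hr, strG, strH, rG, rH, v, hmG, hmH, inferInstance, hciG, hsG, hciH, hsH, hredG,
    hredH, hv⟩

end Groth.Agent.H63.HomArtRed
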