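import Mathlib
import Groth.Agent.H49.SmoothFibre
import Groth.Agent.H29.FiberStalkAt
import Groth.Agent.H25.StalkBC
import Groth.Agent.S2451

/-!
# Generic smoothness from geometric reducedness (helper63)

* `mem_smoothLocus_of_isField_stalk`: for `g : Z ⟶ Spec k` locally of finite presentation and
  geometrically reduced, every point whose local ring is a field lies in the smooth locus.
* `genericPoint_mem_smoothLocus`: dominant lfp morphism of integral schemes with geometrically
  reduced generic fibre is smooth at the generic point.
-/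

set_option autoImplicit false
universe u
open CategoryTheory CategoryTheory.Limits AlgebraicGeometry TensorProduct

namespace Groth.Agent.H63.GenericSmooth

attribute [local instance] Curv2.stalkAlgebra

theorem flat_of_isField {A B : Type u} [CommRing A] [CommRing B] (φ : A →+* B) (hA : IsField A) :
    φ.Flat := by
  letI : Algebra A B := φ.toAlgebra
  show Module.Flat A B
  exact @Module.Flat.of_free A B _ _ _
    (@Module.Free.of_divisionRing A B hA.toField.toDivisionRing _ _)

theorem isIso_germ_top_Spec_field (k : Type u) [Field k] (y : Spec (CommRingCat.of k)) :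
    IsIso ((Spec (CommRingCat.of k)).presheaf.germ ⊤ y trivial) := by
  obtain rfl : y = IsLocalRing.closedPoint k :=
    @Subsingleton.elim (PrimeSpectrum k) inferInstance _ _
  rw [← AlgebraicGeometry.ΓSpecIso_hom_stalkClosedPointIso_inv]
  infer_instance

set_option backward.isDefEq.respectTransparency false in
theorem mem_smoothLocus_of_isField_stalk {k : Type u} [Field k] {Z : Scheme.{u}}
    (g : Z ⟶ Spec (CommRingCat.of k)) [LocallyOfFinitePresentation g] [GeometricallyReduced g]
    (z : Z) (hF : IsField (Z.presheaf.stalk z)) : z ∈ g.smoothLocus := by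
  letI : Z.Over (Spec (CommRingCat.of k)) := ⟨g⟩
  have hgr : Curv2.IsGeomReducedAt k Z z := by
    intro K _ _ x' _
    haveI : IsReduced (Curv2.bc k Z K) :=
      GeometricallyReduced.geometrically_isReduced (f := g) _ _ _
        (IsPullback.of_hasPullback g (Spec.map (CommRingCat.ofHom (algebraMap k K))))
    infer_instance
  have hGR : Algebra.IsGeometricallyReduced k (Z.presheaf.stalk z) :=
    (Groth.Agent.H25.StalkBC.isGeomReducedAt_iff_stalk k Z z).mp hgr
  have hFS : Algebra.FormallySmooth k (Z.presheaf.stalk z) := by
    letI : Field (Z.presheaf.stalk z) := hF.toField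
    exact (Groth.Agent.S2451.result (k := k) (K := Z.presheaf.stalk z)).mpr hGR
  rw [Scheme.Hom.mem_smoothLocus]
  let ψ : CommRingCat.of k ⟶ (Spec (CommRingCat.of k)).presheaf.stalk (g z) :=
    (Scheme.ΓSpecIso (CommRingCat.of k)).inv ≫
      (Spec (CommRingCat.of k)).presheaf.germ ⊤ (g z) trivial
  haveI : IsIso ((Spec (CommRingCat.of k)).presheaf.germ ⊤ (g z) trivial) :=
    isIso_germ_top_Spec_field k (g z)
  haveI : IsIso ψ := by dsimp only [ψ]; infer_instance
  rw [← RingHom.FormallySmooth.respectsIso.cancel_left_isIso ψ (g.stalkMap z)]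
  have hcomp : (CommRingCat.Hom.hom (g.stalkMap z)).comp (CommRingCat.Hom.hom ψ) =
      Curv2.stalkMap k Z z := by
    rw [← CommRingCat.hom_comp]
    dsimp only [ψ]
    rw [Category.assoc, Scheme.Hom.germ_stalkMap]
    rfl
  rw [hcomp]
  exact hFS

theorem genericPoint_mem_smoothLocus (X Y : Scheme.{u}) [IsIntegral X] [IsIntegral Y]
    (f : X ⟶ Y) [IsDominant f] [LocallyOfFinitePresentation f]
    (hsep : GeometricallyReduced (f.fiberToSpecResidueField (f.base (genericPoint X)))) :
    genericPoint X ∈ f.smoothLocus := by
  have hη : f.base (genericPoint X) = genericPoint Y := by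
    have h1 := (genericPoint_spec X).image f.continuous
    rw [Set.image_univ, f.denseRange.closure_range] at h1
    exact h1.eq (genericPoint_spec Y)
  have hA : IsField (Y.presheaf.stalk (f.base (genericPoint X))) := by
    rw [hη]
    exact Field.toIsField Y.functionField
  haveI := hsep
  have hlfp : LocallyOfFinitePresentation (f.fiberToSpecResidueField (f.base (genericPoint X))) :=
    inferInstanceAs (LocallyOfFinitePresentation
      (pullback.snd f (Y.fromSpecResidueField (f.base (genericPoint X)))))
  haveI := hlfp
  rw [Groth.Agent.H49.SmoothFibre.mem_smoothLocus_iff_flat_and_fiber f (genericPoint X)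
    (f.base (genericPoint X)) rfl (f.asFiber (genericPoint X)) (f.fiberι_asFiber (genericPoint X))]
  refine ⟨flat_of_isField _ hA, ?_⟩
  refine @mem_smoothLocus_of_isField_stalk (Y.residueField (f.base (genericPoint X))) _ _
    (f.fiberToSpecResidueField (f.base (genericPoint X))) hlfp hsep _ ?_
  obtain ⟨e⟩ := Groth.Agent.H29.FiberStalkAt.nonempty_fiberStalkEquiv f (genericPoint X)
  set I := Ideal.map (f.stalkMap (genericPoint X)).hom
    (IsLocalRing.maximalIdeal (Y.presheaf.stalk (f.base (genericPoint X)))) with hIdef
  haveI : Nontrivial (X.presheaf.stalk (genericPoint X) ⧸ I) := e.toEquiv.nontrivial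
  have hI : I ≠ ⊤ := Ideal.Quotient.nontrivial_iff.mp inferInstance
  have hI0 : I = ⊥ := (Ideal.eq_bot_or_top (K := X.functionField) I).resolve_right hI
  haveI : I.IsMaximal := hI0 ▸ Ideal.bot_isMaximal
  have hQ : IsField (X.presheaf.stalk (genericPoint X) ⧸ I) :=
    (Ideal.Quotient.maximal_ideal_iff_isField_quotient I).mp inferInstance
  exact MulEquiv.isField hQ e.symm.toMulEquiv

theorem dense_smoothLocus (X Y : Scheme.{u}) [IsIntegral X] [IsIntegral Y]
    (f : X ⟶ Y) [IsDominant f] [LocallyOfFinitePresentation f]
    (hsep : GeometricallyReduced (f.fiberToSpecResidueField (f.base (genericPoint X)))) :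
    Dense (f.smoothLocus : Set X) := by
  have hξ := genericPoint_mem_smoothLocus X Y f hsep
  rw [dense_iff_closure_eq]
  apply Set.eq_univ_of_univ_subset
  rw [← (genericPoint_spec X).def]
  exact closure_mono (Set.singleton_subset_iff.mpr hξ)

end Groth.Agent.H63.GenericSmooth
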