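import Groth.Agent.H63.GeomRegAt
import Groth.Agent.H63.GenericSmooth
import Groth.Agent.Lead.GeomReg

/-!
# Geometric regularity at a point of a `k`-scheme lft ⇔ smoothness at the point (helper63)
-/

set_option autoImplicit false
universe u
open CategoryTheory CategoryTheory.Limits AlgebraicGeometry TensorProduct

namespace Groth.Agent.H63.GeomRegAtSmooth

variable (k : Type u) [Field k] (X : Scheme.{u}) [X.Over (Spec (CommRingCat.of k))]

/-- The structure map `k → O_{X,x}` factors as the iso `k ≅ O_{Spec k, g x}` followed by the stalk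
map of `g : X → Spec k`. -/
theorem stalkMap_eq_comp (x : X) :
    ∃ ψ : CommRingCat.of k ⟶
        (Spec (CommRingCat.of k)).presheaf.stalk ((X ↘ Spec (CommRingCat.of k)) x),
      IsIso ψ ∧
      (CommRingCat.Hom.hom ((X ↘ Spec (CommRingCat.of k)).stalkMap x)).comp
        (CommRingCat.Hom.hom ψ) = Curv2.stalkMap k X x := by
  haveI : IsIso ((Spec (CommRingCat.of k)).presheaf.germ ⊤
      ((X ↘ Spec (CommRingCat.of k)) x) (TopologicalSpace.Opens.mem_top _)) :=
    Groth.Agent.H63.GenericSmooth.isIso_germ_top_Spec_field k _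
  refine ⟨(Scheme.ΓSpecIso (CommRingCat.of k)).inv ≫
      (Spec (CommRingCat.of k)).presheaf.germ ⊤ ((X ↘ Spec (CommRingCat.of k)) x)
        (TopologicalSpace.Opens.mem_top _),
    inferInstance, ?_⟩
  rw [← CommRingCat.hom_comp, Category.assoc, Scheme.Hom.germ_stalkMap]
  rfl

theorem mem_smoothLocus_iff [LocallyOfFinitePresentation (X ↘ Spec (CommRingCat.of k))] (x : X) :
    x ∈ (X ↘ Spec (CommRingCat.of k)).smoothLocus ↔
      (Curv2.stalkMap k X x).FormallySmooth := by
  obtain ⟨ψ, hψ, hcomp⟩ := stalkMap_eq_comp k X x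
  haveI := hψ
  rw [Scheme.Hom.mem_smoothLocus,
    ← RingHom.FormallySmooth.respectsIso.cancel_left_isIso ψ
      ((X ↘ Spec (CommRingCat.of k)).stalkMap x), hcomp]

theorem essFiniteType_stalkMap [LocallyOfFiniteType (X ↘ Spec (CommRingCat.of k))] (x : X) :
    (Curv2.stalkMap k X x).EssFiniteType := by
  obtain ⟨ψ, hψ, hcomp⟩ := stalkMap_eq_comp k X x
  haveI := hψ
  rw [← hcomp]
  exact RingHom.EssFiniteType.comp
    (RingHom.FiniteType.of_surjective _ (ConcreteCategory.bijective_of_isIso ψ).2).essFiniteType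
    (LocallyOfFiniteType.stalkMap _ x)

set_option backward.isDefEq.respectTransparency false in
/-- Formally smooth local ring ⇒ all local rings of base changes over the point are regular. -/
theorem isRegularLocalRing_stalk_of_formallySmooth
    [LocallyOfFiniteType (X ↘ Spec (CommRingCat.of k))] (x : X)
    (h : (Curv2.stalkMap k X x).FormallySmooth)
    (K : Type u) [Field K] [Algebra k K] [Algebra.EssFiniteType k K]
    (x' : ↥(Curv2.bc k X K)) (hx' : (Curv2.bcFst k X K).base x' = x) :
    IsRegularLocalRing ((Curv2.bc k X K).presheaf.stalk x') := by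
  letI := Groth.Agent.H63.StalkBaseChange.stalkAlgebra (X ↘ Spec (CommRingCat.of k)) x
  haveI hfs : Algebra.FormallySmooth k (X.presheaf.stalk x) := h
  haveI hess : Algebra.EssFiniteType k (X.presheaf.stalk x) := essFiniteType_stalkMap k X x
  obtain ⟨Q, hQ, -, ⟨e⟩⟩ := Groth.Agent.H63.StalkBaseChange.exists_prime_ringEquiv_stalk (K := K)
    (X ↘ Spec (CommRingCat.of k)) (Curv2.bcFst k X K) (Curv2.bcSnd k X K)
    (IsPullback.of_hasPullback _ _) x' x hx'
  haveI := hQ
  haveI hN0 : IsNoetherianRing (X.presheaf.stalk x) := Algebra.EssFiniteType.isNoetherianRing k _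
  haveI hN1 : IsNoetherianRing (X.presheaf.stalk x ⊗[k] K) :=
    Algebra.EssFiniteType.isNoetherianRing (X.presheaf.stalk x) _
  haveI hN2 : IsNoetherianRing (K ⊗[k] X.presheaf.stalk x) :=
    isNoetherianRing_of_ringEquiv _ (Algebra.TensorProduct.comm k _ K).toRingEquiv
  haveI hN3 : IsNoetherianRing (Localization.AtPrime Q) := inferInstance
  haveI hfs1 : Algebra.FormallySmooth K (K ⊗[k] X.presheaf.stalk x) := inferInstance
  haveI hfs2 : Algebra.FormallySmooth K (Localization.AtPrime Q) := inferInstance
  have hreg : IsRegularLocalRing (Localization.AtPrime Q) :=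
    Groth.Agent.Lead.GeomReg.regular_of_fs (k := K)
      (fun A _ _ J hJ ψ _ => Algebra.FormallySmooth.exists_lift J ⟨2, hJ⟩ ψ)
  exact IsRegularLocalRing.of_ringEquiv e

set_option backward.isDefEq.respectTransparency false in
/-- **Geometrically regular at `x` ⇔ smooth at `x`**, for `X` locally of finite type over `k`. -/
theorem isGeomRegularAt_iff_mem_smoothLocus
    [LocallyOfFinitePresentation (X ↘ Spec (CommRingCat.of k))] (x : X) :
    Curv2.IsGeomRegularAt k X x ↔ x ∈ (X ↘ Spec (CommRingCat.of k)).smoothLocus := by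
  rw [mem_smoothLocus_iff]
  constructor
  · intro hreg
    letI := Groth.Agent.H63.StalkBaseChange.stalkAlgebra (X ↘ Spec (CommRingCat.of k)) x
    haveI hess : Algebra.EssFiniteType k (X.presheaf.stalk x) := essFiniteType_stalkMap k X x
    haveI : IsLocallyNoetherian X :=
      LocallyOfFiniteType.isLocallyNoetherian (X ↘ Spec (CommRingCat.of k))
    show Algebra.FormallySmooth k (X.presheaf.stalk x)
    apply Groth.Agent.H63.GeomRegSmooth.formallySmooth_of_geomRegular_local k (X.presheaf.stalk x)
    intro k' _ _ hfin hpi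
    haveI := hfin
    haveI := hpi
    exact Groth.Agent.H63.GeomRegAt.isRegularRing_tensor_of_stalk_purelyInseparable k X x k'
      (fun x' hx' => hreg k' (IntermediateField.fg_top_iff.mpr inferInstance) x' hx')
  · intro h K _ _ hfg x' hx'
    haveI : Algebra.EssFiniteType k K := IntermediateField.fg_top_iff.mp hfg
    exact isRegularLocalRing_stalk_of_formallySmooth k X x h K x' hx'

end Groth.Agent.H63.GeomRegAtSmooth
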