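import Mathlib
import Groth.Agent.S4677
import Groth.Agent.H36.TensorLocal
import Groth.Agent.S5807
import Groth.Agent.H79.SmoothReg2
import Groth.Agent.H63.SmoothRegular2

/-!
# Geometrically regular algebras of finite type over a field are smooth
-/

set_option autoImplicit false
set_option linter.style.haveILetI false
universe u
open TensorProduct IsLocalRing

namespace Groth.Agent.H63.GeomRegSmooth

/-- Formal smoothness descends along a field extension, for algebras with finitely presented
differentials. -/
theorem formallySmooth_of_tensor_field (k k' A : Type u) [Field k] [Field k'] [Algebra k k']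
    [CommRing A] [Algebra k A] [Module.FinitePresentation A Ω[A⁄k]]
    [Algebra.FormallySmooth k' (k' ⊗[k] A)] : Algebra.FormallySmooth k A := by
  rw [Algebra.formallySmooth_iff]
  constructor
  · let _ : Algebra k' (A ⊗[k] k') := Algebra.TensorProduct.rightAlgebra
    let e : A ⊗[k] k' ≃ₐ[k'] k' ⊗[k] A :=
      .ofRingEquiv (f := Algebra.TensorProduct.comm k A k') <| by
        simp [RingHom.algebraMap_toAlgebra]
    have : Algebra.FormallySmooth k' (A ⊗[k] k') := .of_equiv e.symm
    let e' : (A ⊗[k] k') ⊗[A] Ω[A⁄k] ≃ₗ[A ⊗[k] k'] Ω[A ⊗[k] k'⁄k'] :=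
      KaehlerDifferential.tensorKaehlerEquiv k k' A (A ⊗[k] k')
    have : Module.Flat (A ⊗[k] k') ((A ⊗[k] k') ⊗[A] Ω[A⁄k]) := .of_linearEquiv e'
    have : Module.Flat A Ω[A⁄k] := Module.Flat.of_flat_tensorProduct _ _ (A ⊗[k] k')
    exact Module.Flat.projective_of_finitePresentation
  · have : Subsingleton (k' ⊗[k] Algebra.H1Cotangent k A) :=
      (Algebra.tensorH1CotangentOfFlat k A k').subsingleton
    exact Module.FaithfullyFlat.lTensor_reflects_triviality k k' (Algebra.H1Cotangent k A)

/-- Purely inseparable extensions of fields induce purely inseparable extensions of the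
(trivial) residue fields. -/
theorem isPurelyInseparable_residueField (k k' : Type u) [Field k] [Field k'] [Algebra k k']
    [IsPurelyInseparable k k'] :
    IsPurelyInseparable (ResidueField k) (ResidueField k') := by
  haveI : ExpChar k (ringExpChar k) := ringExpChar.expChar k
  haveI : ExpChar (ResidueField k) (ringExpChar k) :=
    expChar_of_injective_ringHom (residue k).injective (ringExpChar k)
  rw [isPurelyInseparable_iff_pow_mem (ResidueField k) (ringExpChar k)]
  intro x
  obtain ⟨y, rfl⟩ := residue_surjective x
  obtain ⟨n, c, hc⟩ := (isPurelyInseparable_iff_pow_mem k (ringExpChar k)).mp inferInstance y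
  refine ⟨n, residue k c, ?_⟩
  rw [← map_pow, ← hc]
  rfl

/-- Base change of a local ring along a purely inseparable algebraic field extension is local. -/
theorem isLocalRing_tensor (k k' A : Type u) [Field k] [Field k'] [Algebra k k']
    [Algebra.IsIntegral k k'] [IsPurelyInseparable k k'] [CommRing A] [IsLocalRing A]
    [Algebra k A] : IsLocalRing (k' ⊗[k] A) := by
  haveI := isPurelyInseparable_residueField k k'
  obtain ⟨hloc, -⟩ := Groth.Agent.H36.tensor_local_right k A k'
  exact (Algebra.TensorProduct.comm k A k').toRingEquiv.isLocalRing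

/-- **Geometrically regular ⇒ formally smooth**, local version: a local `k`-algebra essentially of
finite type which stays regular after all finite purely inseparable base field extensions is
formally smooth over `k`. -/
theorem formallySmooth_of_geomRegular_local (k A : Type u) [Field k] [CommRing A] [IsLocalRing A]
    [Algebra k A] [Algebra.EssFiniteType k A]
    (h : ∀ (k' : Type u) [Field k'] [Algebra k k'], Module.Finite k k' → IsPurelyInseparable k k' →
      IsRegularRing (k' ⊗[k] A)) : Algebra.FormallySmooth k A := by
  haveI : IsNoetherianRing A := Algebra.EssFiniteType.isNoetherianRing k A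
  haveI : Algebra.FiniteType A (ResidueField A) :=
    Algebra.FiniteType.of_surjective (Algebra.ofId A (ResidueField A))
      Ideal.Quotient.mk_surjective
  haveI : Algebra.EssFiniteType A (ResidueField A) := inferInstance
  haveI : Algebra.EssFiniteType k (ResidueField A) := Algebra.EssFiniteType.comp k A _
  obtain ⟨k', hk'F, hk'A, hfin, hpi, hgr⟩ := Groth.Agent.S4677.result (k := k) (K := ResidueField A)
  letI := hk'F
  letI := hk'A
  haveI := hfin
  haveI := hpi
  haveI : IsLocalRing (k' ⊗[k] A) := isLocalRing_tensor k k' A
  haveI : IsRegularRing (k' ⊗[k] A) := h k' hfin hpi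
  haveI : IsRegularLocalRing (k' ⊗[k] A) := IsRegularLocalRing.of_isRegularRing_of_isLocalRing _
  -- the residue field of `k' ⊗ A`
  let ρ : A →ₐ[k] ResidueField A := IsScalarTower.toAlgHom k A (ResidueField A)
  let φ : k' ⊗[k] A →ₐ[k'] k' ⊗[k] ResidueField A := Algebra.TensorProduct.map (AlgHom.id k' k') ρ
  have hφ : Function.Surjective φ :=
    Algebra.TensorProduct.map_surjective (f := AlgHom.id k' k') (g := ρ)
      Function.surjective_id Ideal.Quotient.mk_surjective
  haveI : Nontrivial (k' ⊗[k] ResidueField A) := inferInstance
  obtain ⟨m, hm⟩ := Ideal.exists_maximal (k' ⊗[k] ResidueField A)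
  haveI := hm
  haveI := hgr m hm
  letI : Field ((k' ⊗[k] ResidueField A) ⧸ m) := Ideal.Quotient.field m
  let ψ : k' ⊗[k] A →ₐ[k'] (k' ⊗[k] ResidueField A) ⧸ m := (Ideal.Quotient.mkₐ k' m).comp φ
  have hψ : Function.Surjective ψ := Ideal.Quotient.mk_surjective.comp hφ
  have hker : RingHom.ker ψ.toRingHom = maximalIdeal (k' ⊗[k] A) := by
    haveI : (RingHom.ker ψ.toRingHom).IsMaximal := RingHom.ker_isMaximal_of_surjective _ hψ
    exact IsLocalRing.eq_maximalIdeal inferInstance
  let χ : ResidueField (k' ⊗[k] A) →ₐ[k'] (k' ⊗[k] ResidueField A) ⧸ m :=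
    Ideal.Quotient.liftₐ (maximalIdeal (k' ⊗[k] A)) ψ (by
      intro a ha
      rw [← hker] at ha
      exact ha)
  haveI : Algebra.IsGeometricallyReduced k' (ResidueField (k' ⊗[k] A)) :=
    Algebra.IsGeometricallyReduced.of_injective χ χ.toRingHom.injective
  have hκ : Algebra.FormallySmooth k' (ResidueField (k' ⊗[k] A)) :=
    Groth.Agent.H44.MacLane.formallySmooth_iff_isGeometricallyReduced.mpr inferInstance
  haveI : Algebra.FormallySmooth k' (k' ⊗[k] A) :=
    (Groth.Agent.H79.SmoothReg.formallySmooth_iff_isRegularLocalRing k' (k' ⊗[k] A) hκ).mpr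
      inferInstance
  haveI : Module.FinitePresentation A Ω[A⁄k] := Module.finitePresentation_of_finite A _
  exact formallySmooth_of_tensor_field k k' A

/-- A geometrically regular algebra of finite type over a field is smooth. -/
theorem smooth_of_isGeometricallyRegular (k S : Type u) [Field k] [CommRing S] [Algebra k S]
    [Algebra.FiniteType k S] (h : CAlg.IsGeometricallyRegular k S) : Algebra.Smooth k S := by
  haveI : Algebra.FinitePresentation k S :=
    Algebra.FinitePresentation.of_finiteType.mp inferInstance
  refine ⟨Algebra.smoothLocus_eq_univ_iff.mp (Set.eq_univ_iff_forall.mpr fun q => ?_),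
    inferInstance⟩
  change Algebra.FormallySmooth k (Localization.AtPrime q.asIdeal)
  haveI : Algebra.EssFiniteType S (Localization.AtPrime q.asIdeal) :=
    Algebra.EssFiniteType.of_isLocalization _ q.asIdeal.primeCompl
  haveI : Algebra.EssFiniteType k (Localization.AtPrime q.asIdeal) :=
    Algebra.EssFiniteType.comp k S _
  apply formallySmooth_of_geomRegular_local
  intro k' _ _ hfin hpi
  haveI : IsRegularRing (k' ⊗[k] S) := h k' hfin
  haveI : IsRegularRing (Localization (q.asIdeal.primeCompl.map
      (Algebra.TensorProduct.includeRight (R := k) (A := k')))) :=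
    Groth.Agent.S5807.isRegularRing_localization _ _
  exact IsRegularRing.of_ringEquiv
    (IsLocalization.tensorProductEquivOfMapIncludeRight k k' q.asIdeal.primeCompl
      (Localization.AtPrime q.asIdeal) (Localization (q.asIdeal.primeCompl.map
      (Algebra.TensorProduct.includeRight (R := k) (A := k'))))).symm.toRingEquiv

/-- `S4996`: smooth iff flat with geometrically regular fibres. -/
theorem smooth_iff_flat_and_geomRegular_fibres (A B : Type u) [CommRing A] [CommRing B]
    [Algebra A B] [Algebra.FinitePresentation A B] :
    Algebra.Smooth A B ↔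
      Module.Flat A B ∧ ∀ (p : Ideal A) [p.IsPrime],
        CAlg.IsGeometricallyRegular p.ResidueField (p.Fiber B) := by
  constructor
  · intro h
    exact ⟨inferInstance, fun p _ =>
      ((Groth.Agent.H63.SmoothRegular.isRegularHom_of_smooth A B).2 p).2⟩
  · rintro ⟨hflat, hfib⟩
    haveI := hflat
    refine Algebra.Smooth.of_formallySmooth_fiber (fun p _ => ?_)
    haveI : Algebra.FiniteType p.ResidueField (p.Fiber B) := inferInstance
    exact (smooth_of_isGeometricallyRegular _ _ (hfib p)).formallySmooth

end Groth.Agent.H63.GeomRegSmooth
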