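import Groth.Prelude.Def_W4sfdMinVersal
import Mathlib.RingTheory.AdicCompletion.RingHom
import Mathlib.RingTheory.Noetherian.Defs

/-!
Maps into a complete local ring from compatible systems of maps into its truncations, and related
facts on coefficient rings `ArtFun.CRing`.
-/

set_option autoImplicit false
set_option linter.unusedSectionVars false
universe u v

namespace Groth.Agent.H63

open CategoryTheory ArtFun ArtFun.Art

variable {Λ : Type u} {k : Type u} [CommRing Λ] [Field k] [Algebra Λ k]

theorem truncMap_surjective (S : CRing Λ k) (n : ℕ) : Function.Surjective (S.truncMap n) := by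
  intro y
  obtain ⟨s, rfl⟩ := Ideal.Quotient.mk_surjective y
  exact ⟨Ideal.Quotient.mk _ s, rfl⟩

/-- A compatible system of maps `R → S/m^(n+1)` comes from a map `R → S`. -/
theorem exists_algHom_of_compatible (S : CRing Λ k) {R : Type u} [CommRing R] [Algebra Λ R]
    (resR : R →ₐ[Λ] k) (ψ : ∀ n, HomSet R resR (S.trunc n))
    (hψ : ∀ n, HomSet.map (S.truncMap n) (ψ (n + 1)) = ψ n) :
    ∃ (g : R →ₐ[Λ] S.carrier) (_ : S.res.comp g = resR),
      ∀ n r, Ideal.Quotient.mk (S.mpow n) (g r) = (ψ n).1 r := by
  haveI := S.isAdicComplete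
  have ha : StrictMono (fun n : ℕ => n + 1) := fun a b h => Nat.succ_lt_succ h
  let f : (n : ℕ) → R →+* S.carrier ⧸ IsLocalRing.maximalIdeal S.carrier ^ (n + 1) :=
    fun n => (ψ n).1.toRingHom
  have hf : ∀ {m : ℕ}, (Ideal.Quotient.factorPow (IsLocalRing.maximalIdeal S.carrier)
      (ha.monotone m.le_succ)).comp (f (m + 1)) = f m := by
    intro m
    apply RingHom.ext
    intro r
    have h1 := congrArg (fun (t : HomSet R resR (S.trunc m)) => t.1 r) (hψ m)
    refine Eq.trans ?_ h1
    show Ideal.Quotient.factorPow (IsLocalRing.maximalIdeal S.carrier) (ha.monotone m.le_succ)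
        ((ψ (m + 1)).1 r) =
      (S.truncMap m) ((ψ (m + 1)).1 r)
    obtain ⟨s, hs⟩ := Ideal.Quotient.mk_surjective ((ψ (m + 1)).1 r)
    rw [← hs]
    rfl
  have hg₀ : ∀ n r, Ideal.Quotient.mk (IsLocalRing.maximalIdeal S.carrier ^ (n + 1))
      (IsAdicComplete.StrictMono.liftRingHom (IsLocalRing.maximalIdeal S.carrier) ha f hf r) =
        (ψ n).1 r :=
    fun n r => IsAdicComplete.StrictMono.mk_liftRingHom (IsLocalRing.maximalIdeal S.carrier) ha f hf r
  have hcomm : ∀ l : Λ,
      IsAdicComplete.StrictMono.liftRingHom (IsLocalRing.maximalIdeal S.carrier) ha f hf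
        (algebraMap Λ R l) = algebraMap Λ S.carrier l := by
    have h := IsHausdorff.StrictMono.funext' (R := Λ) (IsLocalRing.maximalIdeal S.carrier) ha
      (f := fun l => IsAdicComplete.StrictMono.liftRingHom (IsLocalRing.maximalIdeal S.carrier)
        ha f hf (algebraMap Λ R l))
      (g := fun l => algebraMap Λ S.carrier l) ?_
    · exact fun l => congrFun h l
    · intro n l
      show Ideal.Quotient.mk (IsLocalRing.maximalIdeal S.carrier ^ (n + 1)) _ =
        Ideal.Quotient.mk (IsLocalRing.maximalIdeal S.carrier ^ (n + 1)) (algebraMap Λ S.carrier l)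
      rw [hg₀, AlgHom.commutes]
      rfl
  let g : R →ₐ[Λ] S.carrier :=
    { IsAdicComplete.StrictMono.liftRingHom (IsLocalRing.maximalIdeal S.carrier) ha f hf with
      commutes' := hcomm }
  have hg : S.res.comp g = resR := by
    apply AlgHom.ext
    intro r
    have h1 : (S.trunc 0).res (Ideal.Quotient.mk (IsLocalRing.maximalIdeal S.carrier ^ (0 + 1)) (g r)) =
        S.res (g r) := rfl
    show S.res (g r) = resR r
    rw [← h1]
    have h2 : Ideal.Quotient.mk (IsLocalRing.maximalIdeal S.carrier ^ (0 + 1)) (g r) = (ψ 0).1 r :=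
      hg₀ 0 r
    rw [h2]
    exact DFunLike.congr_fun (ψ 0).2 r
  exact ⟨g, hg, fun n r => hg₀ n r⟩

/-- The formal element of a family transported along `g` is the pushforward of its formal element. -/
theorem along_toFormalElt {F : Art Λ k ⥤ Type v} {R S : CRing Λ k}
    (ξ : Family R.carrier R.res F) (g : R.carrier →ₐ[Λ] S.carrier) (hg : S.res.comp g = R.res) :
    (ξ.along g hg).toFormalElt = ξ.toFormalElt.push g hg := by
  apply FormalElt.ext'
  intro n
  show ξ.app _ _ = F.map (CRing.truncMapOfHom g hg n) (ξ.app _ (R.truncHom n))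
  rw [← ξ.natural]
  congr 1

/-- A surjective endomorphism of a Noetherian ring is injective. -/
theorem injective_of_surjective_ringEnd {R : Type*} [CommRing R] [IsNoetherianRing R]
    (g : R →+* R) (hg : Function.Surjective g) : Function.Injective g := by
  let K : ℕ → Ideal R := fun n => Nat.rec ⊥ (fun _ J => Ideal.comap g J) n
  have hK0 : K 0 = ⊥ := rfl
  have hKs : ∀ n, K (n + 1) = Ideal.comap g (K n) := fun n => rfl
  have hK : ∀ n x, x ∈ K n ↔ g^[n] x = 0 := by
    intro n
    induction n with
    | zero =>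
      intro x
      rw [hK0, Ideal.mem_bot]
      rfl
    | succ n ih =>
      intro x
      rw [hKs, Ideal.mem_comap, ih, Function.iterate_succ_apply]
  have hmono : Monotone K := by
    apply monotone_nat_of_le_succ
    intro n
    induction n with
    | zero =>
      rw [hK0]
      exact bot_le
    | succ n ih =>
      rw [hKs n, hKs (n + 1)]
      exact Ideal.comap_mono ih
  obtain ⟨n, hn⟩ := monotone_stabilizes_iff_noetherian.2 (inferInstance : IsNoetherian R R)
    ⟨K, hmono⟩
  have hn1 : K n = K (n + 1) := hn (n + 1) (Nat.le_succ n)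
  rw [injective_iff_map_eq_zero]
  intro x hx
  obtain ⟨y, rfl⟩ := (hg.iterate n) x
  have hy : y ∈ K (n + 1) := by
    refine (hK (n + 1) y).2 ?_
    rw [Function.iterate_succ_apply']
    exact hx
  rw [← hn1] at hy
  exact (hK n y).1 hy

end Groth.Agent.H63
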