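import Groth.Agent.H63.ArtFibre

/-!
Reduction of conditions on comparison maps `F(A' ×_A A'') → F(A') ×_{F(A)} F(A'')` from all
surjections `A'' → A` to small extensions.
-/

set_option autoImplicit false
set_option linter.style.haveILetI false
set_option linter.unusedSectionVars false
universe u v

namespace Groth.Agent.H63

open CategoryTheory ArtFun ArtFun.Art

variable {Λ : Type u} {k : Type u} [CommRing Λ] [Field k] [Algebra Λ k]
  [IsNoetherianRing Λ] [Module.Finite Λ k]

theorem cmp_fst {F : Art Λ k ⥤ Type v} {B A A' A'' : Art Λ k} {p' : B ⟶ A'} {p'' : B ⟶ A''}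
    {f' : A' ⟶ A} {f'' : A'' ⟶ A} (h : IsFibreProd p' p'' f' f'') (z : F.obj B) :
    (cmp F h z).1.1 = F.map p' z := rfl

theorem cmp_snd {F : Art Λ k ⥤ Type v} {B A A' A'' : Art Λ k} {p' : B ⟶ A'} {p'' : B ⟶ A''}
    {f' : A' ⟶ A} {f'' : A'' ⟶ A} (h : IsFibreProd p' p'' f' f'') (z : F.obj B) :
    (cmp F h z).1.2 = F.map p'' z := rfl

/-- Surjectivity of comparison maps propagates from small extensions to all surjections. -/
theorem cmp_surjective_of_smallExt (F : Art Λ k ⥤ Type v)
    (hs : ∀ ⦃B A A' A'' : Art Λ k⦄ (p' : B ⟶ A') (p'' : B ⟶ A'') (f' : A' ⟶ A) (f'' : A'' ⟶ A)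
      (h : IsFibreProd p' p'' f' f''), IsSmallExt f'' → Function.Surjective (cmp F h))
    ⦃B A A' A'' : Art Λ k⦄ (p' : B ⟶ A') (p'' : B ⟶ A'') (f' : A' ⟶ A) (f'' : A'' ⟶ A)
    (h : IsFibreProd p' p'' f' f'') (hf : Function.Surjective f'') :
    Function.Surjective (cmp F h) := by
  have key := surjective_induction
    (fun (A A'' : Art Λ k) (f'' : A'' ⟶ A) => Function.Surjective f'' ∧
      ∀ (A' B : Art Λ k) (f' : A' ⟶ A) (p' : B ⟶ A') (p'' : B ⟶ A'')
        (h : IsFibreProd p' p'' f' f''), Function.Surjective (cmp F h)) ?_ ?_ ?_ f'' hf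
  · exact key.2 A' B f' p' p'' h
  · -- isomorphisms
    intro A A'' e he
    have hbij := bijective_of_isIso e
    refine ⟨hbij.2, ?_⟩
    intro A' B f' p' p'' h y
    obtain ⟨⟨x', x''⟩, hx⟩ := y
    have hx' : F.map f' x' = F.map e x'' := hx
    haveI : IsIso p' := isIso_of_bijective p' (IsFibreProd.bijective_fst h hbij)
    refine ⟨F.map (inv p') x', Subtype.ext (Prod.ext ?_ ?_)⟩
    · change F.map p' (F.map (inv p') x') = x'
      rw [← Functor.map_comp_apply, IsIso.inv_hom_id, Functor.map_id_apply]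
    · change F.map p'' (F.map (inv p') x') = x''
      have hinj : Function.Injective (F.map e) := by
        intro a b hab
        have := congrArg (F.map (inv e)) hab
        rwa [← Functor.map_comp_apply, ← Functor.map_comp_apply, IsIso.hom_inv_id,
          Functor.map_id_apply, Functor.map_id_apply] at this
      apply hinj
      rw [← Functor.map_comp_apply, ← Functor.map_comp_apply, ← h.w, IsIso.inv_hom_id_assoc, hx']
  · -- small extensions
    intro A A'' f'' hsm
    exact ⟨hsm.1, fun A' B f' p' p'' h => hs p' p'' f' f'' h hsm⟩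
  · -- composition
    intro A B₀ C p q hp hq
    refine ⟨fun a => ?_, ?_⟩
    · obtain ⟨b, hb⟩ := hq.1 a
      obtain ⟨c, hc⟩ := hp.1 b
      exact ⟨c, by rw [Art.comp_apply, hc, hb]⟩
    intro A' B f' p' p'' h y
    obtain ⟨⟨x', x''⟩, hx⟩ := y
    have hx' : F.map f' x' = F.map (p ≫ q) x'' := hx
    have hx'' : F.map f' x' = F.map q (F.map p x'') := by
      rw [hx', Functor.map_comp_apply]
    obtain ⟨y₁, hy₁⟩ := hq.2 A' _ f' _ _ (isFibreProd_fibreProd f' q hq.1) ⟨(x', F.map p x''), hx''⟩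
    have hy₁1 : F.map (fibreProdFst f' q hq.1) y₁ = x' := congrArg (fun t => t.1.1) hy₁
    have hy₁2 : F.map (fibreProdSnd f' q hq.1) y₁ = F.map p x'' := congrArg (fun t => t.1.2) hy₁
    obtain ⟨z, hz⟩ := hp.2 _ B _ _ _ (IsFibreProd.of_comp h hq.1) ⟨(y₁, x''), hy₁2⟩
    have hz1 : F.map (fibreProdLift f' q hq.1 p' (p'' ≫ p) (comp_lift_w h)) z = y₁ :=
      congrArg (fun t => t.1.1) hz
    have hz2 : F.map p'' z = x'' := congrArg (fun t => t.1.2) hz
    refine ⟨z, Subtype.ext (Prod.ext ?_ hz2)⟩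
    change F.map p' z = x'
    rw [← hy₁1, ← hz1, ← Functor.map_comp_apply, fibreProdLift_fst]

/-- Injectivity of comparison maps propagates from small extensions to all surjections. -/
theorem cmp_injective_of_smallExt (F : Art Λ k ⥤ Type v)
    (hs : ∀ ⦃B A A' A'' : Art Λ k⦄ (p' : B ⟶ A') (p'' : B ⟶ A'') (f' : A' ⟶ A) (f'' : A'' ⟶ A)
      (h : IsFibreProd p' p'' f' f''), IsSmallExt f'' → Function.Injective (cmp F h))
    ⦃B A A' A'' : Art Λ k⦄ (p' : B ⟶ A') (p'' : B ⟶ A'') (f' : A' ⟶ A) (f'' : A'' ⟶ A)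
    (h : IsFibreProd p' p'' f' f'') (hf : Function.Surjective f'') :
    Function.Injective (cmp F h) := by
  have key := surjective_induction
    (fun (A A'' : Art Λ k) (f'' : A'' ⟶ A) => Function.Surjective f'' ∧
      ∀ (A' B : Art Λ k) (f' : A' ⟶ A) (p' : B ⟶ A') (p'' : B ⟶ A'')
        (h : IsFibreProd p' p'' f' f''), Function.Injective (cmp F h)) ?_ ?_ ?_ f'' hf
  · exact key.2 A' B f' p' p'' h
  · -- isomorphisms
    intro A A'' e he
    have hbij := bijective_of_isIso e
    refine ⟨hbij.2, ?_⟩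
    intro A' B f' p' p'' h z₁ z₂ hz
    haveI : IsIso p' := isIso_of_bijective p' (IsFibreProd.bijective_fst h hbij)
    have h1 : F.map p' z₁ = F.map p' z₂ := congrArg (fun t => t.1.1) hz
    have := congrArg (F.map (inv p')) h1
    rwa [← Functor.map_comp_apply, ← Functor.map_comp_apply, IsIso.hom_inv_id,
      Functor.map_id_apply, Functor.map_id_apply] at this
  · -- small extensions
    intro A A'' f'' hsm
    exact ⟨hsm.1, fun A' B f' p' p'' h => hs p' p'' f' f'' h hsm⟩
  · -- composition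
    intro A B₀ C p q hp hq
    refine ⟨fun a => ?_, ?_⟩
    · obtain ⟨b, hb⟩ := hq.1 a
      obtain ⟨c, hc⟩ := hp.1 b
      exact ⟨c, by rw [Art.comp_apply, hc, hb]⟩
    intro A' B f' p' p'' h z₁ z₂ hz
    have h1 : F.map p' z₁ = F.map p' z₂ := congrArg (fun t => t.1.1) hz
    have h2 : F.map p'' z₁ = F.map p'' z₂ := congrArg (fun t => t.1.2) hz
    apply hp.2 _ B _ _ _ (IsFibreProd.of_comp h hq.1)
    apply Subtype.ext
    apply Prod.ext
    · change F.map (fibreProdLift f' q hq.1 p' (p'' ≫ p) (comp_lift_w h)) z₁ =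
        F.map (fibreProdLift f' q hq.1 p' (p'' ≫ p) (comp_lift_w h)) z₂
      apply hq.2 A' _ f' _ _ (isFibreProd_fibreProd f' q hq.1)
      apply Subtype.ext
      apply Prod.ext
      · change F.map (fibreProdFst f' q hq.1) (F.map _ z₁) = F.map (fibreProdFst f' q hq.1) (F.map _ z₂)
        rw [← Functor.map_comp_apply, ← Functor.map_comp_apply, fibreProdLift_fst, h1]
      · change F.map (fibreProdSnd f' q hq.1) (F.map _ z₁) = F.map (fibreProdSnd f' q hq.1) (F.map _ z₂)
        rw [← Functor.map_comp_apply, ← Functor.map_comp_apply, fibreProdLift_snd,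
          Functor.map_comp_apply, Functor.map_comp_apply, h2]
    · exact h2

end Groth.Agent.H63
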