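import Mathlib.RingTheory.LocalRing.Length
import Mathlib.RingTheory.Length
import Mathlib.RingTheory.FiniteLength

/-!
Length over a base ring `Λ` of a module over a local `Λ`-algebra `A` with residue field `k`
(through a surjection `A → k`): `ℓ_Λ(M) = ℓ_Λ(k) * ℓ_A(M)`.
-/

set_option autoImplicit false
universe u v

namespace Groth.Agent.H63

open IsLocalRing LinearMap Module Submodule

variable (Λ : Type*) {A k M : Type*} [CommRing Λ] [Field k] [Algebra Λ k]
  [CommRing A] [Algebra Λ A] [IsLocalRing A] [Algebra A k] [IsScalarTower Λ A k]
  [AddCommGroup M] [Module A M] [Module Λ M] [IsScalarTower Λ A M]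

theorem covBy_length_restrictScalars (hres : Function.Surjective (algebraMap A k))
    {p q : Submodule A M} (h : p ⋖ q) :
    Module.length Λ q = Module.length Λ p + Module.length Λ k := by
  let f : p →ₗ[A] q := inclusion h.le
  have key : IsSimpleModule A (q ⧸ LinearMap.range f) := by
    rwa [range_inclusion, ← covBy_iff_quot_is_simple h.le]
  obtain ⟨m, hm, ⟨e⟩⟩ := isSimpleModule_iff_quot_maximal.mp key
  rw [eq_maximalIdeal hm] at e
  have hker : LinearMap.ker (Algebra.linearMap A k) = maximalIdeal A := by
    have hmax : (RingHom.ker (algebraMap A k)).IsMaximal :=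
      RingHom.ker_isMaximal_of_surjective _ hres
    rw [← IsLocalRing.eq_maximalIdeal hmax]
    rfl
  let e2 : (A ⧸ maximalIdeal A) ≃ₗ[A] k :=
    (Submodule.quotEquivOfEq _ _ hker.symm).trans
      (LinearMap.quotKerEquivOfSurjective (Algebra.linearMap A k) hres)
  let g : q →ₗ[A] k := ((e.trans e2 : _ ≃ₗ[A] k) : _ →ₗ[A] k).comp (LinearMap.range f).mkQ
  have hf : Function.Injective f := inclusion_injective _
  have hg : Function.Surjective g := (e.trans e2).surjective.comp (LinearMap.range f).mkQ_surjective
  have hfg : Function.Exact f g :=
    exact_iff.mpr (((e.trans e2).ker_comp (LinearMap.range f).mkQ).trans (LinearMap.range f).ker_mkQ)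
  rw [length_eq_add_of_exact (f.restrictScalars Λ) (g.restrictScalars Λ)
    (by simpa using hf) (by simpa using hg) (by simpa using hfg)]

theorem length_restrictScalars (hres : Function.Surjective (algebraMap A k)) :
    Module.length Λ k * Module.length A M = Module.length Λ M := by
  by_cases h : IsFiniteLength A M
  · obtain ⟨s, hs_bot, hs_top⟩ := isFiniteLength_iff_exists_compositionSeries.mp h
    rw [← length_compositionSeries s hs_bot hs_top]
    suffices ∀ i, Module.length Λ (s i) = Module.length Λ k * i by
      rw [← Fin.val_last s.length, ← this, ← RelSeries.last, hs_top]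
      exact LinearEquiv.length_eq
        ((Submodule.topEquiv (R := A) (M := M)).restrictScalars Λ)
    intro i
    induction i using Fin.induction with
    | zero =>
      rw [← RelSeries.head, hs_bot]
      simp [Module.length_eq_zero]
    | succ i hi =>
      have := covBy_length_restrictScalars Λ hres (s.step i)
      rw [this, hi]
      simp [mul_add]
  · have : ¬ IsFiniteLength Λ M := by
      contrapose! h
      rw [isFiniteLength_iff_isNoetherian_isArtinian] at h ⊢
      exact h.imp (isNoetherian_of_tower Λ) (isArtinian_of_tower Λ)
    rw [← length_ne_top_iff, not_ne_iff] at h this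
    have ne : Module.length Λ k ≠ 0 := by
      simpa [pos_iff_ne_zero] using (Module.length_pos (R := Λ) (M := k))
    rw [h, this, ENat.mul_top ne]

end Groth.Agent.H63
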