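import Groth.Agent.H63.ArtBasic
import Groth.Agent.H63.Length
import Mathlib.RingTheory.LocalRing.Pullback
import Mathlib.RingTheory.Ideal.GoingUp
import Mathlib.RingTheory.Finiteness.Basic

/-!
Objects of `ArtFun.Art Λ k` have finite length over `Λ` (for `Λ → k` finite), and the fibre product
`A₁ ×_A A₂` exists in `Art Λ k` when `A₂ → A` is surjective.
-/

set_option autoImplicit false
set_option linter.unusedSectionVars false
set_option linter.style.haveILetI false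
universe u v

namespace Groth.Agent.H63

open CategoryTheory ArtFun ArtFun.Art

variable {Λ : Type u} {k : Type u} [CommRing Λ] [Field k] [Algebra Λ k]

theorem isArtinian_residue (Λ : Type*) (k : Type*) [CommRing Λ] [Field k] [Algebra Λ k]
    [Module.Finite Λ k] : IsArtinian Λ k := by
  let p : Ideal Λ := RingHom.ker (algebraMap Λ k)
  haveI hp : p.IsMaximal := by
    have h := Ideal.isMaximal_comap_of_isIntegral_of_isMaximal (R := Λ) (S := k) (⊥ : Ideal k)
    rwa [← RingHom.ker_eq_comap_bot] at h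
  letI : Field (Λ ⧸ p) := Ideal.Quotient.field p
  letI : Algebra (Λ ⧸ p) k := (RingHom.kerLift (algebraMap Λ k)).toAlgebra
  haveI : IsScalarTower Λ (Λ ⧸ p) k := IsScalarTower.of_algebraMap_eq (fun x => rfl)
  haveI : Module.Finite (Λ ⧸ p) k := Module.Finite.of_restrictScalars_finite Λ _ _
  haveI : IsArtinian (Λ ⧸ p) k := inferInstance
  exact isArtinian_of_surjective_algebraMap (S := Λ) (R := Λ ⧸ p) Ideal.Quotient.mk_surjective

variable [IsNoetherianRing Λ] [Module.Finite Λ k]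

theorem isFiniteLength_base (A : Art Λ k) : IsFiniteLength Λ A := by
  letI : Algebra A k := A.res.toRingHom.toAlgebra
  haveI : IsScalarTower Λ A k := IsScalarTower.of_algebraMap_eq (fun x => (A.res.commutes x).symm)
  have hres : Function.Surjective (algebraMap A k) := A.res_surjective
  have h := length_restrictScalars Λ (M := A) hres
  haveI : IsArtinian Λ k := isArtinian_residue Λ k
  have h1 : Module.length Λ k ≠ ⊤ := Module.length_ne_top
  have h2 : Module.length A A ≠ ⊤ := Module.length_ne_top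
  rw [← Module.length_ne_top_iff, ← h]
  exact WithTop.mul_ne_top h1 h2

instance isArtinian_base (A : Art Λ k) : IsArtinian Λ A :=
  ((isFiniteLength_iff_isNoetherian_isArtinian).1 (isFiniteLength_base A)).2

section FibreProd

variable {A A₁ A₂ : Art Λ k} (f₁ : A₁ ⟶ A) (f₂ : A₂ ⟶ A)

/-- The fibre product `A₁ ×_A A₂` as an object (`f₂` surjective). -/
noncomputable def fibreProd (hf₂ : Function.Surjective f₂) : Art Λ k :=
  haveI : IsLocalHom f₂.toAlgHom := Art.isLocalHom f₂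
  { carrier := AlgHom.pullback f₁.toAlgHom f₂.toAlgHom
    isLocalRing := AlgHom.isLocalRing_pullback f₁.toAlgHom f₂.toAlgHom
    isArtinianRing := by
      have h : IsArtinian Λ (AlgHom.pullback f₁.toAlgHom f₂.toAlgHom) :=
        isArtinian_of_injective (AlgHom.pullback f₁.toAlgHom f₂.toAlgHom).val.toLinearMap
          Subtype.val_injective
      exact isArtinian_of_tower Λ h
    res := A₁.res.comp (AlgHom.pullbackFst f₁.toAlgHom f₂.toAlgHom)
    res_surjective := A₁.res_surjective.comp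
      (AlgHom.surjective_pullbackFst_of_surjective f₁.toAlgHom f₂.toAlgHom hf₂) }

/-- First projection. -/
noncomputable def fibreProdFst (hf₂ : Function.Surjective f₂) : fibreProd f₁ f₂ hf₂ ⟶ A₁ :=
  ⟨AlgHom.pullbackFst f₁.toAlgHom f₂.toAlgHom, rfl⟩

/-- Second projection. -/
noncomputable def fibreProdSnd (hf₂ : Function.Surjective f₂) : fibreProd f₁ f₂ hf₂ ⟶ A₂ :=
  ⟨AlgHom.pullbackSnd f₁.toAlgHom f₂.toAlgHom, by
    apply AlgHom.ext
    rintro ⟨⟨a₁, a₂⟩, h⟩
    have h' : f₁ a₁ = f₂ a₂ := h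
    change A₂.res a₂ = A₁.res a₁
    rw [← res_app f₂, ← h', res_app]⟩

theorem isFibreProd_fibreProd (hf₂ : Function.Surjective f₂) :
    IsFibreProd (fibreProdFst f₁ f₂ hf₂) (fibreProdSnd f₁ f₂ hf₂) f₁ f₂ where
  w := by
    apply hom_ext
    exact AlgHom.pullback_comm_sq f₁.toAlgHom f₂.toAlgHom
  inj := by
    rintro ⟨⟨a₁, a₂⟩, h⟩ ⟨⟨b₁, b₂⟩, h'⟩ e₁ e₂
    have e₁' : a₁ = b₁ := e₁
    have e₂' : a₂ = b₂ := e₂
    subst e₁' e₂'
    rfl
  surj := by
    intro a' a'' h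
    exact ⟨⟨(a', a''), h⟩, rfl, rfl⟩

/-- The morphism into the fibre product induced by a compatible pair. -/
noncomputable def fibreProdLift (hf₂ : Function.Surjective f₂) {T : Art Λ k} (g₁ : T ⟶ A₁)
    (g₂ : T ⟶ A₂) (w : g₁ ≫ f₁ = g₂ ≫ f₂) : T ⟶ fibreProd f₁ f₂ hf₂ :=
  ⟨AlgHom.codRestrict (g₁.toAlgHom.prod g₂.toAlgHom) (AlgHom.pullback f₁.toAlgHom f₂.toAlgHom)
      (fun t => by
        have h : (g₁ ≫ f₁) t = (g₂ ≫ f₂) t := by rw [w]
        exact h), by
    apply AlgHom.ext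
    intro t
    exact res_app g₁ t⟩

theorem fibreProdLift_fst (hf₂ : Function.Surjective f₂) {T : Art Λ k} (g₁ : T ⟶ A₁)
    (g₂ : T ⟶ A₂) (w : g₁ ≫ f₁ = g₂ ≫ f₂) :
    fibreProdLift f₁ f₂ hf₂ g₁ g₂ w ≫ fibreProdFst f₁ f₂ hf₂ = g₁ :=
  hom_ext (AlgHom.ext fun _ => rfl)

theorem fibreProdLift_snd (hf₂ : Function.Surjective f₂) {T : Art Λ k} (g₁ : T ⟶ A₁)
    (g₂ : T ⟶ A₂) (w : g₁ ≫ f₁ = g₂ ≫ f₂) :
    fibreProdLift f₁ f₂ hf₂ g₁ g₂ w ≫ fibreProdSnd f₁ f₂ hf₂ = g₂ :=
  hom_ext (AlgHom.ext fun _ => rfl)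

theorem fibreProdFst_lift_apply (hf₂ : Function.Surjective f₂) {T : Art Λ k} (g₁ : T ⟶ A₁)
    (g₂ : T ⟶ A₂) (w : g₁ ≫ f₁ = g₂ ≫ f₂) (t : T) :
    fibreProdFst f₁ f₂ hf₂ (fibreProdLift f₁ f₂ hf₂ g₁ g₂ w t) = g₁ t := rfl

theorem fibreProdSnd_lift_apply (hf₂ : Function.Surjective f₂) {T : Art Λ k} (g₁ : T ⟶ A₁)
    (g₂ : T ⟶ A₂) (w : g₁ ≫ f₁ = g₂ ≫ f₂) (t : T) :
    fibreProdSnd f₁ f₂ hf₂ (fibreProdLift f₁ f₂ hf₂ g₁ g₂ w t) = g₂ t := rfl

end FibreProd

section Squares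

variable {B A A' A'' : Art Λ k} {p' : B ⟶ A'} {p'' : B ⟶ A''} {f' : A' ⟶ A} {f'' : A'' ⟶ A}

/-- In a fibre square, if `f''` is bijective then so is `p'`. -/
theorem IsFibreProd.bijective_fst (h : IsFibreProd p' p'' f' f'') (hf : Function.Bijective f'') :
    Function.Bijective p' := by
  constructor
  · intro b₁ b₂ hb
    apply h.inj b₁ b₂ hb
    apply hf.1
    rw [← h.w_apply, ← h.w_apply, hb]
  · intro a'
    obtain ⟨a'', ha''⟩ := hf.2 (f' a')
    obtain ⟨b, hb, _⟩ := h.surj a' a'' ha''.symm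
    exact ⟨b, hb⟩

/-- In a fibre square, if `f''` is surjective then so is `p'`. -/
theorem IsFibreProd.surjective_fst (h : IsFibreProd p' p'' f' f'') (hf : Function.Surjective f'') :
    Function.Surjective p' := by
  intro a'
  obtain ⟨a'', ha''⟩ := hf (f' a')
  obtain ⟨b, hb, _⟩ := h.surj a' a'' ha''.symm
  exact ⟨b, hb⟩

end Squares

section Comp

variable {B A A' B₀ C : Art Λ k} {p' : B ⟶ A'} {p'' : B ⟶ C} {f' : A' ⟶ A}
  {p : C ⟶ B₀} {q : B₀ ⟶ A}

theorem comp_lift_w (h : IsFibreProd p' p'' f' (p ≫ q)) : p' ≫ f' = (p'' ≫ p) ≫ q := by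
  rw [h.w, Category.assoc]

/-- Decomposing a fibre square over a composite `p ≫ q` : the upper square. -/
theorem IsFibreProd.of_comp (h : IsFibreProd p' p'' f' (p ≫ q)) (hq : Function.Surjective q) :
    IsFibreProd (fibreProdLift f' q hq p' (p'' ≫ p) (comp_lift_w h)) p''
      (fibreProdSnd f' q hq) p where
  w := fibreProdLift_snd f' q hq p' (p'' ≫ p) (comp_lift_w h)
  inj := by
    intro b₁ b₂ e₁ e₂
    apply h.inj b₁ b₂ _ e₂
    have := congrArg (fibreProdFst f' q hq) e₁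
    rwa [fibreProdFst_lift_apply, fibreProdFst_lift_apply] at this
  surj := by
    intro y c hy
    have h1 : f' (fibreProdFst f' q hq y) = (p ≫ q) c := by
      rw [(isFibreProd_fibreProd f' q hq).w_apply, hy]
      rfl
    obtain ⟨b, hb1, hb2⟩ := h.surj _ c h1
    refine ⟨b, ?_, hb2⟩
    apply (isFibreProd_fibreProd f' q hq).inj
    · rw [fibreProdFst_lift_apply, hb1]
    · rw [fibreProdSnd_lift_apply, hy, Art.comp_apply, hb2]

end Comp

end Groth.Agent.H63
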