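import Groth.Prelude.Def_ArtFun5
import Mathlib.RingTheory.Noetherian.Defs
import Mathlib.RingTheory.Ideal.Operations
import Mathlib.Tactic.Ring
import Mathlib.Tactic.Abel

/-!
Tangent vectors of local algebras with residue field `k`: if the cotangent map of `f : R' → S` is not
surjective, there is a nonzero "derivation" `S → k[ε]` vanishing on the image of `f`.
-/

set_option autoImplicit false
set_option linter.unusedSectionVars false
universe u v

namespace Groth.Agent.H63

open CategoryTheory ArtFun ArtFun.Art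

variable {Λ : Type u} {k : Type u} [CommRing Λ] [Field k] [Algebra Λ k]

theorem exists_tangent_of_ne {S : Type u} [CommRing S] [Algebra Λ S] [IsLocalRing S]
    [IsNoetherianRing S]
    (resS : S →ₐ[Λ] k) (hmS : ∀ s, s ∈ IsLocalRing.maximalIdeal S ↔ resS s = 0)
    {R' : Type u} [CommRing R'] [Algebra Λ R'] (resR' : R' →ₐ[Λ] k)
    (hresR' : Function.Surjective resR')
    (f : R' →ₐ[Λ] S) (hf : resS.comp f = resR')
    (m' : Ideal R') (hm' : ∀ r, resR' r = 0 → r ∈ m')
    (hne : Ideal.map f m' ⊔ IsLocalRing.maximalIdeal S ^ 2 ≠ IsLocalRing.maximalIdeal S)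
    (hle : Ideal.map f m' ≤ IsLocalRing.maximalIdeal S) :
    ∃ θ : S →ₐ[Λ] TrivSqZeroExt k k, (∀ s, (θ s).fst = resS s) ∧ (∀ r', (θ (f r')).snd = 0) ∧
      ∃ s, (θ s).snd ≠ 0 := by
  classical
  have hIm : Ideal.map f m' ⊔ IsLocalRing.maximalIdeal S ^ 2 ≤ IsLocalRing.maximalIdeal S :=
    sup_le hle (Ideal.pow_le_self two_ne_zero)
  have hIlt := lt_of_le_of_ne hIm hne
  obtain ⟨x, hxm, hxI⟩ := SetLike.exists_of_lt hIlt
  obtain ⟨I', hI'mem, hmax⟩ := set_has_maximal_iff_noetherian.2 (inferInstance : IsNoetherian S S)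
    {J : Ideal S | Ideal.map f m' ⊔ IsLocalRing.maximalIdeal S ^ 2 ≤ J ∧ x ∉ J}
    ⟨_, le_rfl, hxI⟩
  obtain ⟨hII', hxI'⟩ := hI'mem
  have hfres : ∀ r', resS (f r') = resR' r' := fun r' => DFunLike.congr_fun hf r'
  have hm2 : ∀ a ∈ IsLocalRing.maximalIdeal S, ∀ b ∈ IsLocalRing.maximalIdeal S, a * b ∈ I' := by
    intro a ha b hb
    apply hII'
    apply Ideal.mem_sup_right
    rw [sq]
    exact Ideal.mul_mem_mul ha hb
  have hfm : ∀ r', resR' r' = 0 → f r' ∈ I' := fun r' hr =>
    hII' (Ideal.mem_sup_left (Ideal.mem_map_of_mem f (hm' r' hr)))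
  have hunit : ∀ c : S, c * x ∈ I' → resS c = 0 := by
    intro c hc
    by_contra hne0
    have hcu : IsUnit c := by
      by_contra hnu
      exact hne0 ((hmS c).1 ((IsLocalRing.mem_maximalIdeal c).2 hnu))
    obtain ⟨d, hd⟩ := hcu.exists_left_inv
    apply hxI'
    have hx : x = d * (c * x) := by rw [← mul_assoc, hd, one_mul]
    rw [hx]
    exact Ideal.mul_mem_left I' d hc
  have hA : ∀ y ∈ IsLocalRing.maximalIdeal S, ∃ c : S, y - c * x ∈ I' := by
    intro y hy
    by_cases hyI : y ∈ I'
    · exact ⟨0, by rwa [zero_mul, sub_zero]⟩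
    · have hJ : ¬ (Ideal.map f m' ⊔ IsLocalRing.maximalIdeal S ^ 2 ≤ I' ⊔ Ideal.span {y} ∧
          x ∉ I' ⊔ Ideal.span {y}) := by
        intro hJ
        apply hmax _ hJ
        refine lt_of_le_of_ne le_sup_left fun h => hyI ?_
        rw [h]
        exact Ideal.mem_sup_right (Ideal.mem_span_singleton_self y)
      have hxJ : x ∈ I' ⊔ Ideal.span {y} := by
        by_contra hx
        exact hJ ⟨hII'.trans le_sup_left, hx⟩
      obtain ⟨i, hi, j, hj, hij⟩ := Submodule.mem_sup.1 hxJ
      obtain ⟨d, rfl⟩ := Ideal.mem_span_singleton'.1 hj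
      have hdu : IsUnit d := by
        by_contra hnu
        have hdm : d ∈ IsLocalRing.maximalIdeal S := (IsLocalRing.mem_maximalIdeal d).2 hnu
        apply hxI'
        rw [← hij]
        exact I'.add_mem hi (hm2 d hdm y hy)
      obtain ⟨e, he⟩ := hdu.exists_left_inv
      refine ⟨e, ?_⟩
      have h1 : y - e * x = -(e * i) := by
        rw [← hij]
        have h2 : e * (i + d * y) = e * i + (e * d) * y := by ring
        rw [h2, he]
        ring
      rw [h1]
      exact I'.neg_mem (Ideal.mul_mem_left I' e hi)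
  choose ρ hρ using fun s : S => hresR' (resS s)
  have hsm : ∀ s, s - f (ρ s) ∈ IsLocalRing.maximalIdeal S := by
    intro s
    rw [hmS, map_sub, hfres, hρ, sub_self]
  choose β hβ using fun s : S => hA (s - f (ρ s)) (hsm s)
  have key : ∀ (s : S) (r' : R') (c : S), resR' r' = resS s → s - f r' - c * x ∈ I' →
      resS (β s) = resS c := by
    intro s r' c hr hc
    have h1 : (c - β s) * x ∈ I' := by
      have h2 : (c - β s) * x =
          (s - f (ρ s) - β s * x) - (s - f r' - c * x) - f (r' - ρ s) := by
        rw [map_sub]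
        ring
      rw [h2]
      refine I'.sub_mem (I'.sub_mem (hβ s) hc) (hfm _ ?_)
      rw [map_sub, hr, hρ, sub_self]
    have h3 := hunit _ h1
    rw [map_sub, sub_eq_zero] at h3
    exact h3.symm
  let θ : S →ₐ[Λ] TrivSqZeroExt k k :=
    { toFun := fun s => (resS s, resS (β s))
      map_one' := by
        have h := key 1 1 0 (by rw [map_one, map_one])
          (by rw [map_one, sub_self, zero_mul, sub_zero]; exact I'.zero_mem)
        refine TrivSqZeroExt.ext ?_ ?_
        · change resS 1 = 1
          rw [map_one]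
        · change resS (β 1) = 0
          rw [h, map_zero]
      map_mul' := fun s t => by
        have hmem : s * t - f (ρ s * ρ t) - (f (ρ s) * β t + f (ρ t) * β s) * x ∈ I' := by
          have e : s * t - f (ρ s * ρ t) - (f (ρ s) * β t + f (ρ t) * β s) * x =
              (t - f (ρ t) - β t * x) * (f (ρ s) + β s * x) + β s * β t * (x * x)
                + (s - f (ρ s) - β s * x) * t := by
            rw [map_mul]
            ring
          rw [e]
          exact I'.add_mem (I'.add_mem (Ideal.mul_mem_right _ I' (hβ t))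
            (Ideal.mul_mem_left I' _ (hm2 x hxm x hxm))) (Ideal.mul_mem_right _ I' (hβ s))
        have h := key (s * t) (ρ s * ρ t) _ (by rw [map_mul, map_mul, hρ, hρ]) hmem
        refine TrivSqZeroExt.ext ?_ ?_
        · change resS (s * t) = resS s * resS t
          rw [map_mul]
        · change resS (β (s * t)) = resS s • resS (β t) + MulOpposite.op (resS t) • resS (β s)
          rw [h, map_add, map_mul, map_mul, hfres, hfres, hρ, hρ, op_smul_eq_smul, smul_eq_mul,
            smul_eq_mul]
      map_zero' := by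
        have h := key 0 0 0 (by rw [map_zero, map_zero])
          (by rw [map_zero, sub_self, zero_mul, sub_zero]; exact I'.zero_mem)
        refine TrivSqZeroExt.ext ?_ ?_
        · change resS 0 = 0
          rw [map_zero]
        · change resS (β 0) = 0
          rw [h, map_zero]
      map_add' := fun s t => by
        have hmem : s + t - f (ρ s + ρ t) - (β s + β t) * x ∈ I' := by
          have e : s + t - f (ρ s + ρ t) - (β s + β t) * x =
              (s - f (ρ s) - β s * x) + (t - f (ρ t) - β t * x) := by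
            rw [map_add]
            ring
          rw [e]
          exact I'.add_mem (hβ s) (hβ t)
        have h := key (s + t) (ρ s + ρ t) _ (by rw [map_add, map_add, hρ, hρ]) hmem
        refine TrivSqZeroExt.ext ?_ ?_
        · change resS (s + t) = resS s + resS t
          rw [map_add]
        · change resS (β (s + t)) = resS (β s) + resS (β t)
          rw [h, map_add]
      commutes' := fun l => by
        have h := key (algebraMap Λ S l) (algebraMap Λ R' l) 0
          (by rw [AlgHom.commutes, AlgHom.commutes])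
          (by rw [AlgHom.commutes, sub_self, zero_mul, sub_zero]; exact I'.zero_mem)
        rw [TrivSqZeroExt.algebraMap_eq_inl']
        refine TrivSqZeroExt.ext ?_ ?_
        · change resS (algebraMap Λ S l) = algebraMap Λ k l
          rw [AlgHom.commutes]
        · change resS (β (algebraMap Λ S l)) = 0
          rw [h, map_zero] }
  refine ⟨θ, fun s => rfl, ?_, x, ?_⟩
  · intro r'
    have h := key (f r') r' 0 (hfres r').symm
      (by rw [sub_self, zero_mul, sub_zero]; exact I'.zero_mem)
    change resS (β (f r')) = 0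
    rw [h, map_zero]
  · have h := key x 0 1 (by rw [map_zero, (hmS x).1 hxm])
      (by rw [map_zero, sub_zero, one_mul, sub_self]; exact I'.zero_mem)
    change resS (β x) ≠ 0
    rw [h, map_one]
    exact one_ne_zero

/-- Every tangent vector of `h_R` factors through `R / m²`. -/
theorem exists_factor_trunc_one (R : CRing Λ k) (φ : HomSet R.carrier R.res (dual Λ k)) :
    ∃ φ' : R.trunc 1 ⟶ dual Λ k, HomSet.map φ' (R.truncHom 1) = φ ∧
      ∀ a : R.carrier, φ' (Ideal.Quotient.mk (R.mpow 1) a) = φ.1 a := by
  have hfst : ∀ a : R.carrier, TrivSqZeroExt.fst (φ.1 a) = R.res a :=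
    fun a => DFunLike.congr_fun φ.2 a
  have hkill : ∀ a : R.carrier, a ∈ R.mpow 1 → φ.1 a = 0 := by
    intro x hx
    have hm2 : R.mpow 1 =
        IsLocalRing.maximalIdeal R.carrier * IsLocalRing.maximalIdeal R.carrier := by
      show IsLocalRing.maximalIdeal R.carrier ^ (1 + 1) = _
      rw [pow_succ, pow_one]
    rw [hm2] at hx
    refine Submodule.mul_induction_on hx ?_ ?_
    · intro a ha b hb
      have ha0 : R.res a = 0 := (CRing.mem_maximalIdeal_iff R a).1 ha
      have hb0 : R.res b = 0 := (CRing.mem_maximalIdeal_iff R b).1 hb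
      rw [map_mul]
      have e1 : TrivSqZeroExt.fst (φ.1 a * φ.1 b) =
          TrivSqZeroExt.fst (φ.1 a) * TrivSqZeroExt.fst (φ.1 b) := rfl
      have e2 : TrivSqZeroExt.snd (φ.1 a * φ.1 b) =
          TrivSqZeroExt.fst (φ.1 a) • TrivSqZeroExt.snd (φ.1 b) +
            MulOpposite.op (TrivSqZeroExt.fst (φ.1 b)) • TrivSqZeroExt.snd (φ.1 a) := rfl
      refine TrivSqZeroExt.ext ?_ ?_
      · rw [e1, hfst, hfst, ha0, hb0, mul_zero]
        rfl
      · rw [e2, hfst, hfst, ha0, hb0, zero_smul, MulOpposite.op_zero, zero_smul, add_zero]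
        rfl
    · intro a b ha hb
      rw [map_add, ha, hb, add_zero]
  have hres : (dual Λ k).res.comp (Ideal.Quotient.liftₐ (R.mpow 1) φ.1 hkill) = (R.trunc 1).res := by
    apply AlgHom.ext
    intro y
    obtain ⟨a, rfl⟩ := Ideal.Quotient.mk_surjective y
    exact DFunLike.congr_fun φ.2 a
  refine ⟨⟨Ideal.Quotient.liftₐ (R.mpow 1) φ.1 hkill, hres⟩, ?_, fun a => rfl⟩
  apply Subtype.ext
  apply AlgHom.ext
  intro a
  rfl

end Groth.Agent.H63
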