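import Groth.Agent.S12714
import Groth.Agent.H63.ArtFibre
import Groth.Prelude.Def_ArtFun5

/-!
Objects of `Art Λ k` as coefficient rings (`CRing`), the cotangent criterion for surjectivity in
`Art Λ k`, and a finite decomposition of a coefficient ring modulo the square of its maximal ideal.
-/

set_option autoImplicit false
set_option linter.unusedSectionVars false
universe u v

namespace Groth.Agent.H63

open CategoryTheory ArtFun ArtFun.Art

variable {Λ : Type u} {k : Type u} [CommRing Λ] [Field k] [Algebra Λ k]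

theorem isAdicComplete_of_pow_eq_bot {R : Type*} [CommRing R] (I : Ideal R) (N : ℕ)
    (h : I ^ N = ⊥) : IsAdicComplete I R := by
  have hbot : (I ^ N • ⊤ : Submodule R R) = ⊥ := by
    rw [h]
    exact Submodule.bot_smul ⊤
  have h1 : IsHausdorff I R := by
    refine ⟨fun x hx => ?_⟩
    have h2 := hx N
    rw [hbot, SModEq.bot] at h2
    exact h2
  have h2 : IsPrecomplete I R := by
    refine ⟨fun f hf => ⟨f N, fun n => ?_⟩⟩
    rcases le_total n N with hn | hn
    · exact hf hn
    · have h3 : f N ≡ f n [SMOD (I ^ N • ⊤ : Submodule R R)] := hf hn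
      rw [hbot, SModEq.bot] at h3
      rw [SModEq.def, h3]
  exact (isAdicComplete_iff I R).2 ⟨h1, h2⟩

/-- An Artinian local algebra as a coefficient ring. -/
noncomputable def toCRing (A : Art Λ k) : CRing Λ k :=
  { carrier := A
    res := A.res
    res_surjective := A.res_surjective
    isAdicComplete := by
      obtain ⟨N, hN⟩ := exists_maximalIdeal_pow_eq_bot A
      exact isAdicComplete_of_pow_eq_bot _ N hN }

variable [IsNoetherianRing Λ] [Module.Finite Λ k]

theorem art_surjective_tfae {A B : Art Λ k} (f : B ⟶ A) :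
    List.TFAE [Function.Surjective f,
      Ideal.map f.toAlgHom (IsLocalRing.maximalIdeal B) ⊔ IsLocalRing.maximalIdeal A ^ 2 =
        IsLocalRing.maximalIdeal A,
      Ideal.map (algebraMap Λ A) (RingHom.ker (algebraMap Λ k)) ⊔
        Ideal.map f.toAlgHom (IsLocalRing.maximalIdeal B) ⊔ IsLocalRing.maximalIdeal A ^ 2 =
        IsLocalRing.maximalIdeal A] :=
  Groth.Agent.S12714.result (toCRing B) (toCRing A) f.toAlgHom f.res_comp

/-- The ideal `m_Λ A` lies in the maximal ideal. -/
theorem map_ker_le_maximalIdeal (A : Art Λ k) :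
    Ideal.map (algebraMap Λ A) (RingHom.ker (algebraMap Λ k)) ≤ IsLocalRing.maximalIdeal A := by
  rw [Ideal.map_le_iff_le_comap]
  intro l hl
  rw [Ideal.mem_comap, mem_maximalIdeal_iff, AlgHom.commutes]
  exact RingHom.mem_ker.1 hl

theorem map_maximalIdeal_le {A B : Art Λ k} (g : B ⟶ A) :
    Ideal.map g.toAlgHom (IsLocalRing.maximalIdeal B) ≤ IsLocalRing.maximalIdeal A := by
  rw [Ideal.map_le_iff_le_comap]
  intro b hb
  rw [Ideal.mem_comap, mem_maximalIdeal_iff]
  have h := res_app g b
  rw [mem_maximalIdeal_iff] at hb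
  exact h.trans hb

/-- If `g` followed by the quotient by `m_Λ B + m_B²` is surjective then `g` is surjective. -/
theorem surjective_of_comp_relCotangent {C B B' : Art Λ k} (g : C ⟶ B) (qB : B ⟶ B')
    (hk : RingHom.ker qB.toAlgHom =
      Ideal.map (algebraMap Λ B) (RingHom.ker (algebraMap Λ k)) ⊔ IsLocalRing.maximalIdeal B ^ 2)
    (h : Function.Surjective (g ≫ qB)) : Function.Surjective g := by
  apply ((art_surjective_tfae g).out 2 0).1
  apply le_antisymm
  · exact sup_le (sup_le (map_ker_le_maximalIdeal B) (map_maximalIdeal_le g))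
      (Ideal.pow_le_self two_ne_zero)
  · intro x hx
    obtain ⟨c, hc⟩ := h (qB x)
    have hc' : qB (g c) = qB x := hc
    have hcm : c ∈ IsLocalRing.maximalIdeal C := by
      rw [mem_maximalIdeal_iff, ← res_app g c, ← res_app qB (g c), hc', res_app qB x]
      exact (mem_maximalIdeal_iff B x).1 hx
    have hx' : x - g c ∈ RingHom.ker qB.toAlgHom := by
      rw [RingHom.mem_ker, map_sub, sub_eq_zero]
      exact hc'.symm
    rw [hk] at hx'
    have hgc : g c ∈ Ideal.map g.toAlgHom (IsLocalRing.maximalIdeal C) :=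
      Ideal.mem_map_of_mem _ hcm
    obtain ⟨u, hu, v, hv, huv⟩ := Submodule.mem_sup.1 hx'
    have e : x = (u + g c) + v := by
      have : x = g c + (x - g c) := by ring
      rw [this, ← huv]
      ring
    rw [e]
    exact Submodule.add_mem_sup (Submodule.add_mem_sup hu hgc) hv

theorem exists_decomp (R : CRing Λ k) :
    ∃ (n : ℕ) (t : Fin n → R.carrier), ∀ a : R.carrier, ∃ (c : Fin n → Λ) (x : R.carrier),
      x ∈ R.mpow 1 ∧ a = (∑ i, c i • t i) + x := by
  have hfin : Module.Finite Λ (R.carrier ⧸ R.mpow 1) := by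
    have hfl := isFiniteLength_base (R.trunc 1)
    haveI hN : IsNoetherian Λ (R.trunc 1) :=
      ((isFiniteLength_iff_isNoetherian_isArtinian).1 hfl).1
    exact inferInstanceAs (Module.Finite Λ (R.trunc 1))
  obtain ⟨n, s, hs⟩ := Module.Finite.exists_fin (R := Λ) (M := R.carrier ⧸ R.mpow 1)
  let π : R.carrier →ₐ[Λ] (R.carrier ⧸ R.mpow 1) := Ideal.Quotient.mkₐ Λ (R.mpow 1)
  have hπs : Function.Surjective π := Ideal.Quotient.mkₐ_surjective Λ (R.mpow 1)
  choose lift hlift using hπs
  refine ⟨n, fun i => lift (s i), ?_⟩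
  intro a
  have hmem : π a ∈ Submodule.span Λ (Set.range s) := by
    rw [hs]
    exact Submodule.mem_top
  obtain ⟨c, hc⟩ := (Submodule.mem_span_range_iff_exists_fun Λ).1 hmem
  refine ⟨c, a - ∑ i, c i • lift (s i), ?_, by abel⟩
  have h0 : π (a - ∑ i, c i • lift (s i)) = 0 := by
    rw [map_sub, map_sum, ← hc, sub_eq_zero]
    refine Finset.sum_congr rfl fun i _ => ?_
    rw [map_smul, hlift]
  exact Ideal.Quotient.eq_zero_iff_mem.1 h0

end Groth.Agent.H63
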