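import Mathlib
import Groth.Agent.S3169

/-!
# Infinitesimal deformations of formally smooth algebras are trivial
-/

set_option autoImplicit false
universe u v
open TensorProduct IsLocalRing

namespace Groth.Agent.H63.RigidSmooth

/-- A linear map into a flat module which is bijective modulo a nilpotent ideal is bijective. -/
theorem bijective_of_flat_of_nilpotent {A : Type u} [CommRing A] (I : Ideal A) (hI : IsNilpotent I)
    {M N : Type v} [AddCommGroup M] [Module A M] [AddCommGroup N] [Module A N] [Module.Flat A N]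
    (φ : M →ₗ[A] N)
    (hs : ∀ y : N, ∃ x : M, y - φ x ∈ I • (⊤ : Submodule A N))
    (hi : ∀ x : M, φ x ∈ I • (⊤ : Submodule A N) → x ∈ I • (⊤ : Submodule A M)) :
    Function.Bijective φ := by
  classical
  have hsurj : LinearMap.range φ = ⊤ := by
    apply Groth.Agent.S3169.eq_top_of_sup_smul_top I hI
    intro y _
    obtain ⟨x, hx⟩ := hs y
    have : y = φ x + (y - φ x) := by abel
    rw [this]
    exact Submodule.add_mem_sup (LinearMap.mem_range_self φ x) hx
  have hφsurj : Function.Surjective φ := LinearMap.range_eq_top.mp hsurj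
  have hinj : LinearMap.ker φ = ⊥ := by
    apply Groth.Agent.S3169.eq_bot_of_le_smul I hI
    intro x hx
    rw [LinearMap.mem_ker] at hx
    have h1 : x ∈ I • (⊤ : Submodule A M) := hi x (by rw [hx]; exact zero_mem _)
    have hspan : (⊤ : Submodule A M) = Submodule.span A (Set.range (id : M → M)) := by
      simp
    rw [hspan, Submodule.mem_ideal_smul_span_iff_exists_sum] at h1
    obtain ⟨a, haI, hax⟩ := h1
    simp only [id] at hax
    have hrel : ∑ i : a.support, (a i) • φ (i : M) = 0 := by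
      rw [Finset.sum_coe_sort a.support (fun i => a i • φ i), ← hx, ← hax, Finsupp.sum, map_sum]
      simp
    obtain ⟨k, b, y, hy0, hb0⟩ := Module.Flat.isTrivialRelation_of_sum_smul_eq_zero hrel
    have hy : ∀ i : a.support, φ (i : M) = ∑ j, b i j • y j := hy0
    have hb : ∀ j : Fin k, ∑ i : a.support, a i * b i j = 0 := hb0
    choose z hz using fun j => hφsurj (y j)
    have hxsum : x = ∑ i : a.support, (a i) • ((i : M) - ∑ j, b i j • z j) := by
      have h2 : ∑ i : a.support, (a i) • (∑ j, b i j • z j) = 0 := by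
        simp_rw [Finset.smul_sum, smul_smul]
        rw [Finset.sum_comm]
        apply Finset.sum_eq_zero
        intro j _
        rw [← Finset.sum_smul, hb j, zero_smul]
      simp_rw [smul_sub]
      rw [Finset.sum_sub_distrib, h2, sub_zero, ← hax, Finsupp.sum,
        Finset.sum_coe_sort a.support (fun i => a i • i)]
    rw [hxsum]
    apply Submodule.sum_mem
    intro i _
    apply Submodule.smul_mem_smul (haI i)
    rw [LinearMap.mem_ker, map_sub, map_sum, hy i]
    simp [hz]
  exact ⟨LinearMap.ker_eq_bot.mp hinj, hφsurj⟩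

theorem mem_smul_top_iff {A B : Type*} [CommRing A] [CommRing B] [Algebra A B] (I : Ideal A) (b : B) :
    b ∈ I • (⊤ : Submodule A B) ↔ b ∈ I.map (algebraMap A B) := by
  rw [Ideal.smul_top_eq_map]
  rfl

section Core

variable {k : Type u} [Field k] {A : Type u} [CommRing A] [Algebra k A] [IsLocalRing A]
  {B : Type u} [CommRing B] [Algebra A B] [Module.Flat A B] [Algebra k B] [IsScalarTower k A B]

/-- A flat deformation of a formally smooth `k`-algebra over a local `k`-algebra `A` with
nilpotent maximal ideal and residue field `k` is trivial. -/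
theorem exists_trivialization (hnil : IsNilpotent (maximalIdeal A))
    (hres : ∀ a : A, ∃ c : k, a - algebraMap k A c ∈ maximalIdeal A)
    (hsm : Algebra.FormallySmooth k (B ⧸ (maximalIdeal A).map (algebraMap A B))) :
    ∃ ψ : A ⊗[k] (B ⧸ (maximalIdeal A).map (algebraMap A B)) ≃ₐ[A] B,
      ∀ b₀ : B ⧸ (maximalIdeal A).map (algebraMap A B),
        Ideal.Quotient.mk ((maximalIdeal A).map (algebraMap A B)) (ψ (1 ⊗ₜ b₀)) = b₀ := by
  set J : Ideal B := (maximalIdeal A).map (algebraMap A B) with hJdef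
  have hJ : IsNilpotent J := by
    obtain ⟨n, hn⟩ := hnil
    refine ⟨n, ?_⟩
    rw [hJdef, ← Ideal.map_pow, hn]
    exact Ideal.map_bot
  let s : (B ⧸ J) →ₐ[k] B := Algebra.FormallySmooth.lift J hJ (AlgHom.id k (B ⧸ J))
  have hs : ∀ x : B ⧸ J, Ideal.Quotient.mk J (s x) = x := fun x =>
    Algebra.FormallySmooth.mk_lift J hJ (AlgHom.id k (B ⧸ J)) x
  let ψ₀ : A ⊗[k] (B ⧸ J) →ₐ[A] B :=
    Algebra.TensorProduct.lift (Algebra.ofId A B) s (fun _ _ => Commute.all _ _)
  have hψ₀ : ∀ (a : A) (x : B ⧸ J), ψ₀ (a ⊗ₜ x) = algebraMap A B a * s x := fun a x => by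
    simp [ψ₀, Algebra.ofId_apply]
  -- reduction formula
  have hmkalg : ∀ (a : A) (c : k), a - algebraMap k A c ∈ maximalIdeal A →
      Ideal.Quotient.mk J (algebraMap A B a) = algebraMap k (B ⧸ J) c := by
    intro a c hac
    have h1 : algebraMap A B (a - algebraMap k A c) ∈ J := Ideal.mem_map_of_mem _ hac
    have h2 : Ideal.Quotient.mk J (algebraMap A B (a - algebraMap k A c)) = 0 :=
      Ideal.Quotient.eq_zero_iff_mem.mpr h1
    rw [map_sub, map_sub, sub_eq_zero] at h2
    rw [h2, ← IsScalarTower.algebraMap_apply k A B]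
    rfl
  have hkey : ∀ c : A ⊗[k] (B ⧸ J),
      c - (1 : A) ⊗ₜ[k] (Ideal.Quotient.mk J (ψ₀ c)) ∈
        (maximalIdeal A) • (⊤ : Submodule A (A ⊗[k] (B ⧸ J))) := by
    intro c
    induction c using TensorProduct.induction_on with
    | zero => simp
    | tmul a x =>
      obtain ⟨c₀, hc₀⟩ := hres a
      rw [hψ₀, map_mul, hs, hmkalg a c₀ hc₀, ← Algebra.smul_def, TensorProduct.tmul_smul,
        TensorProduct.smul_tmul', ← TensorProduct.sub_tmul]
      have : (a - c₀ • (1 : A)) ⊗ₜ[k] x = (a - algebraMap k A c₀) • ((1 : A) ⊗ₜ[k] x) := by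
        rw [TensorProduct.smul_tmul', smul_eq_mul, mul_one, Algebra.smul_def, mul_one]
      rw [this]
      exact Submodule.smul_mem_smul hc₀ trivial
    | add x y hx hy =>
      have : x + y - (1 : A) ⊗ₜ[k] (Ideal.Quotient.mk J (ψ₀ (x + y))) =
          (x - (1 : A) ⊗ₜ[k] (Ideal.Quotient.mk J (ψ₀ x))) +
          (y - (1 : A) ⊗ₜ[k] (Ideal.Quotient.mk J (ψ₀ y))) := by
        rw [map_add, map_add, TensorProduct.tmul_add]; abel
      rw [this]
      exact add_mem hx hy
  have hbij : Function.Bijective ψ₀ := by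
    refine bijective_of_flat_of_nilpotent (maximalIdeal A) hnil ψ₀.toLinearMap ?_ ?_
    · intro b
      refine ⟨(1 : A) ⊗ₜ[k] (Ideal.Quotient.mk J b), ?_⟩
      rw [mem_smul_top_iff, AlgHom.toLinearMap_apply, hψ₀, map_one, one_mul, ← hJdef,
        ← Ideal.Quotient.eq_zero_iff_mem, map_sub, hs, sub_self]
    · intro c hc
      rw [mem_smul_top_iff, AlgHom.toLinearMap_apply, ← hJdef] at hc
      have h0 : Ideal.Quotient.mk J (ψ₀ c) = 0 := Ideal.Quotient.eq_zero_iff_mem.mpr hc
      have := hkey c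
      rw [h0, TensorProduct.tmul_zero, sub_zero] at this
      exact this
  refine ⟨AlgEquiv.ofBijective ψ₀ hbij, fun b₀ => ?_⟩
  rw [AlgEquiv.coe_ofBijective, hψ₀, map_one, one_mul, hs]

/-- A flat deformation of a formally smooth `k`-algebra over a local Artinian `k`-algebra with
residue field `k` is formally smooth. -/
theorem formallySmooth_of_flat_of_fibre (hnil : IsNilpotent (maximalIdeal A))
    (hres : ∀ a : A, ∃ c : k, a - algebraMap k A c ∈ maximalIdeal A)
    (hsm : Algebra.FormallySmooth k (B ⧸ (maximalIdeal A).map (algebraMap A B))) :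
    Algebra.FormallySmooth A B := by
  obtain ⟨ψ, -⟩ := exists_trivialization hnil hres hsm
  haveI := hsm
  exact Algebra.FormallySmooth.of_equiv ψ

end Core

theorem isNilpotent_maximalIdeal (A : Type*) [CommRing A] [IsLocalRing A] [IsArtinianRing A] :
    IsNilpotent (maximalIdeal A) := by
  have := IsArtinianRing.isNilpotent_jacobson_bot (R := A)
  rwa [IsLocalRing.jacobson_eq_maximalIdeal ⊥ bot_ne_top] at this

theorem exists_algEquiv_lift_aux
    {k : Type u} [Field k]
    {A : Type u} [CommRing A] [Algebra k A] [IsLocalRing A] [IsArtinianRing A]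
    (hres : ∀ a : A, ∃ c : k, a - algebraMap k A c ∈ IsLocalRing.maximalIdeal A)
    (t : A) (ht : t ∈ IsLocalRing.maximalIdeal A)
    (htm : ∀ a ∈ IsLocalRing.maximalIdeal A, a * t = 0)
    {B : Type u} [CommRing B] [Algebra A B] [Module.Flat A B] [Algebra k B] [IsScalarTower k A B]
    (hsm : Algebra.FormallySmooth k (B ⧸ (IsLocalRing.maximalIdeal A).map (algebraMap A B)))
    (T : Ideal B) (hTdef : T = Ideal.span {algebraMap A B t})
    (σ : (B ⧸ T) ≃ₐ[A] (B ⧸ T)) :
    ∃ τ : B ≃ₐ[A] B, ∀ b : B,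
      Ideal.Quotient.mk T (τ b) = σ (Ideal.Quotient.mk T b) := by
  haveI : Algebra.FormallySmooth A B :=
    formallySmooth_of_flat_of_fibre (isNilpotent_maximalIdeal A) hres hsm
  have htt : t * t = 0 := htm t ht
  have hT : IsNilpotent T := by
    refine ⟨2, ?_⟩
    rw [hTdef, Ideal.span_singleton_pow, sq, ← map_mul, htt, map_zero]
    simp
  have hI : IsNilpotent (Ideal.span {t} : Ideal A) := by
    refine ⟨2, ?_⟩
    rw [Ideal.span_singleton_pow, sq, htt]
    simp
  have hIT : (Ideal.span {t} : Ideal A).map (algebraMap A B) = T := by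
    rw [Ideal.map_span, Set.image_singleton, hTdef]
  let g : B →ₐ[A] B ⧸ T := σ.toAlgHom.comp (Ideal.Quotient.mkₐ A T)
  let τ₀ : B →ₐ[A] B := Algebra.FormallySmooth.lift T hT g
  have hτ₀ : ∀ b, Ideal.Quotient.mk T (τ₀ b) = σ (Ideal.Quotient.mk T b) := fun b =>
    Algebra.FormallySmooth.mk_lift T hT g b
  have hbij : Function.Bijective τ₀ := by
    refine bijective_of_flat_of_nilpotent (Ideal.span {t}) hI τ₀.toLinearMap ?_ ?_
    · intro b
      obtain ⟨c, hc⟩ := Ideal.Quotient.mk_surjective (σ.symm (Ideal.Quotient.mk T b))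
      refine ⟨c, ?_⟩
      rw [mem_smul_top_iff, hIT, AlgHom.toLinearMap_apply,
        ← Ideal.Quotient.eq_zero_iff_mem, map_sub, hτ₀, hc, AlgEquiv.apply_symm_apply, sub_self]
    · intro c hc
      rw [mem_smul_top_iff, hIT] at hc ⊢
      rw [AlgHom.toLinearMap_apply] at hc
      have h0 : Ideal.Quotient.mk T (τ₀ c) = 0 := Ideal.Quotient.eq_zero_iff_mem.mpr hc
      rw [hτ₀] at h0
      have h1 : Ideal.Quotient.mk T c = 0 := by
        have := congrArg σ.symm h0
        rwa [AlgEquiv.symm_apply_apply, map_zero] at this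
      exact Ideal.Quotient.eq_zero_iff_mem.mp h1
  exact ⟨AlgEquiv.ofBijective τ₀ hbij, fun b => by rw [AlgEquiv.coe_ofBijective]; exact hτ₀ b⟩

/-- `S11280`. -/
theorem exists_algEquiv_lift
    {k : Type u} [Field k]
    {A : Type u} [CommRing A] [Algebra k A] [IsLocalRing A] [IsArtinianRing A]
    (hres : ∀ a : A, ∃ c : k, a - algebraMap k A c ∈ IsLocalRing.maximalIdeal A)
    (t : A) (ht : t ∈ IsLocalRing.maximalIdeal A)
    (htm : ∀ a ∈ IsLocalRing.maximalIdeal A, a * t = 0)
    {B : Type u} [CommRing B] [Algebra A B] [Module.Flat A B] [Algebra k B] [IsScalarTower k A B]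
    (hsm : Algebra.FormallySmooth k (B ⧸ (IsLocalRing.maximalIdeal A).map (algebraMap A B)))
    (σ : (B ⧸ Ideal.span {algebraMap A B t}) ≃ₐ[A] (B ⧸ Ideal.span {algebraMap A B t})) :
    ∃ τ : B ≃ₐ[A] B, ∀ b : B,
      Ideal.Quotient.mk (Ideal.span {algebraMap A B t}) (τ b) =
        σ (Ideal.Quotient.mk (Ideal.span {algebraMap A B t}) b) :=
  exists_algEquiv_lift_aux hres t ht htm hsm _ rfl σ

end Groth.Agent.H63.RigidSmooth
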