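import Mathlib
import Groth.Agent.H63.RigidSmooth
import Groth.Agent.H79.SmoothReg2
import Groth.Agent.S0440

/-!
# Deformations of regular affine schemes over Artinian local algebras are trivial
-/

set_option autoImplicit false
set_option linter.style.haveILetI false
universe u
open AlgebraicGeometry CategoryTheory Limits TensorProduct IsLocalRing

namespace Groth.Agent.H63.RigidSmooth

/-- The quotient square `A → B`, `A ↠ k`, `B → B/(ker e)B`, `k → B/(ker e) B` is a pushout. -/
theorem isPushout_quotient {A B k : Type u} [CommRing A] [CommRing B] [CommRing k] [Algebra A B]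
    (e : A →+* k) (he : Function.Surjective e) (I : Ideal A) (hI : RingHom.ker e = I)
    (c : k →+* B ⧸ I.map (algebraMap A B))
    (hc : ∀ a, c (e a) = Ideal.Quotient.mk _ (algebraMap A B a)) :
    IsPushout (CommRingCat.ofHom (algebraMap A B)) (CommRingCat.ofHom e)
      (CommRingCat.ofHom (Ideal.Quotient.mk (I.map (algebraMap A B))))
      (CommRingCat.ofHom c) := by
  subst hI
  refine ⟨⟨?_⟩, ⟨PushoutCocone.IsColimit.mk _ (fun s => CommRingCat.ofHom
    (Ideal.Quotient.lift ((RingHom.ker e).map (algebraMap A B)) s.inl.hom ?_)) ?_ ?_ ?_⟩⟩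
  · ext a
    exact (hc a).symm
  · intro b hb
    have hle : (RingHom.ker e).map (algebraMap A B) ≤ RingHom.ker s.inl.hom := by
      rw [Ideal.map_le_iff_le_comap]
      intro a ha
      rw [Ideal.mem_comap, RingHom.mem_ker]
      have h1 := congrArg (fun f => f.hom a) s.condition
      simp only [CommRingCat.hom_comp, CommRingCat.hom_ofHom, RingHom.comp_apply] at h1
      rw [h1, (RingHom.mem_ker).mp ha, map_zero]
    exact hle hb
  · intro s
    ext b
    simp
  · intro s
    ext x
    obtain ⟨a, rfl⟩ := he x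
    have h1 := congrArg (fun f => f.hom a) s.condition
    simp only [CommRingCat.hom_comp, CommRingCat.hom_ofHom, RingHom.comp_apply] at h1
    simp only [CommRingCat.hom_comp, CommRingCat.hom_ofHom, RingHom.comp_apply]
    rw [hc a, Ideal.Quotient.lift_mk, h1]
  · intro s m hm1 hm2
    ext b
    have h1 := congrArg (fun f => f.hom b) hm1
    simp only [CommRingCat.hom_comp, CommRingCat.hom_ofHom, RingHom.comp_apply] at h1
    simpa using h1


section Affine

variable (k : Type u) [Field k] [PerfectField k] {X : Scheme.{u}}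
    (hX : X ⟶ Spec (CommRingCat.of k))
    [LocallyOfFiniteType hX] (hreg : ∀ x : X, IsRegularLocalRing (X.presheaf.stalk x))
    (A : Type u) [CommRing A] [IsLocalRing A] [IsArtinianRing A] [Algebra k A] (e : A →ₐ[k] k)
    (B : Type u) [CommRing B] [Algebra A B] [Module.Flat A B] (i : X ⟶ Spec (CommRingCat.of B))
    (hsq : IsPullback i hX (Spec.map (CommRingCat.ofHom (algebraMap A B)))
      (Spec.map (CommRingCat.ofHom e.toRingHom)))

include hreg hsq in
theorem exists_retraction_isPullback :
    ∃ r : Spec (CommRingCat.of B) ⟶ X,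
      IsPullback r (Spec.map (CommRingCat.ofHom (algebraMap A B))) hX
        (Spec.map (CommRingCat.ofHom (algebraMap k A))) ∧ i ≫ r = 𝟙 X := by
  classical
  letI : Algebra k B := ((algebraMap A B).comp (algebraMap k A)).toAlgebra
  haveI : IsScalarTower k A B := IsScalarTower.of_algebraMap_eq' rfl
  have hesurj : Function.Surjective e.toRingHom := fun c => ⟨algebraMap k A c, by simp⟩
  have hker : RingHom.ker e.toRingHom = maximalIdeal A := by
    haveI : (RingHom.ker e.toRingHom).IsMaximal :=
      RingHom.ker_isMaximal_of_surjective e.toRingHom hesurj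
    exact IsLocalRing.eq_maximalIdeal inferInstance
  have hmem : ∀ a : A, a - algebraMap k A (e a) ∈ maximalIdeal A := fun a => by
    rw [← hker, RingHom.mem_ker]; simp
  have hres : ∀ a : A, ∃ c : k, a - algebraMap k A c ∈ maximalIdeal A := fun a => ⟨e a, hmem a⟩
  set J : Ideal B := (maximalIdeal A).map (algebraMap A B) with hJ
  have hc : ∀ a, algebraMap k (B ⧸ J) (e.toRingHom a) =
      Ideal.Quotient.mk J (algebraMap A B a) := by
    intro a
    have h2 : algebraMap A B (a - algebraMap k A (e a)) ∈ J := Ideal.mem_map_of_mem _ (hmem a)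
    have h3 := Ideal.Quotient.eq_zero_iff_mem.mpr h2
    rw [map_sub, map_sub, sub_eq_zero] at h3
    rw [h3, ← IsScalarTower.algebraMap_apply k A B]
    rfl
  have P0 := isPushout_quotient (k := k) e.toRingHom hesurj (maximalIdeal A) hker
    (algebraMap k (B ⧸ J)) hc
  have P1 : IsPullback (Spec.map (CommRingCat.ofHom (Ideal.Quotient.mk J)))
      (Spec.map (CommRingCat.ofHom (algebraMap k (B ⧸ J))))
      (Spec.map (CommRingCat.ofHom (algebraMap A B)))
      (Spec.map (CommRingCat.ofHom e.toRingHom)) :=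
    isPullback_SpecMap_of_isPushout _ _ _ _ P0
  let θ : X ≅ Spec (CommRingCat.of (B ⧸ J)) := hsq.isoIsPullback _ _ P1
  have hθ1 : θ.hom ≫ Spec.map (CommRingCat.ofHom (Ideal.Quotient.mk J)) = i :=
    hsq.isoIsPullback_hom_fst _ _ P1
  have hθ2 : θ.hom ≫ Spec.map (CommRingCat.ofHom (algebraMap k (B ⧸ J))) = hX :=
    hsq.isoIsPullback_hom_snd _ _ P1
  -- finite type
  have hft : Algebra.FiniteType k (B ⧸ J) := by
    have h1 : Spec.map (CommRingCat.ofHom (algebraMap k (B ⧸ J))) = θ.inv ≫ hX := by
      rw [← hθ2, Iso.inv_hom_id_assoc]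
    have h2 : LocallyOfFiniteType (Spec.map (CommRingCat.ofHom (algebraMap k (B ⧸ J)))) := by
      rw [h1]; infer_instance
    have h3 := (HasRingHomProperty.Spec_iff (P := @LocallyOfFiniteType)).mp h2
    exact RingHom.finiteType_algebraMap.mp h3
  haveI := hft
  haveI : IsNoetherianRing (B ⧸ J) := Algebra.FiniteType.isNoetherianRing k _
  -- regular
  have hregB : IsRegularRing (B ⧸ J) := by
    rw [isRegularRing_iff]
    intro q hq
    let y : Spec (CommRingCat.of (B ⧸ J)) := ⟨q, hq⟩
    haveI := hreg (θ.inv.base y)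
    let eq1 : (X.presheaf.stalk (θ.inv.base y)) ≃+*
        ((Spec (CommRingCat.of (B ⧸ J))).presheaf.stalk y) :=
      (asIso (θ.inv.stalkMap y)).commRingCatIsoToRingEquiv
    haveI : IsRegularLocalRing ((Spec (CommRingCat.of (B ⧸ J))).presheaf.stalk y) :=
      IsRegularLocalRing.of_ringEquiv eq1
    letI : Algebra (B ⧸ J) ((Spec (CommRingCat.of (B ⧸ J))).presheaf.stalk y) :=
      StructureSheaf.stalkAlgebra (B ⧸ J) y
    haveI : IsLocalization.AtPrime ((Spec (CommRingCat.of (B ⧸ J))).presheaf.stalk y) q :=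
      StructureSheaf.IsLocalization.to_stalk (B ⧸ J) y
    exact IsRegularLocalRing.of_ringEquiv (IsLocalization.algEquiv q.primeCompl
      ((Spec (CommRingCat.of (B ⧸ J))).presheaf.stalk y) (Localization.AtPrime q)).toRingEquiv
  have hsm : Algebra.FormallySmooth k (B ⧸ J) :=
    (Groth.Agent.H79.SmoothReg.isRegularRing_iff_formallySmooth k (B ⧸ J)).mp hregB
  obtain ⟨ψ, hψ⟩ := exists_trivialization (isNilpotent_maximalIdeal A) hres hsm
  let s' : (B ⧸ J) →+* B := (ψ : A ⊗[k] (B ⧸ J) →+* B).comp
    (Algebra.TensorProduct.includeRight : (B ⧸ J) →ₐ[k] A ⊗[k] (B ⧸ J)).toRingHom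
  have hs' : ∀ b₀, Ideal.Quotient.mk J (s' b₀) = b₀ := fun b₀ => hψ b₀
  have Q0 : IsPushout (CommRingCat.ofHom (algebraMap k A))
      (CommRingCat.ofHom (algebraMap k (B ⧸ J)))
      (CommRingCat.ofHom (algebraMap A B)) (CommRingCat.ofHom s') := by
    refine (CommRingCat.isPushout_tensorProduct k A (B ⧸ J)).of_iso (Iso.refl _) (Iso.refl _)
      (Iso.refl _) ψ.toRingEquiv.toCommRingCatIso (by simp) (by simp) ?_ ?_
    · ext a
      have h := ψ.commutes a
      rw [Algebra.TensorProduct.algebraMap_apply] at h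
      simpa using h
    · ext b
      rfl
  have Q1 := isPullback_SpecMap_of_isPushout _ _ _ _ Q0
  refine ⟨Spec.map (CommRingCat.ofHom s') ≫ θ.inv, ?_, ?_⟩
  · refine Q1.flip.of_iso (Iso.refl _) θ.symm (Iso.refl _) (Iso.refl _) ?_ ?_ ?_ ?_
    · simp
    · simp
    · simp [← hθ2]
    · simp
  · have h1 : CommRingCat.ofHom s' ≫ CommRingCat.ofHom (Ideal.Quotient.mk J) = 𝟙 _ := by
      ext b
      exact hs' b
    rw [← hθ1, Category.assoc, ← Spec.map_comp_assoc, h1, Spec.map_id, Category.id_comp,
      Iso.hom_inv_id]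

end Affine

/-- `S11452` in general form (perfect base field). -/
theorem exists_iso_trivialDeformation (k : Type u) [Field k] [PerfectField k] (X : Scheme.{u})
    (hX : X ⟶ Spec (CommRingCat.of k)) [IsAffine X]
    [LocallyOfFiniteType hX] (hreg : ∀ x : X, IsRegularLocalRing (X.presheaf.stalk x))
    (A : Type u) [CommRing A] [IsLocalRing A] [IsArtinianRing A] [Algebra k A] (e : A →ₐ[k] k)
    (X' : Scheme.{u}) (g : X' ⟶ Spec (CommRingCat.of A)) [Flat g] (i : X ⟶ X')
    (hsq : IsPullback i hX g (Spec.map (CommRingCat.ofHom e.toRingHom))) :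
    ∃ φ : X' ≅ Limits.pullback hX (Spec.map (CommRingCat.ofHom (algebraMap k A))),
      φ.hom ≫ Limits.pullback.snd hX (Spec.map (CommRingCat.ofHom (algebraMap k A))) = g := by
  have hesurj : Function.Surjective e.toRingHom := fun c => ⟨algebraMap k A c, by simp⟩
  haveI : IsClosedImmersion (Spec.map (CommRingCat.ofHom e.toRingHom)) :=
    IsClosedImmersion.spec_of_surjective _ hesurj
  haveI : IsClosedImmersion i := MorphismProperty.of_isPullback hsq.flip inferInstance
  haveI : Surjective (Spec.map (CommRingCat.ofHom e.toRingHom)) := by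
    refine ⟨fun y => ?_⟩
    obtain ⟨x⟩ : Nonempty (Spec (CommRingCat.of k)) := inferInstance
    refine ⟨x, ?_⟩
    have hsub : ∀ y₁ y₂ : Spec (CommRingCat.of A), y₁ = y₂ := by
      intro y₁ y₂
      apply PrimeSpectrum.ext
      haveI := y₁.isPrime
      haveI := y₂.isPrime
      rw [IsLocalRing.eq_maximalIdeal (IsArtinianRing.isMaximal_of_isPrime y₁.asIdeal),
        IsLocalRing.eq_maximalIdeal (IsArtinianRing.isMaximal_of_isPrime y₂.asIdeal)]
    exact hsub _ _
  haveI : Surjective i := MorphismProperty.of_isPullback hsq.flip inferInstance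
  haveI : IsAffine X' := Groth.Agent.S0440.result i i.surjective
  let gA : A →+* Γ(X', ⊤) := ((Scheme.ΓSpecIso (CommRingCat.of A)).inv ≫ g.appTop).hom
  letI : Algebra A Γ(X', ⊤) := gA.toAlgebra
  have hg : X'.isoSpec.hom ≫ Spec.map (CommRingCat.ofHom (algebraMap A Γ(X', ⊤))) = g := by
    have : CommRingCat.ofHom (algebraMap A Γ(X', ⊤)) =
        (Scheme.ΓSpecIso (CommRingCat.of A)).inv ≫ g.appTop := rfl
    rw [this, Spec.map_comp, Scheme.isoSpec_hom_naturality_assoc, Scheme.isoSpec_Spec_hom,
      ← Spec.map_comp, Iso.inv_hom_id, Spec.map_id, Category.comp_id]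
  haveI : Module.Flat A Γ(X', ⊤) := by
    have h1 : Spec.map (CommRingCat.ofHom (algebraMap A Γ(X', ⊤))) = X'.isoSpec.inv ≫ g := by
      rw [← hg, Iso.inv_hom_id_assoc]
    have h2 : Flat (Spec.map (CommRingCat.ofHom (algebraMap A Γ(X', ⊤)))) := by
      rw [h1]; infer_instance
    exact RingHom.flat_algebraMap_iff.mp (Flat.SpecMap_iff.mp h2)
  have hsq' : IsPullback (i ≫ X'.isoSpec.hom) hX
      (Spec.map (CommRingCat.ofHom (algebraMap A Γ(X', ⊤))))
      (Spec.map (CommRingCat.ofHom e.toRingHom)) :=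
    hsq.of_iso (Iso.refl _) X'.isoSpec (Iso.refl _) (Iso.refl _) (by simp) (by simp)
      (by simp [hg]) (by simp)
  obtain ⟨r, hr, -⟩ := exists_retraction_isPullback k hX hreg A e Γ(X', ⊤) _ hsq'
  have hr' : IsPullback (X'.isoSpec.hom ≫ r) g hX
      (Spec.map (CommRingCat.ofHom (algebraMap k A))) :=
    hr.of_iso X'.isoSpec.symm (Iso.refl _) (Iso.refl _) (Iso.refl _) (by simp)
      (by simp [← hg]) (by simp) (by simp)
  exact ⟨hr'.isoPullback, hr'.isoPullback_hom_snd⟩

end Groth.Agent.H63.RigidSmooth
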