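import Mathlib
import Groth.Agent.H63.RigidSmoothSch

/-!
# First-order deformations of smooth affine schemes with marked points are trivial
-/

set_option autoImplicit false
set_option linter.style.haveILetI false
universe u v
open AlgebraicGeometry CategoryTheory Limits TensorProduct IsLocalRing

namespace Groth.Agent.H63.RigidSmooth

section Core

variable {k : Type u} [Field k] {A : Type u} [CommRing A] [Algebra k A] [IsLocalRing A]
  {B : Type u} [CommRing B] [Algebra A B] [Module.Flat A B] [Algebra k B] [IsScalarTower k A B]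

/-- The trivialization attached to a `k`-algebra section of `B → B/m_A B`. -/
theorem trivialization_of_section_aux (hnil : IsNilpotent (maximalIdeal A))
    (hres : ∀ a : A, ∃ c : k, a - algebraMap k A c ∈ maximalIdeal A)
    (J : Ideal B) (hJdef : J = (maximalIdeal A).map (algebraMap A B))
    (s : (B ⧸ J) →ₐ[k] B)
    (hs : ∀ x, Ideal.Quotient.mk J (s x) = x) :
    ∃ ψ : A ⊗[k] (B ⧸ J) ≃ₐ[A] B,
      ∀ b₀ : B ⧸ J, ψ (1 ⊗ₜ b₀) = s b₀ := by
  let ψ₀ : A ⊗[k] (B ⧸ J) →ₐ[A] B :=
    Algebra.TensorProduct.lift (Algebra.ofId A B) s (fun _ _ => Commute.all _ _)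
  have hψ₀ : ∀ (a : A) (x : B ⧸ J), ψ₀ (a ⊗ₜ x) = algebraMap A B a * s x := fun a x => by
    simp [ψ₀, Algebra.ofId_apply]
  have hmkalg : ∀ (a : A) (c : k), a - algebraMap k A c ∈ maximalIdeal A →
      Ideal.Quotient.mk J (algebraMap A B a) = algebraMap k (B ⧸ J) c := by
    intro a c hac
    have h1 : algebraMap A B (a - algebraMap k A c) ∈ J := by
      rw [hJdef]; exact Ideal.mem_map_of_mem _ hac
    have h2 : Ideal.Quotient.mk J (algebraMap A B (a - algebraMap k A c)) = 0 :=
      Ideal.Quotient.eq_zero_iff_mem.mpr h1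
    rw [map_sub, map_sub, sub_eq_zero] at h2
    rw [h2, ← IsScalarTower.algebraMap_apply k A B]
    rfl
  have hkey : ∀ c : A ⊗[k] (B ⧸ J),
      c - (1 : A) ⊗ₜ[k] (Ideal.Quotient.mk J (ψ₀ c)) ∈
        (maximalIdeal A) • (⊤ : Submodule A (A ⊗[k] (B ⧸ J))) := by
    intro c
    induction c using TensorProduct.induction_on with
    | zero => simp
    | tmul a x =>
      obtain ⟨c₀, hc₀⟩ := hres a
      rw [hψ₀, map_mul, hs, hmkalg a c₀ hc₀, ← Algebra.smul_def, TensorProduct.tmul_smul,
        TensorProduct.smul_tmul', ← TensorProduct.sub_tmul]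
      have : (a - c₀ • (1 : A)) ⊗ₜ[k] x = (a - algebraMap k A c₀) • ((1 : A) ⊗ₜ[k] x) := by
        rw [TensorProduct.smul_tmul', smul_eq_mul, mul_one, Algebra.smul_def, mul_one]
      rw [this]
      exact Submodule.smul_mem_smul hc₀ trivial
    | add x y hx hy =>
      have : x + y - (1 : A) ⊗ₜ[k] (Ideal.Quotient.mk J (ψ₀ (x + y))) =
          (x - (1 : A) ⊗ₜ[k] (Ideal.Quotient.mk J (ψ₀ x))) +
          (y - (1 : A) ⊗ₜ[k] (Ideal.Quotient.mk J (ψ₀ y))) := by
        rw [map_add, map_add, TensorProduct.tmul_add]; abel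
      rw [this]
      exact add_mem hx hy
  have hbij : Function.Bijective ψ₀ := by
    refine bijective_of_flat_of_nilpotent (maximalIdeal A) hnil ψ₀.toLinearMap ?_ ?_
    · intro b
      refine ⟨(1 : A) ⊗ₜ[k] (Ideal.Quotient.mk J b), ?_⟩
      rw [mem_smul_top_iff, AlgHom.toLinearMap_apply, hψ₀, map_one, one_mul, ← hJdef,
        ← Ideal.Quotient.eq_zero_iff_mem, map_sub, hs, sub_self]
    · intro c hc
      rw [mem_smul_top_iff, AlgHom.toLinearMap_apply, ← hJdef] at hc
      have h0 : Ideal.Quotient.mk J (ψ₀ c) = 0 := Ideal.Quotient.eq_zero_iff_mem.mpr hc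
      have := hkey c
      rw [h0, TensorProduct.tmul_zero, sub_zero] at this
      exact this
  refine ⟨AlgEquiv.ofBijective ψ₀ hbij, fun b₀ => ?_⟩
  rw [AlgEquiv.coe_ofBijective, hψ₀, map_one, one_mul]

/-- The trivialization attached to a `k`-algebra section of `B → B/m_A B`. -/
theorem trivialization_of_section (hnil : IsNilpotent (maximalIdeal A))
    (hres : ∀ a : A, ∃ c : k, a - algebraMap k A c ∈ maximalIdeal A)
    (s : (B ⧸ (maximalIdeal A).map (algebraMap A B)) →ₐ[k] B)
    (hs : ∀ x, Ideal.Quotient.mk ((maximalIdeal A).map (algebraMap A B)) (s x) = x) :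
    ∃ ψ : A ⊗[k] (B ⧸ (maximalIdeal A).map (algebraMap A B)) ≃ₐ[A] B,
      ∀ b₀ : B ⧸ (maximalIdeal A).map (algebraMap A B), ψ (1 ⊗ₜ b₀) = s b₀ :=
  trivialization_of_section_aux hnil hres _ rfl s hs

end Core

section Marked

open TrivSqZeroExt

variable {k : Type u} [Field k] {B : Type u} [CommRing B] [Algebra (DualNumber k) B] [Algebra k B]
  [IsScalarTower k (DualNumber k) B]

theorem eps_mem_maximalIdeal : (DualNumber.eps : DualNumber k) ∈ maximalIdeal (DualNumber k) := by
  rw [IsLocalRing.mem_maximalIdeal, mem_nonunits_iff, TrivSqZeroExt.isUnit_iff_isUnit_fst]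
  simp

theorem maximalIdeal_dualNumber_sq : (maximalIdeal (DualNumber k)) ^ 2 = ⊥ := by
  have h1 : maximalIdeal (DualNumber k) = Ideal.span {DualNumber.eps} := by
    rcases DualNumber.ideal_trichotomy (maximalIdeal (DualNumber k)) with h | h | h
    · exfalso
      have := eps_mem_maximalIdeal (k := k)
      rw [h, Ideal.mem_bot] at this
      have h2 := congrArg TrivSqZeroExt.snd this
      simp at h2
    · exact h
    · exact absurd h (IsLocalRing.maximalIdeal.isMaximal _).ne_top
  rw [h1, Ideal.span_singleton_pow, sq, DualNumber.eps_mul_eps]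
  simp

theorem exists_section_marked_aux
    (J : Ideal B) (hJ : J = (maximalIdeal (DualNumber k)).map (algebraMap (DualNumber k) B))
    (hsm : Algebra.FormallySmooth k (B ⧸ J))
    {ι : Type v} [Finite ι] (π' : ι → (B →ₐ[DualNumber k] DualNumber k))
    (π : ι → ((B ⧸ J) →ₐ[k] k))
    (hcompat : ∀ j b, fst (π' j b) = π j (Ideal.Quotient.mk J b)) (hinj : Function.Injective π) :
    ∃ s : (B ⧸ J) →ₐ[k] B,
      (∀ x, Ideal.Quotient.mk J (s x) = x) ∧
        ∀ j x, π' j (s x) = algebraMap k (DualNumber k) (π j x) := by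
  classical
  have hεJ : algebraMap (DualNumber k) B DualNumber.eps ∈ J := by
    rw [hJ]; exact Ideal.mem_map_of_mem _ eps_mem_maximalIdeal
  have hJ2 : J ^ 2 = ⊥ := by
    rw [hJ, ← Ideal.map_pow, maximalIdeal_dualNumber_sq, Ideal.map_bot]
  let E : Subalgebra k B :=
    { carrier := {b | ∀ j, snd (π' j b) = 0}
      mul_mem' := by
        intro a b ha hb j
        simp only [Set.mem_setOf_eq] at ha hb
        simp [snd_mul, ha j, hb j]
      add_mem' := by
        intro a b ha hb j
        simp only [Set.mem_setOf_eq] at ha hb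
        simp [ha j, hb j]
      one_mem' := by
        intro j
        simp
      zero_mem' := by
        intro j
        simp
      algebraMap_mem' := by
        intro c j
        rw [IsScalarTower.algebraMap_apply k (DualNumber k) B, AlgHom.commutes]
        simp [TrivSqZeroExt.algebraMap_eq_inl] }
  have hEmem : ∀ b : B, b ∈ E ↔ ∀ j, snd (π' j b) = 0 := fun b => Iff.rfl
  let mkE : E →ₐ[k] (B ⧸ J) := (Ideal.Quotient.mkₐ k J).comp E.val
  have hmkE : ∀ x : E, mkE x = Ideal.Quotient.mk J (x : B) := fun x => rfl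
  -- CRT
  have hmax : ∀ j, (RingHom.ker (π j).toRingHom).IsMaximal := fun j =>
    RingHom.ker_isMaximal_of_surjective _ (fun c => ⟨algebraMap k _ c, by simp⟩)
  have hcop : Pairwise (fun j j' => IsCoprime (RingHom.ker (π j).toRingHom)
      (RingHom.ker (π j').toRingHom)) := by
    intro j j' hne
    rw [Ideal.isCoprime_iff_sup_eq]
    refine Ideal.IsMaximal.coprime_of_ne (hmax j) (hmax j') ?_
    intro heq
    apply hne
    apply hinj
    ext x
    have h1 : x - algebraMap k _ (π j x) ∈ RingHom.ker (π j).toRingHom := by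
      rw [RingHom.mem_ker]; simp
    rw [heq, RingHom.mem_ker] at h1
    have h2 : π j' x - π j x = 0 := by simpa using h1
    exact (sub_eq_zero.mp h2).symm
  have hCRT : ∀ t : ι → k, ∃ c : B ⧸ J, ∀ j, π j c = t j := by
    intro t
    obtain ⟨c, hc⟩ := Ideal.exists_forall_sub_mem_ideal hcop (fun j => algebraMap k (B ⧸ J) (t j))
    refine ⟨c, fun j => ?_⟩
    have := hc j
    rw [RingHom.mem_ker] at this
    have h2 : π j c - t j = 0 := by simpa using this
    exact sub_eq_zero.mp h2
  have hsurj : Function.Surjective mkE := by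
    intro x
    obtain ⟨b, rfl⟩ := Ideal.Quotient.mk_surjective x
    obtain ⟨cb, hcb⟩ := hCRT (fun j => snd (π' j b))
    obtain ⟨c, rfl⟩ := Ideal.Quotient.mk_surjective cb
    have hmem : b - algebraMap (DualNumber k) B DualNumber.eps * c ∈ E := by
      rw [hEmem]
      intro j
      have h1 : π' j (algebraMap (DualNumber k) B DualNumber.eps * c) =
          DualNumber.eps * π' j c := by
        rw [map_mul, AlgHom.commutes]
        rfl
      rw [map_sub, h1, snd_sub, snd_mul]
      have := hcb j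
      rw [← hcompat] at this
      simp [this]
    refine ⟨⟨_, hmem⟩, ?_⟩
    rw [hmkE]
    simp only [map_sub, map_mul]
    rw [Ideal.Quotient.eq_zero_iff_mem.mpr hεJ, zero_mul, sub_zero]
  have hker : IsNilpotent (RingHom.ker (mkE : E →+* (B ⧸ J))) := by
    have hk : RingHom.ker (mkE : E →+* (B ⧸ J)) = J.comap (E.val : E →+* B) := by
      ext x
      rw [RingHom.mem_ker, Ideal.mem_comap]
      change mkE x = 0 ↔ _
      rw [hmkE, Ideal.Quotient.eq_zero_iff_mem]
      rfl
    refine ⟨2, ?_⟩
    rw [hk, Ideal.zero_eq_bot, eq_bot_iff]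
    refine (Ideal.le_comap_pow _ 2).trans ?_
    rw [hJ2]
    intro x hx
    rw [Ideal.mem_comap, Ideal.mem_bot] at hx
    rw [Ideal.mem_bot]
    exact Subtype.ext hx
  haveI := hsm
  let sE : (B ⧸ J) →ₐ[k] E :=
    Algebra.FormallySmooth.liftOfSurjective (AlgHom.id k (B ⧸ J)) mkE hsurj hker
  have hsE : ∀ x, mkE (sE x) = x := fun x =>
    Algebra.FormallySmooth.liftOfSurjective_apply (AlgHom.id k (B ⧸ J)) mkE hsurj hker x
  refine ⟨E.val.comp sE, fun x => ?_, fun j x => ?_⟩
  · have := hsE x
    rw [hmkE] at this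
    exact this
  · have h1 : snd (π' j ((sE x : E) : B)) = 0 := (sE x).2 j
    have h2 : fst (π' j ((sE x : E) : B)) = π j x := by
      rw [hcompat]
      have := hsE x
      rw [hmkE] at this
      rw [this]
    change π' j ((sE x : E) : B) = _
    rw [TrivSqZeroExt.algebraMap_eq_inl]
    ext
    · rw [h2, fst_inl]
    · rw [h1, snd_inl]

theorem exists_section_marked
    (hsm : Algebra.FormallySmooth k
      (B ⧸ (maximalIdeal (DualNumber k)).map (algebraMap (DualNumber k) B)))
    {ι : Type v} [Finite ι] (π' : ι → (B →ₐ[DualNumber k] DualNumber k))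
    (π : ι → ((B ⧸ (maximalIdeal (DualNumber k)).map (algebraMap (DualNumber k) B)) →ₐ[k] k))
    (hcompat : ∀ j b, fst (π' j b) = π j (Ideal.Quotient.mk _ b)) (hinj : Function.Injective π) :
    ∃ s : (B ⧸ (maximalIdeal (DualNumber k)).map (algebraMap (DualNumber k) B)) →ₐ[k] B,
      (∀ x, Ideal.Quotient.mk _ (s x) = x) ∧
        ∀ j x, π' j (s x) = algebraMap k (DualNumber k) (π j x) :=
  exists_section_marked_aux _ rfl hsm π' π hcompat hinj

end Marked

section AffineGeneral

variable (k : Type u) [Field k] {X : Scheme.{u}} (hX : X ⟶ Spec (CommRingCat.of k))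
    (A : Type u) [CommRing A] [IsLocalRing A] [Algebra k A] (e : A →ₐ[k] k)
    (B : Type u) [CommRing B] [Algebra A B] [Algebra k B] [IsScalarTower k A B]
    (i : X ⟶ Spec (CommRingCat.of B))

theorem aug_surjective : Function.Surjective e.toRingHom :=
  fun c => ⟨algebraMap k A c, by simp⟩

theorem ker_aug : RingHom.ker e.toRingHom = maximalIdeal A := by
  haveI : (RingHom.ker e.toRingHom).IsMaximal :=
    RingHom.ker_isMaximal_of_surjective e.toRingHom (aug_surjective k A e)
  exact IsLocalRing.eq_maximalIdeal inferInstance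

theorem sub_aug_mem (a : A) : a - algebraMap k A (e a) ∈ maximalIdeal A := by
  rw [← ker_aug k A e, RingHom.mem_ker]; simp

theorem exists_iso_fibre
    (hsq : IsPullback i hX (Spec.map (CommRingCat.ofHom (algebraMap A B)))
      (Spec.map (CommRingCat.ofHom e.toRingHom))) :
    ∃ θ : X ≅ Spec (CommRingCat.of (B ⧸ (maximalIdeal A).map (algebraMap A B))),
      θ.hom ≫ Spec.map (CommRingCat.ofHom
        (Ideal.Quotient.mk ((maximalIdeal A).map (algebraMap A B)))) = i ∧
      θ.hom ≫ Spec.map (CommRingCat.ofHom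
        (algebraMap k (B ⧸ (maximalIdeal A).map (algebraMap A B)))) = hX := by
  have hc : ∀ a, algebraMap k (B ⧸ (maximalIdeal A).map (algebraMap A B)) (e.toRingHom a) =
      Ideal.Quotient.mk ((maximalIdeal A).map (algebraMap A B)) (algebraMap A B a) := by
    intro a
    have h2 : algebraMap A B (a - algebraMap k A (e a)) ∈ (maximalIdeal A).map (algebraMap A B) :=
      Ideal.mem_map_of_mem _ (sub_aug_mem k A e a)
    have h3 := Ideal.Quotient.eq_zero_iff_mem.mpr h2
    rw [map_sub, map_sub, sub_eq_zero] at h3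
    rw [h3, ← IsScalarTower.algebraMap_apply k A B]
    rfl
  have P0 := isPushout_quotient (k := k) e.toRingHom (aug_surjective k A e) (maximalIdeal A)
    (ker_aug k A e) (algebraMap k (B ⧸ (maximalIdeal A).map (algebraMap A B))) hc
  have P1 := isPullback_SpecMap_of_isPushout _ _ _ _ P0
  exact ⟨hsq.isoIsPullback _ _ P1, hsq.isoIsPullback_hom_fst _ _ P1,
    hsq.isoIsPullback_hom_snd _ _ P1⟩

include e in
theorem isPullback_of_section [Module.Flat A B] (hnil : IsNilpotent (maximalIdeal A))
    (θ : X ≅ Spec (CommRingCat.of (B ⧸ (maximalIdeal A).map (algebraMap A B))))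
    (hθ1 : θ.hom ≫ Spec.map (CommRingCat.ofHom
        (Ideal.Quotient.mk ((maximalIdeal A).map (algebraMap A B)))) = i)
    (hθ2 : θ.hom ≫ Spec.map (CommRingCat.ofHom
        (algebraMap k (B ⧸ (maximalIdeal A).map (algebraMap A B)))) = hX)
    (s : (B ⧸ (maximalIdeal A).map (algebraMap A B)) →ₐ[k] B)
    (hs : ∀ x, Ideal.Quotient.mk ((maximalIdeal A).map (algebraMap A B)) (s x) = x) :
    IsPullback (Spec.map (CommRingCat.ofHom s.toRingHom) ≫ θ.inv)
        (Spec.map (CommRingCat.ofHom (algebraMap A B))) hX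
        (Spec.map (CommRingCat.ofHom (algebraMap k A))) ∧
      i ≫ Spec.map (CommRingCat.ofHom s.toRingHom) ≫ θ.inv = 𝟙 X := by
  have hres : ∀ a : A, ∃ c : k, a - algebraMap k A c ∈ maximalIdeal A :=
    fun a => ⟨e a, sub_aug_mem k A e a⟩
  obtain ⟨ψ, hψ⟩ := trivialization_of_section hnil hres s hs
  have Q0 : IsPushout (CommRingCat.ofHom (algebraMap k A))
      (CommRingCat.ofHom (algebraMap k (B ⧸ (maximalIdeal A).map (algebraMap A B))))
      (CommRingCat.ofHom (algebraMap A B)) (CommRingCat.ofHom s.toRingHom) := by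
    refine (CommRingCat.isPushout_tensorProduct k A
      (B ⧸ (maximalIdeal A).map (algebraMap A B))).of_iso (Iso.refl _) (Iso.refl _)
      (Iso.refl _) ψ.toRingEquiv.toCommRingCatIso (by simp) (by simp) ?_ ?_
    · ext a
      have h := ψ.commutes a
      rw [Algebra.TensorProduct.algebraMap_apply] at h
      simpa using h
    · ext b
      exact hψ b
  have Q1 := isPullback_SpecMap_of_isPushout _ _ _ _ Q0
  refine ⟨?_, ?_⟩
  · refine Q1.flip.of_iso (Iso.refl _) θ.symm (Iso.refl _) (Iso.refl _) ?_ ?_ ?_ ?_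
    · simp
    · simp
    · simp [← hθ2]
    · simp
  · have h1 : CommRingCat.ofHom s.toRingHom ≫ CommRingCat.ofHom
        (Ideal.Quotient.mk ((maximalIdeal A).map (algebraMap A B))) = 𝟙 _ := by
      ext b
      exact hs b
    rw [← hθ1, Category.assoc, ← Spec.map_comp_assoc, h1, Spec.map_id, Category.id_comp,
      Iso.hom_inv_id]

end AffineGeneral

/-- `S15991`. -/
theorem exists_iso_trivial_marked
    (k : Type u) [Field k] (X : Scheme.{u}) (hX : X ⟶ Spec (CommRingCat.of k)) [IsAffine X]
    [Smooth hX]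
    {ι : Type v} [Finite ι] (p : ι → (Spec (CommRingCat.of k) ⟶ X)) (hp : ∀ j, p j ≫ hX = 𝟙 _)
    (hinj : Function.Injective p)
    (X' : Scheme.{u}) (g : X' ⟶ Spec (CommRingCat.of (DualNumber k))) [Flat g] (i : X ⟶ X')
    (hsq : IsPullback i hX g
      (Spec.map (CommRingCat.ofHom (TrivSqZeroExt.fstHom k k k).toRingHom)))
    (p' : ι → (Spec (CommRingCat.of (DualNumber k)) ⟶ X')) (hp' : ∀ j, p' j ≫ g = 𝟙 _)
    (hpp' : ∀ j, p j ≫ i =
      Spec.map (CommRingCat.ofHom (TrivSqZeroExt.fstHom k k k).toRingHom) ≫ p' j) :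
    ∃ φ : X' ≅ Limits.pullback hX (Spec.map (CommRingCat.ofHom (algebraMap k (DualNumber k)))),
      φ.hom ≫ Limits.pullback.snd hX
        (Spec.map (CommRingCat.ofHom (algebraMap k (DualNumber k)))) = g ∧
        i ≫ φ.hom ≫ Limits.pullback.fst hX
          (Spec.map (CommRingCat.ofHom (algebraMap k (DualNumber k)))) = 𝟙 X ∧
          ∀ j, p' j ≫ φ.hom ≫
              Limits.pullback.fst hX
                (Spec.map (CommRingCat.ofHom (algebraMap k (DualNumber k)))) =
            Spec.map (CommRingCat.ofHom (algebraMap k (DualNumber k))) ≫ p j := by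
  classical
  have hnil : IsNilpotent (maximalIdeal (DualNumber k)) := ⟨2, maximalIdeal_dualNumber_sq⟩
  have hesurj := aug_surjective k (DualNumber k) (TrivSqZeroExt.fstHom k k k)
  haveI : IsClosedImmersion
      (Spec.map (CommRingCat.ofHom (TrivSqZeroExt.fstHom k k k).toRingHom)) :=
    IsClosedImmersion.spec_of_surjective _ hesurj
  haveI : IsClosedImmersion i := MorphismProperty.of_isPullback hsq.flip inferInstance
  haveI : Surjective (Spec.map (CommRingCat.ofHom (TrivSqZeroExt.fstHom k k k).toRingHom)) := by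
    refine ⟨fun y => ?_⟩
    obtain ⟨x⟩ : Nonempty (Spec (CommRingCat.of k)) := inferInstance
    refine ⟨x, ?_⟩
    have key : ∀ y : Spec (CommRingCat.of (DualNumber k)),
        y.asIdeal = maximalIdeal (DualNumber k) := by
      intro y
      haveI := y.isPrime
      have hle : maximalIdeal (DualNumber k) ≤ y.asIdeal := by
        intro a ha
        have h2 : a ^ 2 ∈ (maximalIdeal (DualNumber k)) ^ 2 := Ideal.pow_mem_pow ha 2
        rw [maximalIdeal_dualNumber_sq, Ideal.mem_bot] at h2
        exact y.isPrime.mem_of_pow_mem 2 (h2 ▸ y.asIdeal.zero_mem)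
      exact ((IsLocalRing.maximalIdeal.isMaximal (DualNumber k)).eq_of_le
        y.isPrime.ne_top hle).symm
    have hsub : ∀ y₁ y₂ : Spec (CommRingCat.of (DualNumber k)), y₁ = y₂ := by
      intro y₁ y₂
      apply PrimeSpectrum.ext
      rw [key y₁, key y₂]
    exact hsub _ _
  haveI : Surjective i := MorphismProperty.of_isPullback hsq.flip inferInstance
  haveI : IsAffine X' := Groth.Agent.S0440.result i i.surjective
  let gA : DualNumber k →+* Γ(X', ⊤) :=
    ((Scheme.ΓSpecIso (CommRingCat.of (DualNumber k))).inv ≫ g.appTop).hom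
  letI : Algebra (DualNumber k) Γ(X', ⊤) := gA.toAlgebra
  letI : Algebra k Γ(X', ⊤) :=
    ((algebraMap (DualNumber k) Γ(X', ⊤)).comp (algebraMap k (DualNumber k))).toAlgebra
  haveI : IsScalarTower k (DualNumber k) Γ(X', ⊤) := by
    have h := IsScalarTower.of_algebraMap_eq' (R := k) (S := DualNumber k) (A := Γ(X', ⊤)) rfl
    exact h
  have hg : X'.isoSpec.hom ≫
      Spec.map (CommRingCat.ofHom (algebraMap (DualNumber k) Γ(X', ⊤))) = g := by
    have : CommRingCat.ofHom (algebraMap (DualNumber k) Γ(X', ⊤)) =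
        (Scheme.ΓSpecIso (CommRingCat.of (DualNumber k))).inv ≫ g.appTop := rfl
    rw [this, Spec.map_comp, Scheme.isoSpec_hom_naturality_assoc, Scheme.isoSpec_Spec_hom,
      ← Spec.map_comp, Iso.inv_hom_id, Spec.map_id, Category.comp_id]
  haveI : Module.Flat (DualNumber k) Γ(X', ⊤) := by
    have h1 : Spec.map (CommRingCat.ofHom (algebraMap (DualNumber k) Γ(X', ⊤))) =
        X'.isoSpec.inv ≫ g := by
      rw [← hg, Iso.inv_hom_id_assoc]
    have h2 : Flat (Spec.map (CommRingCat.ofHom (algebraMap (DualNumber k) Γ(X', ⊤)))) := by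
      rw [h1]; infer_instance
    exact RingHom.flat_algebraMap_iff.mp (Flat.SpecMap_iff.mp h2)
  have hsq' : IsPullback (i ≫ X'.isoSpec.hom) hX
      (Spec.map (CommRingCat.ofHom (algebraMap (DualNumber k) Γ(X', ⊤))))
      (Spec.map (CommRingCat.ofHom (TrivSqZeroExt.fstHom k k k).toRingHom)) :=
    hsq.of_iso (Iso.refl _) X'.isoSpec (Iso.refl _) (Iso.refl _) (by simp) (by simp)
      (by simp [hg]) (by simp)
  obtain ⟨θ, hθ1, hθ2⟩ := exists_iso_fibre k hX (DualNumber k) (TrivSqZeroExt.fstHom k k k)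
    Γ(X', ⊤) _ hsq'
  -- smoothness of the fibre ring
  have hsm : Algebra.FormallySmooth k (Γ(X', ⊤) ⧸
      (maximalIdeal (DualNumber k)).map (algebraMap (DualNumber k) Γ(X', ⊤))) := by
    have h1 : Spec.map (CommRingCat.ofHom (algebraMap k (Γ(X', ⊤) ⧸
        (maximalIdeal (DualNumber k)).map (algebraMap (DualNumber k) Γ(X', ⊤))))) =
        θ.inv ≫ hX := by
      rw [← hθ2, Iso.inv_hom_id_assoc]
    have h2 : Smooth (Spec.map (CommRingCat.ofHom (algebraMap k (Γ(X', ⊤) ⧸
        (maximalIdeal (DualNumber k)).map (algebraMap (DualNumber k) Γ(X', ⊤)))))) := by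
      rw [h1]; infer_instance
    have h3 := (HasRingHomProperty.Spec_iff (P := @Smooth)).mp h2
    have h4 : Algebra.Smooth k (Γ(X', ⊤) ⧸
        (maximalIdeal (DualNumber k)).map (algebraMap (DualNumber k) Γ(X', ⊤))) :=
      RingHom.smooth_algebraMap.mp h3
    exact h4.formallySmooth
  -- sections as algebra maps
  have hρ : ∀ j, Spec.map (Spec.preimage (p' j ≫ X'.isoSpec.hom)) = p' j ≫ X'.isoSpec.hom :=
    fun j => Spec.map_preimage _
  have hρalg : ∀ j, CommRingCat.ofHom (algebraMap (DualNumber k) Γ(X', ⊤)) ≫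
      Spec.preimage (p' j ≫ X'.isoSpec.hom) = 𝟙 _ := by
    intro j
    apply Spec.map_injective
    rw [Spec.map_comp, hρ, Category.assoc, hg, hp', Spec.map_id]
  let π' : ι → (Γ(X', ⊤) →ₐ[DualNumber k] DualNumber k) := fun j =>
    { toRingHom := (Spec.preimage (p' j ≫ X'.isoSpec.hom)).hom
      commutes' := fun a => congrArg (fun f => f.hom a) (hρalg j) }
  have hσ : ∀ j, Spec.map (Spec.preimage (p j ≫ θ.hom)) = p j ≫ θ.hom :=
    fun j => Spec.map_preimage _
  have hσalg : ∀ j, CommRingCat.ofHom (algebraMap k (Γ(X', ⊤) ⧸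
      (maximalIdeal (DualNumber k)).map (algebraMap (DualNumber k) Γ(X', ⊤)))) ≫
      Spec.preimage (p j ≫ θ.hom) = 𝟙 _ := by
    intro j
    apply Spec.map_injective
    rw [Spec.map_comp, hσ, Category.assoc, hθ2, hp, Spec.map_id]
  let π : ι → ((Γ(X', ⊤) ⧸
      (maximalIdeal (DualNumber k)).map (algebraMap (DualNumber k) Γ(X', ⊤))) →ₐ[k] k) := fun j =>
    { toRingHom := (Spec.preimage (p j ≫ θ.hom)).hom
      commutes' := fun a => congrArg (fun f => f.hom a) (hσalg j) }
  have hcompat0 : ∀ j, CommRingCat.ofHom (Ideal.Quotient.mk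
      ((maximalIdeal (DualNumber k)).map (algebraMap (DualNumber k) Γ(X', ⊤)))) ≫
      Spec.preimage (p j ≫ θ.hom) = Spec.preimage (p' j ≫ X'.isoSpec.hom) ≫
        CommRingCat.ofHom (TrivSqZeroExt.fstHom k k k).toRingHom := by
    intro j
    apply Spec.map_injective
    rw [Spec.map_comp, Spec.map_comp, hσ, hρ, Category.assoc, hθ1, ← Category.assoc, hpp',
      Category.assoc]
  have hcompat : ∀ j b, TrivSqZeroExt.fst (π' j b) = π j (Ideal.Quotient.mk _ b) := by
    intro j b
    exact (congrArg (fun f => f.hom b) (hcompat0 j)).symm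
  have hinjπ : Function.Injective π := by
    intro j j' hjj
    apply hinj
    have h1 : Spec.preimage (p j ≫ θ.hom) = Spec.preimage (p j' ≫ θ.hom) := by
      apply CommRingCat.hom_ext
      exact congrArg (fun f : (Γ(X', ⊤) ⧸ (maximalIdeal (DualNumber k)).map
        (algebraMap (DualNumber k) Γ(X', ⊤))) →ₐ[k] k => f.toRingHom) hjj
    have h2 : p j ≫ θ.hom = p j' ≫ θ.hom := by
      have e1 := hσ j
      have e2 := hσ j'
      rw [h1] at e1
      exact e1.symm.trans e2
    exact (cancel_mono θ.hom).mp h2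
  obtain ⟨s, hs1, hs2⟩ := exists_section_marked hsm π' π hcompat hinjπ
  obtain ⟨hr, hir⟩ := isPullback_of_section k hX (DualNumber k) (TrivSqZeroExt.fstHom k k k)
    Γ(X', ⊤) (i ≫ X'.isoSpec.hom) hnil θ hθ1 hθ2 s hs1
  have hr' : IsPullback (X'.isoSpec.hom ≫ Spec.map (CommRingCat.ofHom s.toRingHom) ≫ θ.inv) g hX
      (Spec.map (CommRingCat.ofHom (algebraMap k (DualNumber k)))) :=
    hr.of_iso X'.isoSpec.symm (Iso.refl _) (Iso.refl _) (Iso.refl _) (by simp)
      (by simp [← hg]) (by simp) (by simp)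
  refine ⟨hr'.isoPullback, hr'.isoPullback_hom_snd, ?_, ?_⟩
  · rw [hr'.isoPullback_hom_fst, ← Category.assoc]
    exact hir
  · intro j
    have h1 : CommRingCat.ofHom s.toRingHom ≫ Spec.preimage (p' j ≫ X'.isoSpec.hom) =
        Spec.preimage (p j ≫ θ.hom) ≫ CommRingCat.ofHom (algebraMap k (DualNumber k)) := by
      apply CommRingCat.hom_ext
      apply RingHom.ext
      intro x
      exact hs2 j x
    rw [hr'.isoPullback_hom_fst, ← Category.assoc, ← hρ, ← Spec.map_comp_assoc, h1,
      Spec.map_comp, hσ, Category.assoc, Category.assoc, Iso.hom_inv_id, Category.comp_id]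

end Groth.Agent.H63.RigidSmooth
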