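import Groth.Agent.H63.ArtFibre

/-!
The universal property of an abstract fibre square in `ArtFun.Art Λ k`.
-/

set_option autoImplicit false
set_option linter.unusedSectionVars false
universe u v

namespace Groth.Agent.H63

open CategoryTheory ArtFun ArtFun.Art

variable {Λ : Type u} {k : Type u} [CommRing Λ] [Field k] [Algebra Λ k]

section Lift

variable {B A A' A'' : Art Λ k} {p' : B ⟶ A'} {p'' : B ⟶ A''} {f' : A' ⟶ A} {f'' : A'' ⟶ A}

/-- Universal property of a fibre square: existence. -/
theorem IsFibreProd.exists_lift (h : IsFibreProd p' p'' f' f'') {T : Art Λ k} (g' : T ⟶ A')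
    (g'' : T ⟶ A'') (w : g' ≫ f' = g'' ≫ f'') :
    ∃ g : T ⟶ B, g ≫ p' = g' ∧ g ≫ p'' = g'' := by
  classical
  have hex : ∀ t : T, ∃ b : B, p' b = g' t ∧ p'' b = g'' t := by
    intro t
    have ht : f' (g' t) = f'' (g'' t) := by
      have : (g' ≫ f') t = (g'' ≫ f'') t := by rw [w]
      exact this
    exact h.surj _ _ ht
  choose φ hφ1 hφ2 using hex
  have huniq : ∀ (t : T) (b : B), p' b = g' t → p'' b = g'' t → φ t = b := by
    intro t b hb1 hb2
    exact h.inj _ _ ((hφ1 t).trans hb1.symm) ((hφ2 t).trans hb2.symm)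
  let ψ : T →ₐ[Λ] B :=
    { toFun := φ
      map_one' := huniq 1 1 (by
          rw [map_one g'.toAlgHom]; exact map_one p'.toAlgHom) (by
          rw [map_one g''.toAlgHom]; exact map_one p''.toAlgHom)
      map_mul' := fun s t => huniq (s * t) (φ s * φ t) (by
          rw [map_mul g'.toAlgHom, ← hφ1 s, ← hφ1 t]; exact map_mul p'.toAlgHom _ _) (by
          rw [map_mul g''.toAlgHom, ← hφ2 s, ← hφ2 t]; exact map_mul p''.toAlgHom _ _)
      map_zero' := huniq 0 0 (by
          rw [map_zero g'.toAlgHom]; exact map_zero p'.toAlgHom) (by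
          rw [map_zero g''.toAlgHom]; exact map_zero p''.toAlgHom)
      map_add' := fun s t => huniq (s + t) (φ s + φ t) (by
          rw [map_add g'.toAlgHom, ← hφ1 s, ← hφ1 t]; exact map_add p'.toAlgHom _ _) (by
          rw [map_add g''.toAlgHom, ← hφ2 s, ← hφ2 t]; exact map_add p''.toAlgHom _ _)
      commutes' := fun r => huniq _ _ (by
          rw [AlgHom.commutes g'.toAlgHom]; exact AlgHom.commutes p'.toAlgHom r) (by
          rw [AlgHom.commutes g''.toAlgHom]; exact AlgHom.commutes p''.toAlgHom r) }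
  have hres : B.res.comp ψ = T.res := by
    apply AlgHom.ext
    intro t
    change B.res (φ t) = T.res t
    rw [← res_app p' (φ t), hφ1, res_app]
  refine ⟨⟨ψ, hres⟩, ?_, ?_⟩
  · apply hom_ext
    apply AlgHom.ext
    intro t
    exact hφ1 t
  · apply hom_ext
    apply AlgHom.ext
    intro t
    exact hφ2 t

/-- Universal property of a fibre square for maps out of an augmented algebra. -/
theorem IsFibreProd.exists_homSet_lift (h : IsFibreProd p' p'' f' f'') {R : Type u} [CommRing R]
    [Algebra Λ R] {resR : R →ₐ[Λ] k} (g' : HomSet R resR A') (g'' : HomSet R resR A'')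
    (w : HomSet.map f' g' = HomSet.map f'' g'') :
    ∃ g : HomSet R resR B, HomSet.map p' g = g' ∧ HomSet.map p'' g = g'' := by
  classical
  have hex : ∀ t : R, ∃ b : B, p' b = g'.1 t ∧ p'' b = g''.1 t := by
    intro t
    have ht : f' (g'.1 t) = f'' (g''.1 t) := by
      have := congrArg (fun (x : HomSet R resR A) => x.1 t) w
      exact this
    exact h.surj _ _ ht
  choose φ hφ1 hφ2 using hex
  have huniq : ∀ (t : R) (b : B), p' b = g'.1 t → p'' b = g''.1 t → φ t = b := by
    intro t b hb1 hb2
    exact h.inj _ _ ((hφ1 t).trans hb1.symm) ((hφ2 t).trans hb2.symm)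
  let ψ : R →ₐ[Λ] B :=
    { toFun := φ
      map_one' := huniq 1 1 (by
          rw [map_one g'.1]; exact map_one p'.toAlgHom) (by
          rw [map_one g''.1]; exact map_one p''.toAlgHom)
      map_mul' := fun s t => huniq (s * t) (φ s * φ t) (by
          rw [map_mul g'.1, ← hφ1 s, ← hφ1 t]; exact map_mul p'.toAlgHom _ _) (by
          rw [map_mul g''.1, ← hφ2 s, ← hφ2 t]; exact map_mul p''.toAlgHom _ _)
      map_zero' := huniq 0 0 (by
          rw [map_zero g'.1]; exact map_zero p'.toAlgHom) (by
          rw [map_zero g''.1]; exact map_zero p''.toAlgHom)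
      map_add' := fun s t => huniq (s + t) (φ s + φ t) (by
          rw [map_add g'.1, ← hφ1 s, ← hφ1 t]; exact map_add p'.toAlgHom _ _) (by
          rw [map_add g''.1, ← hφ2 s, ← hφ2 t]; exact map_add p''.toAlgHom _ _)
      commutes' := fun r => huniq _ _ (by
          rw [AlgHom.commutes g'.1]; exact AlgHom.commutes p'.toAlgHom r) (by
          rw [AlgHom.commutes g''.1]; exact AlgHom.commutes p''.toAlgHom r) }
  have hres : B.res.comp ψ = resR := by
    apply AlgHom.ext
    intro t
    change B.res (φ t) = resR t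
    rw [← res_app p' (φ t), hφ1]
    exact DFunLike.congr_fun g'.2 t
  refine ⟨⟨ψ, hres⟩, ?_, ?_⟩
  · apply Subtype.ext
    apply AlgHom.ext
    intro t
    exact hφ1 t
  · apply Subtype.ext
    apply AlgHom.ext
    intro t
    exact hφ2 t

/-- Universal property of a fibre square: uniqueness. -/
theorem IsFibreProd.hom_ext (h : IsFibreProd p' p'' f' f'') {T : Art Λ k} {g₁ g₂ : T ⟶ B}
    (h' : g₁ ≫ p' = g₂ ≫ p') (h'' : g₁ ≫ p'' = g₂ ≫ p'') : g₁ = g₂ := by
  apply Art.hom_ext
  apply AlgHom.ext
  intro t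
  apply h.inj
  · have : (g₁ ≫ p') t = (g₂ ≫ p') t := by rw [h']
    exact this
  · have : (g₁ ≫ p'') t = (g₂ ≫ p'') t := by rw [h'']
    exact this

end Lift

end Groth.Agent.H63
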