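import Mathlib
import Groth.Agent.H7.RationalPointChart

/-!
# Rational points of schemes over a field (helper63)

A section `s : Spec k ⟶ Y` of `p : Y ⟶ Spec k` has closed image point and is determined by its
image point.
-/

set_option autoImplicit false
set_option linter.style.haveILetI false
universe u
open CategoryTheory AlgebraicGeometry MonoidalCategory CartesianMonoidalCategory

namespace Groth.Agent.H63.RatPt

variable {k : Type u} [Field k]

/-- chart of a rational point -/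
theorem exists_chart {Y : Scheme.{u}} (p : Y ⟶ Spec (CommRingCat.of k))
    (s : Spec (CommRingCat.of k) ⟶ Y) (hs : s ≫ p = 𝟙 _) (pt : Spec (CommRingCat.of k))
    {U : Y.Opens} (hU : IsAffineOpen U) (hmem : s pt ∈ U)
    (ρ : CommRingCat.of k ⟶ Γ(Y, U)) (hρ : Spec.map ρ = hU.fromSpec ≫ p) :
    ∃ ψ : Γ(Y, U) ⟶ CommRingCat.of k,
      s = Spec.map ψ ≫ hU.fromSpec ∧ (∀ c : k, ψ.hom (ρ.hom c) = c) ∧
      (Spec.map ψ pt).asIdeal = RingHom.ker ψ.hom := by
  have hpt : pt = IsLocalRing.closedPoint k := Subsingleton.elim _ _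
  obtain ⟨ψ, hψ⟩ := Groth.Agent.H7.exists_factor_fromSpec hU k s (hpt ▸ hmem)
  have hcomp : ρ ≫ ψ = 𝟙 _ := by
    apply Spec.map_injective
    rw [Spec.map_comp, hρ, ← Category.assoc, ← hψ, hs, Spec.map_id]
  refine ⟨ψ, hψ, ?_, ?_⟩
  · intro c
    have h1 := congrArg (fun t => t.hom c) hcomp
    exact h1
  · have h1 : (Spec.map ψ pt).asIdeal = Ideal.comap ψ.hom pt.asIdeal := rfl
    rw [h1, Groth.Agent.H7.asIdeal_eq_bot_of_field pt, RingHom.ker_eq_comap_bot]

/-- the image point of a rational point is closed -/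
theorem isClosed_singleton {Y : Scheme.{u}} (p : Y ⟶ Spec (CommRingCat.of k))
    (s : Spec (CommRingCat.of k) ⟶ Y) (hs : s ≫ p = 𝟙 _) (pt : Spec (CommRingCat.of k)) :
    IsClosed ({s pt} : Set Y) := by
  rw [← closure_subset_iff_isClosed]
  intro y' hy'
  have hsp : s pt ⤳ y' := specializes_iff_mem_closure.mpr hy'
  obtain ⟨U, hU, hxU, -⟩ := exists_isAffineOpen_mem_and_subset (x := y') (U := ⊤) trivial
  have hmem : s pt ∈ U := hsp.mem_open U.isOpen hxU
  obtain ⟨ψ, hψ, hval, hker⟩ := exists_chart p s hs pt hU hmem (Spec.preimage _)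
    (Spec.map_preimage _)
  obtain ⟨r, rfl⟩ : y' ∈ Set.range hU.fromSpec := by
    rw [hU.range_fromSpec]
    exact hxU
  have h1 : s pt = hU.fromSpec (Spec.map ψ pt) := by
    conv_lhs => rw [hψ]
    rfl
  rw [h1] at hsp ⊢
  have h2 : Spec.map ψ pt ⤳ r :=
    hU.fromSpec.isOpenEmbedding.isInducing.specializes_iff.mp hsp
  have h3 : (Spec.map ψ pt).asIdeal ≤ r.asIdeal := (PrimeSpectrum.le_iff_specializes _ r).mpr h2
  have hsurj : Function.Surjective ψ.hom := fun c => ⟨_, hval c⟩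
  haveI hmax : (RingHom.ker ψ.hom).IsMaximal := RingHom.ker_isMaximal_of_surjective ψ.hom hsurj
  rw [hker] at h3
  have h4 : RingHom.ker ψ.hom = r.asIdeal := hmax.eq_of_le r.isPrime.ne_top h3
  have h5 : r = Spec.map ψ pt := PrimeSpectrum.ext (by rw [hker, h4])
  rw [h5]
  rfl

/-- a rational point is determined by its image point -/
theorem ext_of_apply_eq {Y : Scheme.{u}} (p : Y ⟶ Spec (CommRingCat.of k))
    (s₁ s₂ : Spec (CommRingCat.of k) ⟶ Y) (hs₁ : s₁ ≫ p = 𝟙 _) (hs₂ : s₂ ≫ p = 𝟙 _)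
    (pt : Spec (CommRingCat.of k)) (h : s₁ pt = s₂ pt) : s₁ = s₂ := by
  obtain ⟨U, hU, hxU, -⟩ := exists_isAffineOpen_mem_and_subset (x := s₁ pt) (U := ⊤) trivial
  obtain ⟨ψ₁, hψ₁, hval₁, hker₁⟩ := exists_chart p s₁ hs₁ pt hU hxU (Spec.preimage _)
    (Spec.map_preimage _)
  obtain ⟨ψ₂, hψ₂, hval₂, hker₂⟩ := exists_chart p s₂ hs₂ pt hU (h ▸ hxU) (Spec.preimage _)
    (Spec.map_preimage _)
  have e1 : s₁ pt = hU.fromSpec (Spec.map ψ₁ pt) := by
    conv_lhs => rw [hψ₁]
    rfl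
  have e2 : s₂ pt = hU.fromSpec (Spec.map ψ₂ pt) := by
    conv_lhs => rw [hψ₂]
    rfl
  have h2 : Spec.map ψ₁ pt = Spec.map ψ₂ pt :=
    hU.fromSpec.isOpenEmbedding.injective (by rw [← e1, ← e2, h])
  have hk : RingHom.ker ψ₁.hom = RingHom.ker ψ₂.hom := by
    rw [← hker₁, ← hker₂, h2]
  have hψ : ψ₁ = ψ₂ := by
    ext r
    set ρ : CommRingCat.of k ⟶ Γ(Y, U) := Spec.preimage (hU.fromSpec ≫ p) with hρ
    have hm : r - ρ.hom (ψ₁.hom r) ∈ RingHom.ker ψ₁.hom := by
      rw [RingHom.mem_ker, map_sub, hval₁, sub_self]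
    rw [hk, RingHom.mem_ker, map_sub, hval₂, sub_eq_zero] at hm
    exact hm.symm
  rw [hψ₁, hψ₂, hψ]

variable {Y : Over (Spec (CommRingCat.of k))}

/-- the image of a `k`-point of a `k`-scheme is closed -/
theorem isClosed_range (x : 𝟙_ (Over (Spec (CommRingCat.of k))) ⟶ Y) :
    IsClosed (Set.range x.left.base) := by
  haveI : Subsingleton ↥(𝟙_ (Over (Spec (CommRingCat.of k)))).left :=
    inferInstanceAs (Subsingleton (PrimeSpectrum k))
  have h : Set.range x.left.base = {x.left.base (IsLocalRing.closedPoint k)} := by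
    ext y
    constructor
    · rintro ⟨p, rfl⟩
      rw [Subsingleton.elim p (IsLocalRing.closedPoint k)]
      rfl
    · rintro rfl
      exact ⟨_, rfl⟩
  rw [h]
  exact isClosed_singleton Y.hom x.left (Over.w x) _

theorem isClosed_singleton' (x : 𝟙_ (Over (Spec (CommRingCat.of k))) ⟶ Y)
    (pt : ↥(𝟙_ (Over (Spec (CommRingCat.of k)))).left) :
    IsClosed ({x.left.base pt} : Set Y.left) :=
  isClosed_singleton Y.hom x.left (Over.w x) pt

/-- `k`-points with the same image point are equal -/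
theorem over_ext (x₁ x₂ : 𝟙_ (Over (Spec (CommRingCat.of k))) ⟶ Y)
    (pt : ↥(𝟙_ (Over (Spec (CommRingCat.of k)))).left)
    (h : x₁.left.base pt = x₂.left.base pt) : x₁ = x₂ := by
  apply Over.OverMorphism.ext
  exact ext_of_apply_eq Y.hom x₁.left x₂.left (Over.w x₁) (Over.w x₂) pt h

end Groth.Agent.H63.RatPt
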