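import Mathlib
import Groth.Prelude.Def_HTop
import Groth.Prelude.Def_HTop3
import Groth.Agent.H9.ComapIdeal
import Groth.Agent.H27.ABU_KER
set_option autoImplicit false
universe u
open CategoryTheory CategoryTheory.Limits AlgebraicGeometry

namespace Groth.Agent.H63.ABU_G1

/-- (G1) for helper95's S8982 squad: the inverse image of a locally principal ideal sheaf `𝓙` on the
closed subscheme cut out by the sections supported on `V(𝓙)` is effective Cartier. -/
theorem G1 {W : Scheme.{u}} (𝓙 : W.IdealSheafData) (h : HTop.IsLocPrincipal 𝓙) :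
    BlowUp.IsEffCartierIdeal (𝓙.comap (HTop.supportedOn 𝓙).subschemeι) := by
  set K := HTop.supportedOn 𝓙 with hK
  intro x
  obtain ⟨U, hxU, f, hf⟩ := h (K.subschemeι x)
  let V : K.subscheme.affineOpens := ⟨K.subschemeι ⁻¹ᵁ U.1, U.2.preimage K.subschemeι⟩
  have hker : ∀ a : Γ(W, U.1), (K.subschemeι.app U.1).hom a = 0 ↔ ∃ n : ℕ, f ^ n * a = 0 := by
    intro a
    rw [← Groth.Agent.H27.ABU_KER.KER 𝓙 h U f hf a, ← K.ker_subschemeι_app U, RingHom.mem_ker]
  refine ⟨V, hxU, (K.subschemeι.app U.1).hom f, ?_, ?_⟩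
  · rw [mem_nonZeroDivisors_iff_right]
    intro b hb
    obtain ⟨a, rfl⟩ := K.subschemeι_app_surjective U b
    have h1 : (K.subschemeι.app U.1).hom (a * f) = 0 := by
      rw [map_mul]; exact hb
    obtain ⟨n, hn⟩ := (hker (a * f)).1 h1
    apply (hker a).2
    refine ⟨n + 1, ?_⟩
    rw [pow_succ, mul_assoc, mul_comm f a]
    exact hn
  · have h2 := Groth.Agent.H9.comap_ideal K.subschemeι 𝓙 U V le_rfl
    rw [h2, hf, Ideal.map_span, Set.image_singleton]
    have h3 : K.subschemeι.appLE U.1 V.1 le_rfl = K.subschemeι.app U.1 :=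
      (Scheme.Hom.app_eq_appLE (f := K.subschemeι) (U := U.1)).symm
    rw [h3]

end Groth.Agent.H63.ABU_G1
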