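import Mathlib
import Groth.Agent.H1.AffineDescent

/-!
# fpqc descent of affine morphisms

`IsAffineHom` descends along surjective flat quasi-compact morphisms.
-/

set_option autoImplicit false
universe u
open CategoryTheory CategoryTheory.Limits AlgebraicGeometry

namespace Groth.Agent.H63.AffineHomDescent

set_option backward.isDefEq.respectTransparency false in
instance isAffineHom_descendsAlong :
    MorphismProperty.DescendsAlong @IsAffineHom
      (@Surjective ⊓ @Flat ⊓ @QuasiCompact : MorphismProperty Scheme.{u}) := by
  apply IsZariskiLocalAtTarget.descendsAlong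
  rintro R X Y f g ⟨⟨hs, hfl⟩, hqc⟩ hfst
  haveI : CompactSpace X := QuasiCompact.compactSpace_of_compactSpace f
  obtain ⟨X', p, hps, hpf, hX'⟩ :=
    Scheme.exists_hom_isAffine_of_isZariskiLocalAtSource @Flat X
  have hcond : (pullback.fst (p ≫ f) g ≫ p) ≫ f = pullback.snd (p ≫ f) g ≫ g := by
    rw [Category.assoc]; exact pullback.condition
  have hbig : IsPullback (pullback.lift _ _ hcond ≫ pullback.snd f g) (pullback.fst (p ≫ f) g)
      g (p ≫ f) := by
    rw [pullback.lift_snd]
    exact (IsPullback.of_hasPullback (p ≫ f) g).flip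
  have hsq : IsPullback (pullback.lift _ _ hcond) (pullback.fst (p ≫ f) g)
      (pullback.fst f g) p :=
    IsPullback.of_right hbig (pullback.lift_fst _ _ _) (IsPullback.of_hasPullback f g).flip
  haveI : IsAffineHom (pullback.fst (p ≫ f) g) :=
    MorphismProperty.of_isPullback (P := @IsAffineHom) hsq hfst
  haveI : IsAffine (pullback (p ≫ f) g) := isAffine_of_isAffineHom (pullback.fst (p ≫ f) g)
  haveI : Flat (p ≫ f) := inferInstance
  haveI : Surjective (p ≫ f) := inferInstance
  haveI : IsAffine Y :=
    Groth.Agent.H1.isAffine_of_isPullback_of_flat_of_surjective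
      (IsPullback.of_hasPullback (p ≫ f) g).flip
  infer_instance

/-- descent of affineness of a morphism along an fpqc base change, in pullback-square form -/
theorem isAffineHom_of_isPullback {A X Y Z : Scheme.{u}} {fst : A ⟶ X} {snd : A ⟶ Y} {f : X ⟶ Z}
    {g : Y ⟶ Z} (h : IsPullback fst snd f g) [Surjective f] [Flat f] [QuasiCompact f]
    [IsAffineHom fst] : IsAffineHom g :=
  MorphismProperty.of_isPullback_of_descendsAlong (P := @IsAffineHom)
    (Q := (@Surjective ⊓ @Flat ⊓ @QuasiCompact : MorphismProperty Scheme.{u})) h
    ⟨⟨inferInstance, inferInstance⟩, inferInstance⟩ inferInstance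

end Groth.Agent.H63.AffineHomDescent
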