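import Mathlib
import Groth.Agent.H63.ActionTranslate
import Groth.Agent.H63.SurjK

/-!
# Group schemes locally of finite type over an algebraically closed field: a source-local
property of a nonempty open holds everywhere (helper63)
-/

set_option autoImplicit false
set_option linter.style.haveILetI false
universe u
open CategoryTheory CategoryTheory.Limits AlgebraicGeometry MonoidalCategory CartesianMonoidalCategory MonObj GrpObj

namespace Groth.Agent.H63.ArtAlgClosed

open Groth.Agent.H63.ActionTranslate Groth.Agent.H63.SurjK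

variable {K : Type u} [Field K] [IsAlgClosed K]

/-- a closed point of a locally finite type scheme over an algebraically closed field is the image
of a section -/
theorem exists_section (G : Over (Spec (CommRingCat.of K))) [LocallyOfFiniteType G.hom]
    (x : G.left) (hx : IsClosed ({x} : Set G.left)) :
    ∃ σ : 𝟙_ (Over (Spec (CommRingCat.of K))) ⟶ G, ∀ s, σ.left s = x := by
  obtain ⟨p, hp⟩ := exists_Kpoint_of_isClosed K G x hx
  refine ⟨Over.homMk p.left ?_, fun s => hp s⟩
  have h1 := Over.w p
  rw [h1]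
  show Spec.map (CommRingCat.ofHom (algebraMap K K)) = 𝟙 _
  rw [Algebra.algebraMap_self]
  exact Spec.map_id _

/-- (AC) -/
theorem prop_of_open_algClosed
    (P : MorphismProperty Scheme.{u}) [IsZariskiLocalAtSource P]
    (G : Over (Spec (CommRingCat.of K))) [GrpObj G] [LocallyOfFiniteType G.hom]
    (W : G.left.Opens) (hW : (W : Set G.left).Nonempty) (h : P (W.ι ≫ G.hom)) : P G.hom := by
  haveI : JacobsonSpace G.left := LocallyOfFiniteType.jacobsonSpace G.hom
  obtain ⟨w₀, hw₀W, hw₀cl⟩ := nonempty_inter_closedPoints (X := G.left) (Z := (W : Set G.left))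
    hW W.isOpen.isLocallyClosed
  obtain ⟨σw, hσw⟩ := exists_section G w₀ hw₀cl
  let pt : ↥(𝟙_ (Over (Spec (CommRingCat.of K)))).left := IsLocalRing.closedPoint K
  have key : ∀ x : G.left, ∃ V : G.left.Opens, x ∈ V ∧ P (V.ι ≫ G.hom) := by
    intro x
    obtain ⟨x₀, hx₀cl, hspec⟩ := exists_closedPoint_specializes x
    obtain ⟨σx, hσx⟩ := exists_section G x₀ hx₀cl
    let φ : G ≅ G := Liso (σx * σw⁻¹)
    have h1 : σw ≫ φ.hom = σx := by
      show σw ≫ L (σx * σw⁻¹) = σx
      rw [point_comp_L, inv_mul_cancel_right]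
    have h2 : σx ≫ φ.inv = σw := by rw [← h1, Category.assoc, Iso.hom_inv_id, Category.comp_id]
    let V : G.left.Opens := φ.inv.left ⁻¹ᵁ W
    have hx₀V : x₀ ∈ V := by
      show φ.inv.left x₀ ∈ W
      rw [← hσx pt, ← Scheme.Hom.comp_apply, ← Over.comp_left, h2, hσw pt]
      exact hw₀W
    refine ⟨V, hspec.mem_open V.isOpen hx₀V, ?_⟩
    have h3 : (φ.inv.left ∣_ W) ≫ W.ι ≫ G.hom = V.ι ≫ G.hom := by
      rw [← Category.assoc, morphismRestrict_ι, Category.assoc, Over.w φ.inv]
    rw [← h3]
    haveI : IsIso φ.inv.left := inferInstanceAs (IsIso ((Over.forget _).map φ.inv))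
    exact (P.cancel_left_of_respectsIso (φ.inv.left ∣_ W) _).mpr h
  choose V hV hVP using key
  exact IsZariskiLocalAtSource.of_iSup_eq_top (P := P) V
    (eq_top_iff.mpr fun x _ => TopologicalSpace.Opens.mem_iSup.mpr ⟨x, hV x⟩) hVP

end Groth.Agent.H63.ArtAlgClosed
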