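import Groth.Prelude.Def_ArtFun3
import Mathlib.RingTheory.Artinian.Ring
import Mathlib.RingTheory.HopkinsLevitzki
import Mathlib.RingTheory.Jacobson.Ideal
import Mathlib.RingTheory.LocalRing.Quotient

/-!
Basic facts on the category `ArtFun.Art Λ k` used by several statements: bijective morphisms are
isomorphisms, the maximal ideal is nilpotent, every surjection factors into small extensions
(as an induction principle).
-/

set_option autoImplicit false
universe u v

namespace Groth.Agent.H63

open CategoryTheory ArtFun ArtFun.Art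

variable {Λ : Type u} {k : Type u} [CommRing Λ] [Field k] [Algebra Λ k]

theorem isIso_of_bijective {A B : Art Λ k} (f : B ⟶ A) (hf : Function.Bijective f) : IsIso f := by
  let e : B ≃ₐ[Λ] A := AlgEquiv.ofBijective f.toAlgHom hf
  have hres : B.res.comp (e.symm : A →ₐ[Λ] B) = A.res := by
    apply AlgHom.ext
    intro a
    obtain ⟨b, rfl⟩ := hf.2 a
    change B.res (e.symm (e b)) = A.res (f b)
    rw [AlgEquiv.symm_apply_apply, res_app]
  refine ⟨⟨⟨(e.symm : A →ₐ[Λ] B), hres⟩, ?_, ?_⟩⟩
  · apply hom_ext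
    apply AlgHom.ext
    intro b
    exact e.symm_apply_apply b
  · apply hom_ext
    apply AlgHom.ext
    intro a
    exact e.apply_symm_apply a

theorem bijective_of_isIso {A B : Art Λ k} (f : B ⟶ A) [IsIso f] : Function.Bijective f := by
  refine ⟨fun x y hxy => ?_, fun a => ⟨inv f a, ?_⟩⟩
  · have hx : (f ≫ inv f) x = x := by rw [IsIso.hom_inv_id]; rfl
    have hy : (f ≫ inv f) y = y := by rw [IsIso.hom_inv_id]; rfl
    rw [← hx, ← hy, Art.comp_apply, Art.comp_apply, hxy]
  · have : (inv f ≫ f) a = a := by rw [IsIso.inv_hom_id]; rfl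
    exact this

theorem ker_le_maximalIdeal {A B : Art Λ k} (f : B ⟶ A) :
    RingHom.ker f.toAlgHom ≤ IsLocalRing.maximalIdeal B := by
  intro b hb
  rw [mem_maximalIdeal_iff, ← res_app f]
  have : f b = 0 := RingHom.mem_ker.1 hb
  rw [this, map_zero]

theorem map_mem_maximalIdeal {A B : Art Λ k} (f : B ⟶ A) {b : B}
    (hb : b ∈ IsLocalRing.maximalIdeal B) : f b ∈ IsLocalRing.maximalIdeal A := by
  rw [mem_maximalIdeal_iff] at hb ⊢
  rw [res_app, hb]

theorem mem_maximalIdeal_of_map {A B : Art Λ k} (f : B ⟶ A) {b : B}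
    (hb : f b ∈ IsLocalRing.maximalIdeal A) : b ∈ IsLocalRing.maximalIdeal B := by
  rw [mem_maximalIdeal_iff] at hb ⊢
  rw [← res_app f, hb]

theorem exists_maximalIdeal_pow_eq_bot (B : Art Λ k) :
    ∃ n : ℕ, IsLocalRing.maximalIdeal B ^ n = ⊥ := by
  have h := IsArtinianRing.isNilpotent_jacobson_bot (R := B)
  rw [IsLocalRing.jacobson_eq_maximalIdeal _ bot_ne_top] at h
  obtain ⟨n, hn⟩ := h
  exact ⟨n, hn⟩

/-- For ideals `I < K` of an Artinian local ring there is `x ∈ K`, `x ∉ I` with `m x ⊆ I`. -/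
theorem exists_socle_elt (B : Art Λ k) {I K : Ideal B} (hIK : I < K) :
    ∃ x ∈ K, x ∉ I ∧ ∀ y ∈ IsLocalRing.maximalIdeal B, y * x ∈ I := by
  classical
  obtain ⟨N, hN⟩ := exists_maximalIdeal_pow_eq_bot B
  have hex : ∃ n : ℕ, IsLocalRing.maximalIdeal B ^ n * K ≤ I := ⟨N, by rw [hN]; simp⟩
  let n := Nat.find hex
  have hn : IsLocalRing.maximalIdeal B ^ n * K ≤ I := Nat.find_spec hex
  have hn0 : n ≠ 0 := by
    intro h0
    rw [h0, pow_zero, one_mul] at hn
    exact (not_le_of_gt hIK) hn
  obtain ⟨m, hm⟩ := Nat.exists_eq_succ_of_ne_zero hn0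
  have hmin : ¬ IsLocalRing.maximalIdeal B ^ m * K ≤ I := by
    apply Nat.find_min hex
    change m < n
    omega
  obtain ⟨x, hx, hxI⟩ := SetLike.not_le_iff_exists.1 hmin
  refine ⟨x, Ideal.mul_le_right hx, hxI, fun y hy => hn ?_⟩
  rw [hm, pow_succ', mul_assoc]
  exact Ideal.mul_mem_mul hy hx

/-- The map `B/I ⟶ B/J` for `I ≤ J`. -/
noncomputable def quotMap (B : Art Λ k) {I J : Ideal B} (hI : I ≤ IsLocalRing.maximalIdeal B)
    (hJ : J ≤ IsLocalRing.maximalIdeal B) (hIJ : I ≤ J) : quot B I hI ⟶ quot B J hJ :=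
  quotFactor hI (quotMk B J hJ) (by
    intro a ha
    rw [RingHom.mem_ker]
    exact Ideal.Quotient.eq_zero_iff_mem.2 (hIJ ha))

theorem quotMk_eq_zero_iff (B : Art Λ k) {I : Ideal B} (hI : I ≤ IsLocalRing.maximalIdeal B)
    (b : B) : quotMk B I hI b = 0 ↔ b ∈ I := Ideal.Quotient.eq_zero_iff_mem

theorem quotMk_eq_iff (B : Art Λ k) {I : Ideal B} (hI : I ≤ IsLocalRing.maximalIdeal B)
    (b c : B) : quotMk B I hI b = quotMk B I hI c ↔ b - c ∈ I := Ideal.Quotient.eq

theorem quotMap_quotMk (B : Art Λ k) {I J : Ideal B} (hI : I ≤ IsLocalRing.maximalIdeal B)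
    (hJ : J ≤ IsLocalRing.maximalIdeal B) (hIJ : I ≤ J) (b : B) :
    quotMap B hI hJ hIJ (quotMk B I hI b) = quotMk B J hJ b := rfl

theorem quotMk_mem_maximalIdeal_iff (B : Art Λ k) {I : Ideal B}
    (hI : I ≤ IsLocalRing.maximalIdeal B) (b : B) :
    quotMk B I hI b ∈ IsLocalRing.maximalIdeal (quot B I hI) ↔
      b ∈ IsLocalRing.maximalIdeal B := by
  rw [mem_maximalIdeal_iff, mem_maximalIdeal_iff, res_app]

theorem quotMk_mul (B : Art Λ k) {I : Ideal B} (hI : I ≤ IsLocalRing.maximalIdeal B) (b c : B) :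
    quotMk B I hI (b * c) = quotMk B I hI b * quotMk B I hI c :=
  map_mul (quotMk B I hI).toAlgHom b c

theorem quotMk_add (B : Art Λ k) {I : Ideal B} (hI : I ≤ IsLocalRing.maximalIdeal B) (b c : B) :
    quotMk B I hI (b + c) = quotMk B I hI b + quotMk B I hI c :=
  map_add (quotMk B I hI).toAlgHom b c

/-- Adding a socle element gives a small extension. -/
theorem isSmallExt_quotMap (B : Art Λ k) {I : Ideal B} (hI : I ≤ IsLocalRing.maximalIdeal B)
    (x : B) (hxI : x ∉ I)
    (hx : ∀ y ∈ IsLocalRing.maximalIdeal B, y * x ∈ I)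
    (hJ : I ⊔ Ideal.span {x} ≤ IsLocalRing.maximalIdeal B) :
    IsSmallExt (quotMap B hI hJ le_sup_left) := by
  have hker : ∀ b : B, quotMk B I hI b ∈
      RingHom.ker (quotMap B hI hJ le_sup_left).toAlgHom ↔ b ∈ I ⊔ Ideal.span {x} := by
    intro b
    rw [RingHom.mem_ker]
    rw [quotMap_quotMk, quotMk_eq_zero_iff]
  have hspan : RingHom.ker (quotMap B hI hJ le_sup_left).toAlgHom =
      Ideal.span {quotMk B I hI x} := by
    apply le_antisymm
    · intro z hz
      obtain ⟨b, rfl⟩ := quotMk_surjective B I hI z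
      rw [hker] at hz
      obtain ⟨i, hi, j, hj, rfl⟩ := Submodule.mem_sup.1 hz
      obtain ⟨c, rfl⟩ := Ideal.mem_span_singleton'.1 hj
      have : quotMk B I hI (i + c * x) = quotMk B I hI c * quotMk B I hI x := by
        rw [quotMk_add, quotMk_mul, (quotMk_eq_zero_iff B hI i).2 hi, zero_add]
      rw [this]
      exact Ideal.mem_span_singleton'.2 ⟨_, rfl⟩
    · rw [Ideal.span_singleton_le_iff_mem, hker]
      exact Ideal.mem_sup_right (Ideal.mem_span_singleton_self x)
  refine ⟨?_, ?_, ⟨⟨_, hspan⟩⟩, ?_⟩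
  · intro z
    obtain ⟨b, rfl⟩ := quotMk_surjective B _ hJ z
    exact ⟨quotMk B I hI b, rfl⟩
  · intro hbot
    have hmem : quotMk B I hI x ∈
        RingHom.ker (quotMap B hI hJ le_sup_left).toAlgHom := by
      rw [hker]
      exact Ideal.mem_sup_right (Ideal.mem_span_singleton_self x)
    rw [hbot] at hmem
    exact hxI ((quotMk_eq_zero_iff B hI x).1 hmem)
  · rw [eq_bot_iff, Ideal.mul_le]
    intro y hy z hz
    obtain ⟨b, rfl⟩ := quotMk_surjective B I hI y
    rw [hspan] at hz
    obtain ⟨c, rfl⟩ := Ideal.mem_span_singleton'.1 hz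
    obtain ⟨c', rfl⟩ := quotMk_surjective B I hI c
    rw [quotMk_mem_maximalIdeal_iff] at hy
    have : quotMk B I hI b * (quotMk B I hI c' * quotMk B I hI x) =
        quotMk B I hI (c' * (b * x)) := by
      rw [quotMk_mul, quotMk_mul]; ring
    rw [this, (quotMk_eq_zero_iff B hI _).2 (I.mul_mem_left c' (hx b hy))]
    exact Submodule.zero_mem _

/-- Induction principle: a property of morphisms that holds for isomorphisms and small extensions and
is stable under composition holds for all surjections. -/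
theorem surjective_induction
    (P : ∀ ⦃A B : Art Λ k⦄, (B ⟶ A) → Prop)
    (hiso : ∀ ⦃A B : Art Λ k⦄ (e : B ⟶ A), IsIso e → P e)
    (hsmall : ∀ ⦃A B : Art Λ k⦄ (p : B ⟶ A), IsSmallExt p → P p)
    (hcomp : ∀ ⦃A B C : Art Λ k⦄ (p : C ⟶ B) (q : B ⟶ A), P p → P q → P (p ≫ q))
    ⦃A B : Art Λ k⦄ (f : B ⟶ A) (hf : Function.Surjective f) : P f := by
  have hKm := ker_le_maximalIdeal f
  -- claim for all ideals inside the kernel, by Noetherian induction
  have claim : ∀ I : Ideal B, ∀ hI : I ≤ RingHom.ker f.toAlgHom,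
      P (quotFactor (hI.trans hKm) f hI) := by
    intro I
    induction I using WellFoundedGT.induction with
    | ind I ih =>
      intro hI
      by_cases hIK : I = RingHom.ker f.toAlgHom
      · -- isomorphism
        apply hiso
        apply isIso_of_bijective
        constructor
        · intro y z hyz
          obtain ⟨b, rfl⟩ := quotMk_surjective B I (hI.trans hKm) y
          obtain ⟨c, rfl⟩ := quotMk_surjective B I (hI.trans hKm) z
          have h1 : f b = f c := hyz
          have h2 : b - c ∈ RingHom.ker f.toAlgHom := by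
            rw [RingHom.mem_ker, map_sub, sub_eq_zero]
            exact h1
          rw [← hIK] at h2
          exact (quotMk_eq_iff B _ b c).2 h2
        · intro a
          obtain ⟨b, hb⟩ := hf a
          exact ⟨quotMk B I (hI.trans hKm) b, hb⟩
      · have hlt : I < RingHom.ker f.toAlgHom := lt_of_le_of_ne hI hIK
        obtain ⟨x, hxK, hxI, hx⟩ := exists_socle_elt B hlt
        have hJK : I ⊔ Ideal.span {x} ≤ RingHom.ker f.toAlgHom :=
          sup_le hI ((Ideal.span_singleton_le_iff_mem _).2 hxK)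
        have hJm := hJK.trans hKm
        have hIJ : I < I ⊔ Ideal.span {x} := by
          refine lt_of_le_of_ne le_sup_left fun h => hxI ?_
          rw [h]
          exact Ideal.mem_sup_right (Ideal.mem_span_singleton_self x)
        have h1 := ih _ hIJ hJK
        have h2 := hsmall _ (isSmallExt_quotMap B (hI.trans hKm) x hxI hx hJm)
        have h3 := hcomp _ _ h2 h1
        have heq : quotMap B (hI.trans hKm) hJm le_sup_left ≫ quotFactor hJm f hJK =
            quotFactor (hI.trans hKm) f hI := by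
          apply hom_ext
          apply AlgHom.ext
          intro y
          obtain ⟨b, rfl⟩ := quotMk_surjective B I (hI.trans hKm) y
          rfl
        rw [heq] at h3
        exact h3
  have h0 := claim ⊥ bot_le
  have hmk : P (quotMk B ⊥ bot_le) := by
    apply hiso
    apply isIso_of_bijective
    constructor
    · intro y z hyz
      have := (quotMk_eq_iff B (bot_le : (⊥ : Ideal B) ≤ _) y z).1 hyz
      rw [Ideal.mem_bot, sub_eq_zero] at this
      exact this
    · exact quotMk_surjective B ⊥ bot_le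
  have := hcomp _ _ hmk h0
  rw [quotMk_quotFactor] at this
  exact this

end Groth.Agent.H63
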