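import Groth.Agent.H63.ArtNil
import Groth.Agent.Lead.CompleteNoetherian
import Mathlib.RingTheory.AdicCompletion.LocalRing
import Mathlib.RingTheory.AdicCompletion.Completeness

/-!
The completion of a Noetherian `Λ`-algebra `P` along the kernel of a surjective augmentation
`P → k` is a coefficient ring (`CRing`), and augmentation-compatible maps from `P` to objects of
`Art Λ k` extend uniquely to it.
-/

set_option autoImplicit false
set_option linter.unusedSectionVars false
set_option linter.style.haveILetI false
universe u v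

namespace Groth.Agent.H63

open CategoryTheory ArtFun ArtFun.Art

variable {Λ : Type u} {k : Type u} [CommRing Λ] [Field k] [Algebra Λ k]

section Compl

variable {P : Type u} [CommRing P] [Algebra Λ P] [IsNoetherianRing P] (aug : P →ₐ[Λ] k)
  (haug : Function.Surjective aug)

/-- The completion of `P` along the kernel of the augmentation. -/
abbrev Compl : Type u := AdicCompletion (RingHom.ker aug) P

theorem ker_fg : (RingHom.ker aug).FG := IsNoetherian.noetherian _

include haug in
theorem ker_isMaximal : (RingHom.ker aug).IsMaximal :=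
  RingHom.ker_isMaximal_of_surjective aug haug

include haug in
theorem compl_isMaximal_map :
    ((RingHom.ker aug).map (algebraMap P (Compl aug))).IsMaximal :=
  haveI := ker_isMaximal aug haug
  AdicCompletion.isMaximal_map_of_le _ _ le_rfl (ker_fg aug)

theorem compl_isAdicComplete :
    IsAdicComplete ((RingHom.ker aug).map (algebraMap P (Compl aug))) (Compl aug) :=
  AdicCompletion.isAdicComplete_self _ (ker_fg aug)

include haug in
theorem compl_isLocalRing : IsLocalRing (Compl aug) :=
  haveI := compl_isMaximal_map aug haug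
  haveI := compl_isAdicComplete aug
  isLocalRing_of_isAdicComplete_maximal ((RingHom.ker aug).map (algebraMap P (Compl aug)))

theorem compl_isNoetherianRing : IsNoetherianRing (Compl aug) :=
  Groth.Agent.Lead.isNoetherianRing_adicCompletion _ (ker_fg aug)

theorem aug_ker_zero : ∀ a ∈ RingHom.ker aug, (aug : P →+* k) a = 0 :=
  fun _ hp => RingHom.mem_ker.1 hp

/-- The augmentation of the completion. -/
noncomputable def complRes : Compl aug →ₐ[Λ] k :=
  { toRingHom := (Ideal.Quotient.lift (RingHom.ker aug) (aug : P →+* k) (aug_ker_zero aug)).comp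
      (AdicCompletion.evalOneₐ (RingHom.ker aug) : Compl aug →+* P ⧸ RingHom.ker aug)
    commutes' := fun l => by
      show Ideal.Quotient.lift (RingHom.ker aug) (aug : P →+* k) (aug_ker_zero aug)
        (AdicCompletion.evalOneₐ (RingHom.ker aug) (algebraMap Λ (Compl aug) l)) = algebraMap Λ k l
      rw [AdicCompletion.algebraMap_apply, AdicCompletion.evalOneₐ_of, Ideal.Quotient.lift_mk]
      exact aug.commutes l }

theorem complRes_of (p : P) : complRes aug (AdicCompletion.of (RingHom.ker aug) P p) = aug p := by
  show Ideal.Quotient.lift (RingHom.ker aug) (aug : P →+* k) (aug_ker_zero aug)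
    (AdicCompletion.evalOneₐ (RingHom.ker aug) (AdicCompletion.of (RingHom.ker aug) P p)) = aug p
  rw [AdicCompletion.evalOneₐ_of, Ideal.Quotient.lift_mk]
  rfl

/-- The completion as a coefficient ring. -/
noncomputable def complCRing : CRing Λ k :=
  haveI := compl_isLocalRing aug haug
  haveI := compl_isNoetherianRing aug
  { carrier := Compl aug
    res := complRes aug
    res_surjective := fun c => by
      obtain ⟨p, hp⟩ := haug c
      exact ⟨AdicCompletion.of _ P p, by rw [complRes_of, hp]⟩
    isAdicComplete := by
      have h := IsLocalRing.eq_maximalIdeal (compl_isMaximal_map aug haug)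
      rw [← h]
      exact compl_isAdicComplete aug }

theorem complCRing_maximalIdeal :
    @IsLocalRing.maximalIdeal (Compl aug) _ (compl_isLocalRing aug haug) =
      (RingHom.ker aug).map (algebraMap P (Compl aug)) :=
  haveI := compl_isLocalRing aug haug
  (IsLocalRing.eq_maximalIdeal (compl_isMaximal_map aug haug)).symm

theorem compl_dense (x : Compl aug) (N : ℕ) :
    ∃ p : P, x - AdicCompletion.of (RingHom.ker aug) P p ∈
      ((RingHom.ker aug).map (algebraMap P (Compl aug))) ^ N := by
  obtain ⟨p, hp⟩ := Ideal.Quotient.mk_surjective (AdicCompletion.evalₐ (RingHom.ker aug) N x)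
  refine ⟨p, ?_⟩
  have h0 : AdicCompletion.evalₐ (RingHom.ker aug) N
      (x - AdicCompletion.of (RingHom.ker aug) P p) = 0 := by
    rw [map_sub, AdicCompletion.evalₐ_of, hp, sub_self]
  have hle : RingHom.ker aug ^ N ≤ (RingHom.ker aug ^ N • ⊤ : Ideal P) := by
    rw [smul_eq_mul, Ideal.mul_top]
  have h1 : AdicCompletion.eval (RingHom.ker aug) P N
      (x - AdicCompletion.of (RingHom.ker aug) P p) = 0 := by
    rw [← AdicCompletion.factor_evalₐ_eq_eval (RingHom.ker aug) _ hle, h0, map_zero]
  have h2 : (x - AdicCompletion.of (RingHom.ker aug) P p) ∈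
      (RingHom.ker aug ^ N • ⊤ : Submodule P (Compl aug)) := by
    rw [AdicCompletion.pow_smul_top_eq_ker_eval (ker_fg aug)]
    exact LinearMap.mem_ker.2 h1
  rw [Ideal.smul_top_eq_map] at h2
  rw [← Ideal.map_pow]
  exact (Submodule.restrictScalars_mem P _ _).1 h2

theorem algebraMap_compl_eq (p : P) :
    algebraMap P (Compl aug) p = AdicCompletion.of (RingHom.ker aug) P p := rfl

/-- Ring maps out of the completion that kill the image of `ker aug` and agree on `P` agree. -/
theorem compl_res_ext (r₁ r₂ : Compl aug →+* k)
    (h₁ : ∀ p ∈ RingHom.ker aug, r₁ (AdicCompletion.of (RingHom.ker aug) P p) = 0)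
    (h₂ : ∀ p ∈ RingHom.ker aug, r₂ (AdicCompletion.of (RingHom.ker aug) P p) = 0)
    (h : ∀ p, r₁ (AdicCompletion.of (RingHom.ker aug) P p) =
      r₂ (AdicCompletion.of (RingHom.ker aug) P p)) (x : Compl aug) : r₁ x = r₂ x := by
  have hk : ∀ (r : Compl aug →+* k),
      (∀ p ∈ RingHom.ker aug, r (AdicCompletion.of (RingHom.ker aug) P p) = 0) →
      ∀ z ∈ (RingHom.ker aug).map (algebraMap P (Compl aug)), r z = 0 := by
    intro r hr z hz
    have hle : (RingHom.ker aug).map (algebraMap P (Compl aug)) ≤ RingHom.ker r := by
      rw [Ideal.map_le_iff_le_comap]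
      intro p hp
      rw [Ideal.mem_comap, RingHom.mem_ker]
      exact hr p hp
    exact RingHom.mem_ker.1 (hle hz)
  obtain ⟨p, hp⟩ := compl_dense aug x 1
  rw [pow_one] at hp
  have e : x = AdicCompletion.of (RingHom.ker aug) P p +
      (x - AdicCompletion.of (RingHom.ker aug) P p) := by ring
  rw [e, map_add, map_add, hk r₁ h₁ _ hp, hk r₂ h₂ _ hp, h p]

/-- Extension of an augmentation-compatible map out of `P` to the completion. -/
theorem compl_exists_hom {B : Art Λ k} (g : P →ₐ[Λ] B) (hg : B.res.comp g = aug) :
    ∃ ψ : HomSet (complCRing aug haug).carrier (complCRing aug haug).res B,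
      ∀ p, ψ.1 (AdicCompletion.of (RingHom.ker aug) P p) = g p := by
  obtain ⟨N, hN⟩ := exists_maximalIdeal_pow_eq_bot B
  have hres : ∀ p, B.res (g p) = aug p := fun p => DFunLike.congr_fun hg p
  have hmap : Ideal.map g (RingHom.ker aug) ≤ IsLocalRing.maximalIdeal B := by
    rw [Ideal.map_le_iff_le_comap]
    intro p hp
    rw [Ideal.mem_comap, Art.mem_maximalIdeal_iff, hres]
    exact RingHom.mem_ker.1 hp
  have hgM : ∀ p ∈ RingHom.ker aug ^ N, (g : P →+* B) p = 0 := by
    intro p hp
    have h2 := Ideal.mem_map_of_mem g hp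
    rw [Ideal.map_pow] at h2
    have h3 := Ideal.pow_right_mono hmap N h2
    rw [hN] at h3
    exact Ideal.mem_bot.1 h3
  let gh : Compl aug →ₐ[Λ] B :=
    { toRingHom := (Ideal.Quotient.lift (RingHom.ker aug ^ N) (g : P →+* B) hgM).comp
        (AdicCompletion.evalₐ (RingHom.ker aug) N : Compl aug →+* P ⧸ RingHom.ker aug ^ N)
      commutes' := fun l => by
        show Ideal.Quotient.lift (RingHom.ker aug ^ N) (g : P →+* B) hgM
          (AdicCompletion.evalₐ (RingHom.ker aug) N (algebraMap Λ (Compl aug) l)) = algebraMap Λ B l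
        rw [AdicCompletion.algebraMap_apply, AdicCompletion.evalₐ_of, Ideal.Quotient.lift_mk]
        exact g.commutes l }
  have hghof : ∀ p, gh (AdicCompletion.of (RingHom.ker aug) P p) = g p := by
    intro p
    show Ideal.Quotient.lift (RingHom.ker aug ^ N) (g : P →+* B) hgM
      (AdicCompletion.evalₐ (RingHom.ker aug) N (AdicCompletion.of (RingHom.ker aug) P p)) = g p
    rw [AdicCompletion.evalₐ_of, Ideal.Quotient.lift_mk]
    rfl
  have hcomp : B.res.comp gh = complRes aug := by
    apply AlgHom.ext
    intro x
    refine compl_res_ext aug ((B.res : B →+* k).comp (gh : Compl aug →+* B))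
      (complRes aug : Compl aug →+* k) ?_ ?_ ?_ x
    · intro p hp
      show B.res (gh (AdicCompletion.of (RingHom.ker aug) P p)) = 0
      rw [hghof, hres]
      exact RingHom.mem_ker.1 hp
    · intro p hp
      show complRes aug (AdicCompletion.of (RingHom.ker aug) P p) = 0
      rw [complRes_of]
      exact RingHom.mem_ker.1 hp
    · intro p
      show B.res (gh (AdicCompletion.of (RingHom.ker aug) P p)) =
        complRes aug (AdicCompletion.of (RingHom.ker aug) P p)
      rw [hghof, hres, complRes_of]
  exact ⟨⟨gh, hcomp⟩, hghof⟩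

/-- Maps out of the completion to objects of `Art Λ k` are determined by their restriction to `P`. -/
theorem compl_hom_ext {A : Art Λ k}
    (φ φ' : HomSet (complCRing aug haug).carrier (complCRing aug haug).res A)
    (h : ∀ p, φ.1 (AdicCompletion.of (RingHom.ker aug) P p) =
      φ'.1 (AdicCompletion.of (RingHom.ker aug) P p)) : φ = φ' := by
  obtain ⟨N, hN⟩ := exists_maximalIdeal_pow_eq_bot A
  apply Subtype.ext
  apply AlgHom.ext
  intro (x : Compl aug)
  obtain ⟨p, hp⟩ := compl_dense aug x N
  rw [← complCRing_maximalIdeal aug haug] at hp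
  have hp' : (x - AdicCompletion.of (RingHom.ker aug) P p : (complCRing aug haug).carrier) ∈
      IsLocalRing.maximalIdeal (complCRing aug haug).carrier ^ N := hp
  have hz : ∀ χ : HomSet (complCRing aug haug).carrier (complCRing aug haug).res A,
      χ.1 (x - AdicCompletion.of (RingHom.ker aug) P p : Compl aug) = 0 := by
    intro χ
    have h1 := homSet_apply_mem_pow (complCRing aug haug) χ N hp'
    rw [hN] at h1
    exact Ideal.mem_bot.1 h1
  have key : ∀ χ : HomSet (complCRing aug haug).carrier (complCRing aug haug).res A,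
      χ.1 x = χ.1 (AdicCompletion.of (RingHom.ker aug) P p) := by
    intro χ
    have h1 : χ.1 x - χ.1 (AdicCompletion.of (RingHom.ker aug) P p) = 0 :=
      (map_sub χ.1 (x : (complCRing aug haug).carrier)
        (AdicCompletion.of (RingHom.ker aug) P p)).symm.trans (hz χ)
    exact sub_eq_zero.1 h1
  rw [key φ, key φ']
  exact h p

end Compl

end Groth.Agent.H63
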