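import Groth.Agent.H63.ArtComplFG
import Groth.Agent.H63.ArtLim
import Groth.Agent.H61.CRingLib
import Mathlib.RingTheory.TensorProduct.Maps

/-!
Coproducts and pushouts of coefficient rings (completed tensor products) (helper63).
-/

set_option autoImplicit false
set_option linter.unusedSectionVars false
set_option linter.unusedVariables false
set_option linter.style.haveILetI false
universe u v

namespace Groth.Agent.H63

open CategoryTheory ArtFun ArtFun.Art
open scoped TensorProduct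

variable {Λ : Type u} {k : Type u} [CommRing Λ] [Field k] [Algebra Λ k]

/-- Elements of a coefficient ring agreeing in all truncations are equal. -/
theorem cring_eq_of_forall_mk (T : CRing Λ k) (a b : T.carrier)
    (h : ∀ n, Ideal.Quotient.mk (T.mpow n) a = Ideal.Quotient.mk (T.mpow n) b) : a = b := by
  have hmem : ∀ n, a - b ∈ T.mpow n := fun n => (Ideal.Quotient.eq).1 (h n)
  have h1 : a - b ∈ (⨅ j, IsLocalRing.maximalIdeal T.carrier ^ j : Ideal T.carrier) := by
    rw [Ideal.mem_iInf]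
    intro j
    exact Ideal.pow_le_pow_right (Nat.le_succ j) (hmem j)
  rw [Ideal.iInf_pow_eq_bot_of_isLocalRing _
    (IsLocalRing.maximalIdeal.isMaximal T.carrier).ne_top] at h1
  exact sub_eq_zero.1 (Ideal.mem_bot.1 h1)

section ComplCRing

variable {P : Type u} [CommRing P] [Algebra Λ P] (aug : P →ₐ[Λ] k)

/-- The canonical map to the completion, as an algebra map. -/
noncomputable def complOf : P →ₐ[Λ] Compl aug :=
  { toRingHom := algebraMap P (Compl aug)
    commutes' := fun l => rfl }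

theorem complOf_apply (p : P) : complOf aug p = AdicCompletion.of (RingHom.ker aug) P p := rfl

variable (haug : Function.Surjective aug) (hfg : (RingHom.ker aug).FG)

/-- Extension of an augmentation-compatible map from `P` to a coefficient ring to the completion. -/
theorem compl_exists_hom_cring (T : CRing Λ k) (g : P →ₐ[Λ] T.carrier) (hg : T.res.comp g = aug) :
    ∃ h : (FG.complCRing aug haug hfg).carrier →ₐ[Λ] T.carrier,
      T.res.comp h = (FG.complCRing aug haug hfg).res ∧ ∀ p, h (complOf aug p) = g p := by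
  have hcomp : ∀ n, (T.trunc n).res.comp ((T.truncHom n).1.comp g) = aug := by
    intro n
    rw [← AlgHom.comp_assoc, (T.truncHom n).2, hg]
  choose ψ hψ using fun n => FG.compl_exists_hom aug haug hfg (B := T.trunc n)
    ((T.truncHom n).1.comp g) (hcomp n)
  have hcompat : ∀ n, HomSet.map (T.truncMap n) (ψ (n + 1)) = ψ n := by
    intro n
    apply FG.compl_hom_ext aug haug hfg
    intro p
    show (T.truncMap n) ((ψ (n + 1)).1 (AdicCompletion.of (RingHom.ker aug) P p)) =
      (ψ n).1 (AdicCompletion.of (RingHom.ker aug) P p)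
    rw [hψ, hψ]
    rfl
  obtain ⟨h, hres, hmk⟩ := exists_algHom_of_compatible T (FG.complCRing aug haug hfg).res ψ hcompat
  refine ⟨h, hres, fun p => ?_⟩
  apply cring_eq_of_forall_mk
  intro n
  rw [hmk n]
  exact hψ n p

/-- Maps from the completion to a coefficient ring are determined by their restriction to `P`. -/
theorem compl_hom_ext_cring (T : CRing Λ k)
    (h h' : (FG.complCRing aug haug hfg).carrier →ₐ[Λ] T.carrier)
    (hres : T.res.comp h = (FG.complCRing aug haug hfg).res)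
    (hres' : T.res.comp h' = (FG.complCRing aug haug hfg).res)
    (hp : ∀ p, h (complOf aug p) = h' (complOf aug p)) : h = h' := by
  apply AlgHom.ext
  intro x
  apply cring_eq_of_forall_mk
  intro n
  have h1 : (T.trunc n).res.comp ((T.truncHom n).1.comp h) = (FG.complCRing aug haug hfg).res := by
    rw [← AlgHom.comp_assoc, (T.truncHom n).2, hres]
  have h2 : (T.trunc n).res.comp ((T.truncHom n).1.comp h') = (FG.complCRing aug haug hfg).res := by
    rw [← AlgHom.comp_assoc, (T.truncHom n).2, hres']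
  have e : (⟨(T.truncHom n).1.comp h, h1⟩ :
      HomSet (FG.complCRing aug haug hfg).carrier (FG.complCRing aug haug hfg).res (T.trunc n)) =
      ⟨(T.truncHom n).1.comp h', h2⟩ := by
    apply FG.compl_hom_ext aug haug hfg
    intro p
    show (T.truncHom n).1 (h (complOf aug p)) = (T.truncHom n).1 (h' (complOf aug p))
    rw [hp]
  exact congrArg (fun (z : HomSet (FG.complCRing aug haug hfg).carrier
    (FG.complCRing aug haug hfg).res (T.trunc n)) => z.1 x) e

end ComplCRing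

section Coprod

variable [IsNoetherianRing Λ] [Module.Finite Λ k] (R S : CRing Λ k)

/-- The augmentation of the tensor product. -/
noncomputable def tpAug : R.carrier ⊗[Λ] S.carrier →ₐ[Λ] k :=
  Algebra.TensorProduct.productMap R.res S.res

theorem tpAug_tmul (r : R.carrier) (s : S.carrier) :
    tpAug R S (r ⊗ₜ[Λ] s) = R.res r * S.res s :=
  Algebra.TensorProduct.productMap_apply_tmul _ _ _ _

theorem tpAug_surjective : Function.Surjective (tpAug R S) := fun c => by
  obtain ⟨r, hr⟩ := R.res_surjective c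
  exact ⟨r ⊗ₜ[Λ] 1, by rw [tpAug_tmul, map_one, mul_one, hr]⟩

theorem tpAug_ker_fg : (RingHom.ker (tpAug R S)).FG := by
  classical
  obtain ⟨d, c, hc⟩ := Module.Finite.exists_fin (R := Λ) (M := k)
  choose a ha using fun t => R.res_surjective (c t)
  choose b hb using fun t => S.res_surjective (c t)
  obtain ⟨n, x, hx⟩ := Submodule.fg_iff_exists_fin_generating_family.1
    ((isNoetherianRing_iff_ideal_fg R.carrier).1 inferInstance (IsLocalRing.maximalIdeal R.carrier))
  obtain ⟨m, y, hy⟩ := Submodule.fg_iff_exists_fin_generating_family.1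
    ((isNoetherianRing_iff_ideal_fg S.carrier).1 inferInstance (IsLocalRing.maximalIdeal S.carrier))
  have hx0 : ∀ i, R.res (x i) = 0 := fun i =>
    (R.mem_maximalIdeal_iff _).1 (hx ▸ Submodule.subset_span ⟨i, rfl⟩)
  have hy0 : ∀ j, S.res (y j) = 0 := fun j =>
    (S.mem_maximalIdeal_iff _).1 (hy ▸ Submodule.subset_span ⟨j, rfl⟩)
  let gens : Set (R.carrier ⊗[Λ] S.carrier) :=
    Set.range (fun i => x i ⊗ₜ[Λ] (1 : S.carrier)) ∪
      Set.range (fun j => (1 : R.carrier) ⊗ₜ[Λ] y j) ∪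
      Set.range (fun t => a t ⊗ₜ[Λ] (1 : S.carrier) - (1 : R.carrier) ⊗ₜ[Λ] b t)
  have hfin : gens.Finite :=
    ((Set.finite_range _).union (Set.finite_range _)).union (Set.finite_range _)
  have hI₀fg : (Ideal.span gens).FG := Submodule.fg_span hfin
  suffices h : RingHom.ker (tpAug R S) = Ideal.span gens by rw [h]; exact hI₀fg
  have hxI : ∀ i, x i ⊗ₜ[Λ] (1 : S.carrier) ∈ Ideal.span gens := fun i =>
    Ideal.subset_span (Or.inl (Or.inl ⟨i, rfl⟩))
  have hyI : ∀ j, (1 : R.carrier) ⊗ₜ[Λ] y j ∈ Ideal.span gens := fun j =>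
    Ideal.subset_span (Or.inl (Or.inr ⟨j, rfl⟩))
  have habI : ∀ t, a t ⊗ₜ[Λ] (1 : S.carrier) - (1 : R.carrier) ⊗ₜ[Λ] b t ∈ Ideal.span gens :=
    fun t => Ideal.subset_span (Or.inr ⟨t, rfl⟩)
  have hmR : ∀ r, R.res r = 0 → r ⊗ₜ[Λ] (1 : S.carrier) ∈ Ideal.span gens := by
    intro r hr
    have hr' : r ∈ Ideal.span (Set.range x) := by
      have h1 : r ∈ IsLocalRing.maximalIdeal R.carrier := (R.mem_maximalIdeal_iff r).2 hr
      rw [← hx] at h1
      exact h1
    obtain ⟨cf, rfl⟩ := (Ideal.mem_span_range_iff_exists_fun).1 hr'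
    rw [TensorProduct.sum_tmul]
    apply Ideal.sum_mem
    intro i _
    have e : (cf i * x i) ⊗ₜ[Λ] (1 : S.carrier) =
        (cf i ⊗ₜ[Λ] (1 : S.carrier)) * (x i ⊗ₜ[Λ] (1 : S.carrier)) := by
      rw [Algebra.TensorProduct.tmul_mul_tmul, mul_one]
    rw [e]
    exact Ideal.mul_mem_left _ _ (hxI i)
  have hmS : ∀ s, S.res s = 0 → (1 : R.carrier) ⊗ₜ[Λ] s ∈ Ideal.span gens := by
    intro s hs
    have hs' : s ∈ Ideal.span (Set.range y) := by
      have h1 : s ∈ IsLocalRing.maximalIdeal S.carrier := (S.mem_maximalIdeal_iff s).2 hs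
      rw [← hy] at h1
      exact h1
    obtain ⟨cf, rfl⟩ := (Ideal.mem_span_range_iff_exists_fun).1 hs'
    rw [TensorProduct.tmul_sum]
    apply Ideal.sum_mem
    intro j _
    have e : (1 : R.carrier) ⊗ₜ[Λ] (cf j * y j) =
        ((1 : R.carrier) ⊗ₜ[Λ] cf j) * ((1 : R.carrier) ⊗ₜ[Λ] y j) := by
      rw [Algebra.TensorProduct.tmul_mul_tmul, mul_one]
    rw [e]
    exact Ideal.mul_mem_left _ _ (hyI j)
  have hle : Ideal.span gens ≤ RingHom.ker (tpAug R S) := by
    rw [Ideal.span_le]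
    rintro z ((⟨i, rfl⟩ | ⟨j, rfl⟩) | ⟨t, rfl⟩)
    · show tpAug R S (x i ⊗ₜ[Λ] (1 : S.carrier)) = 0
      rw [tpAug_tmul, hx0, zero_mul]
    · show tpAug R S ((1 : R.carrier) ⊗ₜ[Λ] y j) = 0
      rw [tpAug_tmul, hy0, mul_zero]
    · show tpAug R S (a t ⊗ₜ[Λ] (1 : S.carrier) - (1 : R.carrier) ⊗ₜ[Λ] b t) = 0
      rw [map_sub, tpAug_tmul, tpAug_tmul, ha, hb, map_one, map_one, mul_one, one_mul, sub_self]
  have hone : ∀ s : S.carrier, ∃ r : R.carrier,
      (1 : R.carrier) ⊗ₜ[Λ] s - r ⊗ₜ[Λ] (1 : S.carrier) ∈ Ideal.span gens := by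
    intro s
    have hmem : S.res s ∈ Submodule.span Λ (Set.range c) := by rw [hc]; exact Submodule.mem_top
    obtain ⟨μ, hμ⟩ := (Submodule.mem_span_range_iff_exists_fun Λ).1 hmem
    refine ⟨∑ t, μ t • a t, ?_⟩
    have h1 : S.res (s - ∑ t, μ t • b t) = 0 := by
      rw [map_sub, map_sum, ← hμ, sub_eq_zero]
      refine Finset.sum_congr rfl fun t _ => ?_
      rw [map_smul, hb]
    have h2 : (1 : R.carrier) ⊗ₜ[Λ] (∑ t, μ t • b t) - (∑ t, μ t • a t) ⊗ₜ[Λ] (1 : S.carrier) =
        ∑ t, μ t • ((1 : R.carrier) ⊗ₜ[Λ] b t - a t ⊗ₜ[Λ] (1 : S.carrier)) := by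
      rw [TensorProduct.tmul_sum, TensorProduct.sum_tmul, ← Finset.sum_sub_distrib]
      refine Finset.sum_congr rfl fun t _ => ?_
      rw [TensorProduct.tmul_smul, ← TensorProduct.smul_tmul', smul_sub]
    have h3 : ∑ t, μ t • ((1 : R.carrier) ⊗ₜ[Λ] b t - a t ⊗ₜ[Λ] (1 : S.carrier)) ∈
        Ideal.span gens := by
      apply Ideal.sum_mem
      intro t _
      apply Submodule.smul_of_tower_mem
      have e : (1 : R.carrier) ⊗ₜ[Λ] b t - a t ⊗ₜ[Λ] (1 : S.carrier) =
          -(a t ⊗ₜ[Λ] (1 : S.carrier) - (1 : R.carrier) ⊗ₜ[Λ] b t) := by ring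
      rw [e]
      exact neg_mem (habI t)
    have e : (1 : R.carrier) ⊗ₜ[Λ] s - (∑ t, μ t • a t) ⊗ₜ[Λ] (1 : S.carrier) =
        (1 : R.carrier) ⊗ₜ[Λ] (s - ∑ t, μ t • b t) +
          ((1 : R.carrier) ⊗ₜ[Λ] (∑ t, μ t • b t) -
            (∑ t, μ t • a t) ⊗ₜ[Λ] (1 : S.carrier)) := by
      rw [TensorProduct.tmul_sub]
      ring
    rw [e, h2]
    exact Ideal.add_mem _ (hmS _ h1) h3
  have hall : ∀ z : R.carrier ⊗[Λ] S.carrier, ∃ r : R.carrier,
      z - r ⊗ₜ[Λ] (1 : S.carrier) ∈ Ideal.span gens := by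
    intro z
    induction z using TensorProduct.induction_on with
    | zero =>
      exact ⟨0, by rw [TensorProduct.zero_tmul, sub_zero]; exact Ideal.zero_mem _⟩
    | tmul r' s' =>
      obtain ⟨r₀, hr₀⟩ := hone s'
      refine ⟨r' * r₀, ?_⟩
      have e : r' ⊗ₜ[Λ] s' - (r' * r₀) ⊗ₜ[Λ] (1 : S.carrier) =
          (r' ⊗ₜ[Λ] (1 : S.carrier)) *
            ((1 : R.carrier) ⊗ₜ[Λ] s' - r₀ ⊗ₜ[Λ] (1 : S.carrier)) := by
        rw [mul_sub, Algebra.TensorProduct.tmul_mul_tmul, Algebra.TensorProduct.tmul_mul_tmul,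
          mul_one, one_mul, mul_one]
      rw [e]
      exact Ideal.mul_mem_left _ _ hr₀
    | add z₁ z₂ h₁ h₂ =>
      obtain ⟨r₁, hr₁⟩ := h₁
      obtain ⟨r₂, hr₂⟩ := h₂
      refine ⟨r₁ + r₂, ?_⟩
      have e : z₁ + z₂ - (r₁ + r₂) ⊗ₜ[Λ] (1 : S.carrier) =
          (z₁ - r₁ ⊗ₜ[Λ] (1 : S.carrier)) + (z₂ - r₂ ⊗ₜ[Λ] (1 : S.carrier)) := by
        rw [TensorProduct.add_tmul]
        ring
      rw [e]
      exact Ideal.add_mem _ hr₁ hr₂
  apply le_antisymm _ hle
  intro z hz
  obtain ⟨r, hr⟩ := hall z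
  have h1 : tpAug R S (z - r ⊗ₜ[Λ] (1 : S.carrier)) = 0 := RingHom.mem_ker.1 (hle hr)
  have h2 : tpAug R S z = 0 := RingHom.mem_ker.1 hz
  rw [map_sub, h2, zero_sub, neg_eq_zero, tpAug_tmul, map_one, mul_one] at h1
  have e : z = (z - r ⊗ₜ[Λ] (1 : S.carrier)) + r ⊗ₜ[Λ] (1 : S.carrier) := by ring
  rw [e]
  exact Ideal.add_mem _ hr (hmR r h1)

/-- The coproduct of two coefficient rings: the completed tensor product. -/
noncomputable abbrev coprod : CRing Λ k :=
  FG.complCRing (tpAug R S) (tpAug_surjective R S) (tpAug_ker_fg R S)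

/-- First inclusion. -/
noncomputable def coprodInl : R.carrier →ₐ[Λ] (coprod R S).carrier :=
  (complOf (tpAug R S)).comp Algebra.TensorProduct.includeLeft

/-- Second inclusion. -/
noncomputable def coprodInr : S.carrier →ₐ[Λ] (coprod R S).carrier :=
  (complOf (tpAug R S)).comp Algebra.TensorProduct.includeRight

theorem coprodInl_apply (r : R.carrier) :
    coprodInl R S r = complOf (tpAug R S) (r ⊗ₜ[Λ] (1 : S.carrier)) := rfl

theorem coprodInr_apply (s : S.carrier) :
    coprodInr R S s = complOf (tpAug R S) ((1 : R.carrier) ⊗ₜ[Λ] s) := rfl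

theorem coprod_res_of (z : R.carrier ⊗[Λ] S.carrier) :
    (coprod R S).res (complOf (tpAug R S) z) = tpAug R S z :=
  FG.complRes_of (tpAug R S) z

theorem coprod_res_inl : (coprod R S).res.comp (coprodInl R S) = R.res := by
  apply AlgHom.ext
  intro r
  show (coprod R S).res (complOf (tpAug R S) (r ⊗ₜ[Λ] (1 : S.carrier))) = R.res r
  rw [coprod_res_of, tpAug_tmul, map_one, mul_one]

theorem coprod_res_inr : (coprod R S).res.comp (coprodInr R S) = S.res := by
  apply AlgHom.ext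
  intro s
  show (coprod R S).res (complOf (tpAug R S) ((1 : R.carrier) ⊗ₜ[Λ] s)) = S.res s
  rw [coprod_res_of, tpAug_tmul, map_one, one_mul]

theorem coprod_universal (T : CRing Λ k) (g₁ : R.carrier →ₐ[Λ] T.carrier)
    (g₂ : S.carrier →ₐ[Λ] T.carrier) (h₁ : T.res.comp g₁ = R.res) (h₂ : T.res.comp g₂ = S.res) :
    ∃! h : (coprod R S).carrier →ₐ[Λ] T.carrier,
      T.res.comp h = (coprod R S).res ∧ h.comp (coprodInl R S) = g₁ ∧
        h.comp (coprodInr R S) = g₂ := by
  have hg : T.res.comp (Algebra.TensorProduct.productMap g₁ g₂) = tpAug R S := by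
    apply Algebra.TensorProduct.ext'
    intro r s
    show T.res (Algebra.TensorProduct.productMap g₁ g₂ (r ⊗ₜ[Λ] s)) = tpAug R S (r ⊗ₜ[Λ] s)
    rw [Algebra.TensorProduct.productMap_apply_tmul, tpAug_tmul, map_mul]
    have e1 : T.res (g₁ r) = R.res r := AlgHom.congr_fun h₁ r
    have e2 : T.res (g₂ s) = S.res s := AlgHom.congr_fun h₂ s
    rw [e1, e2]
  obtain ⟨h, hres, hof⟩ := compl_exists_hom_cring (tpAug R S) (tpAug_surjective R S)
    (tpAug_ker_fg R S) T (Algebra.TensorProduct.productMap g₁ g₂) hg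
  have hl0 : h.comp (coprodInl R S) = g₁ := by
    apply AlgHom.ext
    intro r
    show h (complOf (tpAug R S) (r ⊗ₜ[Λ] (1 : S.carrier))) = g₁ r
    rw [hof, Algebra.TensorProduct.productMap_apply_tmul, map_one, mul_one]
  have hr0 : h.comp (coprodInr R S) = g₂ := by
    apply AlgHom.ext
    intro s
    show h (complOf (tpAug R S) ((1 : R.carrier) ⊗ₜ[Λ] s)) = g₂ s
    rw [hof, Algebra.TensorProduct.productMap_apply_tmul, map_one, one_mul]
  refine ⟨h, ⟨hres, hl0, hr0⟩, ?_⟩
  rintro h' ⟨hres', hl, hr⟩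
  apply compl_hom_ext_cring (tpAug R S) (tpAug_surjective R S) (tpAug_ker_fg R S) T h' h hres' hres
  have key : h'.comp (complOf (tpAug R S)) = h.comp (complOf (tpAug R S)) := by
    apply Algebra.TensorProduct.ext'
    intro r s
    show h' (complOf (tpAug R S) (r ⊗ₜ[Λ] s)) = h (complOf (tpAug R S) (r ⊗ₜ[Λ] s))
    have e : r ⊗ₜ[Λ] s = (r ⊗ₜ[Λ] (1 : S.carrier)) * ((1 : R.carrier) ⊗ₜ[Λ] s) := by
      rw [Algebra.TensorProduct.tmul_mul_tmul, mul_one, one_mul]
    have huv : (complOf (tpAug R S) (r ⊗ₜ[Λ] s) : (coprod R S).carrier) =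
        coprodInl R S r * coprodInr R S s := by
      rw [e]
      exact map_mul (complOf (tpAug R S)) _ _
    have e1 : h' (coprodInl R S r) = g₁ r := AlgHom.congr_fun hl r
    have e2 : h' (coprodInr R S s) = g₂ s := AlgHom.congr_fun hr s
    have e3 : h (coprodInl R S r) = g₁ r := AlgHom.congr_fun hl0 r
    have e4 : h (coprodInr R S s) = g₂ s := AlgHom.congr_fun hr0 s
    rw [huv, map_mul h', map_mul h, e1, e2, e3, e4]
  intro p
  exact AlgHom.congr_fun key p

end Coprod

end Groth.Agent.H63
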