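import Groth.Agent.H63.ArtFibre
import Mathlib.RingTheory.Henselian
import Mathlib.FieldTheory.Separable
import Mathlib.Algebra.Polynomial.Lifts
import Mathlib.RingTheory.AdicCompletion.Noetherian

/-!
Hensel lifting of residue elements in `Art Λ k` when `k` is separable over the image of `Λ`, and
the fibre product of two arbitrary morphisms when the residue field of the set-theoretic fibre
product is `k`.
-/

set_option autoImplicit false
set_option linter.unusedSectionVars false
set_option linter.style.haveILetI false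
universe u v

namespace Groth.Agent.H63

open CategoryTheory ArtFun ArtFun.Art Polynomial

variable {Λ : Type u} {k : Type u} [CommRing Λ] [Field k] [Algebra Λ k]

/-- A monic polynomial over `Λ` having `c ∈ k` as a simple root. -/
theorem exists_sep_poly [Algebra.IsSeparable (↥(algebraMap Λ k).range) k] (c : k) :
    ∃ p : Λ[X], p.Monic ∧ aeval c p = 0 ∧ IsUnit (aeval c (derivative p)) := by
  have hsep : IsSeparable (↥(algebraMap Λ k).range) c :=
    Algebra.IsSeparable.isSeparable (↥(algebraMap Λ k).range) c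
  have hint : IsIntegral (↥(algebraMap Λ k).range) c := hsep.isIntegral
  have hqm : (minpoly (↥(algebraMap Λ k).range) c).Monic := minpoly.monic hint
  have hq0 : aeval c (minpoly (↥(algebraMap Λ k).range) c) = 0 := minpoly.aeval _ c
  have hqs : (minpoly (↥(algebraMap Λ k).range) c).Separable := hsep
  have hφ : Function.Surjective (algebraMap Λ k).rangeRestrict :=
    (algebraMap Λ k).rangeRestrict_surjective
  obtain ⟨p, hpq, -, hpm⟩ := Polynomial.lifts_and_natDegree_eq_and_monic
    (Polynomial.mem_lifts_of_surjective hφ _) hqm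
  have hcomp : (algebraMap (↥(algebraMap Λ k).range) k).comp (algebraMap Λ k).rangeRestrict =
      algebraMap Λ k := RingHom.ext (fun _ => rfl)
  have hconv : ∀ r : Λ[X], aeval c (r.map (algebraMap Λ k).rangeRestrict) = aeval c r := by
    intro r
    rw [aeval_def, aeval_def, eval₂_map, hcomp]
  refine ⟨p, hpm, ?_, ?_⟩
  · rw [← hconv, hpq, hq0]
  · rw [← hconv, ← derivative_map, hpq]
    obtain ⟨a, b, hab⟩ := hqs
    have h1 := congrArg (aeval c) hab
    rw [map_add, map_mul, map_mul, hq0, mul_zero, zero_add, map_one] at h1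
    exact IsUnit.of_mul_eq_one _ (by rw [mul_comm]; exact h1)

variable [IsNoetherianRing Λ] [Module.Finite Λ k]

theorem exists_unique_root (A : Art Λ k) (p : Λ[X]) (hp : p.Monic) (c : k) (h0 : aeval c p = 0)
    (h1 : IsUnit (aeval c (derivative p))) : ∃! a : A, aeval a p = 0 ∧ A.res a = c := by
  obtain ⟨a₀, ha₀⟩ := A.res_surjective c
  have hfm : (p.map (algebraMap Λ A)).Monic := hp.map _
  have hev : ∀ a : A, (p.map (algebraMap Λ A)).eval a = aeval a p := fun a => by
    rw [eval_map, aeval_def]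
  have hdev : ∀ a : A, (derivative (p.map (algebraMap Λ A))).eval a = aeval a (derivative p) :=
    fun a => by rw [derivative_map, eval_map, aeval_def]
  have hres : ∀ (a : A) (r : Λ[X]), A.res (aeval a r) = aeval (A.res a) r := fun a r =>
    (aeval_algHom_apply A.res a r).symm
  have hunit : ∀ a : A, A.res a = c → IsUnit ((derivative (p.map (algebraMap Λ A))).eval a) := by
    intro a ha
    rw [hdev]
    by_contra hnu
    have hm : aeval a (derivative p) ∈ IsLocalRing.maximalIdeal A :=
      (IsLocalRing.mem_maximalIdeal _).2 hnu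
    rw [Art.mem_maximalIdeal_iff, hres, ha] at hm
    rw [hm] at h1
    exact not_isUnit_zero h1
  have h1' : (p.map (algebraMap Λ A)).eval a₀ ∈ IsLocalRing.maximalIdeal A := by
    rw [hev, Art.mem_maximalIdeal_iff, hres, ha₀, h0]
  obtain ⟨a, haroot, hasub⟩ := HenselianRing.is_henselian (I := IsLocalRing.maximalIdeal A)
    (p.map (algebraMap Λ A)) hfm a₀ h1' ((hunit a₀ ha₀).map _)
  have hares : A.res a = c := by
    have h2 := (Art.mem_maximalIdeal_iff A _).1 hasub
    rw [map_sub, sub_eq_zero] at h2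
    rw [h2, ha₀]
  have haroot' : (p.map (algebraMap Λ A)).eval a = 0 := haroot
  refine ⟨a, ⟨by rw [← hev]; exact haroot', hares⟩, ?_⟩
  rintro b ⟨hb0, hbres⟩
  symm
  apply IsLocalRing.eq_of_eval_eq_zero_of_not_isUnit_sub (f := p.map (algebraMap Λ A)) haroot'
    (by rw [hev]; exact hb0) ?_ (hunit a hares)
  intro hu
  have h3 : a - b ∈ IsLocalRing.maximalIdeal A := by
    rw [Art.mem_maximalIdeal_iff, map_sub, hares, hbres, sub_self]
  exact (IsLocalRing.mem_maximalIdeal _).1 h3 hu

theorem map_root {A B : Art Λ k} (g : B ⟶ A) (p : Λ[X]) (b : B) (hb : aeval b p = 0) :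
    aeval (g b) p = 0 := by
  rw [aeval_algHom_apply g.toAlgHom b p, hb, map_zero]

section FibreProdOf

variable {A A₁ A₂ : Art Λ k} (f₁ : A₁ ⟶ A) (f₂ : A₂ ⟶ A)
  (hres : Function.Surjective (A₁.res.comp (AlgHom.pullbackFst f₁.toAlgHom f₂.toAlgHom)))

/-- The set-theoretic fibre product as an object, when its augmentation is surjective. -/
noncomputable def fibreProdOf : Art Λ k :=
  haveI : IsLocalHom f₂.toAlgHom := Art.isLocalHom f₂
  { carrier := AlgHom.pullback f₁.toAlgHom f₂.toAlgHom
    isLocalRing := AlgHom.isLocalRing_pullback f₁.toAlgHom f₂.toAlgHom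
    isArtinianRing := by
      have h : IsArtinian Λ (AlgHom.pullback f₁.toAlgHom f₂.toAlgHom) :=
        isArtinian_of_injective (AlgHom.pullback f₁.toAlgHom f₂.toAlgHom).val.toLinearMap
          Subtype.val_injective
      exact isArtinian_of_tower Λ h
    res := A₁.res.comp (AlgHom.pullbackFst f₁.toAlgHom f₂.toAlgHom)
    res_surjective := hres }

/-- First projection. -/
noncomputable def fibreProdOfFst : fibreProdOf f₁ f₂ hres ⟶ A₁ :=
  ⟨AlgHom.pullbackFst f₁.toAlgHom f₂.toAlgHom, rfl⟩

/-- Second projection. -/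
noncomputable def fibreProdOfSnd : fibreProdOf f₁ f₂ hres ⟶ A₂ :=
  ⟨AlgHom.pullbackSnd f₁.toAlgHom f₂.toAlgHom, by
    apply AlgHom.ext
    rintro ⟨⟨a₁, a₂⟩, h⟩
    have h' : f₁ a₁ = f₂ a₂ := h
    change A₂.res a₂ = A₁.res a₁
    rw [← res_app f₂, ← h', res_app]⟩

theorem isFibreProd_fibreProdOf :
    IsFibreProd (fibreProdOfFst f₁ f₂ hres) (fibreProdOfSnd f₁ f₂ hres) f₁ f₂ where
  w := by
    apply hom_ext
    exact AlgHom.pullback_comm_sq f₁.toAlgHom f₂.toAlgHom
  inj := by
    rintro ⟨⟨a₁, a₂⟩, h⟩ ⟨⟨b₁, b₂⟩, h'⟩ e₁ e₂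
    have e₁' : a₁ = b₁ := e₁
    have e₂' : a₂ = b₂ := e₂
    subst e₁' e₂'
    rfl
  surj := by
    intro a' a'' h
    exact ⟨⟨(a', a''), h⟩, rfl, rfl⟩

end FibreProdOf

end Groth.Agent.H63
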