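import Groth.Agent.H63.ArtC
import Mathlib.RingTheory.LocalRing.RingHom.Basic
import Mathlib.RingTheory.Nilpotent.Basic

/-!
A Noetherian algebra that is a nilpotent extension of an object of `Art Λ k` is an object of
`Art Λ k`; elements of `h_R(A)` send `m_R^N` into `m_A^N`.
-/

set_option autoImplicit false
set_option linter.unusedSectionVars false
set_option linter.style.haveILetI false
universe u v

namespace Groth.Agent.H63

open CategoryTheory ArtFun ArtFun.Art

variable {Λ : Type u} {k : Type u} [CommRing Λ] [Field k] [Algebra Λ k]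

theorem homSet_apply_mem_pow (R : CRing Λ k) {A : Art Λ k} (φ : HomSet R.carrier R.res A) (N : ℕ)
    {x : R.carrier} (hx : x ∈ IsLocalRing.maximalIdeal R.carrier ^ N) :
    φ.1 x ∈ IsLocalRing.maximalIdeal A ^ N := by
  have h1 : Ideal.map φ.1 (IsLocalRing.maximalIdeal R.carrier) ≤ IsLocalRing.maximalIdeal A := by
    rw [Ideal.map_le_iff_le_comap]
    intro r hr
    rw [Ideal.mem_comap, Art.mem_maximalIdeal_iff]
    have h : A.res (φ.1 r) = R.res r := DFunLike.congr_fun φ.2 r
    rw [h]
    exact (CRing.mem_maximalIdeal_iff R r).1 hr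
  have h2 := Ideal.mem_map_of_mem φ.1 hx
  rw [Ideal.map_pow] at h2
  exact Ideal.pow_right_mono h1 N h2

section NilExt

variable {Q : Type u} [CommRing Q] [Algebra Λ Q] {A₀ : Art Λ k} (π : Q →ₐ[Λ] A₀)

theorem isLocalHom_of_ker_pow_eq_bot (hπ : Function.Surjective π) (m : ℕ)
    (hm : RingHom.ker π ^ m = ⊥) : IsLocalHom (π : Q →+* A₀) := by
  refine ⟨fun a ha => ?_⟩
  obtain ⟨b₀, hb₀⟩ := ha.exists_right_inv
  obtain ⟨b, rfl⟩ := hπ b₀
  have hb₁ : π a * π b = 1 := hb₀
  have h1 : a * b - 1 ∈ RingHom.ker π := by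
    rw [RingHom.mem_ker, map_sub, map_mul, map_one, sub_eq_zero]
    exact hb₁
  have h2 : (a * b - 1) ^ m = 0 := by
    have h := Ideal.pow_mem_pow h1 m
    rw [hm] at h
    exact Ideal.mem_bot.1 h
  have h3 : IsUnit (a * b - 1 + 1) := IsNilpotent.isUnit_add_one ⟨m, h2⟩
  rw [sub_add_cancel] at h3
  exact isUnit_of_mul_isUnit_left h3

variable [IsNoetherianRing Q]

/-- A Noetherian algebra which is a nilpotent extension of an object of `Art Λ k`. -/
noncomputable def artOfNilExt (hπ : Function.Surjective π) (m : ℕ)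
    (hm : RingHom.ker π ^ m = ⊥) : Art Λ k :=
  haveI : IsLocalHom (π : Q →+* A₀) := isLocalHom_of_ker_pow_eq_bot π hπ m hm
  haveI : IsLocalRing Q := RingHom.domain_isLocalRing (π : Q →+* A₀)
  { carrier := Q
    isArtinianRing := by
      rw [isArtinianRing_iff_isNilpotent_maximalIdeal]
      obtain ⟨N, hN⟩ := exists_maximalIdeal_pow_eq_bot A₀
      refine ⟨N * m, ?_⟩
      have h0 : Ideal.map π (IsLocalRing.maximalIdeal Q) ≤ IsLocalRing.maximalIdeal A₀ := by
        rw [Ideal.map_le_iff_le_comap]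
        intro x hx
        rw [Ideal.mem_comap, IsLocalRing.mem_maximalIdeal]
        rw [IsLocalRing.mem_maximalIdeal] at hx
        intro hu
        apply hx
        have hu' : IsUnit ((π : Q →+* A₀) x) := hu
        exact IsUnit.of_map (π : Q →+* A₀) x hu'
      have h1 : IsLocalRing.maximalIdeal Q ^ N ≤ RingHom.ker π := by
        intro x hx
        rw [RingHom.mem_ker]
        have h2 := Ideal.mem_map_of_mem π hx
        rw [Ideal.map_pow] at h2
        have h3 := Ideal.pow_right_mono h0 N h2
        rw [hN] at h3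
        exact Ideal.mem_bot.1 h3
      rw [Ideal.zero_eq_bot, ← le_bot_iff, pow_mul, ← hm]
      exact Ideal.pow_right_mono h1 m
    res := A₀.res.comp π
    res_surjective := A₀.res_surjective.comp hπ }

/-- The projection. -/
noncomputable def artOfNilExtHom (hπ : Function.Surjective π) (m : ℕ)
    (hm : RingHom.ker π ^ m = ⊥) : artOfNilExt π hπ m hm ⟶ A₀ :=
  ⟨π, rfl⟩

end NilExt

end Groth.Agent.H63
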