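import Groth.Agent.S12750
import Groth.Agent.H63.ArtHensel
import Groth.Agent.H63.ArtNil
import Groth.Agent.H63.ArtC
import Mathlib.RingTheory.Etale.Field
import Mathlib.RingTheory.Artinian.Ring

/-!
Essential surjections in `Art Λ k` and the relative cotangent space, separable residue field
(helper63).
-/

set_option autoImplicit false
set_option linter.unusedSectionVars false
set_option linter.unusedVariables false
set_option linter.style.haveILetI false
universe u v

namespace Groth.Agent.H63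

open CategoryTheory ArtFun ArtFun.Art Polynomial

variable {Λ : Type u} {k : Type u} [CommRing Λ] [Field k] [Algebra Λ k]

theorem exists_hom_factor {B B' D : Art Λ k} (q : B ⟶ B') (hq : Function.Surjective q) (p : B ⟶ D)
    (H : RingHom.ker q.toAlgHom ≤ RingHom.ker p.toAlgHom) : ∃ p' : B' ⟶ D, q ≫ p' = p := by
  have H' : RingHom.ker q.toAlgHom.toRingHom ≤ RingHom.ker p.toAlgHom.toRingHom := H
  have hq' : Function.Surjective q.toAlgHom := hq
  refine ⟨⟨AlgHom.liftOfSurjective q.toAlgHom hq' p.toAlgHom H', ?_⟩, ?_⟩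
  · apply AlgHom.ext
    intro x
    obtain ⟨b, rfl⟩ := hq' x
    show D.res (AlgHom.liftOfSurjective q.toAlgHom hq' p.toAlgHom H' (q.toAlgHom b)) =
      B'.res (q.toAlgHom b)
    rw [AlgHom.liftOfSurjective_apply]
    exact (Art.res_app p b).trans (Art.res_app q b).symm
  · apply Art.hom_ext
    apply AlgHom.ext
    intro b
    exact AlgHom.liftOfSurjective_apply q.toAlgHom hq' p.toAlgHom H' b

section

variable [Module.Finite Λ k]

theorem ker_algebraMap_isMaximal : (RingHom.ker (algebraMap Λ k)).IsMaximal := by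
  have h := Ideal.isMaximal_comap_of_isIntegral_of_isMaximal (R := Λ) (S := k) (⊥ : Ideal k)
  rwa [← RingHom.ker_eq_comap_bot] at h

variable [IsNoetherianRing Λ]

theorem map_relIdeal_mem {A B : Art Λ k} (f : B ⟶ A) {x : B}
    (hx : x ∈ Ideal.map (algebraMap Λ B) (RingHom.ker (algebraMap Λ k)) ⊔
      IsLocalRing.maximalIdeal B ^ 2) :
    f x ∈ Ideal.map (algebraMap Λ A) (RingHom.ker (algebraMap Λ k)) ⊔
      IsLocalRing.maximalIdeal A ^ 2 := by
  obtain ⟨u, hu, v, hv, rfl⟩ := Submodule.mem_sup.1 hx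
  have hu' : f.toAlgHom u ∈ Ideal.map (algebraMap Λ A) (RingHom.ker (algebraMap Λ k)) := by
    have hle : Ideal.map (algebraMap Λ B) (RingHom.ker (algebraMap Λ k)) ≤
        Ideal.comap f.toAlgHom (Ideal.map (algebraMap Λ A) (RingHom.ker (algebraMap Λ k))) := by
      rw [Ideal.map_le_iff_le_comap]
      intro l hl
      rw [Ideal.mem_comap, Ideal.mem_comap, AlgHom.commutes]
      exact Ideal.mem_map_of_mem _ hl
    exact hle hu
  have hv' : f.toAlgHom v ∈ IsLocalRing.maximalIdeal A ^ 2 := by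
    have h1 := Ideal.mem_map_of_mem f.toAlgHom hv
    rw [Ideal.map_pow] at h1
    exact Ideal.pow_right_mono (map_maximalIdeal_le f) 2 h1
  show f.toAlgHom (u + v) ∈ _
  rw [map_add]
  exact Submodule.add_mem_sup hu' hv'

variable [Algebra.IsSeparable (↥(algebraMap Λ k).range) k]

/-- A coefficient field in a square-zero extension of `k` killed by `m_Λ`. -/
theorem exists_section (B' : Art Λ k)
    (hΛ : ∀ l : Λ, algebraMap Λ k l = 0 → algebraMap Λ B' l = 0)
    (hsq : IsLocalRing.maximalIdeal B' ^ 2 = ⊥) :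
    ∃ σ : k →ₐ[Λ] B', ∀ c, B'.res (σ c) = c := by
  classical
  let p : Ideal Λ := RingHom.ker (algebraMap Λ k)
  haveI hp : p.IsMaximal := ker_algebraMap_isMaximal
  letI : Field (Λ ⧸ p) := Ideal.Quotient.field p
  letI : Algebra (Λ ⧸ p) k := (RingHom.kerLift (algebraMap Λ k)).toAlgebra
  haveI : IsScalarTower Λ (Λ ⧸ p) k := IsScalarTower.of_algebraMap_eq (fun x => rfl)
  have hc : (algebraMap (Λ ⧸ p) k).comp (Ideal.Quotient.mk p) = algebraMap Λ k :=
    RingHom.ext (fun _ => rfl)
  haveI hsep : Algebra.IsSeparable (Λ ⧸ p) k := by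
    refine ⟨fun x => ?_⟩
    obtain ⟨q₀, hqm, hq0, hqu⟩ := exists_sep_poly (Λ := Λ) x
    have hconv : ∀ r : Λ[X], aeval x (r.map (Ideal.Quotient.mk p)) = aeval x r := by
      intro r
      rw [aeval_def, aeval_def, eval₂_map, hc]
    have hq0' : aeval x (q₀.map (Ideal.Quotient.mk p)) = 0 := by rw [hconv, hq0]
    have hint : IsIntegral (Λ ⧸ p) x :=
      ⟨q₀.map (Ideal.Quotient.mk p), hqm.map _, by rw [← aeval_def]; exact hq0'⟩
    obtain ⟨h, hh⟩ := minpoly.dvd (Λ ⧸ p) x hq0'
    show (minpoly (Λ ⧸ p) x).Separable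
    rw [Polynomial.separable_iff_derivative_ne_zero (minpoly.irreducible hint)]
    intro hd
    have h1 : aeval x (derivative (q₀.map (Ideal.Quotient.mk p))) = 0 := by
      rw [hh, derivative_mul, hd, zero_mul, zero_add, map_mul, minpoly.aeval, zero_mul]
    rw [derivative_map, hconv] at h1
    rw [h1] at hqu
    exact not_isUnit_zero hqu
  haveI : Algebra.FormallyEtale (Λ ⧸ p) k := Algebra.FormallyEtale.of_isSeparable (Λ ⧸ p) k
  letI : Algebra (Λ ⧸ p) B' := (Ideal.Quotient.lift p (algebraMap Λ B')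
    (fun l hl => hΛ l (RingHom.mem_ker.1 hl))).toAlgebra
  let resK : B' →ₐ[Λ ⧸ p] k :=
    { toRingHom := B'.res.toRingHom
      commutes' := fun x => by
        obtain ⟨l, rfl⟩ := Ideal.Quotient.mk_surjective x
        exact B'.res.commutes l }
  have hker : RingHom.ker (resK : B' →+* k) ≤ IsLocalRing.maximalIdeal B' := by
    intro b hb
    rw [Art.mem_maximalIdeal_iff]
    exact RingHom.mem_ker.1 hb
  have hnil : IsNilpotent (RingHom.ker (resK : B' →+* k)) := by
    refine ⟨2, ?_⟩
    rw [Ideal.zero_eq_bot, eq_bot_iff, ← hsq]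
    exact Ideal.pow_right_mono hker 2
  have hresK : Function.Surjective resK := B'.res_surjective
  let σ : k →ₐ[Λ ⧸ p] B' :=
    Algebra.FormallySmooth.liftOfSurjective (AlgHom.id (Λ ⧸ p) k) resK hresK hnil
  have hσ : ∀ c, B'.res (σ c) = c := fun c =>
    Algebra.FormallySmooth.liftOfSurjective_apply (AlgHom.id (Λ ⧸ p) k) resK hresK hnil c
  refine ⟨{ toRingHom := σ.toRingHom, commutes' := fun l => ?_ }, hσ⟩
  exact σ.commutes (Ideal.Quotient.mk p l)

/-- An essential surjection from a square-zero extension of `k` killed by `m_Λ` is injective on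
the maximal ideal. -/
theorem eq_zero_of_essential {A' B' : Art Λ k} (f' : B' ⟶ A')
    (hΛ : ∀ l : Λ, algebraMap Λ k l = 0 → algebraMap Λ B' l = 0)
    (hsq : IsLocalRing.maximalIdeal B' ^ 2 = ⊥)
    (hsurj : Function.Surjective f')
    (hess : ∀ (C : Art Λ k) (g : C ⟶ B'), Function.Surjective (g ≫ f') → Function.Surjective g)
    (v₀ : B') (hv₀ : v₀ ∈ IsLocalRing.maximalIdeal B') (hfv : f' v₀ = 0) : v₀ = 0 := by
  classical
  by_contra hne
  obtain ⟨σ, hσ⟩ := exists_section B' hΛ hsq
  have hmm : ∀ x ∈ IsLocalRing.maximalIdeal B', ∀ y ∈ IsLocalRing.maximalIdeal B',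
      x * y = 0 := by
    intro x hx y hy
    have h := Ideal.mul_mem_mul hx hy
    rw [← pow_two, hsq] at h
    exact Ideal.mem_bot.1 h
  let S : Set (Ideal B') := {W | W ≤ IsLocalRing.maximalIdeal B' ∧ v₀ ∉ W}
  have hSne : S.Nonempty := ⟨⊥, bot_le, fun h => hne (Ideal.mem_bot.1 h)⟩
  obtain ⟨W, ⟨hWm, hvW⟩, hWmax⟩ :=
    (set_has_maximal_iff_noetherian (R := B') (M := B')).2
      (inferInstance : IsNoetherianRing B') S hSne
  have hdecomp : ∀ u ∈ IsLocalRing.maximalIdeal B', ∃ w ∈ W, ∃ r : B', u = w + r * v₀ := by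
    intro u hu
    by_cases huW : u ∈ W
    · exact ⟨u, huW, 0, by rw [zero_mul, add_zero]⟩
    · have hlt : W < W ⊔ Ideal.span {u} := by
        refine lt_of_le_of_ne le_sup_left (fun h => huW ?_)
        have h1 : u ∈ W ⊔ Ideal.span {u} :=
          Ideal.mem_sup_right (Ideal.subset_span (Set.mem_singleton u))
        rwa [← h] at h1
      have hmem : v₀ ∈ W ⊔ Ideal.span {u} := by
        by_contra hv
        exact hWmax (W ⊔ Ideal.span {u})
          ⟨sup_le hWm ((Ideal.span_singleton_le_iff_mem _).2 hu), hv⟩ hlt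
      obtain ⟨w, hw, z, hz, hwz⟩ := Submodule.mem_sup.1 hmem
      obtain ⟨r, rfl⟩ := Ideal.mem_span_singleton'.1 hz
      have hr : IsUnit r := by
        by_contra hnu
        have hrm : r ∈ IsLocalRing.maximalIdeal B' := (IsLocalRing.mem_maximalIdeal _).2 hnu
        rw [hmm r hrm u hu, add_zero] at hwz
        exact hvW (hwz ▸ hw)
      obtain ⟨t, rfl⟩ := hr
      refine ⟨-(↑t⁻¹ * w), W.neg_mem (Ideal.mul_mem_left W _ hw), ↑t⁻¹, ?_⟩
      have ht : ((↑t⁻¹ : B') * (↑t : B')) = 1 := Units.inv_mul t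
      rw [← hwz]
      linear_combination (-u) * ht
  have hσΛ : ∀ l : Λ, σ (algebraMap Λ k l) = algebraMap Λ B' l := fun l => σ.commutes l
  let Csub : Subalgebra Λ B' :=
    { carrier := {b | b - σ (B'.res b) ∈ W}
      mul_mem' := by
        intro b b' hb hb'
        show b * b' - σ (B'.res (b * b')) ∈ W
        have e : b * b' - σ (B'.res (b * b')) =
            (b - σ (B'.res b)) * b' + σ (B'.res b) * (b' - σ (B'.res b')) := by
          rw [map_mul, map_mul]; ring
        rw [e]
        exact W.add_mem (Ideal.mul_mem_right _ W hb) (Ideal.mul_mem_left W _ hb')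
      one_mem' := by
        show (1 : B') - σ (B'.res 1) ∈ W
        rw [map_one, map_one, sub_self]; exact W.zero_mem
      add_mem' := by
        intro b b' hb hb'
        show b + b' - σ (B'.res (b + b')) ∈ W
        have e : b + b' - σ (B'.res (b + b')) =
            (b - σ (B'.res b)) + (b' - σ (B'.res b')) := by
          rw [map_add, map_add]; ring
        rw [e]; exact W.add_mem hb hb'
      zero_mem' := by
        show (0 : B') - σ (B'.res 0) ∈ W
        rw [map_zero, map_zero, sub_self]; exact W.zero_mem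
      algebraMap_mem' := by
        intro l
        show algebraMap Λ B' l - σ (B'.res (algebraMap Λ B' l)) ∈ W
        rw [AlgHom.commutes, hσΛ, sub_self]; exact W.zero_mem }
  haveI hNoeth : IsNoetherianRing ↥Csub := by
    haveI hN : IsNoetherian Λ B' :=
      ((isFiniteLength_iff_isNoetherian_isArtinian).1 (isFiniteLength_base B')).1
    have h : IsNoetherian Λ ↥Csub :=
      isNoetherian_of_injective Csub.val.toLinearMap Subtype.val_injective
    exact isNoetherian_of_tower Λ h
  let π : ↥Csub →ₐ[Λ] (base Λ k) := B'.res.comp Csub.val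
  have hπ : Function.Surjective π := by
    intro c
    refine ⟨(⟨σ c, ?_⟩ : ↥Csub), hσ c⟩
    show σ c - σ (B'.res (σ c)) ∈ W
    rw [hσ, sub_self]; exact W.zero_mem
  have hkerπ : RingHom.ker π ^ 2 = ⊥ := by
    rw [eq_bot_iff, pow_two, Ideal.mul_le]
    intro x hx y hy
    rw [Ideal.mem_bot]
    apply Subtype.ext
    show (x : B') * (y : B') = 0
    apply hmm
    · rw [Art.mem_maximalIdeal_iff]; exact RingHom.mem_ker.1 hx
    · rw [Art.mem_maximalIdeal_iff]; exact RingHom.mem_ker.1 hy
  obtain ⟨Cobj, ι, hι1, hι2⟩ : ∃ (Cobj : Art Λ k) (ι : Cobj ⟶ B'),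
      (∀ x : Cobj, ι x ∈ Csub) ∧ (∀ b ∈ Csub, ∃ x : Cobj, ι x = b) :=
    ⟨artOfNilExt π hπ 2 hkerπ, ⟨Csub.val, by apply AlgHom.ext; intro x; rfl⟩,
      fun (x : ↥Csub) => x.2, fun b hb => ⟨(⟨b, hb⟩ : ↥Csub), rfl⟩⟩
  have hιf : Function.Surjective (ι ≫ f') := by
    intro a
    obtain ⟨b, rfl⟩ := hsurj a
    have hu : b - σ (B'.res b) ∈ IsLocalRing.maximalIdeal B' := by
      rw [Art.mem_maximalIdeal_iff, map_sub, hσ, sub_self]
    obtain ⟨w, hw, r, hwr⟩ := hdecomp _ hu
    have hres : B'.res (b - r * v₀) = B'.res b := by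
      rw [map_sub, map_mul, (Art.mem_maximalIdeal_iff B' v₀).1 hv₀, mul_zero, sub_zero]
    have hmem : b - r * v₀ ∈ Csub := by
      show b - r * v₀ - σ (B'.res (b - r * v₀)) ∈ W
      rw [hres]
      have e : b - r * v₀ - σ (B'.res b) = w := by linear_combination hwr
      rw [e]; exact hw
    obtain ⟨x, hx⟩ := hι2 _ hmem
    refine ⟨x, ?_⟩
    show f'.toAlgHom (ι.toAlgHom x) = f'.toAlgHom b
    have hx' : ι.toAlgHom x = b - r * v₀ := hx
    have h2 : f'.toAlgHom v₀ = 0 := hfv
    rw [hx', map_sub, map_mul, h2, mul_zero, sub_zero]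
  have hι : Function.Surjective ι := hess Cobj ι hιf
  obtain ⟨x, hx⟩ := hι v₀
  have hvC : v₀ ∈ Csub := by
    rw [← hx]
    exact hι1 x
  have hvC' : v₀ - σ (B'.res v₀) ∈ W := hvC
  rw [(Art.mem_maximalIdeal_iff B' v₀).1 hv₀, map_zero, sub_zero] at hvC'
  exact hvW hvC'

/-- Essential surjections are the maps inducing an isomorphism on relative cotangent spaces. -/
theorem essential_iff_cotangent {A B : Art Λ k} (f : B ⟶ A) :
    (Function.Surjective f ∧ ∀ (C : Art Λ k) (g : C ⟶ B),
        Function.Surjective (g ≫ f) → Function.Surjective g) ↔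
      (Ideal.map (algebraMap Λ A) (RingHom.ker (algebraMap Λ k)) ⊔
          Ideal.map f.toAlgHom (IsLocalRing.maximalIdeal B) ⊔ IsLocalRing.maximalIdeal A ^ 2 =
          IsLocalRing.maximalIdeal A ∧
        ∀ b ∈ IsLocalRing.maximalIdeal B,
          f b ∈ Ideal.map (algebraMap Λ A) (RingHom.ker (algebraMap Λ k)) ⊔
            IsLocalRing.maximalIdeal A ^ 2 →
          b ∈ Ideal.map (algebraMap Λ B) (RingHom.ker (algebraMap Λ k)) ⊔
            IsLocalRing.maximalIdeal B ^ 2) := by
  constructor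
  · rintro ⟨hsurj, hess⟩
    refine ⟨((art_surjective_tfae f).out 0 2).1 hsurj, ?_⟩
    intro b hb hfb
    have hJB : Ideal.map (algebraMap Λ B) (RingHom.ker (algebraMap Λ k)) ⊔
        IsLocalRing.maximalIdeal B ^ 2 ≤ IsLocalRing.maximalIdeal B :=
      sup_le (map_ker_le_maximalIdeal B) (Ideal.pow_le_self two_ne_zero)
    have hJA : Ideal.map (algebraMap Λ A) (RingHom.ker (algebraMap Λ k)) ⊔
        IsLocalRing.maximalIdeal A ^ 2 ≤ IsLocalRing.maximalIdeal A :=
      sup_le (map_ker_le_maximalIdeal A) (Ideal.pow_le_self two_ne_zero)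
    obtain ⟨B', qB, hqB, hkB⟩ : ∃ (B' : Art Λ k) (qB : B ⟶ B'), Function.Surjective qB ∧
        RingHom.ker qB.toAlgHom = Ideal.map (algebraMap Λ B) (RingHom.ker (algebraMap Λ k)) ⊔
          IsLocalRing.maximalIdeal B ^ 2 :=
      ⟨Art.quot B _ hJB, Art.quotMk B _ hJB, Art.quotMk_surjective B _ hJB,
        Ideal.Quotient.mkₐ_ker Λ _⟩
    obtain ⟨A', qA, hqA, hkA⟩ : ∃ (A' : Art Λ k) (qA : A ⟶ A'), Function.Surjective qA ∧
        RingHom.ker qA.toAlgHom = Ideal.map (algebraMap Λ A) (RingHom.ker (algebraMap Λ k)) ⊔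
          IsLocalRing.maximalIdeal A ^ 2 :=
      ⟨Art.quot A _ hJA, Art.quotMk A _ hJA, Art.quotMk_surjective A _ hJA,
        Ideal.Quotient.mkₐ_ker Λ _⟩
    have hfJ : RingHom.ker qB.toAlgHom ≤ RingHom.ker (f ≫ qA).toAlgHom := by
      rw [hkB]
      intro x hx
      rw [RingHom.mem_ker]
      show qA.toAlgHom (f.toAlgHom x) = 0
      rw [← RingHom.mem_ker, hkA]
      exact map_relIdeal_mem f hx
    obtain ⟨f', hf'⟩ := exists_hom_factor qB hqB (f ≫ qA) hfJ
    have hess' := (Groth.Agent.S12750.result f qB hqB hkB qA hqA hkA f' hf').1 ⟨hsurj, hess⟩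
    have hΛ : ∀ l : Λ, algebraMap Λ k l = 0 → algebraMap Λ B' l = 0 := by
      intro l hl
      have h1 : algebraMap Λ B l ∈ RingHom.ker qB.toAlgHom := by
        rw [hkB]
        exact Ideal.mem_sup_left (Ideal.mem_map_of_mem _ (RingHom.mem_ker.2 hl))
      have h2 : qB.toAlgHom (algebraMap Λ B l) = 0 := RingHom.mem_ker.1 h1
      rw [AlgHom.commutes] at h2
      exact h2
    have hsq : IsLocalRing.maximalIdeal B' ^ 2 = ⊥ := by
      rw [eq_bot_iff, pow_two, Ideal.mul_le]
      intro x hx y hy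
      obtain ⟨x₀, rfl⟩ := hqB x
      obtain ⟨y₀, rfl⟩ := hqB y
      have hx₀ : x₀ ∈ IsLocalRing.maximalIdeal B := by
        rw [Art.mem_maximalIdeal_iff] at hx ⊢
        rw [← Art.res_app qB x₀]
        exact hx
      have hy₀ : y₀ ∈ IsLocalRing.maximalIdeal B := by
        rw [Art.mem_maximalIdeal_iff] at hy ⊢
        rw [← Art.res_app qB y₀]
        exact hy
      rw [Ideal.mem_bot]
      have h1 : x₀ * y₀ ∈ RingHom.ker qB.toAlgHom := by
        rw [hkB]
        apply Ideal.mem_sup_right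
        rw [pow_two]
        exact Ideal.mul_mem_mul hx₀ hy₀
      have h2 : qB.toAlgHom (x₀ * y₀) = 0 := RingHom.mem_ker.1 h1
      rw [map_mul] at h2
      exact h2
    have hv : qB b ∈ IsLocalRing.maximalIdeal B' := by
      rw [Art.mem_maximalIdeal_iff, Art.res_app]
      exact (Art.mem_maximalIdeal_iff B b).1 hb
    have hfv : f' (qB b) = 0 := by
      have h1 : (qB ≫ f') b = (f ≫ qA) b := by rw [hf']
      have h2 : (f ≫ qA) b = 0 := by
        show qA.toAlgHom (f.toAlgHom b) = 0
        rw [← RingHom.mem_ker, hkA]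
        exact hfb
      exact h1.trans h2
    have h0 := eq_zero_of_essential f' hΛ hsq hess'.1 hess'.2 (qB b) hv hfv
    have h3 : b ∈ RingHom.ker qB.toAlgHom := RingHom.mem_ker.2 h0
    rw [hkB] at h3
    exact h3
  · rintro ⟨h1, h2⟩
    have hsurj : Function.Surjective f := ((art_surjective_tfae f).out 0 2).2 h1
    refine ⟨hsurj, fun C g hg => ?_⟩
    apply ((art_surjective_tfae g).out 0 2).2
    apply le_antisymm
    · exact sup_le (sup_le (map_ker_le_maximalIdeal B) (map_maximalIdeal_le g))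
        (Ideal.pow_le_self two_ne_zero)
    · intro b hb
      obtain ⟨c, hc⟩ := hg (f b)
      have hc' : f (g c) = f b := hc
      have hcm : c ∈ IsLocalRing.maximalIdeal C := by
        rw [Art.mem_maximalIdeal_iff, ← Art.res_app g c, ← Art.res_app f (g c), hc',
          Art.res_app f b]
        exact (Art.mem_maximalIdeal_iff B b).1 hb
      have hgc : g c ∈ IsLocalRing.maximalIdeal B :=
        map_maximalIdeal_le g (Ideal.mem_map_of_mem _ hcm)
      have hd : b - g c ∈ Ideal.map (algebraMap Λ B) (RingHom.ker (algebraMap Λ k)) ⊔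
          IsLocalRing.maximalIdeal B ^ 2 := by
        apply h2 _ (Ideal.sub_mem _ hb hgc)
        have h3 : f (b - g c) = 0 := by
          show f.toAlgHom (b - g c) = 0
          rw [map_sub, sub_eq_zero]
          exact hc'.symm
        rw [h3]
        exact Ideal.zero_mem _
      obtain ⟨u, hu, v, hv, huv⟩ := Submodule.mem_sup.1 hd
      have e : b = (u + g c) + v := by
        have h4 : b = g c + (b - g c) := by ring
        rw [h4, ← huv]
        ring
      rw [e]
      exact Submodule.add_mem_sup (Submodule.add_mem_sup hu (Ideal.mem_map_of_mem _ hcm)) hv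

end

end Groth.Agent.H63
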