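import Mathlib

/-!
# Isolated points descend along base change between spectra of fields (helper63)
-/

set_option autoImplicit false
set_option linter.style.haveILetI false
universe u
open CategoryTheory CategoryTheory.Limits AlgebraicGeometry

namespace Groth.Agent.H63.ArtIsolated

/-- (DQ) pointwise descent of "isolated point". -/
theorem isOpen_singleton_of_baseChange {K L : Type u} [Field K] [Field L] {X : Scheme.{u}}
    (f : X ⟶ Spec (CommRingCat.of K))
    (j : Spec (CommRingCat.of L) ⟶ Spec (CommRingCat.of K))
    (N : (pullback f j).Opens) (hN' : LocallyQuasiFinite (N.ι ≫ pullback.snd f j))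
    (x' : ↥(pullback f j)) (hx' : x' ∈ N) :
    IsOpen ({(pullback.fst f j) x'} : Set X) := by
  haveI : Subsingleton ↥(Spec (CommRingCat.of K)) :=
    inferInstanceAs (Subsingleton (PrimeSpectrum K))
  haveI : Subsingleton ↥(Spec (CommRingCat.of L)) :=
    inferInstanceAs (Subsingleton (PrimeSpectrum L))
  haveI : UniversallyOpen j := inferInstance
  haveI : UniversallyOpen (pullback.fst f j) := inferInstance
  let n : ↥(N : Scheme.{u}) := ⟨x', hx'⟩
  have hd := (N.ι ≫ pullback.snd f j).isDiscrete_preimage_singleton ((N.ι ≫ pullback.snd f j) n)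
  rw [isDiscrete_iff_forall_mem_exists_isOpen] at hd
  obtain ⟨U, hU, hUn⟩ := hd n rfl
  have huniv : (N.ι ≫ pullback.snd f j) ⁻¹' {(N.ι ≫ pullback.snd f j) n} = Set.univ := by
    ext m
    simp only [Set.mem_preimage, Set.mem_singleton_iff, Set.mem_univ, iff_true]
    exact Subsingleton.elim _ _
  rw [huniv, Set.inter_univ] at hUn
  subst hUn
  have h1 : IsOpen (N.ι '' {n}) := N.ι.isOpenEmbedding.isOpenMap _ hU
  have h2 : IsOpen ((pullback.fst f j) '' (N.ι '' {n})) := (pullback.fst f j).isOpenMap _ h1
  rw [Set.image_singleton, Set.image_singleton] at h2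
  exact h2

end Groth.Agent.H63.ArtIsolated
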