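import Mathlib
import Groth.Agent.H74.AwayFT

/-!
# Pointwise descent of "locally of finite type" along a base change between spectra of fields
(helper63)
-/

set_option autoImplicit false
set_option linter.style.haveILetI false
universe u
open CategoryTheory CategoryTheory.Limits AlgebraicGeometry
open scoped TensorProduct

namespace Groth.Agent.H63.ArtLftDesc

open Groth.Agent.H74.AwayFT

set_option backward.isDefEq.respectTransparency false in
/-- (DL) -/
theorem exists_open_lft_of_baseChange {K L : Type u} [Field K] [Field L] {X : Scheme.{u}}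
    (f : X ⟶ Spec (CommRingCat.of K))
    (j : Spec (CommRingCat.of L) ⟶ Spec (CommRingCat.of K))
    (N : (pullback f j).Opens) (hN : LocallyOfFiniteType (N.ι ≫ pullback.snd f j))
    (x' : ↥(pullback f j)) (hx' : x' ∈ N) :
    ∃ V : X.Opens, (pullback.fst f j) x' ∈ V ∧ LocallyOfFiniteType (V.ι ≫ f) := by
  -- algebra structures
  let φ : CommRingCat.of K ⟶ CommRingCat.of L := Spec.preimage j
  have hφ : Spec.map φ = j := Spec.map_preimage _
  letI : Algebra K L := φ.hom.toAlgebra
  obtain ⟨U, hU, hxU, -⟩ :=
    exists_isAffineOpen_mem_and_subset (x := (pullback.fst f j) x') (U := ⊤) trivial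
  let ρ : CommRingCat.of K ⟶ Γ(X, U) := Spec.preimage (hU.fromSpec ≫ f)
  have hρ : Spec.map ρ = hU.fromSpec ≫ f := Spec.map_preimage _
  letI : Algebra K Γ(X, U) := ρ.hom.toAlgebra
  let B : Type u := Γ(X, U)
  let inclL : CommRingCat.of L ⟶ CommRingCat.of (L ⊗[K] B) :=
    CommRingCat.ofHom Algebra.TensorProduct.includeLeftRingHom
  let inclB : Γ(X, U) ⟶ CommRingCat.of (L ⊗[K] B) :=
    CommRingCat.ofHom (Algebra.TensorProduct.includeRight (R := K) (A := L) (B := B)).toRingHom
  have outer : IsPullback (Spec.map inclL) (Spec.map inclB) j (hU.fromSpec ≫ f) := by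
    rw [← hφ, ← hρ]
    exact isPullback_SpecMap_of_isPushout _ _ _ _ (CommRingCat.isPushout_tensorProduct K L B)
  have comm : (Spec.map inclB ≫ hU.fromSpec) ≫ f = Spec.map inclL ≫ j := by
    rw [Category.assoc]; exact outer.w.symm
  let ι' : Spec (CommRingCat.of (L ⊗[K] B)) ⟶ pullback f j :=
    pullback.lift (Spec.map inclB ≫ hU.fromSpec) (Spec.map inclL) comm
  have hι1 : ι' ≫ pullback.fst f j = Spec.map inclB ≫ hU.fromSpec := pullback.lift_fst _ _ _
  have hι2 : ι' ≫ pullback.snd f j = Spec.map inclL := pullback.lift_snd _ _ _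
  have right : IsPullback (pullback.snd f j) (pullback.fst f j) j f :=
    (IsPullback.of_hasPullback f j).flip
  have left : IsPullback ι' (Spec.map inclB) (pullback.fst f j) hU.fromSpec := by
    refine IsPullback.of_right ?_ hι1 right
    rw [hι2]; exact outer
  haveI : IsOpenImmersion ι' :=
    MorphismProperty.of_isPullback (P := @IsOpenImmersion) left.flip
      (inferInstance : IsOpenImmersion hU.fromSpec)
  -- a point over `x'`
  obtain ⟨b, hb⟩ : ∃ b, hU.fromSpec b = (pullback.fst f j) x' := by
    have : (pullback.fst f j) x' ∈ Set.range hU.fromSpec := by rw [hU.range_fromSpec]; exact hxU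
    exact this
  obtain ⟨z, hz1, hz2⟩ := Scheme.Pullback.exists_preimage_pullback (f := pullback.fst f j)
    (g := hU.fromSpec) x' b hb.symm
  let y : ↥(Spec (CommRingCat.of (L ⊗[K] B))) := left.isoPullback.inv z
  have hy : ι' y = x' := by
    show ι' (left.isoPullback.inv z) = x'
    rw [← Scheme.Hom.comp_apply, IsPullback.isoPullback_inv_fst, hz1]
  -- a basic open around `y` inside `ι' ⁻¹ N`
  let N' : (Spec (CommRingCat.of (L ⊗[K] B))).Opens := ι' ⁻¹ᵁ N
  have hyN' : y ∈ N' := by show ι' y ∈ N; rw [hy]; exact hx'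
  obtain ⟨_, ⟨_, ⟨f', rfl⟩, rfl⟩, hyf', hf'N'⟩ :=
    (PrimeSpectrum.isBasis_basic_opens (R := L ⊗[K] B)).exists_subset_of_mem_open hyN' N'.isOpen
  -- the localisation is of finite type over `L`
  let away : CommRingCat.of (L ⊗[K] B) ⟶ CommRingCat.of (Localization.Away f') :=
    CommRingCat.ofHom (algebraMap (L ⊗[K] B) (Localization.Away f'))
  let m : Spec (CommRingCat.of (Localization.Away f')) ⟶ pullback f j := Spec.map away ≫ ι'
  have hrange : Set.range m ⊆ Set.range N.ι := by
    rw [Scheme.Opens.range_ι]
    rintro _ ⟨p, rfl⟩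
    show ι' (Spec.map away p) ∈ N
    have hp : Spec.map away p ∈ (PrimeSpectrum.basicOpen f' : Set (PrimeSpectrum (L ⊗[K] B))) := by
      rw [← PrimeSpectrum.localization_away_comap_range (Localization.Away f') f']
      exact ⟨p, rfl⟩
    exact hf'N' hp
  let l : Spec (CommRingCat.of (Localization.Away f')) ⟶ N.toScheme :=
    IsOpenImmersion.lift N.ι m hrange
  have hl : l ≫ N.ι = m := IsOpenImmersion.lift_fac _ _ _
  haveI : IsOpenImmersion m := inferInstance
  haveI : IsOpenImmersion l := by
    haveI : IsOpenImmersion (l ≫ N.ι) := by rw [hl]; infer_instance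
    exact IsOpenImmersion.of_comp l N.ι
  haveI := hN
  have hlft : LocallyOfFiniteType (Spec.map (inclL ≫ away)) := by
    have e : Spec.map (inclL ≫ away) = l ≫ N.ι ≫ pullback.snd f j := by
      rw [← Category.assoc, hl, Spec.map_comp, ← hι2, Category.assoc]
    rw [e]
    infer_instance
  have hf : Algebra.FiniteType L (Localization.Away f') := by
    rw [HasRingHomProperty.Spec_iff (P := @LocallyOfFiniteType)] at hlft
    have e2 : (inclL ≫ away).hom = algebraMap L (Localization.Away f') := by
      ext r
      rfl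
    rw [e2] at hlft
    exact RingHom.finiteType_algebraMap.mp hlft
  obtain ⟨h, hh, hft⟩ := exists_away_finiteType (K := K) (L := L) (B := B) f' y hyf' hf
  -- the open neighbourhood
  let awayB : Γ(X, U) ⟶ CommRingCat.of (Localization.Away h) :=
    CommRingCat.ofHom (algebraMap B (Localization.Away h))
  let o : Spec (CommRingCat.of (Localization.Away h)) ⟶ X := Spec.map awayB ≫ hU.fromSpec
  haveI : IsOpenImmersion o := inferInstance
  refine ⟨o.opensRange, ?_, ?_⟩
  · -- the point lies in the range of `o`
    let q : ↥(Spec Γ(X, U)) := Spec.map inclB y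
    have hq : q ∈ (PrimeSpectrum.basicOpen h : Set (PrimeSpectrum B)) := by
      show h ∉ (Spec.map inclB y).asIdeal
      intro hmem
      exact hh hmem
    rw [← PrimeSpectrum.localization_away_comap_range (Localization.Away h) h] at hq
    obtain ⟨yh, hyh⟩ := hq
    refine ⟨yh, ?_⟩
    show hU.fromSpec (Spec.map awayB yh) = _
    have e1 : Spec.map awayB yh = q := hyh
    rw [e1, ← hy, ← Scheme.Hom.comp_apply ι', hι1]
    rfl
  · have e : o.isoOpensRange.hom ≫ o.opensRange.ι ≫ f = Spec.map (ρ ≫ awayB) := by
      rw [← Category.assoc, Scheme.Hom.isoOpensRange_hom_ι, Spec.map_comp, hρ, Category.assoc]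
    have h1 : LocallyOfFiniteType (Spec.map (ρ ≫ awayB)) := by
      rw [HasRingHomProperty.Spec_iff (P := @LocallyOfFiniteType)]
      have e2 : (ρ ≫ awayB).hom = algebraMap K (Localization.Away h) := by
        ext r
        rfl
      rw [e2]
      exact RingHom.finiteType_algebraMap.mpr hft
    rw [← e] at h1
    exact (MorphismProperty.cancel_left_of_respectsIso @LocallyOfFiniteType
      o.isoOpensRange.hom (o.opensRange.ι ≫ f)).mp h1

end Groth.Agent.H63.ArtLftDesc
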