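import Mathlib
import Groth.Agent.H63.ActionTranslate

/-!
# Translation by the difference of two `T`-points after base change to `T` (helper63)
-/

set_option autoImplicit false
set_option linter.style.haveILetI false
universe u
open CategoryTheory CategoryTheory.Limits AlgebraicGeometry MonoidalCategory CartesianMonoidalCategory MonObj GrpObj

namespace Groth.Agent.H63.ArtTranslate

open Groth.Agent.H63.ActionTranslate

/-- (TR) translation by the difference of two `T`-points, after base change to `T`. -/
theorem exists_translate {S : Scheme.{u}} (G : Over S) [GrpObj G] (T : Over S) (g u : T ⟶ G) :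
    ∃ φ : pullback G.hom T.hom ≅ pullback G.hom T.hom,
      φ.hom ≫ pullback.snd G.hom T.hom = pullback.snd G.hom T.hom ∧
      pullback.lift u.left (𝟙 T.left) (by simp) ≫ φ.hom =
        pullback.lift g.left (𝟙 T.left) (by simp) := by
  let GT : Over T.left := (Over.pullback T.hom).obj G
  letI : GrpObj GT := Functor.grpObjObj
  let gh : 𝟙_ (Over T.left) ⟶ GT :=
    Over.homMk (pullback.lift g.left (𝟙 T.left) (by simp)) (by
      show pullback.lift g.left (𝟙 T.left) _ ≫ pullback.snd G.hom T.hom = 𝟙 T.left
      exact pullback.lift_snd _ _ _)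
  let uh : 𝟙_ (Over T.left) ⟶ GT :=
    Over.homMk (pullback.lift u.left (𝟙 T.left) (by simp)) (by
      show pullback.lift u.left (𝟙 T.left) _ ≫ pullback.snd G.hom T.hom = 𝟙 T.left
      exact pullback.lift_snd _ _ _)
  let τ : 𝟙_ (Over T.left) ⟶ GT := gh * uh⁻¹
  refine ⟨(Over.forget _).mapIso (Liso τ), ?_, ?_⟩
  · exact Over.w (L τ)
  · have h1 : uh ≫ L τ = gh := by
      rw [point_comp_L]
      show gh * uh⁻¹ * uh = gh
      rw [inv_mul_cancel_right]
    exact congrArg (fun m => m.left) h1

end Groth.Agent.H63.ArtTranslate
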