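import Mathlib
import Groth.Agent.H63.ArtTranslate
import Groth.Agent.H63.ArtIsolated
import Groth.Agent.H63.ArtLftDesc

/-!
# Group schemes over a field: a property of a nonempty open spreads (helper63)
-/

set_option autoImplicit false
set_option linter.style.haveILetI false
universe u
open CategoryTheory CategoryTheory.Limits AlgebraicGeometry MonoidalCategory CartesianMonoidalCategory
open Groth.Agent.H63.ArtTranslate Groth.Agent.H63.ArtIsolated Groth.Agent.H63.ArtLftDesc

namespace Groth.Agent.H63.ArtGrp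

variable {K : Type u} [Field K] (G : Over (Spec (CommRingCat.of K))) [GrpObj G]

/-- For every point `x` of a group scheme over a field and every nonempty open `W`, after a base
change to a field `L` there is an open neighbourhood `N` of a point over `x` which is a translate
of `W_L`. -/
theorem exists_nbhd (W : G.left.Opens) (hW : (W : Set G.left).Nonempty) (x : G.left) :
    ∃ (L : Type u) (_ : Field L) (j : Spec (CommRingCat.of L) ⟶ Spec (CommRingCat.of K))
      (N : (pullback G.hom j).Opens) (x' : ↥(pullback G.hom j)),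
      x' ∈ N ∧ (pullback.fst G.hom j) x' = x ∧
      ∀ (P : MorphismProperty Scheme.{u}) [P.IsStableUnderBaseChange],
        P (W.ι ≫ G.hom) → P (N.ι ≫ pullback.snd G.hom j) := by
  obtain ⟨w, hw⟩ := hW
  obtain ⟨z, hz1, hz2⟩ := Scheme.Pullback.exists_preimage_pullback (f := G.hom) (g := G.hom) x w
    (Subsingleton.elim _ _)
  let Z : Scheme.{u} := pullback G.hom G.hom
  let ζ : Spec (Z.residueField z) ⟶ Z := Z.fromSpecResidueField z
  let T : Over (Spec (CommRingCat.of K)) := Over.mk (ζ ≫ pullback.fst G.hom G.hom ≫ G.hom)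
  let g : T ⟶ G := Over.homMk (ζ ≫ pullback.fst G.hom G.hom) (by simp [T])
  let u : T ⟶ G := Over.homMk (ζ ≫ pullback.snd G.hom G.hom) (by simp [T, pullback.condition])
  obtain ⟨φ, hφ, hφ2⟩ := exists_translate G T g u
  let π : pullback G.hom T.hom ⟶ G.left := pullback.fst G.hom T.hom
  let W' : (pullback G.hom T.hom).Opens := π ⁻¹ᵁ W
  let N : (pullback G.hom T.hom).Opens := φ.inv ⁻¹ᵁ W'
  let pt : ↥T.left := IsLocalRing.closedPoint (Z.residueField z)
  let sg : T.left ⟶ pullback G.hom T.hom := pullback.lift g.left (𝟙 T.left) (by simp)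
  let su : T.left ⟶ pullback G.hom T.hom := pullback.lift u.left (𝟙 T.left) (by simp)
  have hsu : sg ≫ φ.inv = su := by
    rw [show sg = su ≫ φ.hom from hφ2.symm, Category.assoc, Iso.hom_inv_id, Category.comp_id]
  have hζ : ζ pt = z := Scheme.fromSpecResidueField_apply _ _
  have hinv : φ.inv ≫ pullback.snd G.hom T.hom = pullback.snd G.hom T.hom := by
    rw [Iso.inv_comp_eq, hφ]
  refine ⟨↑(Z.residueField z), inferInstance, T.hom, N, sg pt, ?_, ?_, ?_⟩
  · show φ.inv (sg pt) ∈ W'
    rw [← Scheme.Hom.comp_apply, hsu]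
    show π (su pt) ∈ W
    rw [← Scheme.Hom.comp_apply]
    have : su ≫ π = u.left := pullback.lift_fst _ _ _
    rw [this]
    show (ζ ≫ pullback.snd G.hom G.hom) pt ∈ W
    rw [Scheme.Hom.comp_apply, hζ, hz2]
    exact hw
  · rw [← Scheme.Hom.comp_apply]
    have : sg ≫ pullback.fst G.hom T.hom = g.left := pullback.lift_fst _ _ _
    rw [this]
    show (ζ ≫ pullback.fst G.hom G.hom) pt = x
    rw [Scheme.Hom.comp_apply, hζ, hz1]
  · intro P _ hP
    have sq1 : IsPullback (π ∣_ W) W'.ι W.ι π := isPullback_morphismRestrict π W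
    have sq2 : IsPullback π (pullback.snd G.hom T.hom) G.hom T.hom :=
      IsPullback.of_hasPullback G.hom T.hom
    have sq := sq1.paste_vert sq2
    have h1 : P (W'.ι ≫ pullback.snd G.hom T.hom) := MorphismProperty.of_isPullback (P := P) sq hP
    have h2 : (φ.inv ∣_ W') ≫ W'.ι ≫ pullback.snd G.hom T.hom =
        N.ι ≫ pullback.snd G.hom T.hom := by
      rw [← Category.assoc, morphismRestrict_ι, Category.assoc, hinv]
    rw [← h2]
    exact (P.cancel_left_of_respectsIso (φ.inv ∣_ W') _).mpr h1

set_option backward.isDefEq.respectTransparency false in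
/-- (field case) locally of finite type spreads from a nonempty open. -/
theorem lft_of_open (W : G.left.Opens) (hW : (W : Set G.left).Nonempty)
    (h : LocallyOfFiniteType (W.ι ≫ G.hom)) : LocallyOfFiniteType G.hom := by
  have key : ∀ x : G.left, ∃ V : G.left.Opens, x ∈ V ∧ LocallyOfFiniteType (V.ι ≫ G.hom) := by
    intro x
    obtain ⟨L, _, j, N, x', hx', hx, hP⟩ := exists_nbhd G W hW x
    obtain ⟨V, hV, hVl⟩ :=
      exists_open_lft_of_baseChange G.hom j N (hP @LocallyOfFiniteType h) x' hx'
    exact ⟨V, hx ▸ hV, hVl⟩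
  choose V hV hVl using key
  exact IsZariskiLocalAtSource.of_iSup_eq_top (P := @LocallyOfFiniteType) V
    (eq_top_iff.mpr fun x _ => TopologicalSpace.Opens.mem_iSup.mpr ⟨x, hV x⟩) hVl

/-- (field case) locally quasi-finite spreads from a nonempty open. -/
theorem lqf_of_open (W : G.left.Opens) (hW : (W : Set G.left).Nonempty)
    (h : LocallyOfFiniteType (W.ι ≫ G.hom)) (h' : LocallyQuasiFinite (W.ι ≫ G.hom)) :
    LocallyQuasiFinite G.hom := by
  haveI := lft_of_open G W hW h
  rw [locallyQuasiFinite_iff_isDiscrete_preimage_singleton]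
  intro y
  rw [isDiscrete_iff_forall_mem_exists_isOpen]
  intro x hxs
  obtain ⟨L, _, j, N, x', hx', hx, hP⟩ := exists_nbhd G W hW x
  have ho := isOpen_singleton_of_baseChange G.hom j N
    (hP @LocallyQuasiFinite h') x' hx'
  rw [hx] at ho
  exact ⟨{x}, ho, Set.inter_eq_left.mpr (Set.singleton_subset_iff.mpr hxs)⟩

end Groth.Agent.H63.ArtGrp
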