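import Mathlib
import Groth.Agent.H63.ArtGrp
import Groth.Agent.H63.ArtAlgClosed
import Groth.Agent.H51.GrpFieldDesc
import Groth.Agent.H75.ArtinResidueRU
import Groth.Agent.H18.ArtinResidue

/-!
# SGA3 VI_B 1.6: group schemes over a local artinian ring (helper63)
-/

set_option autoImplicit false
set_option linter.style.haveILetI false
universe u
open CategoryTheory CategoryTheory.Limits AlgebraicGeometry MonoidalCategory CartesianMonoidalCategory
open Groth.Agent.H18.ArtinResidue

namespace Groth.Agent.H63.ArtGrpMain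

variable (A : Type u) [CommRing A] [IsArtinianRing A] [IsLocalRing A]

/-- the closed point -/
noncomputable abbrev ι₀ : Spec (CommRingCat.of (IsLocalRing.ResidueField A)) ⟶ Spec (CommRingCat.of A) :=
  Spec.map (CommRingCat.ofHom (IsLocalRing.residue A))

instance : Subsingleton ↥(Spec (CommRingCat.of A)) := by
  show Subsingleton (PrimeSpectrum A)
  infer_instance

variable {A}
variable (G : Over (Spec (CommRingCat.of A))) [GrpObj G]

/-- the closed fibre as a group scheme over the residue field -/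
noncomputable abbrev G₀ : Over (Spec (CommRingCat.of (IsLocalRing.ResidueField A))) :=
  (Over.pullback (ι₀ A)).obj G

noncomputable instance : GrpObj (G₀ G) := Functor.grpObjObj

variable (W : G.left.Opens)

/-- the preimage of `W` in the closed fibre -/
noncomputable abbrev W₀ : (pullback G.hom (ι₀ A)).Opens := (pullback.fst G.hom (ι₀ A)) ⁻¹ᵁ W

instance : Surjective (ι₀ A) :=
  ⟨fun _ => ⟨IsLocalRing.closedPoint _, Subsingleton.elim _ _⟩⟩

omit [GrpObj G] in
lemma W₀_nonempty (hW : (W : Set G.left).Nonempty) : ((W₀ G W : Set ↥(pullback G.hom (ι₀ A)))).Nonempty := by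
  obtain ⟨w, hw⟩ := hW
  obtain ⟨w', rfl⟩ := (pullback.fst G.hom (ι₀ A)).surjective w
  exact ⟨w', hw⟩

omit [IsArtinianRing A] [GrpObj G] in
theorem bc {P : MorphismProperty Scheme.{u}} [P.IsStableUnderBaseChange] (h : P (W.ι ≫ G.hom)) :
    P ((W₀ G W).ι ≫ pullback.snd G.hom (ι₀ A)) := by
  have sq1 := isPullback_morphismRestrict (pullback.fst G.hom (ι₀ A)) W
  have sq2 := IsPullback.of_hasPullback G.hom (ι₀ A)
  exact MorphismProperty.of_isPullback (P := P) (sq1.paste_vert sq2) h

/-- S5340 -/
theorem lft (hW : (W : Set G.left).Nonempty) (h : LocallyOfFiniteType (W.ι ≫ G.hom)) :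
    LocallyOfFiniteType G.hom := by
  apply lft_of_residue
  exact ArtGrp.lft_of_open (G₀ G) (W₀ G W) (W₀_nonempty G W hW) (bc G W h)

theorem lqf (hW : (W : Set G.left).Nonempty) (h : LocallyOfFiniteType (W.ι ≫ G.hom))
    (h' : LocallyQuasiFinite (W.ι ≫ G.hom)) : LocallyQuasiFinite G.hom := by
  apply lqf_of_residue
  exact ArtGrp.lqf_of_open (G₀ G) (W₀ G W) (W₀_nonempty G W hW) (bc G W h) (bc G W h')

set_option backward.isDefEq.respectTransparency false in
theorem unram (hW : (W : Set G.left).Nonempty) (h : LocallyOfFiniteType (W.ι ≫ G.hom))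
    (h' : FormallyUnramified (W.ι ≫ G.hom)) : FormallyUnramified G.hom := by
  apply Groth.Agent.H75.ArtinResidueRU.formallyUnramified_of_residue
  haveI : LocallyOfFiniteType (G₀ G).hom :=
    ArtGrp.lft_of_open (G₀ G) (W₀ G W) (W₀_nonempty G W hW) (bc G W h)
  exact Groth.Agent.H51.GrpFieldDesc.prop_of_open_field_of
    (fun P _ G _ _ W hW h => Groth.Agent.H63.ArtAlgClosed.prop_of_open_algClosed P G W hW h)
    @FormallyUnramified (G₀ G) (W₀ G W) (W₀_nonempty G W hW) (bc G W h')

set_option backward.isDefEq.respectTransparency false in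
theorem smooth [Flat G.hom] (hW : (W : Set G.left).Nonempty) (h' : Smooth (W.ι ≫ G.hom)) :
    Smooth G.hom := by
  have h : LocallyOfFiniteType (W.ι ≫ G.hom) := inferInstance
  haveI : LocallyOfFiniteType G.hom := lft G W hW h
  haveI : LocallyOfFinitePresentation G.hom := inferInstance
  apply smooth_of_residue
  haveI : LocallyOfFiniteType (G₀ G).hom :=
    ArtGrp.lft_of_open (G₀ G) (W₀ G W) (W₀_nonempty G W hW) (bc G W h)
  exact Groth.Agent.H51.GrpFieldDesc.prop_of_open_field_of
    (fun P _ G _ _ W hW h => Groth.Agent.H63.ArtAlgClosed.prop_of_open_algClosed P G W hW h)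
    @Smooth (G₀ G) (W₀ G W) (W₀_nonempty G W hW) (bc G W h')

theorem main [Flat G.hom] (hW : (W : Set G.left).Nonempty) :
    (LocallyQuasiFinite (W.ι ≫ G.hom) → LocallyOfFiniteType (W.ι ≫ G.hom) →
      LocallyQuasiFinite G.hom ∧ LocallyOfFiniteType G.hom) ∧
    (FormallyUnramified (W.ι ≫ G.hom) → LocallyOfFinitePresentation (W.ι ≫ G.hom) →
      FormallyUnramified G.hom ∧ LocallyOfFinitePresentation G.hom) ∧
    (Smooth (W.ι ≫ G.hom) → Smooth G.hom) ∧ (Etale (W.ι ≫ G.hom) → Etale G.hom) := by
  have hfp : LocallyOfFiniteType (W.ι ≫ G.hom) → LocallyOfFinitePresentation G.hom := by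
    intro h
    haveI := lft G W hW h
    infer_instance
  refine ⟨fun h1 h2 => ⟨lqf G W hW h2 h1, lft G W hW h2⟩, fun h1 h2 => ?_, fun h => smooth G W hW h,
    fun h => ?_⟩
  · have h3 : LocallyOfFiniteType (W.ι ≫ G.hom) := inferInstance
    exact ⟨unram G W hW h3 h1, hfp h3⟩
  · have h3 : LocallyOfFiniteType (W.ι ≫ G.hom) := inferInstance
    have h1 : FormallyUnramified (W.ι ≫ G.hom) := inferInstance
    haveI := unram G W hW h3 h1
    haveI := hfp h3
    exact Etale.of_formallyUnramified_of_flat _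

end Groth.Agent.H63.ArtGrpMain
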