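import Groth.Agent.H63.ArtLift

/-!
Small facts on `ArtFun.HomSet`.
-/

set_option autoImplicit false
set_option linter.unusedSectionVars false
universe u v

namespace Groth.Agent.H63

open CategoryTheory ArtFun ArtFun.Art

variable {Λ : Type u} {k : Type u} [CommRing Λ] [Field k] [Algebra Λ k]

theorem homSet_base_ext {R : Type u} [CommRing R] [Algebra Λ R] {resR : R →ₐ[Λ] k}
    (φ₁ φ₂ : HomSet R resR (base Λ k)) : φ₁ = φ₂ := by
  apply Subtype.ext
  have e1 : φ₁.1 = resR := (AlgHom.id_comp φ₁.1).symm.trans φ₁.2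
  have e2 : φ₂.1 = resR := (AlgHom.id_comp φ₂.1).symm.trans φ₂.2
  rw [e1, e2]

theorem homSet_map_comp {R : Type u} [CommRing R] [Algebra Λ R] {resR : R →ₐ[Λ] k}
    {A B C : Art Λ k} (p : A ⟶ B) (q : B ⟶ C) (φ : HomSet R resR A) :
    HomSet.map (p ≫ q) φ = HomSet.map q (HomSet.map p φ) :=
  Subtype.ext (AlgHom.ext fun _ => rfl)

theorem homSet_map_id {R : Type u} [CommRing R] [Algebra Λ R] {resR : R →ₐ[Λ] k}
    {A : Art Λ k} (φ : HomSet R resR A) : HomSet.map (𝟙 A) φ = φ :=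
  Subtype.ext (AlgHom.ext fun _ => rfl)

/-- The point of `h_R(k)`. -/
def homSetBase {R : Type u} [CommRing R] [Algebra Λ R] (resR : R →ₐ[Λ] k) :
    HomSet R resR (base Λ k) := ⟨resR, AlgHom.id_comp _⟩

end Groth.Agent.H63
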