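import Groth.Agent.H63.ArtFibre
import Groth.Agent.H63.ArtNil
import Groth.Agent.H63.ArtC
import Groth.Agent.H63.ArtDer
import Groth.Agent.H63.ArtBasic
import Mathlib.RingTheory.Kaehler.Basic
import Mathlib.LinearAlgebra.Dual.Lemmas
import Mathlib.LinearAlgebra.FiniteDimensional.Lemmas
import Mathlib.RingTheory.TensorProduct.Basic

/-!
Derivations into the residue field and essential surjections in `Art Λ k`, with no separability
assumption (helper63).

For `X` in `Art Λ k` the dual of `k ⊗_X Ω_{X/Λ}` is the space of `Λ`-derivations `X → k`.  A surjection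
`f : B → A` is essential iff every `Λ`-derivation `B → k` kills `ker f`.
-/

set_option autoImplicit false
set_option linter.unusedSectionVars false
set_option linter.unusedVariables false
set_option linter.style.haveILetI false
universe u v

namespace Groth.Agent.H63.DerK

open CategoryTheory ArtFun ArtFun.Art TensorProduct

section General

variable {Λ : Type u} {k : Type u} [CommRing Λ] [Field k] [Algebra Λ k]
variable (X : Type u) [CommRing X] [Algebra Λ X] [Algebra X k] [IsScalarTower Λ X k]

/-- `Hom_X(Ω_{X/Λ}, k) ≃ Der_Λ(X, k)`, `k`-linearly. -/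
noncomputable def homEquivDer : (Ω[X⁄Λ] →ₗ[X] k) ≃ₗ[k] Derivation Λ X k :=
  { toFun := fun l => l.compDer (KaehlerDifferential.D Λ X)
    invFun := fun D => D.liftKaehlerDifferential
    map_add' := fun l l' => by
      ext x
      rfl
    map_smul' := fun c l => by
      ext x
      rfl
    left_inv := fun l =>
      Derivation.liftKaehlerDifferential_unique _ _ (Derivation.liftKaehlerDifferential_comp _)
    right_inv := fun D => Derivation.liftKaehlerDifferential_comp D }

/-- The dual of `k ⊗_X Ω_{X/Λ}` is the space of `Λ`-derivations `X → k`. -/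
noncomputable def dualEquivDer : Module.Dual k (k ⊗[X] Ω[X⁄Λ]) ≃ₗ[k] Derivation Λ X k :=
  (LinearMap.liftBaseChangeEquiv k).symm.trans (homEquivDer X)

theorem finite_tensor [Module.Finite Λ X] : Module.Finite k (k ⊗[X] Ω[X⁄Λ]) := by
  haveI : Module.Finite X Ω[X⁄Λ] := inferInstance
  infer_instance

theorem finite_der [Module.Finite Λ X] : Module.Finite k (Derivation Λ X k) := by
  haveI : Module.Finite k (k ⊗[X] Ω[X⁄Λ]) := finite_tensor X
  exact Module.Finite.equiv (dualEquivDer X)

theorem finrank_der [Module.Finite Λ X] :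
    Module.finrank k (Derivation Λ X k) = Module.finrank k (k ⊗[X] Ω[X⁄Λ]) := by
  haveI : Module.Finite k (k ⊗[X] Ω[X⁄Λ]) := finite_tensor X
  rw [← (dualEquivDer X).finrank_eq, Subspace.dual_finrank_eq]

end General

variable {Λ : Type u} {k : Type u} [CommRing Λ] [Field k] [Algebra Λ k]

/-- `k` as an algebra over an object through its augmentation. -/
@[reducible] noncomputable def algK (X : Art Λ k) : Algebra X k := X.res.toRingHom.toAlgebra

attribute [local instance] algK

theorem isScalarTower_algK (X : Art Λ k) : IsScalarTower Λ X k :=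
  IsScalarTower.of_algebraMap_eq (fun r => (X.res.commutes r).symm)

attribute [local instance] isScalarTower_algK

theorem smul_eq (X : Art Λ k) (x : X) (c : k) : x • c = X.res x * c := by
  rw [Algebra.smul_def]
  rfl

/-- Pull a derivation back along a morphism. -/
noncomputable def pullDer {A B : Art Λ k} (f : B ⟶ A) :
    Derivation Λ A k →ₗ[k] Derivation Λ B k where
  toFun D := Derivation.mk' (D.toLinearMap.comp f.toAlgHom.toLinearMap) (fun b b' => by
      show D (f.toAlgHom (b * b')) = b • D (f.toAlgHom b') + b' • D (f.toAlgHom b)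
      rw [map_mul, Derivation.leibniz, smul_eq, smul_eq, smul_eq, smul_eq, res_app f b,
        res_app f b'])
  map_add' D D' := by
    ext b
    rfl
  map_smul' c D := by
    ext b
    rfl

theorem pullDer_apply {A B : Art Λ k} (f : B ⟶ A) (D : Derivation Λ A k) (b : B) :
    pullDer f D b = D (f b) := rfl

theorem pullDer_injective {A B : Art Λ k} (f : B ⟶ A) (hf : Function.Surjective f) :
    Function.Injective (pullDer f) := by
  intro D D' h
  apply Derivation.ext
  intro a
  obtain ⟨b, rfl⟩ := hf a
  have := DFunLike.congr_fun h b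
  rwa [pullDer_apply, pullDer_apply] at this

/-- A derivation killing the kernel of a surjection factors through it. -/
theorem exists_factor_der {A B : Art Λ k} (f : B ⟶ A) (hf : Function.Surjective f)
    (D : Derivation Λ B k) (h : ∀ x : B, f x = 0 → D x = 0) :
    ∃ D' : Derivation Λ A k, pullDer f D' = D := by
  have hwd : ∀ b b' : B, f b = f b' → D b = D b' := by
    intro b b' e
    have h1 := h (b - b') (by
      show f.toAlgHom (b - b') = 0
      rw [map_sub]
      exact sub_eq_zero.2 e)
    rw [map_sub] at h1
    exact sub_eq_zero.1 h1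
  let s : A → B := Function.surjInv hf
  have hs : ∀ a, f (s a) = a := Function.surjInv_eq hf
  have hs' : ∀ a, f.toAlgHom (s a) = a := hs
  let lin : A →ₗ[Λ] k :=
    { toFun := fun a => D (s a)
      map_add' := fun a a' => by
        rw [← map_add]
        apply hwd
        show f.toAlgHom (s (a + a')) = f.toAlgHom (s a + s a')
        rw [hs', map_add, hs', hs']
      map_smul' := fun r a => by
        rw [RingHom.id_apply, ← Derivation.map_smul]
        apply hwd
        show f.toAlgHom (s (r • a)) = f.toAlgHom (r • s a)
        rw [hs', map_smul, hs'] }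
  have hleib : ∀ a a' : A, lin (a * a') = a • lin a' + a' • lin a := by
    intro a a'
    show D (s (a * a')) = a • D (s a') + a' • D (s a)
    have e1 : D (s (a * a')) = D (s a * s a') := hwd _ _ (by
      show f.toAlgHom (s (a * a')) = f.toAlgHom (s a * s a')
      rw [hs', map_mul, hs', hs'])
    have e2 : ∀ a : A, B.res (s a) = A.res a := fun a => by
      rw [← res_app f (s a), hs]
    rw [e1, Derivation.leibniz, smul_eq, smul_eq, smul_eq, smul_eq, e2, e2]
  refine ⟨Derivation.mk' lin hleib, ?_⟩
  apply Derivation.ext
  intro b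
  show D (s (f b)) = D b
  exact hwd _ _ (hs (f b))

variable [IsNoetherianRing Λ] [Module.Finite Λ k]

theorem finite_base (X : Art Λ k) : Module.Finite Λ X := by
  have h := isFiniteLength_base X
  rw [isFiniteLength_iff_isNoetherian_isArtinian] at h
  haveI := h.1
  infer_instance

/-- A non-surjective morphism is detected by a derivation to `k`. -/
theorem exists_der_of_not_surjective {B C : Art Λ k} (g : C ⟶ B) (hns : ¬ Function.Surjective g) :
    ∃ D : Derivation Λ B k, (∀ c : C, D (g c) = 0) ∧ ∃ b : B, D b ≠ 0 := by
  have hne : Ideal.map g.toAlgHom (IsLocalRing.maximalIdeal C) ⊔ IsLocalRing.maximalIdeal B ^ 2 ≠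
      IsLocalRing.maximalIdeal B := fun h =>
    hns (((Groth.Agent.H63.art_surjective_tfae g).out 1 0).1 h)
  obtain ⟨θ, hfst, hvan, a₀, ha₀⟩ := Groth.Agent.H63.exists_tangent_of_ne (S := B) B.res
    (fun s => mem_maximalIdeal_iff B s) (R' := C) C.res C.res_surjective g.toAlgHom g.res_comp
    (IsLocalRing.maximalIdeal C) (fun r hr => (mem_maximalIdeal_iff C r).2 hr) hne
    (Groth.Agent.H63.map_maximalIdeal_le g)
  have hmul : ∀ a a' : B,
      (θ (a * a')).snd = B.res a * (θ a').snd + B.res a' * (θ a).snd := by
    intro a a'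
    have e : (θ a * θ a').snd = (θ a).fst * (θ a').snd + (θ a).snd * (θ a').fst := rfl
    rw [map_mul, e, hfst, hfst]
    ring
  let lin : B →ₗ[Λ] k :=
    { toFun := fun a => (θ a).snd
      map_add' := fun a a' => by
        rw [map_add]
        rfl
      map_smul' := fun r a => by
        rw [map_smul]
        rfl }
  have hleib : ∀ a a' : B, lin (a * a') = a • lin a' + a' • lin a := by
    intro a a'
    show (θ (a * a')).snd = a • (θ a').snd + a' • (θ a).snd
    rw [hmul, smul_eq, smul_eq]
  exact ⟨Derivation.mk' lin hleib, fun c => hvan c, a₀, ha₀⟩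

/-- If `f` is an essential surjection, every `Λ`-derivation `B → k` kills `ker f`. -/
theorem der_eq_zero_of_essential {A B : Art Λ k} (f : B ⟶ A) (hf : Function.Surjective f)
    (hess : ∀ (C : Art Λ k) (g : C ⟶ B), Function.Surjective (g ≫ f) → Function.Surjective g)
    (D : Derivation Λ B k) (x : B) (hx : f x = 0) : D x = 0 := by
  by_contra hDx
  let S : Subalgebra Λ B :=
    { carrier := {b | D b = 0}
      mul_mem' := fun {a b} ha hb => by
        show D (a * b) = 0
        rw [Derivation.leibniz, show D b = 0 from hb, show D a = 0 from ha, smul_zero, smul_zero,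
          add_zero]
      one_mem' := Derivation.map_one_eq_zero D
      add_mem' := fun {a b} ha hb => by
        show D (a + b) = 0
        rw [map_add, show D a = 0 from ha, show D b = 0 from hb, add_zero]
      zero_mem' := map_zero D
      algebraMap_mem' := fun r => Derivation.map_algebraMap D r }
  have hmemS : ∀ b : B, b ∈ S ↔ D b = 0 := fun b => Iff.rfl
  have hresx : B.res x = 0 := by
    rw [← res_app f x, hx, map_zero]
  have hdec : ∀ b : B, ∃ β : B, b - β * x ∈ S := by
    intro b
    obtain ⟨β, hβ⟩ := B.res_surjective (D b / D x)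
    refine ⟨β, ?_⟩
    rw [hmemS, map_sub, Derivation.leibniz, smul_eq, smul_eq, hresx, zero_mul, add_zero, hβ,
      div_mul_cancel₀ _ hDx, sub_self]
  let π : ↥S →ₐ[Λ] A := f.toAlgHom.comp S.val
  have hπ : Function.Surjective π := by
    intro a
    obtain ⟨b, rfl⟩ := hf a
    obtain ⟨β, hβ⟩ := hdec b
    refine ⟨⟨b - β * x, hβ⟩, ?_⟩
    show f.toAlgHom (b - β * x) = f.toAlgHom b
    rw [map_sub, map_mul, show f.toAlgHom x = 0 from hx, mul_zero, sub_zero]
  obtain ⟨N, hN⟩ := Groth.Agent.H63.exists_maximalIdeal_pow_eq_bot B
  have hm : RingHom.ker π ^ N = ⊥ := by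
    rw [eq_bot_iff]
    intro y hy
    have h1 : Ideal.map S.val (RingHom.ker π) ≤ IsLocalRing.maximalIdeal B := by
      rw [Ideal.map_le_iff_le_comap]
      intro z hz
      rw [Ideal.mem_comap]
      apply Groth.Agent.H63.ker_le_maximalIdeal f
      rw [RingHom.mem_ker]
      exact RingHom.mem_ker.1 hz
    have h2 := Ideal.mem_map_of_mem S.val hy
    rw [Ideal.map_pow] at h2
    have h3 := Ideal.pow_right_mono h1 N h2
    rw [hN] at h3
    rw [Ideal.mem_bot]
    exact Subtype.ext (Ideal.mem_bot.1 h3)
  haveI : Module.Finite Λ B := finite_base B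
  haveI : IsNoetherian Λ B := isNoetherian_of_isNoetherianRing_of_finite Λ B
  haveI : IsNoetherian Λ ↥S := isNoetherian_of_injective S.val.toLinearMap Subtype.val_injective
  haveI : IsNoetherianRing ↥S := isNoetherian_of_tower Λ (inferInstance : IsNoetherian Λ ↥S)
  let C : Art Λ k := Groth.Agent.H63.artOfNilExt π hπ N hm
  let g : C ⟶ B := ⟨S.val, AlgHom.ext fun s => by
    show B.res (S.val s) = A.res (f.toAlgHom (S.val s))
    exact (res_app f _).symm⟩
  have hgf : Function.Surjective (g ≫ f) := by
    intro a
    obtain ⟨s, hs⟩ := hπ a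
    exact ⟨s, hs⟩
  obtain ⟨s, hs⟩ := hess C g hgf x
  apply hDx
  rw [← hs]
  exact s.2

/-- A surjection `f : B → A` is essential iff the cotangent-type spaces `k ⊗ Ω` have the same
dimension. -/
theorem essential_iff_finrank {A B : Art Λ k} (f : B ⟶ A) (hf : Function.Surjective f) :
    (∀ (C : Art Λ k) (g : C ⟶ B), Function.Surjective (g ≫ f) → Function.Surjective g) ↔
      Module.finrank k (k ⊗[B] Ω[B⁄Λ]) = Module.finrank k (k ⊗[A] Ω[A⁄Λ]) := by
  haveI := finite_base A
  haveI := finite_base B
  haveI : Module.Finite k (Derivation Λ A k) := finite_der (X := A)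
  haveI : Module.Finite k (Derivation Λ B k) := finite_der (X := B)
  rw [← finrank_der (X := B), ← finrank_der (X := A)]
  have hinj : Function.Injective (pullDer f) := pullDer_injective f hf
  constructor
  · intro hess
    have hsurj : Function.Surjective (pullDer f) := by
      intro D
      exact exists_factor_der f hf D (fun x hx => der_eq_zero_of_essential f hf hess D x hx)
    exact (LinearEquiv.ofBijective (pullDer f) ⟨hinj, hsurj⟩).finrank_eq.symm
  · intro hfr C g hgf
    by_contra hns
    obtain ⟨D, hD0, b, hb⟩ := exists_der_of_not_surjective g hns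
    have hsurj : Function.Surjective (pullDer f) :=
      (LinearMap.injective_iff_surjective_of_finrank_eq_finrank hfr.symm).1 hinj
    obtain ⟨D', rfl⟩ := hsurj D
    apply hb
    obtain ⟨c, hc⟩ := hgf (f b)
    rw [pullDer_apply, ← hc]
    exact hD0 c

end Groth.Agent.H63.DerK
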