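import Groth.Agent.H63.ArtBasic
import Groth.Prelude.Def_ArtFun3

/-!
The least ideal over which an element lifts, for a functor satisfying `(S1)` (helper63).
-/

set_option autoImplicit false
set_option linter.unusedSectionVars false
set_option linter.unusedVariables false
universe u v

namespace Groth.Agent.H63.LeastIdeal

open CategoryTheory ArtFun ArtFun.Art

variable {Λ : Type u} {k : Type u} [CommRing Λ] [Field k] [Algebra Λ k]
variable {F : Art Λ k ⥤ Type v} {B A : Art Λ k}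

theorem quotMap_quotFactor (B : Art Λ k) {I J : Ideal B} (hI : I ≤ IsLocalRing.maximalIdeal B)
    (hJ : J ≤ IsLocalRing.maximalIdeal B) (hIJ : I ≤ J) (p : B ⟶ A)
    (hJK : J ≤ RingHom.ker p.toAlgHom) :
    quotMap B hI hJ hIJ ≫ quotFactor hJ p hJK = quotFactor hI p (hIJ.trans hJK) := by
  apply hom_ext
  apply AlgHom.ext
  intro z
  obtain ⟨b, rfl⟩ := quotMk_surjective B _ hI z
  rfl

/-- `x` lifts to the quotient by `J`. -/
def Lifts (p : B ⟶ A) (x : F.obj A) (J : Ideal B) : Prop :=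
  ∃ (hJ : J ≤ RingHom.ker p.toAlgHom) (hJ' : J ≤ IsLocalRing.maximalIdeal B)
    (y : F.obj (quot B J hJ')), F.map (quotFactor hJ' p hJ) y = x

theorem lifts_ker (p : B ⟶ A) (hp : Function.Surjective p) (x : F.obj A) :
    Lifts p x (RingHom.ker p.toAlgHom) := by
  have hKm := ker_le_maximalIdeal p
  have hbij : Function.Bijective (quotFactor hKm p le_rfl) := by
    constructor
    · intro y z hyz
      obtain ⟨b, rfl⟩ := quotMk_surjective B _ hKm y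
      obtain ⟨c, rfl⟩ := quotMk_surjective B _ hKm z
      have h1 : p b = p c := hyz
      have h2 : b - c ∈ RingHom.ker p.toAlgHom := by
        rw [RingHom.mem_ker, map_sub, sub_eq_zero]
        exact h1
      exact (quotMk_eq_iff B _ b c).2 h2
    · intro a
      obtain ⟨b, hb⟩ := hp a
      exact ⟨quotMk B _ hKm b, hb⟩
  haveI : IsIso (quotFactor hKm p le_rfl) := isIso_of_bijective _ hbij
  refine ⟨le_rfl, hKm, F.map (inv (quotFactor hKm p le_rfl)) x, ?_⟩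
  rw [← Functor.map_comp_apply, IsIso.inv_hom_id, Functor.map_id_apply]

theorem lifts_mono (p : B ⟶ A) (x : F.obj A) {J J' : Ideal B} (hJJ' : J ≤ J')
    (hJ'K : J' ≤ RingHom.ker p.toAlgHom) (h : Lifts p x J) : Lifts p x J' := by
  obtain ⟨hJ, hJm, y, hy⟩ := h
  have hJ'm := hJ'K.trans (ker_le_maximalIdeal p)
  refine ⟨hJ'K, hJ'm, F.map (quotMap B hJm hJ'm hJJ') y, ?_⟩
  rw [← Functor.map_comp_apply, quotMap_quotFactor]
  exact hy

theorem lifts_inf (h1 : S1 F) (p : B ⟶ A) (hp : Function.Surjective p) (x : F.obj A)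
    {J₁ J₂ : Ideal B} (hsup : J₁ ⊔ J₂ = RingHom.ker p.toAlgHom) (h₁ : Lifts p x J₁)
    (h₂ : Lifts p x J₂) : Lifts p x (J₁ ⊓ J₂) := by
  obtain ⟨hJ₁, hJ₁', y₁, hy₁⟩ := h₁
  obtain ⟨hJ₂, hJ₂', y₂, hy₂⟩ := h₂
  have hJ : J₁ ⊓ J₂ ≤ RingHom.ker p.toAlgHom := inf_le_left.trans hJ₁
  have hJ' : J₁ ⊓ J₂ ≤ IsLocalRing.maximalIdeal B := inf_le_left.trans hJ₁'
  have hfp : IsFibreProd (quotMap B hJ' hJ₁' inf_le_left) (quotMap B hJ' hJ₂' inf_le_right)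
      (quotFactor hJ₁' p hJ₁) (quotFactor hJ₂' p hJ₂) := by
    refine ⟨?_, ?_, ?_⟩
    · rw [quotMap_quotFactor, quotMap_quotFactor]
    · intro c₁ c₂ e₁ e₂
      obtain ⟨b₁, rfl⟩ := quotMk_surjective B _ hJ' c₁
      obtain ⟨b₂, rfl⟩ := quotMk_surjective B _ hJ' c₂
      rw [quotMap_quotMk, quotMap_quotMk, quotMk_eq_iff] at e₁ e₂
      rw [quotMk_eq_iff]
      exact Submodule.mem_inf.2 ⟨e₁, e₂⟩
    · intro a' a'' haa
      obtain ⟨b₁, rfl⟩ := quotMk_surjective B _ hJ₁' a'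
      obtain ⟨b₂, rfl⟩ := quotMk_surjective B _ hJ₂' a''
      have hpb : p b₁ = p b₂ := haa
      have hmem : b₁ - b₂ ∈ J₁ ⊔ J₂ := by
        rw [hsup, RingHom.mem_ker, map_sub, sub_eq_zero]
        exact hpb
      obtain ⟨j₁, hj₁, j₂, hj₂, hj⟩ := Submodule.mem_sup.1 hmem
      refine ⟨quotMk B _ hJ' (b₁ - j₁), ?_, ?_⟩
      · rw [quotMap_quotMk, quotMk_eq_iff]
        have e : b₁ - j₁ - b₁ = -j₁ := by ring
        rw [e]
        exact neg_mem hj₁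
      · rw [quotMap_quotMk, quotMk_eq_iff]
        have e : b₁ - j₁ - b₂ = j₂ := by linear_combination (-1 : B) * hj
        rw [e]
        exact hj₂
  have hf₂ : Function.Surjective (quotFactor hJ₂' p hJ₂) := by
    intro a
    obtain ⟨b, hb⟩ := hp a
    exact ⟨quotMk B _ hJ₂' b, hb⟩
  obtain ⟨y, hy⟩ := h1 _ _ _ _ hfp hf₂ ⟨(y₁, y₂), hy₁.trans hy₂.symm⟩
  have hy1 : F.map (quotMap B hJ' hJ₁' inf_le_left) y = y₁ := congrArg (fun t => t.1.1) hy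
  refine ⟨hJ, hJ', y, ?_⟩
  have e : quotFactor hJ' p hJ = quotMap B hJ' hJ₁' inf_le_left ≫ quotFactor hJ₁' p hJ₁ :=
    (quotMap_quotFactor B hJ' hJ₁' inf_le_left p hJ₁).symm
  rw [e, Functor.map_comp_apply, hy1, hy₁]

theorem exists_enlarge (B : Art Λ k) (K J₀ J : Ideal B)
    (hK : IsLocalRing.maximalIdeal B * K = ⊥) (hJ₀ : J₀ ≤ K) (hJ : J ≤ K) :
    ∃ J' : Ideal B, J ≤ J' ∧ J' ≤ K ∧ J₀ ⊓ J' ≤ J ∧ J₀ ⊔ J' = K := by
  classical
  obtain ⟨J', ⟨hJJ', hJ'K, hinf⟩, hmax⟩ :=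
    set_has_maximal_iff_noetherian.2 (inferInstance : IsNoetherian B B)
      {J' : Ideal B | J ≤ J' ∧ J' ≤ K ∧ J₀ ⊓ J' ≤ J} ⟨J, le_rfl, hJ, inf_le_right⟩
  refine ⟨J', hJJ', hJ'K, hinf, ?_⟩
  by_contra hne
  have hlt : J₀ ⊔ J' < K := lt_of_le_of_ne (sup_le hJ₀ hJ'K) hne
  obtain ⟨t, htK, htn⟩ := SetLike.exists_of_lt hlt
  have hmem : J' ⊔ Ideal.span {t} ∈ {J' : Ideal B | J ≤ J' ∧ J' ≤ K ∧ J₀ ⊓ J' ≤ J} := by
    refine ⟨hJJ'.trans le_sup_left, sup_le hJ'K ((Ideal.span_singleton_le_iff_mem _).2 htK), ?_⟩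
    intro z hz'
    obtain ⟨hz0, hz⟩ := Submodule.mem_inf.1 hz'
    obtain ⟨j', hj', w, hw, rfl⟩ := Submodule.mem_sup.1 hz
    obtain ⟨b, rfl⟩ := Ideal.mem_span_singleton'.1 hw
    by_cases hb : b ∈ IsLocalRing.maximalIdeal B
    · have h0 : b * t = 0 := by
        have := Ideal.mul_mem_mul hb htK
        rw [hK] at this
        exact (Ideal.mem_bot).1 this
      rw [h0, add_zero] at hz0 ⊢
      exact hinf (Submodule.mem_inf.2 ⟨hz0, hj'⟩)
    · exfalso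
      have hu : IsUnit b := by
        by_contra hnu
        exact hb ((IsLocalRing.mem_maximalIdeal b).2 hnu)
      obtain ⟨u, rfl⟩ := hu
      apply htn
      have ht : (↑u⁻¹ : B) * (j' + ↑u * t) - ↑u⁻¹ * j' = t := by
        linear_combination t * (Units.inv_mul u)
      have hmem' : (↑u⁻¹ : B) * (j' + ↑u * t) - ↑u⁻¹ * j' ∈ J₀ ⊔ J' :=
        Submodule.sub_mem _ (Submodule.mem_sup_left (Ideal.mul_mem_left _ _ hz0))
          (Submodule.mem_sup_right (Ideal.mul_mem_left _ _ hj'))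
      rwa [ht] at hmem'
  have hlt' : J' < J' ⊔ Ideal.span {t} := by
    refine lt_of_le_of_ne le_sup_left fun h => htn ?_
    have h2 : t ∈ J' ⊔ Ideal.span {t} :=
      Submodule.mem_sup_right (Ideal.mem_span_singleton_self t)
    rw [← h] at h2
    exact Submodule.mem_sup_right h2
  exact hmax _ hmem hlt'

theorem exists_least (h1 : S1 F) (p : B ⟶ A) (hp : IsSemismallExt p) (x : F.obj A) :
    ∃ J₀ : Ideal B, Lifts p x J₀ ∧ ∀ J, Lifts p x J → J₀ ≤ J := by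
  classical
  obtain ⟨J₀, hJ₀S, hmin⟩ := set_has_minimal_iff_artinian.2 (inferInstance : IsArtinian B B)
    {J : Ideal B | Lifts p x J} ⟨_, lifts_ker p hp.1 x⟩
  have hJ₀S' : Lifts p x J₀ := hJ₀S
  refine ⟨J₀, hJ₀S', fun J hJS => ?_⟩
  have hJ₀K : J₀ ≤ RingHom.ker p.toAlgHom := by
    obtain ⟨h, -⟩ := hJ₀S'
    exact h
  have hJK : J ≤ RingHom.ker p.toAlgHom := by
    obtain ⟨h, -⟩ := hJS
    exact h
  obtain ⟨J', hJJ', hJ'K, hinf, hsup⟩ :=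
    exists_enlarge B (RingHom.ker p.toAlgHom) J₀ J hp.2 hJ₀K hJK
  have hJ'S : Lifts p x J' := lifts_mono p x hJJ' hJ'K hJS
  have hinfS : Lifts p x (J₀ ⊓ J') := lifts_inf h1 p hp.1 x hsup hJ₀S' hJ'S
  have heq : J₀ ⊓ J' = J₀ := by
    by_contra hne
    exact hmin _ hinfS (lt_of_le_of_ne inf_le_left hne)
  calc J₀ = J₀ ⊓ J' := heq.symm
    _ ≤ J := hinf

theorem main (h1 : S1 F) (p : B ⟶ A) (hp : IsSemismallExt p) (x : F.obj A) :
    ∃ (J₀ : Ideal B) (hJ₀ : J₀ ≤ RingHom.ker p.toAlgHom)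
      (hJ₀' : J₀ ≤ IsLocalRing.maximalIdeal B),
      (∃ y : F.obj (quot B J₀ hJ₀'), F.map (quotFactor hJ₀' p hJ₀) y = x) ∧
      ∀ (J : Ideal B) (hJ : J ≤ RingHom.ker p.toAlgHom)
        (hJ' : J ≤ IsLocalRing.maximalIdeal B),
        (∃ y : F.obj (quot B J hJ'), F.map (quotFactor hJ' p hJ) y = x) → J₀ ≤ J := by
  obtain ⟨J₀, ⟨hJ₀, hJ₀', y, hy⟩, hleast⟩ := exists_least h1 p hp x
  exact ⟨J₀, hJ₀, hJ₀', ⟨y, hy⟩, fun J hJ hJ' ⟨y', hy'⟩ => hleast J ⟨hJ, hJ', y', hy'⟩⟩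

end Groth.Agent.H63.LeastIdeal
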