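import Groth.Agent.H63.ArtFibre

/-!
For a small extension `μ : B ⟶ A` the fibre product `B ×_A B` is also the fibre product
`B ×_k k[ε]`: the second projection is replaced by `(b₁, b₂) ↦ res b₁ + λ(b₂ - b₁) ε`.
-/

set_option autoImplicit false
set_option linter.unusedSectionVars false
universe u v

namespace Groth.Agent.H63

open CategoryTheory ArtFun ArtFun.Art

variable {Λ : Type u} {k : Type u} [CommRing Λ] [Field k] [Algebra Λ k]

theorem res_eq_zero_of_mul_eq_zero {B : Art Λ k} {t b : B} (ht : t ≠ 0) (h : b * t = 0) :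
    B.res b = 0 := by
  rw [← mem_maximalIdeal_iff]
  by_contra hb
  have hu : IsUnit b := by
    by_contra hnu
    exact hb ((IsLocalRing.mem_maximalIdeal b).2 hnu)
  exact ht (hu.mul_right_eq_zero.1 h)

theorem exists_theta {A B C : Art Λ k} {μ : B ⟶ A} {q₁ q₂ : C ⟶ B}
    (hC : IsFibreProd q₁ q₂ μ μ) (hsm : IsSmallExt μ) :
    ∃ θ : C ⟶ dual Λ k, IsFibreProd q₁ θ (toBase B) (toBase (dual Λ k)) := by
  classical
  obtain ⟨hμ, hne, ⟨⟨t, ht⟩⟩, hmk⟩ := hsm
  have ht0 : t ≠ 0 := by
    rintro rfl
    apply hne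
    rw [ht]
    exact Ideal.span_singleton_eq_bot.2 rfl
  have htker : t ∈ RingHom.ker μ.toAlgHom := by
    rw [ht]
    exact Ideal.mem_span_singleton_self t
  have hμt : μ t = 0 := RingHom.mem_ker.1 htker
  have hmt : ∀ y : B, B.res y = 0 → y * t = 0 := by
    intro y hy
    have hy' : y ∈ IsLocalRing.maximalIdeal B := (mem_maximalIdeal_iff B y).2 hy
    have hmem := Ideal.mul_mem_mul hy' htker
    rw [hmk] at hmem
    exact Ideal.mem_bot.1 hmem
  have hres0 : ∀ b : B, b * t = 0 → B.res b = 0 :=
    fun b hb => res_eq_zero_of_mul_eq_zero ht0 hb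
  have hq : ∀ c : C, μ (q₁ c) = μ (q₂ c) := fun c => hC.w_apply c
  have hqres : ∀ c : C, B.res (q₂ c) = B.res (q₁ c) := by
    intro c
    rw [← res_app μ (q₂ c), ← hq c, res_app]
  have hex : ∀ c : C, ∃ b : B, b * t = q₂ c - q₁ c := by
    intro c
    have hmem : q₂ c - q₁ c ∈ RingHom.ker μ.toAlgHom := by
      rw [RingHom.mem_ker, map_sub, sub_eq_zero]
      exact (hq c).symm
    rw [ht] at hmem
    exact Ideal.mem_span_singleton'.1 hmem
  choose β hβ using hex
  have key : ∀ (c : C) (b : B), b * t = q₂ c - q₁ c → B.res (β c) = B.res b := by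
    intro c b hb
    have h0 : (β c - b) * t = 0 := by rw [sub_mul, hβ c, hb, sub_self]
    have h1 := hres0 _ h0
    rwa [map_sub, sub_eq_zero] at h1
  let θf : C →ₐ[Λ] TrivSqZeroExt k k :=
    { toFun := fun c => (B.res (q₁ c), B.res (β c))
      map_one' := by
        have h0 : (0 : B) * t = q₂ 1 - q₁ 1 := by
          rw [zero_mul, map_one q₂.toAlgHom, map_one q₁.toAlgHom, sub_self]
        have h1 : B.res (β 1) = 0 := by rw [key 1 0 h0, map_zero]
        refine TrivSqZeroExt.ext ?_ ?_
        · change B.res (q₁ 1) = 1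
          rw [map_one q₁.toAlgHom, map_one]
        · change B.res (β 1) = 0
          exact h1
      map_mul' := fun c c' => by
        have hmul : (q₂ c * β c' + q₁ c' * β c) * t = q₂ (c * c') - q₁ (c * c') := by
          rw [map_mul q₂.toAlgHom, map_mul q₁.toAlgHom]
          calc (q₂ c * β c' + q₁ c' * β c) * t
              = q₂ c * (β c' * t) + q₁ c' * (β c * t) := by ring
            _ = q₂ c * (q₂ c' - q₁ c') + q₁ c' * (q₂ c - q₁ c) := by rw [hβ c, hβ c']
            _ = q₂ c * q₂ c' - q₁ c * q₁ c' := by ring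
        have h1 : B.res (β (c * c')) =
            B.res (q₁ c) * B.res (β c') + B.res (q₁ c') * B.res (β c) := by
          rw [key (c * c') _ hmul, map_add, map_mul, map_mul, hqres]
        refine TrivSqZeroExt.ext ?_ ?_
        · change B.res (q₁ (c * c')) = B.res (q₁ c) * B.res (q₁ c')
          rw [map_mul q₁.toAlgHom, map_mul]
        · change B.res (β (c * c')) =
            B.res (q₁ c) • B.res (β c') + MulOpposite.op (B.res (q₁ c')) • B.res (β c)
          rw [h1, op_smul_eq_smul, smul_eq_mul, smul_eq_mul]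
      map_zero' := by
        have h0 : (0 : B) * t = q₂ 0 - q₁ 0 := by
          rw [zero_mul, map_zero q₂.toAlgHom, map_zero q₁.toAlgHom, sub_self]
        have h1 : B.res (β 0) = 0 := by rw [key 0 0 h0, map_zero]
        refine TrivSqZeroExt.ext ?_ ?_
        · change B.res (q₁ 0) = 0
          rw [map_zero q₁.toAlgHom, map_zero]
        · change B.res (β 0) = 0
          exact h1
      map_add' := fun c c' => by
        have hadd : (β c + β c') * t = q₂ (c + c') - q₁ (c + c') := by
          rw [map_add q₂.toAlgHom, map_add q₁.toAlgHom, add_mul, hβ c, hβ c']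
          ring
        have h1 : B.res (β (c + c')) = B.res (β c) + B.res (β c') := by
          rw [key (c + c') _ hadd, map_add]
        refine TrivSqZeroExt.ext ?_ ?_
        · change B.res (q₁ (c + c')) = B.res (q₁ c) + B.res (q₁ c')
          rw [map_add q₁.toAlgHom, map_add]
        · change B.res (β (c + c')) = B.res (β c) + B.res (β c')
          exact h1
      commutes' := fun r => by
        have h0 : (0 : B) * t = q₂ (algebraMap Λ C r) - q₁ (algebraMap Λ C r) := by
          rw [zero_mul, AlgHom.commutes q₂.toAlgHom, AlgHom.commutes q₁.toAlgHom, sub_self]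
        have h1 : B.res (β (algebraMap Λ C r)) = 0 := by rw [key _ 0 h0, map_zero]
        rw [TrivSqZeroExt.algebraMap_eq_inl']
        refine TrivSqZeroExt.ext ?_ ?_
        · change B.res (q₁ (algebraMap Λ C r)) = algebraMap Λ k r
          rw [AlgHom.commutes q₁.toAlgHom, AlgHom.commutes]
        · change B.res (β (algebraMap Λ C r)) = 0
          exact h1 }
  have hθres : (dual Λ k).res.comp θf = C.res := by
    apply AlgHom.ext
    intro c
    exact res_app q₁ c
  refine ⟨⟨θf, hθres⟩, ?_, ?_, ?_⟩
  · rw [eq_toBase (q₁ ≫ toBase B), eq_toBase (_ ≫ toBase (dual Λ k))]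
  · intro c c' h1 h2
    have h2' : B.res (β c) = B.res (β c') := congrArg TrivSqZeroExt.snd h2
    apply hC.inj c c' h1
    have h3 : (β c - β c') * t = 0 := hmt _ (by rw [map_sub, h2', sub_self])
    have h4 : q₂ c - q₁ c = q₂ c' - q₁ c' := by
      rw [← hβ c, ← hβ c']
      rw [sub_mul, sub_eq_zero] at h3
      exact h3
    have h1' : q₁ c = q₁ c' := h1
    rw [h1'] at h4
    exact sub_left_injective h4
  · intro b d hbd
    have hbd' : B.res b = TrivSqZeroExt.fst d := hbd
    obtain ⟨ct, hct⟩ := B.res_surjective (TrivSqZeroExt.snd d)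
    have hmem : μ b = μ (b + ct * t) := by
      rw [map_add μ.toAlgHom, map_mul μ.toAlgHom, hμt, mul_zero, add_zero]
    obtain ⟨c, hc1, hc2⟩ := hC.surj b (b + ct * t) hmem
    refine ⟨c, hc1, ?_⟩
    refine TrivSqZeroExt.ext ?_ ?_
    · change B.res (q₁ c) = TrivSqZeroExt.fst d
      rw [hc1, hbd']
    · change B.res (β c) = TrivSqZeroExt.snd d
      rw [key c ct (by rw [hc1, hc2, add_sub_cancel_left]), hct]

end Groth.Agent.H63
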