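import Groth.Agent.S12732
import Groth.Agent.S12757
import Groth.Agent.S12758
import Groth.Agent.H61.TangentStrBuild
import Groth.Agent.H61.SchlessProrep
import Groth.Agent.H63.ArtPS

/-!
Minimal versal families are hulls when `k` has no `Λ`-derivations (helper63).
-/

set_option autoImplicit false
set_option linter.unusedSectionVars false
set_option linter.unusedVariables false
set_option linter.style.haveILetI false
universe u v

namespace Groth.Agent.H63

open CategoryTheory ArtFun ArtFun.Art Groth.Agent.H61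

variable {Λ : Type u} {k : Type u} [CommRing Λ] [Field k] [Algebra Λ k]

section NoDer

variable {R : Type u} [CommRing R] [Algebra Λ R] {resR : R →ₐ[Λ] k}

/-- Maps to the dual numbers agreeing on generators of the augmentation ideal are equal, when `k`
has no nonzero `Λ`-derivation. -/
theorem homSet_dual_ext_of_noDer (hk : Subsingleton (Derivation Λ k k))
    (hres : Function.Surjective resR)
    {n : ℕ} (g : Fin n → R) (hg0 : ∀ i, resR (g i) = 0)
    (hg : ∀ r : R, resR r = 0 → r ∈ Ideal.span (Set.range g))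
    (φ₁ φ₂ : HomSet R resR (dual Λ k)) (h : ∀ i, dsnd (φ₁.1 (g i)) = dsnd (φ₂.1 (g i))) :
    φ₁ = φ₂ := by
  classical
  let D : R → k := fun r => dsnd (φ₁.1 r) - dsnd (φ₂.1 r)
  have hD : ∀ r, D r = dsnd (φ₁.1 r) - dsnd (φ₂.1 r) := fun r => rfl
  have hDadd : ∀ a b, D (a + b) = D a + D b := by
    intro a b
    rw [hD, hD, hD, map_add, map_add, dsnd_add, dsnd_add]; ring
  have hDzero : D 0 = 0 := by rw [hD, map_zero, map_zero, sub_self]
  have hDmul : ∀ a b, D (a * b) = resR a * D b + resR b * D a := by
    intro a b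
    rw [hD, hD, hD, map_mul, map_mul, dsnd_mul, dsnd_mul, dfst_homSet, dfst_homSet,
      dfst_homSet, dfst_homSet]; ring
  have hDalg : ∀ l : Λ, D (algebraMap Λ R l) = 0 := by
    intro l
    rw [hD, AlgHom.commutes, AlgHom.commutes, sub_self]
  have hDg : ∀ i, D (g i) = 0 := fun i => by rw [hD, h i, sub_self]
  have hDker : ∀ m, resR m = 0 → D m = 0 := by
    intro m hm
    obtain ⟨c, rfl⟩ := (Ideal.mem_span_range_iff_exists_fun).1 (hg m hm)
    have hDsum : ∀ s : Finset (Fin n), D (∑ i ∈ s, c i * g i) = 0 := by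
      intro s
      induction s using Finset.induction_on with
      | empty => rw [Finset.sum_empty]; exact hDzero
      | insert a s ha ih =>
        rw [Finset.sum_insert ha, hDadd, ih, add_zero, hDmul, hDg, hg0, mul_zero, zero_mul,
          add_zero]
    exact hDsum Finset.univ
  have hDeq : ∀ a b, resR a = resR b → D a = D b := by
    intro a b hab
    have h1 : D (a - b) = 0 := hDker _ (by rw [map_sub, hab, sub_self])
    have h2 : D a = D (b + (a - b)) := by congr 1; ring
    rw [h2, hDadd, h1, add_zero]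
  let s : k → R := Function.surjInv hres
  have hs : ∀ c, resR (s c) = c := Function.surjInv_eq hres
  let Dbar : k → k := fun c => D (s c)
  have hbar : ∀ r, Dbar (resR r) = D r := fun r => hDeq _ _ (hs _)
  have hbar_add : ∀ c c', Dbar (c + c') = Dbar c + Dbar c' := by
    intro c c'
    show D (s (c + c')) = D (s c) + D (s c')
    rw [← hDadd]
    exact hDeq _ _ (by rw [hs, map_add, hs, hs])
  have hbar_mul : ∀ c c', Dbar (c * c') = c * Dbar c' + c' * Dbar c := by
    intro c c'
    show D (s (c * c')) = c * D (s c') + c' * D (s c)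
    have h1 : D (s (c * c')) = D (s c * s c') := hDeq _ _ (by rw [hs, map_mul, hs, hs])
    rw [h1, hDmul, hs, hs]
  have hbar_alg : ∀ l : Λ, Dbar (algebraMap Λ k l) = 0 := by
    intro l
    show D (s (algebraMap Λ k l)) = 0
    rw [hDeq (s (algebraMap Λ k l)) (algebraMap Λ R l) (by rw [hs, AlgHom.commutes]), hDalg]
  let Dl : k →ₗ[Λ] k :=
    { toFun := Dbar
      map_add' := hbar_add
      map_smul' := fun l c => by
        show Dbar (l • c) = l • Dbar c
        rw [Algebra.smul_def, hbar_mul, hbar_alg, mul_zero, add_zero, Algebra.smul_def] }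
  let Dd : Derivation Λ k k := Derivation.mk' Dl (fun a b => by
    show Dbar (a * b) = a • Dbar b + b • Dbar a
    rw [hbar_mul, smul_eq_mul, smul_eq_mul])
  have hzero : ∀ c, Dbar c = 0 := fun c => by
    have h1 : Dd = 0 := Subsingleton.elim _ _
    have h2 : Dd c = 0 := by rw [h1]; rfl
    exact h2
  apply homSet_ext
  intro r
  apply dual_ext
  · rw [dfst_homSet, dfst_homSet]
  · have h1 : D r = 0 := by rw [← hbar, hzero]
    exact sub_eq_zero.1 h1

end NoDer

variable {F : Art Λ k ⥤ Type v}

/-- A functor with a universal family over a Noetherian coefficient ring has a finite-dimensional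
tangent space (no-derivation case). -/
theorem hfin_of_isUniversal_noDer (hk : Subsingleton (Derivation Λ k k)) [T : TangentStr F]
    (S : CRing Λ k) (ξ : Family S.carrier S.res F) (hu : IsUniversal ξ) : Hfin F := by
  obtain ⟨n, g, hg⟩ := Submodule.fg_iff_exists_fin_generating_family.1
    ((isNoetherianRing_iff_ideal_fg S.carrier).1 inferInstance (IsLocalRing.maximalIdeal S.carrier))
  have hg0 : ∀ i, S.res (g i) = 0 := fun i =>
    (S.mem_maximalIdeal_iff _).1 (hg ▸ Submodule.subset_span ⟨i, rfl⟩)
  have hgm : ∀ r, S.res r = 0 → r ∈ Ideal.span (Set.range g) := fun r hr => by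
    change r ∈ Submodule.span S.carrier (Set.range g)
    rw [hg]; exact (S.mem_maximalIdeal_iff r).2 hr
  have hsurj : ∀ x : F.obj (dual Λ k), ∃ φ, ξ.app (dual Λ k) φ = x := (hu (dual Λ k)).2
  choose inv hinv using hsurj
  have hinv' : ∀ φ, inv (ξ.app (dual Λ k) φ) = φ := fun φ => (hu (dual Λ k)).1 (hinv _)
  let Φ : TangentSpace F → (Fin n → k) := fun x i => dsnd ((inv (TangentSpace.val x)).1 (g i))
  have hadd : ∀ x y : TangentSpace F, Φ (x + y) = Φ x + Φ y := by
    intro x y
    obtain ⟨χ, hχ1, hχ2⟩ := _root_.H61.fibreProd_lift isFibreProd_dual2 (inv (TangentSpace.val x))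
      (inv (TangentSpace.val y)) (@Subsingleton.elim _ _root_.H61.homSet_base_subsingleton _ _)
    have hx : F.map pr₁ (ξ.app _ χ) = TangentSpace.val x := by
      rw [← ξ.natural, hχ1, hinv]
    have hy : F.map pr₂ (ξ.app _ χ) = TangentSpace.val y := by
      rw [← ξ.natural, hχ2, hinv]
    have hxy : TangentSpace.val (x + y) = ξ.app _ (HomSet.map plus χ) := by
      rw [ξ.natural, ← T.add_eq, hx, hy]
      rfl
    funext i
    change dsnd ((inv (TangentSpace.val (x + y))).1 (g i)) =
      dsnd ((inv (TangentSpace.val x)).1 (g i)) + dsnd ((inv (TangentSpace.val y)).1 (g i))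
    rw [hxy, hinv', ← hχ1, ← hχ2]
    exact dsnd_plus _
  have hsmul : ∀ (c : k) (x : TangentSpace F), Φ (c • x) = c • Φ x := by
    intro c x
    have hcx : TangentSpace.val (c • x) =
        ξ.app _ (HomSet.map (scale c) (inv (TangentSpace.val x))) := by
      rw [ξ.natural, hinv]
      exact T.smul_eq c x
    funext i
    change dsnd ((inv (TangentSpace.val (c • x))).1 (g i)) =
      c • dsnd ((inv (TangentSpace.val x)).1 (g i))
    rw [hcx, hinv']
    exact dsnd_scale _ _
  have hinj : Function.Injective Φ := by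
    intro x y hxy
    have h1 : inv (TangentSpace.val x) = inv (TangentSpace.val y) :=
      homSet_dual_ext_of_noDer hk S.res_surjective g hg0 hgm _ _ (fun i => congrFun hxy i)
    have h2 := congrArg (ξ.app (dual Λ k)) h1
    rw [hinv, hinv] at h2
    exact h2
  let L : TangentSpace F →ₗ[k] (Fin n → k) :=
    { toFun := Φ, map_add' := hadd, map_smul' := hsmul }
  exact Module.Finite.of_injective L hinj

/-- A functor with a versal family satisfies `(S1)`. -/
theorem s1_of_versal (h0 : H0 F) {S : CRing Λ k} (ξ : Family S.carrier S.res F)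
    (hv : IsVersal ξ) : S1 F := by
  intro B A A' A'' p' p'' f' f'' h hf'' x
  obtain ⟨⟨a', a''⟩, hx⟩ := x
  have hx' : F.map f' a' = F.map f'' a'' := hx
  obtain ⟨φ', -, hφ'⟩ := hv (toBase A') A'.res_surjective (homSetBase S.res) a'
    (@Subsingleton.elim _ h0.2 _ _)
  have h1 : F.map f'' a'' = ξ.app A (HomSet.map f' φ') := by rw [ξ.natural, hφ', hx']
  obtain ⟨φ'', hφ''1, hφ''2⟩ := hv f'' hf'' (HomSet.map f' φ') a'' h1
  obtain ⟨ψ, hψ1, hψ2⟩ := _root_.H61.fibreProd_lift h φ' φ'' hφ''1.symm
  refine ⟨ξ.app B ψ, Subtype.ext (Prod.ext ?_ ?_)⟩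
  · show F.map p' (ξ.app B ψ) = a'
    rw [← ξ.natural, hψ1, hφ']
  · show F.map p'' (ξ.app B ψ) = a''
    rw [← ξ.natural, hψ2, hφ''2]

/-- A functor with a versal family over a Noetherian coefficient ring has a finite-dimensional
tangent space (no-derivation case). -/
theorem hfin_of_versal (hk : Subsingleton (Derivation Λ k k)) [T : TangentStr F] (h0 : H0 F)
    (S : CRing Λ k) (ξ : Family S.carrier S.res F) (hv : IsVersal ξ) : Hfin F := by
  have hle : IsLeftExact (hR S.carrier S.res) := hR_leftExact S.res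
  have h0S : H0 (hR S.carrier S.res) := hR_h0 S.res
  have h2S : Heps (hR S.carrier S.res) := fun B A' p' p'' h => hle p' p'' _ _ h
  letI TS : TangentStr (hR S.carrier S.res) := Groth.Agent.H61.TS.tangentStr h0S h2S
  haveI hfinS : Module.Finite k (TangentSpace (hR S.carrier S.res)) :=
    hfin_of_isUniversal_noDer hk S (Family.self S.carrier S.res) (fun _ => Function.bijective_id)
  have hadd : ∀ x y : TangentSpace (hR S.carrier S.res),
      TangentSpace.ofFamily ξ (x + y) = TangentSpace.ofFamily ξ x + TangentSpace.ofFamily ξ y := by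
    intro x y
    obtain ⟨χ, hχ1, hχ2⟩ := _root_.H61.fibreProd_lift (R := S.carrier) (resR := S.res)
      isFibreProd_dual2 (TangentSpace.val x) (TangentSpace.val y) (homSet_base_ext _ _)
    have h1 : x + y = TangentSpace.mk ((hR S.carrier S.res).map plus χ) := by
      have h2 : TangentSpace.mk ((hR S.carrier S.res).map pr₁ χ) +
          TangentSpace.mk ((hR S.carrier S.res).map pr₂ χ) =
          TangentSpace.mk ((hR S.carrier S.res).map plus χ) := TS.add_eq χ
      have e1 : TangentSpace.mk ((hR S.carrier S.res).map pr₁ χ) = x := hχ1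
      have e2 : TangentSpace.mk ((hR S.carrier S.res).map pr₂ χ) = y := hχ2
      rw [← e1, ← e2]
      exact h2
    have s1 : TangentSpace.ofFamily ξ (x + y) =
        TangentSpace.ofFamily ξ (TangentSpace.mk ((hR S.carrier S.res).map plus χ)) :=
      congrArg (TangentSpace.ofFamily ξ) h1
    have s2 : TangentSpace.ofFamily ξ (TangentSpace.mk ((hR S.carrier S.res).map plus χ)) =
        TangentSpace.mk (F.map plus (ξ.app (dual2 Λ k) χ)) := ξ.natural plus χ
    have s3 : TangentSpace.mk (F.map plus (ξ.app (dual2 Λ k) χ)) =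
        TangentSpace.mk (F.map pr₁ (ξ.app (dual2 Λ k) χ)) +
          TangentSpace.mk (F.map pr₂ (ξ.app (dual2 Λ k) χ)) := (T.add_eq _).symm
    have s4 : TangentSpace.mk (F.map pr₁ (ξ.app (dual2 Λ k) χ)) = TangentSpace.ofFamily ξ x :=
      (ξ.natural pr₁ χ).symm.trans (congrArg (ξ.app (dual Λ k)) hχ1)
    have s5 : TangentSpace.mk (F.map pr₂ (ξ.app (dual2 Λ k) χ)) = TangentSpace.ofFamily ξ y :=
      (ξ.natural pr₂ χ).symm.trans (congrArg (ξ.app (dual Λ k)) hχ2)
    rw [s1, s2, s3, s4, s5]
  have hsmul : ∀ (c : k) (x : TangentSpace (hR S.carrier S.res)),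
      TangentSpace.ofFamily ξ (c • x) = c • TangentSpace.ofFamily ξ x := by
    intro c x
    have s1 : c • x = TangentSpace.mk ((hR S.carrier S.res).map (scale c) x) := TS.smul_eq c x
    have s2 : TangentSpace.ofFamily ξ (TangentSpace.mk ((hR S.carrier S.res).map (scale c) x)) =
        TangentSpace.mk (F.map (scale c) (TangentSpace.ofFamily ξ x)) := ξ.natural (scale c) x
    have s3 : TangentSpace.mk (F.map (scale c) (TangentSpace.ofFamily ξ x)) =
        c • TangentSpace.ofFamily ξ x := (T.smul_eq c _).symm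
    rw [s1, s2, s3]
  let L : TangentSpace (hR S.carrier S.res) →ₗ[k] TangentSpace F :=
    { toFun := TangentSpace.ofFamily ξ
      map_add' := hadd
      map_smul' := hsmul }
  have hsurjL : Function.Surjective L := by
    intro y
    obtain ⟨φ, -, hφ⟩ := hv (toBase (dual Λ k)) (dual Λ k).res_surjective (homSetBase S.res)
      (TangentSpace.val y) (@Subsingleton.elim _ h0.2 _ _)
    exact ⟨φ, hφ⟩
  exact Module.Finite.of_surjective L hsurjL

variable [IsNoetherianRing Λ] [Module.Finite Λ k]

theorem isMiniversal_of_isMinimalVersal (hk : Subsingleton (Derivation Λ k k))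
    (h0 : H0 F) (h2 : Heps F) {R : CRing Λ k} (ξ : Family R.carrier R.res F)
    (hξ : ξ.IsMinimalVersal) : IsMiniversal ξ := by
  obtain ⟨hv, hmin⟩ := hξ
  refine ⟨hv, ?_⟩
  letI T : TangentStr F := Groth.Agent.H61.TS.tangentStr h0 h2
  have h1 : S1 F := s1_of_versal h0 ξ hv
  have h3 : Hfin F := hfin_of_versal hk h0 R ξ hv
  obtain ⟨P⟩ := Groth.Agent.S12732.result hk F h0 h1 h2 h3
  have hPmin := Groth.Agent.S12757.result h0 P
  obtain ⟨e, he, hee⟩ := Groth.Agent.S12758.result h0 P.family ξ hPmin ⟨hv, hmin⟩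
  have hfam : P.family.along (e : P.ring.carrier →ₐ[Λ] R.carrier) he = ξ :=
    (toFormalElt_bijective R F).1 hee
  rw [← hfam]
  have hpre : Function.Bijective (fun ψ : HomSet R.carrier R.res (dual Λ k) =>
      (⟨ψ.1.comp (e : P.ring.carrier →ₐ[Λ] R.carrier), by
        rw [← AlgHom.comp_assoc, ψ.2, he]⟩ : HomSet P.ring.carrier P.ring.res (dual Λ k))) := by
    constructor
    · intro ψ₁ ψ₂ h
      apply homSet_ext
      intro r
      obtain ⟨s, rfl⟩ := e.surjective r
      exact congrArg (fun (z : HomSet P.ring.carrier P.ring.res (dual Λ k)) => z.1 s) h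
    · intro χ
      have hχ : (dual Λ k).res.comp (χ.1.comp (e.symm : R.carrier →ₐ[Λ] P.ring.carrier)) =
          R.res := by
        apply AlgHom.ext
        intro r
        have h1 : (dual Λ k).res (χ.1 (e.symm r)) = P.ring.res (e.symm r) :=
          AlgHom.congr_fun χ.2 (e.symm r)
        have h2 : R.res (e (e.symm r)) = P.ring.res (e.symm r) := AlgHom.congr_fun he (e.symm r)
        rw [AlgEquiv.apply_symm_apply] at h2
        exact h1.trans h2.symm
      refine ⟨⟨χ.1.comp (e.symm : R.carrier →ₐ[Λ] P.ring.carrier), hχ⟩, ?_⟩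
      apply homSet_ext
      intro s
      show χ.1 (e.symm (e s)) = χ.1 s
      rw [AlgEquiv.symm_apply_apply]
  exact P.miniversal.2.comp hpre

end Groth.Agent.H63
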