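import Groth.Agent.S12722

/-!
Change of base ring from `Λ` to a coefficient ring `R`, and smoothness of `h_S → h_R` (helper63).
-/

set_option autoImplicit false
set_option linter.unusedSectionVars false
set_option linter.unusedVariables false
universe u v

namespace Groth.Agent.H63

open CategoryTheory ArtFun ArtFun.Art

variable {Λ : Type u} {k : Type u} [CommRing Λ] [Field k] [Algebra Λ k]

/-- `k` as an algebra over a coefficient ring. -/
@[reducible] noncomputable def algRk (R : CRing Λ k) : Algebra R.carrier k :=
  R.res.toRingHom.toAlgebra

attribute [local instance] algRk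

theorem algRk_apply (R : CRing Λ k) (r : R.carrier) : algebraMap R.carrier k r = R.res r := rfl

section

variable (R : CRing Λ k)

/-- restriction of scalars from `R` to `Λ` -/
@[reducible] noncomputable def down (B' : Art R.carrier k) : Art Λ k :=
  letI : Algebra Λ B'.carrier :=
    ((algebraMap R.carrier B'.carrier).comp (algebraMap Λ R.carrier)).toAlgebra
  { carrier := B'.carrier
    res :=
      { toRingHom := B'.res.toRingHom
        commutes' := fun l => by
          show B'.res (algebraMap R.carrier B'.carrier (algebraMap Λ R.carrier l)) = algebraMap Λ k l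
          rw [AlgHom.commutes, algRk_apply, AlgHom.commutes] }
    res_surjective := B'.res_surjective }

/-- the structure map as a point of `h_R` -/
noncomputable def downPt (B' : Art R.carrier k) : HomSet R.carrier R.res (down R B') :=
  ⟨{ toRingHom := algebraMap R.carrier B'.carrier
     commutes' := fun l => rfl },
   by
    apply AlgHom.ext
    intro r
    show B'.res (algebraMap R.carrier B'.carrier r) = R.res r
    rw [AlgHom.commutes]; rfl⟩

/-- restriction of scalars on morphisms -/
noncomputable def downHom {B' A' : Art R.carrier k} (μ' : B' ⟶ A') : down R B' ⟶ down R A' :=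
  ⟨{ toRingHom := μ'.toAlgHom.toRingHom
     commutes' := fun l => by
       show μ'.toAlgHom (algebraMap R.carrier B'.carrier (algebraMap Λ R.carrier l)) =
         algebraMap R.carrier A'.carrier (algebraMap Λ R.carrier l)
       rw [AlgHom.commutes] },
   by
    apply AlgHom.ext
    intro b
    exact Art.res_app μ' b⟩

/-- an `R`-point makes an object an `R`-algebra -/
@[reducible] noncomputable def up (B : Art Λ k) (y : HomSet R.carrier R.res B) : Art R.carrier k :=
  letI : Algebra R.carrier B.carrier := y.1.toRingHom.toAlgebra
  { carrier := B.carrier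
    res :=
      { toRingHom := B.res.toRingHom
        commutes' := fun r => AlgHom.congr_fun y.2 r }
    res_surjective := B.res_surjective }

variable (S : CRing Λ k) [Algebra R.carrier S.carrier] [IsScalarTower Λ R.carrier S.carrier]
  (hRS : S.res.comp (IsScalarTower.toAlgHom Λ R.carrier S.carrier) = R.res)

/-- `S` as a coefficient ring over `R` -/
@[reducible] noncomputable def relCRing : CRing R.carrier k :=
  { carrier := S.carrier
    res :=
      { toRingHom := S.res.toRingHom
        commutes' := fun r => AlgHom.congr_fun hRS r }
    res_surjective := S.res_surjective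
    isAdicComplete := S.isAdicComplete }

theorem smooth_of_versal
    (hv : IsVersal ((Family.self R.carrier R.res).along
      (IsScalarTower.toAlgHom Λ R.carrier S.carrier) hRS)) :
    IsSmoothFunctor (hR (relCRing R S hRS).carrier (relCRing R S hRS).res) := by
  intro B' A' μ' hμ' (φ' : HomSet S.carrier (relCRing R S hRS).res A')
  let φd : HomSet S.carrier S.res (down R A') :=
    ⟨{ toRingHom := φ'.1.toRingHom
       commutes' := fun l => by
         show φ'.1 (algebraMap Λ S.carrier l) =
           algebraMap R.carrier A'.carrier (algebraMap Λ R.carrier l)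
         rw [IsScalarTower.algebraMap_apply Λ R.carrier S.carrier, AlgHom.commutes] },
     by
      apply AlgHom.ext
      intro s
      exact AlgHom.congr_fun φ'.2 s⟩
  have hy : HomSet.map (downHom R μ') (downPt R B') =
      ((Family.self R.carrier R.res).along
        (IsScalarTower.toAlgHom Λ R.carrier S.carrier) hRS).app (down R A') φd := by
    apply Subtype.ext
    apply AlgHom.ext
    intro r
    show μ'.toAlgHom (algebraMap R.carrier B'.carrier r) = φ'.1 (algebraMap R.carrier S.carrier r)
    rw [AlgHom.commutes, AlgHom.commutes]
  obtain ⟨ψ, h1, h2⟩ := hv (downHom R μ') hμ' φd (downPt R B') hy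
  have hψR : ∀ r, ψ.1 (algebraMap R.carrier S.carrier r) = algebraMap R.carrier B'.carrier r :=
    fun r => congrArg (fun (z : HomSet R.carrier R.res (down R B')) => z.1 r) h2
  have hres : B'.res.comp ({ toRingHom := ψ.1.toRingHom, commutes' := hψR } :
      S.carrier →ₐ[R.carrier] B'.carrier) = (relCRing R S hRS).res := by
    apply AlgHom.ext
    intro s
    exact AlgHom.congr_fun ψ.2 s
  refine ⟨(⟨{ toRingHom := ψ.1.toRingHom, commutes' := hψR }, hres⟩ :
    HomSet S.carrier (relCRing R S hRS).res B'), ?_⟩
  apply Subtype.ext
  apply AlgHom.ext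
  intro s
  exact congrArg (fun (z : HomSet S.carrier S.res (down R A')) => z.1 s) h1

theorem versal_of_smooth
    (hs : IsSmoothFunctor (hR (relCRing R S hRS).carrier (relCRing R S hRS).res)) :
    IsVersal ((Family.self R.carrier R.res).along
      (IsScalarTower.toAlgHom Λ R.carrier S.carrier) hRS) := by
  intro B A μ hμ φ (y : HomSet R.carrier R.res B) hy
  have hy' : ∀ r, μ (y.1 r) = φ.1 (algebraMap R.carrier S.carrier r) := fun r =>
    congrArg (fun (z : HomSet R.carrier R.res A) => z.1 r) hy
  let yA : HomSet R.carrier R.res A := HomSet.map μ y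
  let μu : up R B y ⟶ up R A yA :=
    ⟨{ toRingHom := μ.toAlgHom.toRingHom
       commutes' := fun r => rfl },
     by
      apply AlgHom.ext
      intro b
      exact Art.res_app μ b⟩
  let φu : HomSet S.carrier (relCRing R S hRS).res (up R A yA) :=
    ⟨{ toRingHom := φ.1.toRingHom
       commutes' := fun r => (hy' r).symm },
     by
      apply AlgHom.ext
      intro s
      exact AlgHom.congr_fun φ.2 s⟩
  obtain ⟨(ψ' : HomSet S.carrier (relCRing R S hRS).res (up R B y)), hψ'⟩ := hs μu hμ φu
  have hψR : ∀ r, ψ'.1 (algebraMap R.carrier S.carrier r) = y.1 r := fun r => ψ'.1.commutes r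
  have hcomm : ∀ l : Λ, ψ'.1 (algebraMap Λ S.carrier l) = algebraMap Λ B l := fun l => by
    rw [IsScalarTower.algebraMap_apply Λ R.carrier S.carrier, hψR, AlgHom.commutes]
  have hres : B.res.comp ({ toRingHom := ψ'.1.toRingHom, commutes' := hcomm } :
      S.carrier →ₐ[Λ] B) = S.res := by
    apply AlgHom.ext
    intro s
    exact AlgHom.congr_fun ψ'.2 s
  refine ⟨⟨{ toRingHom := ψ'.1.toRingHom, commutes' := hcomm }, hres⟩, ?_, ?_⟩
  · apply Subtype.ext
    apply AlgHom.ext
    intro s
    exact congrArg (fun (z : HomSet S.carrier (relCRing R S hRS).res (up R A yA)) => z.1 s) hψ'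
  · apply Subtype.ext
    apply AlgHom.ext
    intro r
    exact hψR r

theorem versal_iff_powerSeries [IsNoetherianRing Λ] [Module.Finite Λ k] :
    IsVersal ((Family.self R.carrier R.res).along
        (IsScalarTower.toAlgHom Λ R.carrier S.carrier) hRS) ↔
      ∃ n : ℕ, Nonempty (S.carrier ≃ₐ[R.carrier] MvPowerSeries (Fin n) R.carrier) := by
  haveI : IsAdicComplete (IsLocalRing.maximalIdeal R.carrier) R.carrier := R.isAdicComplete
  have hk' : Function.Surjective (algebraMap R.carrier k) := R.res_surjective
  haveI : Module.Finite R.carrier k :=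
    Module.Finite.of_surjective (Algebra.linearMap R.carrier k) hk'
  have key := Groth.Agent.S12722.result (Λ := R.carrier) (k := k) hk' (relCRing R S hRS)
  constructor
  · intro hv
    exact key.1 (smooth_of_versal R S hRS hv)
  · intro h
    exact versal_of_smooth R S hRS (key.2 h)

end

end Groth.Agent.H63
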