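import Groth.Agent.S12720
import Groth.Agent.S12714
import Groth.Agent.H63.ArtLim
import Groth.Agent.H63.ArtDer
import Groth.Agent.H63.ArtBasic
import Groth.Agent.H63.ArtRelBase
import Groth.Agent.H61.ArtFunFormal
import Groth.Agent.H61.CRingLib
import Mathlib.Algebra.Module.SpanRankOperations

/-!
Existence of minimal versal families, and every versal family is a power series extension of a
minimal one (helper63).
-/

set_option autoImplicit false
set_option linter.unusedSectionVars false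
set_option linter.unusedVariables false
set_option linter.style.haveILetI false
universe u v

namespace Groth.Agent.H63.MinVersal

open CategoryTheory ArtFun ArtFun.Art

variable {Λ : Type u} {k : Type u} [CommRing Λ] [Field k] [Algebra Λ k]

/-- Killing an element outside the square of the maximal ideal lowers the number of generators
of the maximal ideal. -/
theorem spanFinrank_lt_of_quot {B B' : Type*} [CommRing B] [IsLocalRing B] [IsNoetherianRing B]
    [CommRing B'] [IsLocalRing B'] (q : B →+* B') (hq : Function.Surjective q) (x : B)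
    (hxm : x ∈ IsLocalRing.maximalIdeal B) (hx2 : x ∉ IsLocalRing.maximalIdeal B ^ 2)
    (hqx : q x = 0) :
    (IsLocalRing.maximalIdeal B').spanFinrank < (IsLocalRing.maximalIdeal B).spanFinrank := by
  classical
  have hfgB : (IsLocalRing.maximalIdeal B).FG := IsNoetherian.noetherian _
  obtain ⟨s, hcard, hspan⟩ := Submodule.FG.exists_span_finset_card_eq_spanFinrank hfgB
  have hspan' : Ideal.span (s : Set B) = IsLocalRing.maximalIdeal B := hspan
  have hsm : ∀ z ∈ s, z ∈ IsLocalRing.maximalIdeal B := fun z hz => by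
    rw [← hspan']
    exact Ideal.subset_span hz
  have hcm : x ∈ Submodule.span B (s : Set B) := by
    rw [hspan]
    exact hxm
  obtain ⟨b, -, hb⟩ := Submodule.mem_span_finset.1 hcm
  have hex : ∃ z₀ ∈ s, b z₀ ∉ IsLocalRing.maximalIdeal B := by
    by_contra hall
    push Not at hall
    apply hx2
    rw [← hb]
    refine Ideal.sum_mem _ (fun z hz => ?_)
    rw [smul_eq_mul, pow_two]
    exact Ideal.mul_mem_mul (hall z hz) (hsm z hz)
  obtain ⟨z₀, hz₀s, hz₀⟩ := hex
  have hu : IsUnit (b z₀) := by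
    by_contra h
    exact hz₀ ((IsLocalRing.mem_maximalIdeal _).2 h)
  have hu' : IsUnit (q (b z₀)) := hu.map q
  let T : Set B' := q '' ((s.erase z₀ : Finset B) : Set B)
  have hTmem : ∀ z ∈ s.erase z₀, q z ∈ Ideal.span T := fun z hz =>
    Ideal.subset_span ⟨z, hz, rfl⟩
  have hz₀T : q z₀ ∈ Ideal.span T := by
    have e : b z₀ • z₀ + ∑ z ∈ s.erase z₀, b z • z = x := by
      rw [Finset.add_sum_erase s (fun z => b z • z) hz₀s]
      exact hb
    have e2 : q (b z₀) * q z₀ = -∑ z ∈ s.erase z₀, q (b z) * q z := by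
      have h := congrArg q e
      rw [map_add, hqx, smul_eq_mul, map_mul, map_sum] at h
      rw [eq_neg_iff_add_eq_zero, ← h]
      congr 1
      exact Finset.sum_congr rfl (fun z _ => by rw [smul_eq_mul, map_mul])
    rw [← Ideal.unit_mul_mem_iff_mem _ hu', e2]
    exact neg_mem (Ideal.sum_mem _ (fun z hz => Ideal.mul_mem_left _ _ (hTmem z hz)))
  have hmap : Ideal.map q (IsLocalRing.maximalIdeal B) = IsLocalRing.maximalIdeal B' :=
    IsLocalRing.map_maximalIdeal_of_surjective q hq
  have hle : IsLocalRing.maximalIdeal B' ≤ Ideal.span T := by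
    rw [← hmap, ← hspan', Ideal.map_span, Ideal.span_le]
    rintro _ ⟨z, hz, rfl⟩
    by_cases h : z = z₀
    · rw [h]
      exact hz₀T
    · exact hTmem z (Finset.mem_erase.2 ⟨h, Finset.mem_coe.1 hz⟩)
  have hTle : Ideal.span T ≤ IsLocalRing.maximalIdeal B' := by
    rw [Ideal.span_le, ← hmap]
    rintro _ ⟨z, hz, rfl⟩
    exact Ideal.mem_map_of_mem q (hsm z (Finset.mem_of_mem_erase (Finset.mem_coe.1 hz)))
  have heq : Ideal.span T = IsLocalRing.maximalIdeal B' := le_antisymm hTle hle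
  have hTfin : T.Finite := (Finset.finite_toSet _).image _
  have h1 : (IsLocalRing.maximalIdeal B').spanFinrank ≤ T.ncard := by
    rw [← heq]
    exact Submodule.spanFinrank_span_le_ncard_of_finite hTfin
  have h2 : T.ncard ≤ (s.erase z₀).card := by
    have h := Set.ncard_image_le (f := q) (Finset.finite_toSet (s.erase z₀))
    rwa [Set.ncard_coe_finset] at h
  have h3 : (s.erase z₀).card = s.card - 1 := Finset.card_erase_of_mem hz₀s
  have h4 : 0 < s.card := Finset.card_pos.2 ⟨z₀, hz₀s⟩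
  omega

variable {F : Art Λ k ⥤ Type v}

/-- Versality may be checked on small extensions. -/
theorem isVersal_of_small {R : Type u} [CommRing R] [Algebra Λ R] {resR : R →ₐ[Λ] k}
    (ξ : Family R resR F)
    (h : ∀ ⦃A B : Art Λ k⦄ (μ : B ⟶ A), IsSmallExt μ → ∀ (φ : HomSet R resR A) (y : F.obj B),
      F.map μ y = ξ.app A φ → ∃ ψ : HomSet R resR B, HomSet.map μ ψ = φ ∧ ξ.app B ψ = y) :
    IsVersal ξ := by
  intro B A μ hμ
  refine surjective_induction
    (fun A B μ => ∀ (φ : HomSet R resR A) (y : F.obj B),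
      F.map μ y = ξ.app A φ → ∃ ψ : HomSet R resR B, HomSet.map μ ψ = φ ∧ ξ.app B ψ = y)
    ?_ h ?_ μ hμ
  · intro A B e he φ y hy
    haveI := he
    refine ⟨HomSet.map (inv e) φ, ?_, ?_⟩
    · apply Subtype.ext
      apply AlgHom.ext
      intro r
      show e ((inv e) (φ.1 r)) = φ.1 r
      have h1 : (inv e ≫ e) (φ.1 r) = φ.1 r := by
        rw [IsIso.inv_hom_id]
        rfl
      exact h1
    · rw [ξ.natural, ← hy, ← FunctorToTypes.map_comp_apply, IsIso.hom_inv_id,
        FunctorToTypes.map_id_apply]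
  · intro A B C p q hp hq φ y hy
    have hy' : F.map q (F.map p y) = ξ.app A φ := by
      rw [← FunctorToTypes.map_comp_apply]
      exact hy
    obtain ⟨ψ', h1, h2⟩ := hq φ (F.map p y) hy'
    obtain ⟨ψ, h3, h4⟩ := hp ψ' y h2.symm
    refine ⟨ψ, ?_, h4⟩
    rw [← h1, ← h3]
    exact Subtype.ext (AlgHom.ext fun _ => rfl)

/-- Elements with the same residue act in the same way on an ideal killed by the maximal
ideal. -/
theorem mul_eq_of_res_eq {B : Art Λ k} (I : Ideal B) (hI : IsLocalRing.maximalIdeal B * I = ⊥)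
    {b b' ι : B} (hι : ι ∈ I) (hb : B.res b = B.res b') : b * ι = b' * ι := by
  have h1 : b - b' ∈ IsLocalRing.maximalIdeal B := by
    rw [mem_maximalIdeal_iff, map_sub, hb, sub_self]
  have h2 : (b - b') * ι ∈ IsLocalRing.maximalIdeal B * I := Ideal.mul_mem_mul h1 hι
  rw [hI, Ideal.mem_bot, sub_mul, sub_eq_zero] at h2
  exact h2

/-- Subtracting a derivation-like map with values in an ideal killed by the maximal ideal from
an augmented algebra map gives an augmented algebra map. -/
theorem exists_hom_sub {T : Type u} [CommRing T] [Algebra Λ T] (resT : T →ₐ[Λ] k) {B : Art Λ k}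
    (c₀ : HomSet T resT B) (I : Ideal B) (hI : IsLocalRing.maximalIdeal B * I = ⊥)
    (hIm : I ≤ IsLocalRing.maximalIdeal B)
    (δ : T → B) (hδI : ∀ t, δ t ∈ I) (hδadd : ∀ s t, δ (s + t) = δ s + δ t)
    (hδmul : ∀ s t, δ (s * t) = c₀.1 s * δ t + c₀.1 t * δ s)
    (hδalg : ∀ l : Λ, δ (algebraMap Λ T l) = 0) :
    ∃ c : HomSet T resT B, ∀ t, c.1 t = c₀.1 t - δ t := by
  have hδ0 : δ 0 = 0 := by
    have h := hδadd 0 0
    rw [add_zero] at h
    exact left_eq_add.1 h
  have hδ1 : δ 1 = 0 := by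
    have h := hδalg 1
    rwa [map_one] at h
  have hδδ : ∀ s t, δ s * δ t = 0 := by
    intro s t
    have h : δ s * δ t ∈ IsLocalRing.maximalIdeal B * I := Ideal.mul_mem_mul (hIm (hδI s)) (hδI t)
    rw [hI] at h
    exact Ideal.mem_bot.1 h
  have hresδ : ∀ t, B.res (δ t) = 0 := fun t => (mem_maximalIdeal_iff B _).1 (hIm (hδI t))
  let c : T →ₐ[Λ] B :=
    { toFun := fun t => c₀.1 t - δ t
      map_one' := by rw [map_one, hδ1, sub_zero]
      map_mul' := fun s t => by
        rw [map_mul, hδmul]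
        have h := hδδ s t
        linear_combination -h
      map_zero' := by rw [map_zero, hδ0, sub_zero]
      map_add' := fun s t => by
        rw [map_add, hδadd]
        ring
      commutes' := fun l => by
        show c₀.1 (algebraMap Λ T l) - δ (algebraMap Λ T l) = algebraMap Λ B l
        rw [hδalg, sub_zero, AlgHom.commutes] }
  refine ⟨⟨c, ?_⟩, fun t => rfl⟩
  apply AlgHom.ext
  intro t
  show B.res (c₀.1 t - δ t) = resT t
  rw [map_sub, hresδ, sub_zero]
  exact DFunLike.congr_fun c₀.2 t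

variable [IsNoetherianRing Λ] [Module.Finite Λ k]

/-- Cutting a versal family by an element detected by an invariant tangent direction keeps it
versal. -/
theorem isVersal_quot (R' : CRing Λ k) (ξ' : Family R'.carrier R'.res F) (hξ' : IsVersal ξ')
    (D : R'.carrier → k) (hDadd : ∀ s t, D (s + t) = D s + D t)
    (hDmul : ∀ s t, D (s * t) = R'.res s * D t + R'.res t * D s)
    (hDalg : ∀ l : Λ, D (algebraMap Λ R'.carrier l) = 0)
    (Z : Set R'.carrier) (hDZ : ∀ z ∈ Z, D z = 0)
    (hinv : ∀ (B : Art Λ k) (c c' : HomSet R'.carrier R'.res B),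
      (∀ z ∈ Z, c.1 z = c'.1 z) → ξ'.app B c = ξ'.app B c')
    (x : R'.carrier) (hDx : D x ≠ 0)
    (hJ : Ideal.span {x} ≤ IsLocalRing.maximalIdeal R'.carrier) :
    IsVersal (ξ'.along (Groth.Agent.H61.CRingQ.mk R' (Ideal.span {x}) hJ)
      (Groth.Agent.H61.CRingQ.res_comp_mk R' (Ideal.span {x}) hJ)) := by
  classical
  apply isVersal_of_small
  intro A B μ hμ φb y hy
  -- the lifted point of `h_{R'}`
  let φ : HomSet R'.carrier R'.res A :=
    ⟨φb.1.comp (Groth.Agent.H61.CRingQ.mk R' (Ideal.span {x}) hJ), by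
      rw [← AlgHom.comp_assoc, φb.2, Groth.Agent.H61.CRingQ.res_comp_mk]⟩
  have hy' : F.map μ y = ξ'.app A φ := hy
  obtain ⟨c, hc1, hc2⟩ := hξ' μ hμ.1 φ y hy'
  have hc1' : ∀ t, μ (c.1 t) = φb.1 (Groth.Agent.H61.CRingQ.mk R' (Ideal.span {x}) hJ t) :=
    fun t => congrArg (fun (z : HomSet R'.carrier R'.res A) => z.1 t) hc1
  have hqx : Groth.Agent.H61.CRingQ.mk R' (Ideal.span {x}) hJ x = 0 :=
    (Groth.Agent.H61.CRingQ.mk_eq_zero_iff R' (Ideal.span {x}) hJ x).2
      (Ideal.mem_span_singleton_self x)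
  have hcx : c.1 x ∈ RingHom.ker μ.toAlgHom := by
    rw [RingHom.mem_ker]
    show μ (c.1 x) = 0
    rw [hc1', hqx, map_zero]
  haveI := hμ.2.2.1
  obtain ⟨ι, hι⟩ := Submodule.IsPrincipal.principal (RingHom.ker μ.toAlgHom)
  have hιI : ι ∈ RingHom.ker μ.toAlgHom := by
    rw [hι]
    exact Submodule.mem_span_singleton_self ι
  rw [hι] at hcx
  obtain ⟨β, hβ⟩ := Submodule.mem_span_singleton.1 hcx
  have hβ' : β * ι = c.1 x := hβ
  have hI := hμ.2.2.2
  have hIm : RingHom.ker μ.toAlgHom ≤ IsLocalRing.maximalIdeal B := ker_le_maximalIdeal μ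
  let s : k → B := Function.surjInv B.res_surjective
  have hs : ∀ κ, B.res (s κ) = κ := Function.surjInv_eq B.res_surjective
  let b₁ : B := s (B.res β / D x)
  let δ : R'.carrier → B := fun t => b₁ * s (D t) * ι
  have hcres : ∀ t, B.res (c.1 t) = R'.res t := fun t => DFunLike.congr_fun c.2 t
  obtain ⟨c', hc'⟩ := exists_hom_sub R'.res c (RingHom.ker μ.toAlgHom) hI hIm δ
    (fun t => Ideal.mul_mem_left _ _ hιI)
    (fun t t' => by
      show b₁ * s (D (t + t')) * ι = b₁ * s (D t) * ι + b₁ * s (D t') * ι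
      rw [← add_mul]
      apply mul_eq_of_res_eq _ hI hιI
      simp only [map_add, map_mul, hs, hDadd]
      ring)
    (fun t t' => by
      show b₁ * s (D (t * t')) * ι = c.1 t * (b₁ * s (D t') * ι) + c.1 t' * (b₁ * s (D t) * ι)
      have e : c.1 t * (b₁ * s (D t') * ι) + c.1 t' * (b₁ * s (D t) * ι) =
          (c.1 t * (b₁ * s (D t')) + c.1 t' * (b₁ * s (D t))) * ι := by ring
      rw [e]
      apply mul_eq_of_res_eq _ hI hιI
      simp only [map_add, map_mul, hs, hDmul, hcres]
      ring)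
    (fun l => by
      show b₁ * s (D (algebraMap Λ R'.carrier l)) * ι = 0
      rw [hDalg]
      have h0 : b₁ * s 0 * ι = 0 * ι := by
        apply mul_eq_of_res_eq _ hI hιI
        rw [map_mul, hs 0, mul_zero, map_zero]
      rw [h0, zero_mul])
  -- `c'` kills `x`
  have hc'x : c'.1 x = 0 := by
    rw [hc', ← hβ', sub_eq_zero]
    show β * ι = b₁ * s (D x) * ι
    apply mul_eq_of_res_eq _ hI hιI
    rw [map_mul, hs, hs, div_mul_cancel₀ _ hDx]
  have hc'Z : ∀ z ∈ Z, c'.1 z = c.1 z := by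
    intro z hz
    rw [hc', sub_eq_self]
    show b₁ * s (D z) * ι = 0
    rw [hDZ z hz]
    have h0 : b₁ * s 0 * ι = 0 * ι := by
      apply mul_eq_of_res_eq _ hI hιI
      rw [map_mul, hs 0, mul_zero, map_zero]
    rw [h0, zero_mul]
  have hc'μ : ∀ t, μ (c'.1 t) = μ (c.1 t) := by
    intro t
    rw [hc', map_sub]
    have h0 : μ.toAlgHom (δ t) = 0 := RingHom.mem_ker.1 (Ideal.mul_mem_left _ _ hιI)
    rw [h0, sub_zero]
  have hkill : ∀ a ∈ Ideal.span {x}, c'.1 a = 0 := by
    intro a ha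
    obtain ⟨a', rfl⟩ := Ideal.mem_span_singleton'.1 ha
    rw [map_mul, hc'x, mul_zero]
  let cb : HomSet (Groth.Agent.H61.CRingQ.quot R' (Ideal.span {x}) hJ).carrier
      (Groth.Agent.H61.CRingQ.quot R' (Ideal.span {x}) hJ).res B :=
    ⟨Groth.Agent.H61.CRingQ.lift R' (Ideal.span {x}) hJ c'.1 hkill, by
      apply AlgHom.ext
      intro z
      obtain ⟨p, rfl⟩ := Groth.Agent.H61.CRingQ.mk_surjective R' (Ideal.span {x}) hJ z
      show B.res (c'.1 p) = (Groth.Agent.H61.CRingQ.quot R' (Ideal.span {x}) hJ).res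
        (Groth.Agent.H61.CRingQ.mk R' (Ideal.span {x}) hJ p)
      rw [show (Groth.Agent.H61.CRingQ.quot R' (Ideal.span {x}) hJ).res
        (Groth.Agent.H61.CRingQ.mk R' (Ideal.span {x}) hJ p) = R'.res p from
        DFunLike.congr_fun (Groth.Agent.H61.CRingQ.res_comp_mk R' (Ideal.span {x}) hJ) p]
      exact DFunLike.congr_fun c'.2 p⟩
  refine ⟨cb, ?_, ?_⟩
  · apply Subtype.ext
    apply AlgHom.ext
    intro z
    obtain ⟨p, rfl⟩ := Groth.Agent.H61.CRingQ.mk_surjective R' (Ideal.span {x}) hJ z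
    show μ (c'.1 p) = φb.1 (Groth.Agent.H61.CRingQ.mk R' (Ideal.span {x}) hJ p)
    rw [hc'μ, hc1']
  · show ξ'.app B _ = y
    rw [← hc2, ← hinv B c' c hc'Z]
    congr 1

/-- A derivation-like map vanishes on the square of the maximal ideal. -/
theorem der_sq_eq_zero (R' : CRing Λ k) (D : R'.carrier → k)
    (hDadd : ∀ s t, D (s + t) = D s + D t)
    (hDmul : ∀ s t, D (s * t) = R'.res s * D t + R'.res t * D s)
    {x : R'.carrier} (hx : x ∈ IsLocalRing.maximalIdeal R'.carrier ^ 2) : D x = 0 := by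
  have hD0 : D 0 = 0 := by
    have h := hDadd 0 0
    rw [add_zero] at h
    exact left_eq_add.1 h
  rw [pow_two] at hx
  refine Submodule.mul_induction_on hx ?_ ?_
  · intro a ha b hb
    rw [hDmul, (CRing.mem_maximalIdeal_iff R' a).1 ha, (CRing.mem_maximalIdeal_iff R' b).1 hb,
      zero_mul, zero_mul, add_zero]
  · intro a b ha hb
    rw [hDadd, ha, hb, add_zero]

/-- Existence of a minimal versal family. -/
theorem exists_minimalVersal (h0 : H0 F) (V : VersalPair F) :
    ∃ (R' : CRing Λ k) (ξ' : Family R'.carrier R'.res F), ξ'.IsMinimalVersal := by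
  classical
  let μ : VersalPair F → ℕ := fun W => (IsLocalRing.maximalIdeal W.ring.carrier).spanFinrank
  have hex : ∃ n, ∃ W : VersalPair F, μ W = n := ⟨μ V, V, rfl⟩
  obtain ⟨V', hV'⟩ := Nat.find_spec hex
  have hmin : ∀ W : VersalPair F, μ V' ≤ μ W := fun W => by
    rw [hV']
    exact Nat.find_min' hex ⟨W, rfl⟩
  refine ⟨V'.ring, V'.family, V'.versal, ?_⟩
  intro R'' u h hh hpush
  by_contra hns
  -- a tangent direction vanishing on the image of `h`
  have hne : Ideal.map h (IsLocalRing.maximalIdeal R''.carrier) ⊔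
      IsLocalRing.maximalIdeal V'.ring.carrier ^ 2 ≠ IsLocalRing.maximalIdeal V'.ring.carrier :=
    fun e => hns (((Groth.Agent.S12714.result R'' V'.ring h hh).out 1 0).1 e)
  obtain ⟨θ, hfst, hvan, x₁, hx₁⟩ := exists_tangent_of_ne (S := V'.ring.carrier) V'.ring.res
    (fun s => CRing.mem_maximalIdeal_iff V'.ring s) (R' := R''.carrier) R''.res R''.res_surjective
    h hh (IsLocalRing.maximalIdeal R''.carrier)
    (fun r hr => (CRing.mem_maximalIdeal_iff R'' r).2 hr) hne
    (Ideal.map_le_iff_le_comap.2 (CRing.maximalIdeal_le_comap h hh))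
  let D : V'.ring.carrier → k := fun t => (θ t).snd
  have hDadd : ∀ s t, D (s + t) = D s + D t := fun s t => by
    show (θ (s + t)).snd = (θ s).snd + (θ t).snd
    rw [map_add]
    rfl
  have hDmul : ∀ s t, D (s * t) = V'.ring.res s * D t + V'.ring.res t * D s := by
    intro a a'
    show (θ (a * a')).snd = V'.ring.res a * (θ a').snd + V'.ring.res a' * (θ a).snd
    have e : (θ a * θ a').snd = (θ a).fst * (θ a').snd + (θ a).snd * (θ a').fst := rfl
    rw [map_mul, e, hfst, hfst]
    ring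
  have hDalg : ∀ l : Λ, D (algebraMap Λ V'.ring.carrier l) = 0 := fun l => by
    show (θ (algebraMap Λ V'.ring.carrier l)).snd = 0
    rw [AlgHom.commutes, TrivSqZeroExt.algebraMap_eq_inl', TrivSqZeroExt.snd_inl]
  have hDsub : ∀ s t, D (s - t) = D s - D t := fun s t => by
    have h := hDadd (s - t) t
    rw [sub_add_cancel] at h
    rw [h, add_sub_cancel_right]
  obtain ⟨r'', hr''⟩ := R''.res_surjective (V'.ring.res x₁)
  let x : V'.ring.carrier := x₁ - h r''
  have hDx : D x ≠ 0 := by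
    show D (x₁ - h r'') ≠ 0
    rw [hDsub, show D (h r'') = 0 from hvan r'', sub_zero]
    exact hx₁
  have hxm : x ∈ IsLocalRing.maximalIdeal V'.ring.carrier := by
    rw [CRing.mem_maximalIdeal_iff]
    show V'.ring.res (x₁ - h r'') = 0
    rw [map_sub, CRing.res_comp_apply h hh, hr'', sub_self]
  have hx2 : x ∉ IsLocalRing.maximalIdeal V'.ring.carrier ^ 2 := fun hx =>
    hDx (der_sq_eq_zero V'.ring D hDadd hDmul hx)
  have hJ : Ideal.span {x} ≤ IsLocalRing.maximalIdeal V'.ring.carrier :=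
    (Ideal.span_singleton_le_iff_mem _).2 hxm
  -- the family over `R''`
  obtain ⟨ξ'', hξ''⟩ := (Groth.Agent.H61.toFormalElt_bijective R'' F).2 u
  have hξ''u : ξ''.toFormalElt = u := hξ''
  have hfam : ξ''.along h hh = V'.family := by
    apply (Groth.Agent.H61.toFormalElt_bijective V'.ring F).1
    show (ξ''.along h hh).toFormalElt = V'.family.toFormalElt
    rw [along_toFormalElt, hξ''u]
    exact hpush
  have hinv : ∀ (B : Art Λ k) (c c' : HomSet V'.ring.carrier V'.ring.res B),
      (∀ z ∈ Set.range h, c.1 z = c'.1 z) → V'.family.app B c = V'.family.app B c' := by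
    intro B c c' hcc
    rw [← hfam]
    show ξ''.app B _ = ξ''.app B _
    congr 1
    apply Subtype.ext
    apply AlgHom.ext
    intro r
    exact hcc (h r) ⟨r, rfl⟩
  have hvers := isVersal_quot V'.ring V'.family V'.versal D hDadd hDmul hDalg (Set.range h)
    (by rintro _ ⟨r, rfl⟩; exact hvan r) hinv x hDx hJ
  let W : VersalPair F :=
    ⟨Groth.Agent.H61.CRingQ.quot V'.ring (Ideal.span {x}) hJ, _, hvers⟩
  have hlt : μ W < μ V' :=
    spanFinrank_lt_of_quot
      ((Groth.Agent.H61.CRingQ.mk V'.ring (Ideal.span {x}) hJ : V'.ring.carrier →+* W.ring.carrier))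
      (Groth.Agent.H61.CRingQ.mk_surjective V'.ring (Ideal.span {x}) hJ) x hxm hx2
      ((Groth.Agent.H61.CRingQ.mk_eq_zero_iff V'.ring (Ideal.span {x}) hJ x).2
        (Ideal.mem_span_singleton_self x))
  exact absurd (hmin W) (not_le.2 hlt)

/-- A split morphism of coefficient rings along which points lift is smooth (in the versal
form). -/
theorem isVersal_self_along_of_split (R' S : CRing Λ k) (g : R'.carrier →ₐ[Λ] S.carrier)
    (hg : S.res.comp g = R'.res) (r : S.carrier →ₐ[Λ] R'.carrier) (hr : R'.res.comp r = S.res)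
    (hrg : ∀ a, r (g a) = a)
    (hlift : ∀ ⦃A B : Art Λ k⦄ (μ : B ⟶ A), IsSmallExt μ → ∀ (φ : HomSet S.carrier S.res A)
      (y : HomSet R'.carrier R'.res B), (∀ a, μ (y.1 a) = φ.1 (g a)) →
      ∃ c₀ : HomSet S.carrier S.res B, HomSet.map μ c₀ = φ) :
    IsVersal ((Family.self R'.carrier R'.res).along g hg) := by
  apply isVersal_of_small
  intro A B μ hμ φ (y : HomSet R'.carrier R'.res B) hy
  have hy' : ∀ a, μ (y.1 a) = φ.1 (g a) := fun a =>
    congrArg (fun (z : HomSet R'.carrier R'.res A) => z.1 a) hy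
  obtain ⟨c₀, hc₀⟩ := hlift μ hμ φ y hy'
  have hc₀' : ∀ t, μ (c₀.1 t) = φ.1 t := fun t =>
    congrArg (fun (z : HomSet S.carrier S.res A) => z.1 t) hc₀
  have hI := hμ.2.2.2
  have hIm : RingHom.ker μ.toAlgHom ≤ IsLocalRing.maximalIdeal B := ker_le_maximalIdeal μ
  let δ : S.carrier → B := fun t => c₀.1 (g (r t)) - y.1 (r t)
  have hδI : ∀ t, δ t ∈ RingHom.ker μ.toAlgHom := by
    intro t
    rw [RingHom.mem_ker]
    show μ.toAlgHom (c₀.1 (g (r t)) - y.1 (r t)) = 0
    rw [map_sub, sub_eq_zero]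
    exact (hc₀' (g (r t))).trans (hy' (r t)).symm
  have hc₀res : ∀ t, B.res (c₀.1 t) = S.res t := fun t => DFunLike.congr_fun c₀.2 t
  have hyres : ∀ a, B.res (y.1 a) = R'.res a := fun a => DFunLike.congr_fun y.2 a
  have hgres : ∀ a, S.res (g a) = R'.res a := fun a => DFunLike.congr_fun hg a
  have hrres : ∀ t, R'.res (r t) = S.res t := fun t => DFunLike.congr_fun hr t
  have hres1 : ∀ t, B.res (c₀.1 (g (r t))) = B.res (c₀.1 t) := by
    intro t
    rw [hc₀res, hc₀res, hgres, hrres]
  have hres2 : ∀ t, B.res (y.1 (r t)) = B.res (c₀.1 t) := by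
    intro t
    rw [hyres, hc₀res, hrres]
  obtain ⟨c, hc⟩ := exists_hom_sub S.res c₀ (RingHom.ker μ.toAlgHom) hI hIm δ hδI
    (fun t t' => by
      show c₀.1 (g (r (t + t'))) - y.1 (r (t + t')) =
        (c₀.1 (g (r t)) - y.1 (r t)) + (c₀.1 (g (r t')) - y.1 (r t'))
      rw [map_add, map_add, map_add, map_add]
      ring)
    (fun t t' => by
      show c₀.1 (g (r (t * t'))) - y.1 (r (t * t')) =
        c₀.1 t * (c₀.1 (g (r t')) - y.1 (r t')) + c₀.1 t' * (c₀.1 (g (r t)) - y.1 (r t))
      have e1 : c₀.1 t * (c₀.1 (g (r t')) - y.1 (r t')) =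
          c₀.1 (g (r t)) * (c₀.1 (g (r t')) - y.1 (r t')) :=
        mul_eq_of_res_eq _ hI (hδI t') (hres1 t).symm
      have e2 : c₀.1 t' * (c₀.1 (g (r t)) - y.1 (r t)) =
          y.1 (r t') * (c₀.1 (g (r t)) - y.1 (r t)) :=
        mul_eq_of_res_eq _ hI (hδI t) (hres2 t').symm
      rw [e1, e2, map_mul, map_mul, map_mul, map_mul]
      ring)
    (fun l => by
      show c₀.1 (g (r (algebraMap Λ S.carrier l))) - y.1 (r (algebraMap Λ S.carrier l)) = 0
      rw [AlgHom.commutes, AlgHom.commutes, AlgHom.commutes, AlgHom.commutes, sub_self])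
  refine ⟨c, ?_, ?_⟩
  · apply Subtype.ext
    apply AlgHom.ext
    intro t
    show μ (c.1 t) = φ.1 t
    rw [hc, map_sub]
    have h0 : μ.toAlgHom (δ t) = 0 := RingHom.mem_ker.1 (hδI t)
    rw [h0, sub_zero]
    exact hc₀' t
  · show (⟨c.1.comp g, _⟩ : HomSet R'.carrier R'.res B) = y
    apply Subtype.ext
    apply AlgHom.ext
    intro a
    show c.1 (g a) = y.1 a
    rw [hc]
    show c₀.1 (g a) - (c₀.1 (g (r (g a))) - y.1 (r (g a))) = y.1 a
    rw [hrg]
    ring

/-- Every versal family is a power series extension of a minimal versal family. -/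
theorem main (h0 : H0 F) (V : VersalPair F) :
    ∃ (R' : CRing Λ k) (ξ' : Family R'.carrier R'.res F), ξ'.IsMinimalVersal ∧
      ∃ (g : R'.carrier →ₐ[Λ] V.ring.carrier) (hg : V.ring.res.comp g = R'.res)
        (n : ℕ) (e : V.ring.carrier ≃ₐ[Λ] MvPowerSeries (Fin n) R'.carrier),
        (∀ a : R'.carrier, e (g a) = algebraMap R'.carrier (MvPowerSeries (Fin n) R'.carrier) a) ∧
        (ξ'.along g hg).toFormalElt = V.family.toFormalElt := by
  obtain ⟨R', ξ', hmin⟩ := exists_minimalVersal h0 V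
  obtain ⟨g, hg, hgξ⟩ := Groth.Agent.S12720.result h0 R' ξ' hmin.1 V.ring V.family.toFormalElt
  have hfam : ξ'.along g hg = V.family :=
    (Groth.Agent.H61.toFormalElt_bijective V.ring F).1 hgξ
  obtain ⟨r₀, hr₀, hr₀ξ⟩ := Groth.Agent.S12720.result h0 V.ring V.family V.versal R' ξ'.toFormalElt
  -- the endomorphism `r₀ ∘ g` of `R'`
  have hα : R'.res.comp (r₀.comp g) = R'.res := by
    rw [← AlgHom.comp_assoc, hr₀, hg]
  have hαξ : ξ'.toFormalElt.push (r₀.comp g) hα = ξ'.toFormalElt := by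
    rw [← along_toFormalElt, ← hr₀ξ, ← hfam]
    rfl
  have hαs : Function.Surjective (r₀.comp g) := hmin.2 R' ξ'.toFormalElt (r₀.comp g) hα hαξ
  have hαi : Function.Injective (r₀.comp g) :=
    injective_of_surjective_ringEnd (r₀.comp g).toRingHom hαs
  let αe : R'.carrier ≃ₐ[Λ] R'.carrier := AlgEquiv.ofBijective (r₀.comp g) ⟨hαi, hαs⟩
  let r : V.ring.carrier →ₐ[Λ] R'.carrier := (αe.symm : R'.carrier →ₐ[Λ] R'.carrier).comp r₀
  have hrg : ∀ a, r (g a) = a := fun a => by
    show αe.symm (r₀ (g a)) = a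
    exact αe.symm_apply_apply a
  have hresα : ∀ t, R'.res (αe.symm t) = R'.res t := by
    intro t
    have h1 : R'.res ((r₀.comp g) (αe.symm t)) = R'.res (αe.symm t) := DFunLike.congr_fun hα _
    rw [← h1]
    congr 1
    exact αe.apply_symm_apply t
  have hr : R'.res.comp r = V.ring.res := by
    apply AlgHom.ext
    intro t
    show R'.res (αe.symm (r₀ t)) = V.ring.res t
    rw [hresα]
    exact DFunLike.congr_fun hr₀ t
  -- smoothness of `g`
  letI : Algebra R'.carrier V.ring.carrier := g.toRingHom.toAlgebra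
  haveI : IsScalarTower Λ R'.carrier V.ring.carrier :=
    IsScalarTower.of_algebraMap_eq (fun l => (g.commutes l).symm)
  have hgg : IsScalarTower.toAlgHom Λ R'.carrier V.ring.carrier = g := AlgHom.ext fun _ => rfl
  have hRS : V.ring.res.comp (IsScalarTower.toAlgHom Λ R'.carrier V.ring.carrier) = R'.res := by
    rw [hgg]
    exact hg
  have hvers : IsVersal ((Family.self R'.carrier R'.res).along
      (IsScalarTower.toAlgHom Λ R'.carrier V.ring.carrier) hRS) := by
    apply isVersal_self_along_of_split R' V.ring _ hRS r hr (fun a => hrg a)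
    intro A B μ hμ φ y hy
    have hy' : F.map μ (ξ'.app B y) = V.family.app A φ := by
      rw [← ξ'.natural, ← hfam]
      show ξ'.app A _ = ξ'.app A _
      congr 1
      apply Subtype.ext
      apply AlgHom.ext
      intro a
      exact hy a
    obtain ⟨c₀, hc₀, -⟩ := V.versal μ hμ.1 φ (ξ'.app B y) hy'
    exact ⟨c₀, hc₀⟩
  obtain ⟨n, ⟨e'⟩⟩ := (versal_iff_powerSeries R' V.ring hRS).1 hvers
  refine ⟨R', ξ', hmin, g, hg, n, e'.restrictScalars Λ, ?_, hgξ⟩
  intro a
  exact e'.commutes a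

end Groth.Agent.H63.MinVersal
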