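import Groth.Agent.H63.ArtBasic
import Groth.Prelude.Def_ArtFun5

/-!
Maps from a complete local ring to an Artinian one factor through a truncation.
-/

set_option autoImplicit false
set_option linter.unusedSectionVars false
universe u v

namespace Groth.Agent.H63

open CategoryTheory ArtFun ArtFun.Art

variable {Λ : Type u} {k : Type u} [CommRing Λ] [Field k] [Algebra Λ k]

theorem exists_factor_trunc (R : CRing Λ k) {A : Art Λ k} (ψ : HomSet R.carrier R.res A) :
    ∃ (n : ℕ) (ψ' : R.trunc n ⟶ A), HomSet.map ψ' (R.truncHom n) = ψ := by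
  obtain ⟨N, hN⟩ := exists_maximalIdeal_pow_eq_bot A
  have hres : ∀ a, A.res (ψ.1 a) = R.res a := fun a => DFunLike.congr_fun ψ.2 a
  have hmap : Ideal.map ψ.1 (IsLocalRing.maximalIdeal R.carrier) ≤ IsLocalRing.maximalIdeal A := by
    rw [Ideal.map_le_iff_le_comap]
    intro a ha
    rw [Ideal.mem_comap, Art.mem_maximalIdeal_iff, hres]
    exact (CRing.mem_maximalIdeal_iff R a).1 ha
  have h2 : Ideal.map ψ.1 (R.mpow N) ≤ ⊥ :=
    calc Ideal.map ψ.1 (R.mpow N)
        = (Ideal.map ψ.1 (IsLocalRing.maximalIdeal R.carrier)) ^ (N + 1) := Ideal.map_pow _ _ _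
      _ ≤ IsLocalRing.maximalIdeal A ^ (N + 1) := Ideal.pow_right_mono hmap _
      _ ≤ IsLocalRing.maximalIdeal A ^ N := Ideal.pow_le_pow_right (Nat.le_succ N)
      _ = ⊥ := hN
  have hkill : ∀ a : R.carrier, a ∈ R.mpow N → ψ.1 a = 0 := by
    intro a ha
    exact Ideal.mem_bot.1 (h2 (Ideal.mem_map_of_mem _ ha))
  have hres' : A.res.comp (Ideal.Quotient.liftₐ (R.mpow N) ψ.1 hkill) = (R.trunc N).res := by
    apply AlgHom.ext
    intro y
    obtain ⟨a, rfl⟩ := Ideal.Quotient.mk_surjective y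
    exact hres a
  exact ⟨N, ⟨Ideal.Quotient.liftₐ (R.mpow N) ψ.1 hkill, hres'⟩,
    Subtype.ext (AlgHom.ext fun a => rfl)⟩

end Groth.Agent.H63
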