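import Groth.Agent.H63.ArtMinVersalExist
import Groth.Agent.H63.ArtMinVersal
import Groth.Agent.H61.SchlessGeneral
import Groth.Agent.H61.SchlessProrep
import Groth.Agent.H61.SchlessSmall

/-!
Pro-representability from the Rim--Schlessinger condition, finiteness of the tangent space and
injectivity of the derivations of `k` into the tangent space, over a general base (helper63).
-/

set_option autoImplicit false
set_option linter.unusedSectionVars false
set_option linter.unusedVariables false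
set_option linter.style.haveILetI false
universe u v

namespace Groth.Agent.H63.ProrepRS

open CategoryTheory ArtFun ArtFun.Art Groth.Agent.H61 Groth.Agent.H63.MinVersal

variable {Λ : Type u} {k : Type u} [CommRing Λ] [Field k] [Algebra Λ k]

/-- The difference map `(a, b₁, b₂) ↦ a + (b₁ - b₂) ε`. -/
def minus : dual2 Λ k ⟶ dual Λ k :=
  ⟨tszeMap (LinearMap.fst k k k - LinearMap.snd k k k), AlgHom.ext fun _ => rfl⟩

theorem dsnd_minus (z : dual2 Λ k) : dsnd (minus z) = dsnd (pr₁ z) - dsnd (pr₂ z) := rfl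

section Gen

variable {R : Type u} [CommRing R] [Algebra Λ R] {resR : R →ₐ[Λ] k}

/-- Maps to the dual numbers agreeing on generators of the augmentation ideal and on lifts of
module generators of `k` are equal. -/
theorem homSet_dual_ext_gen {n m : ℕ} (g : Fin n → R) (hg0 : ∀ i, resR (g i) = 0)
    (hg : ∀ r : R, resR r = 0 → r ∈ Ideal.span (Set.range g))
    (e : Fin m → R) (he : ∀ r : R, ∃ l : Fin m → Λ, resR r = ∑ j, l j • resR (e j))
    (φ₁ φ₂ : HomSet R resR (dual Λ k)) (h : ∀ i, dsnd (φ₁.1 (g i)) = dsnd (φ₂.1 (g i)))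
    (h' : ∀ j, dsnd (φ₁.1 (e j)) = dsnd (φ₂.1 (e j))) : φ₁ = φ₂ := by
  classical
  let D : R → k := fun r => dsnd (φ₁.1 r) - dsnd (φ₂.1 r)
  have hD : ∀ r, D r = dsnd (φ₁.1 r) - dsnd (φ₂.1 r) := fun r => rfl
  have hDadd : ∀ a b, D (a + b) = D a + D b := by
    intro a b
    rw [hD, hD, hD, map_add, map_add, dsnd_add, dsnd_add]; ring
  have hDzero : D 0 = 0 := by rw [hD, map_zero, map_zero, sub_self]
  have hDmul : ∀ a b, D (a * b) = resR a * D b + resR b * D a := by
    intro a b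
    rw [hD, hD, hD, map_mul, map_mul, dsnd_mul, dsnd_mul, dfst_homSet, dfst_homSet,
      dfst_homSet, dfst_homSet]; ring
  have hDalg : ∀ l : Λ, D (algebraMap Λ R l) = 0 := by
    intro l
    rw [hD, AlgHom.commutes, AlgHom.commutes, sub_self]
  have hDg : ∀ i, D (g i) = 0 := fun i => by rw [hD, h i, sub_self]
  have hDe : ∀ j, D (e j) = 0 := fun j => by rw [hD, h' j, sub_self]
  have hDker : ∀ m, resR m = 0 → D m = 0 := by
    intro m hm
    obtain ⟨c, rfl⟩ := (Ideal.mem_span_range_iff_exists_fun).1 (hg m hm)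
    have hDsum : ∀ s : Finset (Fin n), D (∑ i ∈ s, c i * g i) = 0 := by
      intro s
      induction s using Finset.induction_on with
      | empty => rw [Finset.sum_empty]; exact hDzero
      | insert a s ha ih =>
        rw [Finset.sum_insert ha, hDadd, ih, add_zero, hDmul, hDg, hg0, mul_zero, zero_mul,
          add_zero]
    exact hDsum Finset.univ
  have hDeq : ∀ a b, resR a = resR b → D a = D b := by
    intro a b hab
    have h1 : D (a - b) = 0 := hDker _ (by rw [map_sub, hab, sub_self])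
    have h2 : D a = D (b + (a - b)) := by congr 1; ring
    rw [h2, hDadd, h1, add_zero]
  have hDsum : ∀ (l : Fin m → Λ) (s : Finset (Fin m)),
      D (∑ j ∈ s, algebraMap Λ R (l j) * e j) = 0 := by
    intro l s
    induction s using Finset.induction_on with
    | empty => rw [Finset.sum_empty]; exact hDzero
    | insert a s ha ih =>
      rw [Finset.sum_insert ha, hDadd, ih, add_zero, hDmul, hDe, hDalg, mul_zero, mul_zero,
        add_zero]
  apply homSet_ext
  intro r
  apply dual_ext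
  · rw [dfst_homSet, dfst_homSet]
  · obtain ⟨l, hl⟩ := he r
    have h1 : D r = D (∑ j, algebraMap Λ R (l j) * e j) := by
      apply hDeq
      rw [hl, map_sum]
      refine Finset.sum_congr rfl fun j _ => ?_
      rw [map_mul, AlgHom.commutes, Algebra.smul_def]
    rw [hDsum] at h1
    exact sub_eq_zero.1 h1

end Gen

variable {F : Art Λ k ⥤ Type v}

/-- A functor with a universal family over a Noetherian coefficient ring has a finite-dimensional
tangent space (general base). -/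
theorem hfin_of_isUniversal_gen [Module.Finite Λ k] [T : TangentStr F]
    (S : CRing Λ k) (ξ : Family S.carrier S.res F) (hu : IsUniversal ξ) : Hfin F := by
  classical
  obtain ⟨n, g, hg⟩ := Submodule.fg_iff_exists_fin_generating_family.1
    ((isNoetherianRing_iff_ideal_fg S.carrier).1 inferInstance (IsLocalRing.maximalIdeal S.carrier))
  have hg0 : ∀ i, S.res (g i) = 0 := fun i =>
    (S.mem_maximalIdeal_iff _).1 (hg ▸ Submodule.subset_span ⟨i, rfl⟩)
  have hgm : ∀ r, S.res r = 0 → r ∈ Ideal.span (Set.range g) := fun r hr => by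
    change r ∈ Submodule.span S.carrier (Set.range g)
    rw [hg]; exact (S.mem_maximalIdeal_iff r).2 hr
  obtain ⟨m, e₀, he₀⟩ := Module.Finite.exists_fin (R := Λ) (M := k)
  choose e hee using fun j => S.res_surjective (e₀ j)
  have he : ∀ r : S.carrier, ∃ l : Fin m → Λ, S.res r = ∑ j, l j • S.res (e j) := by
    intro r
    have hmem : S.res r ∈ Submodule.span Λ (Set.range e₀) := by
      rw [he₀]; exact Submodule.mem_top
    obtain ⟨l, hl⟩ := (Submodule.mem_span_range_iff_exists_fun Λ).1 hmem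
    refine ⟨l, ?_⟩
    rw [← hl]
    exact Finset.sum_congr rfl fun j _ => by rw [hee]
  have hsurj : ∀ x : F.obj (dual Λ k), ∃ φ, ξ.app (dual Λ k) φ = x := (hu (dual Λ k)).2
  choose inv hinv using hsurj
  have hinv' : ∀ φ, inv (ξ.app (dual Λ k) φ) = φ := fun φ => (hu (dual Λ k)).1 (hinv _)
  let Φ : TangentSpace F → (Fin n ⊕ Fin m → k) :=
    fun x i => dsnd ((inv (TangentSpace.val x)).1 (Sum.elim g e i))
  have hadd : ∀ x y : TangentSpace F, Φ (x + y) = Φ x + Φ y := by
    intro x y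
    obtain ⟨χ, hχ1, hχ2⟩ := _root_.H61.fibreProd_lift isFibreProd_dual2 (inv (TangentSpace.val x))
      (inv (TangentSpace.val y)) (@Subsingleton.elim _ _root_.H61.homSet_base_subsingleton _ _)
    have hx : F.map pr₁ (ξ.app _ χ) = TangentSpace.val x := by
      rw [← ξ.natural, hχ1, hinv]
    have hy : F.map pr₂ (ξ.app _ χ) = TangentSpace.val y := by
      rw [← ξ.natural, hχ2, hinv]
    have hxy : TangentSpace.val (x + y) = ξ.app _ (HomSet.map plus χ) := by
      rw [ξ.natural, ← T.add_eq, hx, hy]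
      rfl
    funext i
    change dsnd ((inv (TangentSpace.val (x + y))).1 (Sum.elim g e i)) =
      dsnd ((inv (TangentSpace.val x)).1 (Sum.elim g e i)) +
        dsnd ((inv (TangentSpace.val y)).1 (Sum.elim g e i))
    rw [hxy, hinv', ← hχ1, ← hχ2]
    exact dsnd_plus _
  have hsmul : ∀ (c : k) (x : TangentSpace F), Φ (c • x) = c • Φ x := by
    intro c x
    have hcx : TangentSpace.val (c • x) =
        ξ.app _ (HomSet.map (scale c) (inv (TangentSpace.val x))) := by
      rw [ξ.natural, hinv]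
      exact T.smul_eq c x
    funext i
    change dsnd ((inv (TangentSpace.val (c • x))).1 (Sum.elim g e i)) =
      c • dsnd ((inv (TangentSpace.val x)).1 (Sum.elim g e i))
    rw [hcx, hinv']
    exact dsnd_scale _ _
  have hinj : Function.Injective Φ := by
    intro x y hxy
    have h1 : inv (TangentSpace.val x) = inv (TangentSpace.val y) :=
      homSet_dual_ext_gen g hg0 hgm e he _ _ (fun i => congrFun hxy (Sum.inl i))
        (fun j => congrFun hxy (Sum.inr j))
    have h2 := congrArg (ξ.app (dual Λ k)) h1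
    rw [hinv, hinv] at h2
    exact h2
  let L : TangentSpace F →ₗ[k] (Fin n ⊕ Fin m → k) :=
    { toFun := Φ, map_add' := hadd, map_smul' := hsmul }
  exact Module.Finite.of_injective L hinj

variable [IsNoetherianRing Λ] [Module.Finite Λ k]

/-- Under `(S2)`, two tangent vectors of the coefficient ring with the same image in the tangent
space of the functor give a translation of the points of the family which does not change the
family. -/
theorem translate (hF : Heps F) {R : Type u} [CommRing R] [Algebra Λ R] {resR : R →ₐ[Λ] k}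
    (ξ : Family R resR F) (c₁ c₂ : HomSet R resR (dual Λ k))
    (hc : ξ.app _ c₁ = ξ.app _ c₂) {B : Art Λ k} (ι : B)
    (ht : ∀ y ∈ IsLocalRing.maximalIdeal B, y * ι = 0) (htm : ι ∈ IsLocalRing.maximalIdeal B)
    (c : HomSet R resR B) :
    ∃ c' : HomSet R resR B, ξ.app B c' = ξ.app B c ∧
      ∀ t, c'.1 t = c.1 t + smulT ι (dsnd (c₁.1 t) - dsnd (c₂.1 t)) := by
  classical
  have hsub : ∀ (φ' : HomSet R resR B) (φ'' : HomSet R resR (dual Λ k)),
      HomSet.map (toBase B) φ' = HomSet.map (toBase (dual Λ k)) φ'' := fun _ _ =>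
    @Subsingleton.elim _ _root_.H61.homSet_base_subsingleton _ _
  obtain ⟨a, ha⟩ : ∃ a : QQ B ⟶ B, ∀ q, a q = qq₁ B q + smulT ι (dsnd (qq₂ B q)) :=
    ⟨aT ι ht htm (qq₁ B) (qq₂ B), fun q => rfl⟩
  obtain ⟨χ₀, h01, h02⟩ := _root_.H61.fibreProd_lift (isFibreProd_QQ B) c
    (HomSet.map (scale (-1)) c₂) (hsub _ _)
  obtain ⟨χ₁, h11, h12⟩ := _root_.H61.fibreProd_lift (isFibreProd_QQ B) (HomSet.map a χ₀) c₁
    (hsub _ _)
  obtain ⟨χ₂, h21, h22⟩ := _root_.H61.fibreProd_lift (isFibreProd_QQ B) (HomSet.map a χ₀) c₂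
    (hsub _ _)
  have hχ : ξ.app _ χ₁ = ξ.app _ χ₂ := by
    apply (hF (qq₁ B) (qq₂ B) (isFibreProd_QQ B)).1
    apply Subtype.ext
    apply Prod.ext
    · change F.map (qq₁ B) (ξ.app _ χ₁) = F.map (qq₁ B) (ξ.app _ χ₂)
      rw [← ξ.natural, ← ξ.natural, h11, h21]
    · change F.map (qq₂ B) (ξ.app _ χ₁) = F.map (qq₂ B) (ξ.app _ χ₂)
      rw [← ξ.natural, ← ξ.natural, h12, h22, hc]
  have key : ∀ (χ : HomSet R resR (QQ B)) (cc : HomSet R resR (dual Λ k)),
      HomSet.map (qq₁ B) χ = HomSet.map a χ₀ → HomSet.map (qq₂ B) χ = cc →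
      ∀ t, (HomSet.map a χ).1 t = c.1 t + smulT ι (dsnd (cc.1 t) - dsnd (c₂.1 t)) := by
    intro χ cc e1 e2 t
    have f1 : qq₁ B (χ.1 t) = (HomSet.map a χ₀).1 t := congrArg (fun z => z.1 t) e1
    have f2 : qq₂ B (χ.1 t) = cc.1 t := congrArg (fun z => z.1 t) e2
    have f3 : (HomSet.map a χ₀).1 t = qq₁ B (χ₀.1 t) + smulT ι (dsnd (qq₂ B (χ₀.1 t))) :=
      ha (χ₀.1 t)
    have f4 : qq₁ B (χ₀.1 t) = c.1 t := congrArg (fun z => z.1 t) h01
    have f5 : qq₂ B (χ₀.1 t) = scale (-1) (c₂.1 t) := congrArg (fun z => z.1 t) h02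
    have f6 : (HomSet.map a χ).1 t = qq₁ B (χ.1 t) + smulT ι (dsnd (qq₂ B (χ.1 t))) :=
      ha (χ.1 t)
    rw [f6, f1, f2, f3, f4, f5, dsnd_scale, add_assoc, ← smulT_add ι ht]
    congr 2
    ring
  have hk2 := key χ₂ c₂ h21 h22
  have hc2 : HomSet.map a χ₂ = c := by
    apply homSet_ext
    intro t
    rw [hk2 t, sub_self, smulT_zero ι ht, add_zero]
  refine ⟨HomSet.map a χ₁, ?_, key χ₁ c₁ h11 h12⟩
  rw [ξ.natural, hχ, ← ξ.natural, hc2]

/-- Cutting a versal family by an element of the maximal ideal detected by the difference of two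
tangent vectors with the same image keeps it versal. -/
theorem isVersal_quot_of_tangent (hF : Heps F) (R' : CRing Λ k)
    (ξ' : Family R'.carrier R'.res F) (hξ' : IsVersal ξ')
    (c₁ c₂ : HomSet R'.carrier R'.res (dual Λ k)) (hc : ξ'.app _ c₁ = ξ'.app _ c₂)
    (x : R'.carrier) (hDx : dsnd (c₁.1 x) - dsnd (c₂.1 x) ≠ 0)
    (hJ : Ideal.span {x} ≤ IsLocalRing.maximalIdeal R'.carrier) :
    IsVersal (ξ'.along (Groth.Agent.H61.CRingQ.mk R' (Ideal.span {x}) hJ)
      (Groth.Agent.H61.CRingQ.res_comp_mk R' (Ideal.span {x}) hJ)) := by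
  classical
  apply isVersal_of_small
  intro A B μ hμ φb y hy
  let φ : HomSet R'.carrier R'.res A :=
    ⟨φb.1.comp (Groth.Agent.H61.CRingQ.mk R' (Ideal.span {x}) hJ), by
      rw [← AlgHom.comp_assoc, φb.2, Groth.Agent.H61.CRingQ.res_comp_mk]⟩
  have hy' : F.map μ y = ξ'.app A φ := hy
  obtain ⟨c, hc1, hc2⟩ := hξ' μ hμ.1 φ y hy'
  have hc1' : ∀ t, μ (c.1 t) = φb.1 (Groth.Agent.H61.CRingQ.mk R' (Ideal.span {x}) hJ t) :=
    fun t => congrArg (fun (z : HomSet R'.carrier R'.res A) => z.1 t) hc1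
  have hqx : Groth.Agent.H61.CRingQ.mk R' (Ideal.span {x}) hJ x = 0 :=
    (Groth.Agent.H61.CRingQ.mk_eq_zero_iff R' (Ideal.span {x}) hJ x).2
      (Ideal.mem_span_singleton_self x)
  have hcx : c.1 x ∈ RingHom.ker μ.toAlgHom := by
    rw [RingHom.mem_ker]
    show μ (c.1 x) = 0
    rw [hc1', hqx, map_zero]
  obtain ⟨ι, hker, ht, htm, ht0, hμι⟩ := exists_gen μ hμ
  rw [hker] at hcx
  obtain ⟨β, hβ⟩ := Ideal.mem_span_singleton'.1 hcx
  obtain ⟨g, hg⟩ := B.res_surjective (B.res β / (dsnd (c₁.1 x) - dsnd (c₂.1 x)))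
  have ht' : ∀ y ∈ IsLocalRing.maximalIdeal B, y * (-(g * ι)) = 0 := by
    intro y hy
    have h := ht y hy
    linear_combination (-g) * h
  have htm' : -(g * ι) ∈ IsLocalRing.maximalIdeal B := neg_mem (Ideal.mul_mem_left _ _ htm)
  obtain ⟨c', hc'ξ, hc'f⟩ := translate hF ξ' c₁ c₂ hc (-(g * ι)) ht' htm' c
  have hc'x : c'.1 x = 0 := by
    obtain ⟨b, hb⟩ := B.res_surjective (dsnd (c₁.1 x) - dsnd (c₂.1 x))
    rw [hc'f x, smulT_eq (-(g * ι)) ht' hb, ← hβ]
    have h1 : (g * b - β) * ι = 0 := by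
      apply ht
      rw [mem_maximalIdeal_iff, map_sub, map_mul, hg, hb, div_mul_cancel₀ _ hDx, sub_self]
    linear_combination (-1 : B) * h1
  have hc'μ : ∀ t, μ (c'.1 t) = μ (c.1 t) := by
    intro t
    obtain ⟨b, hb⟩ := B.res_surjective (dsnd (c₁.1 t) - dsnd (c₂.1 t))
    rw [hc'f t, smulT_eq (-(g * ι)) ht' hb]
    have h1 : μ.toAlgHom (c.1 t + b * -(g * ι)) =
        μ.toAlgHom (c.1 t) + μ.toAlgHom b * -(μ.toAlgHom g * μ.toAlgHom ι) := by
      rw [map_add, map_mul, map_neg, map_mul]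
    have h2 : μ.toAlgHom ι = 0 := hμι
    rw [h2, mul_zero, neg_zero, mul_zero, add_zero] at h1
    exact h1
  have hkill : ∀ a ∈ Ideal.span {x}, c'.1 a = 0 := by
    intro a ha
    obtain ⟨a', rfl⟩ := Ideal.mem_span_singleton'.1 ha
    rw [map_mul, hc'x, mul_zero]
  let cb : HomSet (Groth.Agent.H61.CRingQ.quot R' (Ideal.span {x}) hJ).carrier
      (Groth.Agent.H61.CRingQ.quot R' (Ideal.span {x}) hJ).res B :=
    ⟨Groth.Agent.H61.CRingQ.lift R' (Ideal.span {x}) hJ c'.1 hkill, by
      apply AlgHom.ext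
      intro z
      obtain ⟨p, rfl⟩ := Groth.Agent.H61.CRingQ.mk_surjective R' (Ideal.span {x}) hJ z
      show B.res (c'.1 p) = (Groth.Agent.H61.CRingQ.quot R' (Ideal.span {x}) hJ).res
        (Groth.Agent.H61.CRingQ.mk R' (Ideal.span {x}) hJ p)
      rw [show (Groth.Agent.H61.CRingQ.quot R' (Ideal.span {x}) hJ).res
        (Groth.Agent.H61.CRingQ.mk R' (Ideal.span {x}) hJ p) = R'.res p from
        DFunLike.congr_fun (Groth.Agent.H61.CRingQ.res_comp_mk R' (Ideal.span {x}) hJ) p]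
      exact DFunLike.congr_fun c'.2 p⟩
  refine ⟨cb, ?_, ?_⟩
  · apply Subtype.ext
    apply AlgHom.ext
    intro z
    obtain ⟨p, rfl⟩ := Groth.Agent.H61.CRingQ.mk_surjective R' (Ideal.span {x}) hJ z
    show μ (c'.1 p) = φb.1 (Groth.Agent.H61.CRingQ.mk R' (Ideal.span {x}) hJ p)
    rw [hc'μ, hc1']
  · show ξ'.app B _ = y
    rw [← hc2, ← hc'ξ]
    congr 1

/-- A versal family is surjective on tangent spaces when `F(k)` is a point. -/
theorem tangent_surjective (h0 : H0 F) {R : Type u} [CommRing R] [Algebra Λ R]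
    {resR : R →ₐ[Λ] k} (ξ : Family R resR F) (hv : IsVersal ξ) :
    Function.Surjective (ξ.app (dual Λ k)) := by
  intro y
  obtain ⟨ψ, -, hψ⟩ := hv (toBase (dual Λ k)) (dual Λ k).res_surjective
    _root_.H61.homSetBasePt y (@Subsingleton.elim _ h0.2 _ _)
  exact ⟨ψ, hψ⟩

/-- A minimal versal family is injective on tangent spaces when the functor satisfies `(S2)` and
the derivations of `k` inject into the tangent space. -/
theorem tangent_injective (h0 : H0 F) (hF : Heps F)
    (hder : ∀ x₀ : F.obj (base Λ k),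
      Function.Injective (fun σ : base Λ k ⟶ dual Λ k => F.map σ x₀))
    (R' : CRing Λ k) (ξ' : Family R'.carrier R'.res F) (hmin : ξ'.IsMinimalVersal) :
    Function.Injective (ξ'.app (dual Λ k)) := by
  classical
  intro c₁ c₂ h12
  by_contra hne
  have hex : ∃ t, dsnd (c₁.1 t) - dsnd (c₂.1 t) ≠ 0 := by
    by_contra hall
    apply hne
    apply homSet_ext
    intro t
    apply dual_ext
    · rw [dfst_homSet, dfst_homSet]
    · by_contra h
      exact hall ⟨t, fun h' => h (sub_eq_zero.1 h')⟩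
  by_cases hm : ∃ x ∈ IsLocalRing.maximalIdeal R'.carrier, dsnd (c₁.1 x) - dsnd (c₂.1 x) ≠ 0
  · obtain ⟨x, hxm, hDx⟩ := hm
    have hJ : Ideal.span {x} ≤ IsLocalRing.maximalIdeal R'.carrier :=
      (Ideal.span_singleton_le_iff_mem _).2 hxm
    have hv := isVersal_quot_of_tangent hF R' ξ' hmin.1 c₁ c₂ h12 x hDx hJ
    obtain ⟨j, hj, hjξ⟩ := Groth.Agent.S12720.result h0
      (Groth.Agent.H61.CRingQ.quot R' (Ideal.span {x}) hJ)
      (ξ'.along (Groth.Agent.H61.CRingQ.mk R' (Ideal.span {x}) hJ)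
        (Groth.Agent.H61.CRingQ.res_comp_mk R' (Ideal.span {x}) hJ)) hv R' ξ'.toFormalElt
    have hpush : (ξ'.along (Groth.Agent.H61.CRingQ.mk R' (Ideal.span {x}) hJ)
        (Groth.Agent.H61.CRingQ.res_comp_mk R' (Ideal.span {x}) hJ)).toFormalElt.push j hj =
        ξ'.toFormalElt := by
      rw [← along_toFormalElt]
      exact hjξ
    have hjs : Function.Surjective j := hmin.2 _ _ j hj hpush
    let e : R'.carrier →+* R'.carrier :=
      (j : (Groth.Agent.H61.CRingQ.quot R' (Ideal.span {x}) hJ).carrier →+* R'.carrier).comp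
        (Groth.Agent.H61.CRingQ.mk R' (Ideal.span {x}) hJ :
          R'.carrier →+* (Groth.Agent.H61.CRingQ.quot R' (Ideal.span {x}) hJ).carrier)
    have he : ∀ t, e t = j (Groth.Agent.H61.CRingQ.mk R' (Ideal.span {x}) hJ t) := fun t => rfl
    have hes : Function.Surjective e := by
      intro z
      obtain ⟨w, hw⟩ := hjs z
      obtain ⟨p, hp⟩ := Groth.Agent.H61.CRingQ.mk_surjective R' (Ideal.span {x}) hJ w
      exact ⟨p, by rw [he, hp, hw]⟩
    have hei : Function.Injective e := injective_of_surjective_ringEnd e hes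
    have hqx : Groth.Agent.H61.CRingQ.mk R' (Ideal.span {x}) hJ x = 0 :=
      (Groth.Agent.H61.CRingQ.mk_eq_zero_iff R' (Ideal.span {x}) hJ x).2
        (Ideal.mem_span_singleton_self x)
    have hx0 : x = 0 := by
      apply hei
      rw [he, hqx, map_zero, map_zero]
    apply hDx
    rw [hx0, map_zero, map_zero, sub_self]
  · have hDm : ∀ x ∈ IsLocalRing.maximalIdeal R'.carrier,
        dsnd (c₁.1 x) - dsnd (c₂.1 x) = 0 := by
      intro x hx
      by_contra h
      exact hm ⟨x, hx, h⟩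
    haveI := _root_.H61.homSet_base_subsingleton (Λ := Λ) (k := k) (R := R'.carrier)
      (resR := R'.res)
    obtain ⟨χ, hχ1, hχ2⟩ := _root_.H61.fibreProd_lift isFibreProd_dual2 c₁ c₂
      (Subsingleton.elim _ _)
    obtain ⟨χ', hχ'1, hχ'2⟩ := _root_.H61.fibreProd_lift isFibreProd_dual2 c₁ c₁
      (Subsingleton.elim _ _)
    have hχχ' : ξ'.app _ χ = ξ'.app _ χ' := by
      apply (hF (pr₁ : dual2 Λ k ⟶ dual Λ k) pr₂ isFibreProd_dual2).1
      apply Subtype.ext
      apply Prod.ext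
      · change F.map pr₁ (ξ'.app _ χ) = F.map pr₁ (ξ'.app _ χ')
        rw [← ξ'.natural, ← ξ'.natural, hχ1, hχ'1]
      · change F.map pr₂ (ξ'.app _ χ) = F.map pr₂ (ξ'.app _ χ')
        rw [← ξ'.natural, ← ξ'.natural, hχ2, hχ'2, h12]
    obtain ⟨m, hm_def⟩ : ∃ m : HomSet R'.carrier R'.res (dual Λ k), m = HomSet.map minus χ :=
      ⟨_, rfl⟩
    have hmD : ∀ t, dsnd (m.1 t) = dsnd (c₁.1 t) - dsnd (c₂.1 t) := by
      intro t
      have e1 : pr₁ (χ.1 t) = c₁.1 t := congrArg (fun z => z.1 t) hχ1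
      have e2 : pr₂ (χ.1 t) = c₂.1 t := congrArg (fun z => z.1 t) hχ2
      rw [hm_def]
      show dsnd (minus (χ.1 t)) = _
      rw [dsnd_minus, e1, e2]
    have hm0 : ∀ t, R'.res t = 0 → m.1 t = 0 := by
      intro t ht
      apply dual_ext
      · rw [dfst_homSet, ht]
        rfl
      · rw [hmD, hDm t ((CRing.mem_maximalIdeal_iff R' t).2 ht)]
        rfl
    have hmeq : ∀ a b, R'.res a = R'.res b → m.1 a = m.1 b := by
      intro a b hab
      have h1 : m.1 (a - b) = 0 := hm0 _ (by rw [map_sub, hab, sub_self])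
      rw [map_sub] at h1
      exact sub_eq_zero.1 h1
    let s : k → R'.carrier := Function.surjInv R'.res_surjective
    have hs : ∀ κ, R'.res (s κ) = κ := Function.surjInv_eq R'.res_surjective
    let σA : k →ₐ[Λ] (dual Λ k) :=
      { toFun := fun κ => m.1 (s κ)
        map_one' := (hmeq _ _ (by rw [hs, map_one])).trans (map_one m.1)
        map_mul' := fun a b =>
          (hmeq _ _ (by rw [hs, map_mul, hs, hs])).trans (map_mul m.1 _ _)
        map_zero' := (hmeq _ _ (by rw [hs, map_zero])).trans (map_zero m.1)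
        map_add' := fun a b =>
          (hmeq _ _ (by rw [hs, map_add, hs, hs])).trans (map_add m.1 _ _)
        commutes' := fun l =>
          (hmeq _ _ (by rw [hs, AlgHom.commutes])).trans (m.1.commutes l) }
    obtain ⟨σ, hσ⟩ : ∃ σ : base Λ k ⟶ dual Λ k, ∀ t, σ (R'.res t) = m.1 t :=
      ⟨⟨σA, AlgHom.ext fun κ => (DFunLike.congr_fun m.2 (s κ)).trans (hs κ)⟩,
        fun t => hmeq _ _ (hs _)⟩
    have hσm : HomSet.map σ
        (_root_.H61.homSetBasePt : HomSet R'.carrier R'.res (base Λ k)) = m := by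
      apply homSet_ext
      intro t
      exact hσ t
    obtain ⟨x₀, hx₀⟩ : ∃ x₀ : F.obj (base Λ k), x₀ = ξ'.app (base Λ k)
        (_root_.H61.homSetBasePt : HomSet R'.carrier R'.res (base Λ k)) := ⟨_, rfl⟩
    have e1 : ξ'.app _ m = F.map σ x₀ := by
      rw [← hσm, ξ'.natural, hx₀]
    have hbm : HomSet.map minus χ' = HomSet.map baseToDual
        (_root_.H61.homSetBasePt : HomSet R'.carrier R'.res (base Λ k)) := by
      apply homSet_ext
      intro t
      have f1 : pr₁ (χ'.1 t) = c₁.1 t := congrArg (fun z => z.1 t) hχ'1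
      have f2 : pr₂ (χ'.1 t) = c₁.1 t := congrArg (fun z => z.1 t) hχ'2
      apply dual_ext
      · rw [dfst_homSet, dfst_homSet]
      · show dsnd (minus (χ'.1 t)) = dsnd (baseToDual (R'.res t))
        rw [dsnd_minus, f1, f2, sub_self, dsnd_baseToDual]
    have e2 : ξ'.app _ m = F.map baseToDual x₀ := by
      rw [hm_def, ξ'.natural, hχχ', ← ξ'.natural, hbm, ξ'.natural, hx₀]
    have hσb : σ = baseToDual := hder x₀ (e1.symm.trans e2)
    subst hσb
    obtain ⟨t, ht⟩ := hex
    apply ht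
    rw [← hmD t, ← hσ t]
    exact dsnd_baseToDual _

/-- **Pro-representability criterion**, general base. -/
theorem prorep_iff (F : Art Λ k ⥤ Type v) [TangentStr F] :
    IsProrepresentable F ↔
      ((H0 F ∧ (∀ ⦃B A A' A'' : Art Λ k⦄ (p' : B ⟶ A') (p'' : B ⟶ A'') (f' : A' ⟶ A)
        (f'' : A'' ⟶ A) (h : IsFibreProd p' p'' f' f''),
        Function.Surjective f'' → Function.Bijective (cmp F h))) ∧
        Hfin F ∧
        ∀ x₀ : F.obj (base Λ k),
          Function.Injective (fun σ : base Λ k ⟶ dual Λ k => F.map σ x₀)) := by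
  constructor
  · rintro ⟨⟨R, ξ, hu⟩⟩
    refine ⟨⟨⟨⟨ξ.app _ _root_.H61.homSetBasePt⟩, ⟨?_⟩⟩, ?_⟩, hfin_of_isUniversal_gen R ξ hu, ?_⟩
    · intro a b
      obtain ⟨φ, rfl⟩ := (hu (base Λ k)).2 a
      obtain ⟨ψ, rfl⟩ := (hu (base Λ k)).2 b
      rw [@Subsingleton.elim _ _root_.H61.homSet_base_subsingleton φ ψ]
    · intro B A A' A'' p' p'' f' f'' h _
      exact isLeftExact_of_isUniversal ξ hu p' p'' f' f'' h
    · intro x₀ σ σ' hσ
      obtain ⟨φ₀, rfl⟩ := (hu (base Λ k)).2 x₀
      have hσ' : F.map σ (ξ.app _ φ₀) = F.map σ' (ξ.app _ φ₀) := hσ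
      have h1 : HomSet.map σ φ₀ = HomSet.map σ' φ₀ := by
        apply (hu (dual Λ k)).1
        rw [ξ.natural, ξ.natural, hσ']
      apply hom_ext
      apply AlgHom.ext
      intro κ
      obtain ⟨r, hr⟩ := R.res_surjective κ
      have h2 : σ.toAlgHom (φ₀.1 r) = σ'.toAlgHom (φ₀.1 r) := congrArg (fun z => z.1 r) h1
      have h3 : φ₀.1 r = κ := (DFunLike.congr_fun φ₀.2 r).trans hr
      rw [h3] at h2
      exact h2
  · rintro ⟨⟨h0, hRS⟩, hfin, hder⟩
    have hbar : Hbar F := by
      intro B A A' A'' p' p'' f' f'' h hs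
      exact (hRS p' p'' f' f'' h hs.1).2
    have heps : Heps F := by
      intro B A' p' p'' h
      exact hRS p' p'' (toBase A') (toBase (dual Λ k)) h toBase_dual_surjective
    have hsq : HSq F := by
      intro B A A' p₁ p₂ f h hs
      exact hRS p₁ p₂ f f h hs.1
    obtain ⟨R, ξ, hv⟩ := exists_versal h0 hbar heps hfin
    obtain ⟨R', ξ', hmin⟩ := exists_minimalVersal h0 ⟨R, ξ, hv⟩
    have hinj := tangent_injective h0 heps hder R' ξ' hmin
    have hsurj := tangent_surjective h0 ξ' hmin.1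
    exact ⟨⟨R', ξ', isUniversal_of_hsq ξ' h0 hsq hmin.1 ⟨hinj, hsurj⟩⟩⟩

end Groth.Agent.H63.ProrepRS
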