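import Groth.Prelude.Def_ArtFun2
import Mathlib.CategoryTheory.Limits.Types.Pullbacks
import Mathlib.CategoryTheory.Limits.FunctorCategory.Basic
import Mathlib.CategoryTheory.Limits.Shapes.Pullback.IsPullback.Basic

/-!
Elements of a fibre product of `Type`-valued functors on `ArtFun.Art Λ k`.
-/

set_option autoImplicit false
set_option linter.unusedSectionVars false
universe u v

namespace Groth.Agent.H63

open CategoryTheory ArtFun ArtFun.Art

variable {Λ : Type u} {k : Type u} [CommRing Λ] [Field k] [Algebra Λ k]

section Pull

variable {F G H : Art Λ k ⥤ Type v} (f : H ⟶ F) (g : G ⟶ F)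

theorem isPullback_app (A : Art Λ k) :
    IsPullback ((Limits.pullback.fst f g).app A) ((Limits.pullback.snd f g).app A)
      (f.app A) (g.app A) :=
  (IsPullback.of_hasPullback f g).map ((evaluation (Art Λ k) (Type v)).obj A)

theorem pullback_ext (A : Art Λ k) {x y : (Limits.pullback f g).obj A}
    (h1 : (Limits.pullback.fst f g).app A x = (Limits.pullback.fst f g).app A y)
    (h2 : (Limits.pullback.snd f g).app A x = (Limits.pullback.snd f g).app A y) : x = y :=
  Limits.Types.ext_of_isPullback (isPullback_app f g A) h1 h2

theorem pullback_exists (A : Art Λ k) (a : H.obj A) (b : G.obj A) (hab : f.app A a = g.app A b) :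
    ∃ x : (Limits.pullback f g).obj A,
      (Limits.pullback.fst f g).app A x = a ∧ (Limits.pullback.snd f g).app A x = b :=
  Limits.Types.exists_of_isPullback (isPullback_app f g A) a b hab

theorem pullback_condition_apply (A : Art Λ k) (x : (Limits.pullback f g).obj A) :
    f.app A ((Limits.pullback.fst f g).app A x) = g.app A ((Limits.pullback.snd f g).app A x) := by
  have h := congrArg (fun (η : Limits.pullback f g ⟶ F) => η.app A x) (Limits.pullback.condition (f := f) (g := g))
  exact h

end Pull

end Groth.Agent.H63
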