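import Groth.Agent.H63.ArtTheta

/-!
For functors `F`, `G` satisfying (RS) and `φ : F ⟶ G` injective on tangent spaces, the relative
comparison map `F(B) → F(A) ×_{G(A)} G(B)` is injective for every surjection `B → A`.
-/

set_option autoImplicit false
set_option linter.unusedSectionVars false
universe u v

namespace Groth.Agent.H63

open CategoryTheory ArtFun ArtFun.Art

variable {Λ : Type u} {k : Type u} [CommRing Λ] [Field k] [Algebra Λ k]
  [IsNoetherianRing Λ] [Module.Finite Λ k]

theorem relCmp_injective {F G : Art Λ k ⥤ Type v}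
    (hF : ∀ ⦃B A A' A'' : Art Λ k⦄ (p' : B ⟶ A') (p'' : B ⟶ A'') (f' : A' ⟶ A) (f'' : A'' ⟶ A)
        (h : IsFibreProd p' p'' f' f''), Function.Surjective f'' → Function.Bijective (cmp F h))
    (hG : ∀ ⦃B A A' A'' : Art Λ k⦄ (p' : B ⟶ A') (p'' : B ⟶ A'') (f' : A' ⟶ A) (f'' : A'' ⟶ A)
        (h : IsFibreProd p' p'' f' f''), Function.Surjective f'' → Function.Bijective (cmp G h))
    (φ : F ⟶ G) (hd : Function.Injective (TangentSpace.map φ))
    ⦃B A : Art Λ k⦄ (μ : B ⟶ A) (hμ : Function.Surjective μ) :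
    Function.Injective (relCmp φ μ) := by
  refine surjective_induction
    (fun (A B : Art Λ k) (μ : B ⟶ A) => Function.Injective (relCmp φ μ)) ?_ ?_ ?_ μ hμ
  · intro A B e he x y hxy
    have h1 : F.map e x = F.map e y := congrArg (fun t => t.1.1) hxy
    have h2 := congrArg (F.map (inv e)) h1
    rwa [← Functor.map_comp_apply, ← Functor.map_comp_apply, IsIso.hom_inv_id,
      Functor.map_id_apply, Functor.map_id_apply] at h2
  · intro A B μ hsm x₁ x₂ hx12
    have h1 : F.map μ x₁ = F.map μ x₂ := congrArg (fun t => t.1.1) hx12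
    have hx : φ.app B x₁ = φ.app B x₂ := congrArg (fun t => t.1.2) hx12
    have hμ := hsm.1
    have hC := isFibreProd_fibreProd μ μ hμ
    obtain ⟨θ, hθ⟩ := exists_theta hC hsm
    have hdual : Function.Surjective (toBase (dual Λ k)) := (dual Λ k).res_surjective
    obtain ⟨z, hz⟩ := (hF _ _ μ μ hC hμ).2 ⟨(x₁, x₂), h1⟩
    have hz1 : F.map (fibreProdFst μ μ hμ) z = x₁ := congrArg (fun t => t.1.1) hz
    have hz2 : F.map (fibreProdSnd μ μ hμ) z = x₂ := congrArg (fun t => t.1.2) hz
    have hδ1 : fibreProdLift μ μ hμ (𝟙 B) (𝟙 B) rfl ≫ fibreProdFst μ μ hμ = 𝟙 B :=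
      fibreProdLift_fst μ μ hμ (𝟙 B) (𝟙 B) rfl
    have hδ2 : fibreProdLift μ μ hμ (𝟙 B) (𝟙 B) rfl ≫ fibreProdSnd μ μ hμ = 𝟙 B :=
      fibreProdLift_snd μ μ hμ (𝟙 B) (𝟙 B) rfl
    generalize fibreProdLift μ μ hμ (𝟙 B) (𝟙 B) rfl = δ at hδ1 hδ2
    have hz01 : F.map (fibreProdFst μ μ hμ) (F.map δ x₁) = x₁ := by
      rw [← Functor.map_comp_apply, hδ1, Functor.map_id_apply]
    have hz02 : F.map (fibreProdSnd μ μ hμ) (F.map δ x₁) = x₁ := by
      rw [← Functor.map_comp_apply, hδ2, Functor.map_id_apply]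
    have h4 : φ.app _ z = φ.app _ (F.map δ x₁) := by
      apply (hG _ _ μ μ hC hμ).1
      apply FibProd.ext
      · change G.map (fibreProdFst μ μ hμ) (φ.app _ z) =
          G.map (fibreProdFst μ μ hμ) (φ.app _ (F.map δ x₁))
        rw [← NatTrans.naturality_apply φ _ z, ← NatTrans.naturality_apply φ _ (F.map δ x₁),
          hz1, hz01]
      · change G.map (fibreProdSnd μ μ hμ) (φ.app _ z) =
          G.map (fibreProdSnd μ μ hμ) (φ.app _ (F.map δ x₁))
        rw [← NatTrans.naturality_apply φ _ z, ← NatTrans.naturality_apply φ _ (F.map δ x₁),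
          hz2, hz02, hx]
    have h5 : F.map θ z = F.map θ (F.map δ x₁) := by
      apply hd
      change φ.app _ (F.map θ z) = φ.app _ (F.map θ (F.map δ x₁))
      rw [NatTrans.naturality_apply φ θ z, NatTrans.naturality_apply φ θ (F.map δ x₁), h4]
    have h6 : z = F.map δ x₁ := by
      apply (hF _ _ (toBase B) (toBase (dual Λ k)) hθ hdual).1
      apply FibProd.ext
      · change F.map (fibreProdFst μ μ hμ) z = F.map (fibreProdFst μ μ hμ) (F.map δ x₁)
        rw [hz1, hz01]
      · exact h5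
    rw [← hz2, h6, hz02]
  · intro A B C p q hp hq x y hxy
    have h1 : F.map (p ≫ q) x = F.map (p ≫ q) y := congrArg (fun t => t.1.1) hxy
    have h2 : φ.app C x = φ.app C y := congrArg (fun t => t.1.2) hxy
    apply hp
    apply Subtype.ext
    apply Prod.ext
    · change F.map p x = F.map p y
      apply hq
      apply Subtype.ext
      apply Prod.ext
      · change F.map q (F.map p x) = F.map q (F.map p y)
        rw [← Functor.map_comp_apply, ← Functor.map_comp_apply]
        exact h1
      · change φ.app B (F.map p x) = φ.app B (F.map p y)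
        rw [NatTrans.naturality_apply φ p x, NatTrans.naturality_apply φ p y, h2]
    · exact h2

end Groth.Agent.H63
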