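import Mathlib
import Groth.Prelude.Def_ActBC

/-! Base change of a morphism of `S`-schemes: the cartesian square (helper63). -/

set_option autoImplicit false
universe u
open CategoryTheory CategoryTheory.Limits AlgebraicGeometry

namespace Groth.Agent.H63.HomArtBC

/-- (B1) base change of a homomorphism: the cartesian square. -/
theorem isPullback_baseChange {S S' : Scheme.{u}} (b : S' ⟶ S) {G H : Over S} (u : G ⟶ H) :
    IsPullback (pullback.fst G.hom b) ((Over.pullback b).map u).left u.left
      (pullback.fst H.hom b) := by
  have hsnd : ((Over.pullback b).map u).left ≫ pullback.snd H.hom b = pullback.snd G.hom b :=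
    Over.w ((Over.pullback b).map u)
  have hfst : ((Over.pullback b).map u).left ≫ pullback.fst H.hom b =
      pullback.fst G.hom b ≫ u.left := ActBC.pullback_map_left_fst b u
  have s : IsPullback (((Over.pullback b).map u).left ≫ pullback.snd H.hom b)
      (pullback.fst G.hom b) b (u.left ≫ H.hom) := by
    rw [hsnd, Over.w u]
    exact (IsPullback.of_hasPullback G.hom b).flip
  exact (IsPullback.of_right s hfst (IsPullback.of_hasPullback H.hom b).flip).flip

end Groth.Agent.H63.HomArtBC
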