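import Mathlib
import Groth.Agent.H22.UnivOpenDesc

/-! The geometric point `Spec k̄ → Spec A` of a local artinian ring: surjective, universally open,
universally closed (helper63). -/

set_option autoImplicit false
universe u
open CategoryTheory CategoryTheory.Limits AlgebraicGeometry

namespace Groth.Agent.H63.HomArtBase

open Groth.Agent.H22.UnivOpenDesc

section base

variable (A : Type u) [CommRing A] [IsArtinianRing A] [IsLocalRing A]

/-- the algebraic closure of the residue field -/
abbrev Kbar : Type u := AlgebraicClosure (IsLocalRing.ResidueField A)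

/-- `A → k → k̄` -/
noncomputable def φ : A →+* Kbar A :=
  (algebraMap (IsLocalRing.ResidueField A) (Kbar A)).comp (IsLocalRing.residue A)

/-- `Spec k̄ → Spec A` -/
noncomputable def b : Spec (CommRingCat.of (Kbar A)) ⟶ Spec (CommRingCat.of A) :=
  Spec.map (CommRingCat.ofHom (φ A))

instance surjective_b : Surjective (b A) := by
  constructor
  intro x
  haveI : Subsingleton (PrimeSpectrum A) := inferInstance
  haveI : Subsingleton ↥(Spec (CommRingCat.of A)) := ‹Subsingleton (PrimeSpectrum A)›
  obtain ⟨y⟩ : Nonempty ↥(Spec (CommRingCat.of (Kbar A))) :=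
    (inferInstance : Nonempty (PrimeSpectrum (Kbar A)))
  exact ⟨y, Subsingleton.elim _ _⟩

lemma b_eq : b A = Spec.map (CommRingCat.ofHom (algebraMap (IsLocalRing.ResidueField A) (Kbar A))) ≫
    Spec.map (CommRingCat.ofHom (IsLocalRing.residue A)) := by
  rw [← Spec.map_comp]
  rfl

instance universallyOpen_b : UniversallyOpen (b A) := by
  rw [b_eq]
  haveI : IsClosedImmersion (Spec.map (CommRingCat.ofHom (IsLocalRing.residue A))) :=
    IsClosedImmersion.spec_of_surjective _ IsLocalRing.residue_surjective
  haveI : UniversallyOpen (Spec.map (CommRingCat.ofHom (IsLocalRing.residue A))) := by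
    apply universallyOpen_of_isClosedImmersion
    haveI : Subsingleton (PrimeSpectrum A) := inferInstance
    haveI : Subsingleton ↥(Spec (CommRingCat.of A)) := ‹Subsingleton (PrimeSpectrum A)›
    convert isOpen_univ
    rw [Set.eq_univ_iff_forall]
    intro x
    obtain ⟨y⟩ : Nonempty ↥(Spec (CommRingCat.of (IsLocalRing.ResidueField A))) :=
      (inferInstance : Nonempty (PrimeSpectrum (IsLocalRing.ResidueField A)))
    exact ⟨y, Subsingleton.elim _ _⟩
  infer_instance

instance universallyClosed_b : UniversallyClosed (b A) := by
  haveI : IsIntegralHom (b A) := by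
    rw [b, IsIntegralHom.SpecMap_iff]
    simp only [CommRingCat.hom_ofHom]
    have h1 : (IsLocalRing.residue A).IsIntegral :=
      RingHom.isIntegral_of_surjective _ IsLocalRing.residue_surjective
    have h2 : (algebraMap (IsLocalRing.ResidueField A) (Kbar A)).IsIntegral :=
      algebraMap_isIntegral_iff.mpr inferInstance
    exact h1.trans _ _ h2
  infer_instance

end base

end Groth.Agent.H63.HomArtBase
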