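import Mathlib
import Groth.Agent.H63.HomArtBC
import Groth.Agent.H63.HomArtBase
import Groth.Agent.H22.UnivOpenDesc
import Groth.Agent.H60.ArtB2
import Groth.Agent.S5331
import Groth.Agent.H60.ArtK1

/-! SGA3 VI_B 1.3–1.4: a quasi-compact homomorphism between group schemes lft over a local artinian
ring is proper iff its kernel is; monomorphisms are closed immersions (helper63). -/

set_option autoImplicit false
universe u
open CategoryTheory CategoryTheory.Limits AlgebraicGeometry MonoidalCategory CartesianMonoidalCategory MonObj GrpObj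

namespace Groth.Agent.H63.HomArtProper

open Groth.Agent.H22.UnivOpenDesc Groth.Agent.H63.HomArtBase

variable (A : Type u) [CommRing A] [IsArtinianRing A] [IsLocalRing A]

instance subsingleton_spec : Subsingleton ↥(Spec (CommRingCat.of A)) :=
  (inferInstance : Subsingleton (PrimeSpectrum A))

/-- SGA3 VI_B 1.3 (iii) ⇒ (i) -/
theorem isProper_hom_of_kernel (G H : Over (Spec (CommRingCat.of A))) [GrpObj G] [GrpObj H]
    [LocallyOfFiniteType G.hom] [LocallyOfFiniteType H.hom] (u : G ⟶ H) [IsMonHom u]
    [QuasiCompact u.left]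
    (hker : IsProper (pullback.snd u.left
      (η[H] : 𝟙_ (Over (Spec (CommRingCat.of A))) ⟶ H).left)) : IsProper u.left := by
  letI : GrpObj ((Over.pullback (b A)).obj G) := Functor.grpObjObj
  letI : GrpObj ((Over.pullback (b A)).obj H) := Functor.grpObjObj
  haveI : IsMonHom ((Over.pullback (b A)).map u) := inferInstance
  haveI : LocallyOfFiniteType ((Over.pullback (b A)).obj G).hom :=
    inferInstanceAs (LocallyOfFiniteType (pullback.snd G.hom (b A)))
  haveI : LocallyOfFiniteType ((Over.pullback (b A)).obj H).hom :=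
    inferInstanceAs (LocallyOfFiniteType (pullback.snd H.hom (b A)))
  have sq := Groth.Agent.H63.HomArtBC.isPullback_baseChange (b A) u
  haveI : QuasiCompact ((Over.pullback (b A)).map u).left :=
    MorphismProperty.of_isPullback (P := @QuasiCompact) sq inferInstance
  have hker₁ := Groth.Agent.H60.ArtB2.kernel_baseChange (b A) u @IsProper hker
  haveI : IsProper ((Over.pullback (b A)).map u).left :=
    Groth.Agent.H60.ArtK1.isProper_hom_of_isProper_kernel _ hker₁
  haveI : UniversallyClosed u.left := universallyClosed_of_isPullback sq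
  haveI : IsSeparated G.hom := Groth.Agent.S5331.result (Spec (CommRingCat.of A)) G
  haveI : IsSeparated (u.left ≫ H.hom) := by rw [Over.w]; infer_instance
  haveI : IsSeparated u.left := IsSeparated.of_comp _ H.hom
  haveI : LocallyOfFiniteType (u.left ≫ H.hom) := by rw [Over.w]; infer_instance
  haveI : LocallyOfFiniteType u.left := locallyOfFiniteType_of_comp _ H.hom
  exact {}

/-- SGA3 VI_B 1.3 (i) ⟺ (iii) -/
theorem isProper_hom_iff (G H : Over (Spec (CommRingCat.of A))) [GrpObj G] [GrpObj H]
    [LocallyOfFiniteType G.hom] [LocallyOfFiniteType H.hom] (u : G ⟶ H) [IsMonHom u]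
    [QuasiCompact u.left] :
    IsProper u.left ↔ IsProper (pullback.snd u.left
      (η[H] : 𝟙_ (Over (Spec (CommRingCat.of A))) ⟶ H).left) :=
  ⟨fun _ => inferInstance, isProper_hom_of_kernel A G H u⟩

/-- SGA3 VI_B 1.4.2: a quasi-compact monomorphism is a closed immersion -/
theorem isClosedImmersion_of_mono (G H : Over (Spec (CommRingCat.of A))) [GrpObj G] [GrpObj H]
    [LocallyOfFiniteType G.hom] [LocallyOfFiniteType H.hom] (u : G ⟶ H) [IsMonHom u] [Mono u]
    [QuasiCompact u.left] : IsClosedImmersion u.left := by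
  haveI : Mono u.left := inferInstance
  rw [IsClosedImmersion.iff_isProper_and_mono]
  refine ⟨isProper_hom_of_kernel A G H u ?_, inferInstance⟩
  -- the kernel is trivial
  have h1 : (η[G] : 𝟙_ (Over (Spec (CommRingCat.of A))) ⟶ G).left ≫ u.left =
      𝟙 _ ≫ (η[H] : 𝟙_ (Over (Spec (CommRingCat.of A))) ⟶ H).left := by
    rw [Category.id_comp, ← Over.comp_left, IsMonHom.one_hom]
  let s := pullback.lift (η[G] : 𝟙_ (Over (Spec (CommRingCat.of A))) ⟶ G).left (𝟙 _) h1
  have hs : s ≫ pullback.snd u.left
      (η[H] : 𝟙_ (Over (Spec (CommRingCat.of A))) ⟶ H).left = 𝟙 _ := pullback.lift_snd _ _ _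
  haveI : IsSplitEpi (pullback.snd u.left
      (η[H] : 𝟙_ (Over (Spec (CommRingCat.of A))) ⟶ H).left) := IsSplitEpi.mk' ⟨s, hs⟩
  haveI : IsIso (pullback.snd u.left
      (η[H] : 𝟙_ (Over (Spec (CommRingCat.of A))) ⟶ H).left) := isIso_of_mono_of_isSplitEpi _
  infer_instance

end Groth.Agent.H63.HomArtProper
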