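import Mathlib
import Groth.Prelude
import Groth.Agent.H54.ArtRes_SOS
import Groth.Agent.H63.HomArtProper

set_option autoImplicit false
universe u
open CategoryTheory CategoryTheory.Limits AlgebraicGeometry

namespace Groth.Agent.H63.ArtResMain

open Groth.Agent.H63.HomArtProper

/-- A surjective closed immersion is a homeomorphism. -/
theorem isHomeomorph_of_surjective {X Y : Scheme.{u}} (p : X ⟶ Y) [IsClosedImmersion p]
    [Surjective p] : IsHomeomorph p :=
  isHomeomorph_iff_isEmbedding_surjective.mpr ⟨p.isClosedEmbedding.isEmbedding, p.surjective⟩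

/-- purely topological transfer -/
theorem top_transfer {X Y X₀ Y₀ : Type*} [TopologicalSpace X] [TopologicalSpace Y]
    [TopologicalSpace X₀] [TopologicalSpace Y₀] (u : X → Y) (u₀ : X₀ → Y₀) (p : X₀ → X) (q : Y₀ → Y)
    (hp : IsHomeomorph p) (hq : IsHomeomorph q) (hc : ∀ z, u (p z) = q (u₀ z)) :
    (Topology.IsEmbedding u₀ → Topology.IsEmbedding u) ∧
    (IsClosed (Set.range u₀) → IsClosed (Set.range u)) ∧
    (IsLocallyClosed (Set.range u₀) → IsLocallyClosed (Set.range u)) := by
  let eP := hp.homeomorph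
  let eQ := hq.homeomorph
  have hu : u = eQ ∘ u₀ ∘ eP.symm := by
    funext x
    obtain ⟨z, rfl⟩ := hp.surjective x
    have : eP.symm (p z) = z := eP.symm_apply_apply z
    simp only [Function.comp_apply]
    rw [this]
    exact hc z
  have hr : Set.range u = eQ.symm ⁻¹' (Set.range u₀) := by
    rw [hu, Set.range_comp, Set.range_comp, eP.symm.surjective.range_eq, Set.image_univ]
    ext y
    simp only [Set.mem_image, Set.mem_range, Set.mem_preimage]
    constructor
    · rintro ⟨_, ⟨z, rfl⟩, rfl⟩
      exact ⟨z, (eQ.symm_apply_apply _).symm⟩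
    · rintro ⟨z, hz⟩
      exact ⟨u₀ z, ⟨z, rfl⟩, by rw [hz]; exact eQ.apply_symm_apply y⟩
  refine ⟨fun h => ?_, fun h => ?_, fun h => ?_⟩
  · rw [hu]
    exact eQ.isEmbedding.comp (h.comp eP.symm.isEmbedding)
  · rw [hr]
    exact h.preimage eQ.symm.continuous
  · rw [hr]
    exact h.preimage eQ.symm.continuous

theorem transfer (A : Type u) [CommRing A] [IsArtinianRing A] [IsLocalRing A]
    (X Y : Over (Spec (CommRingCat.of A))) (u : X ⟶ Y) :
    letI i : Spec (CommRingCat.of (IsLocalRing.ResidueField A)) ⟶ (Spec (CommRingCat.of A)) :=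
      Spec.map (CommRingCat.ofHom (IsLocalRing.residue A))
    (SurjectiveOnStalks ((Over.pullback i).map u).left → SurjectiveOnStalks u.left) ∧
    (Topology.IsEmbedding ((Over.pullback i).map u).left → Topology.IsEmbedding u.left) ∧
    ∀ _ : Unit, (IsClosed (Set.range ((Over.pullback i).map u).left) → IsClosed (Set.range u.left)) ∧
      (IsLocallyClosed (Set.range ((Over.pullback i).map u).left) →
        IsLocallyClosed (Set.range u.left)) := by
  set i : Spec (CommRingCat.of (IsLocalRing.ResidueField A)) ⟶ (Spec (CommRingCat.of A)) :=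
    Spec.map (CommRingCat.ofHom (IsLocalRing.residue A)) with hi
  haveI hicl : IsClosedImmersion i :=
    IsClosedImmersion.spec_of_surjective _ Ideal.Quotient.mk_surjective
  haveI hisurj : Surjective i :=
    ⟨fun y => ⟨IsLocalRing.closedPoint _, Subsingleton.elim _ _⟩⟩
  set u₀ := ((Over.pullback i).map u).left with hu₀
  have hw : u₀ ≫ pullback.fst Y.hom i = pullback.fst X.hom i ≫ u.left := by
    simp only [hu₀, Over.pullback, Over.homMk_left]
    exact pullback.lift_fst _ _ _
  have hw2 : u₀ ≫ pullback.snd Y.hom i = pullback.snd X.hom i := by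
    simp only [hu₀, Over.pullback, Over.homMk_left]
    exact pullback.lift_snd _ _ _
  have hY : IsPullback (pullback.fst Y.hom i) (pullback.snd Y.hom i) Y.hom i :=
    IsPullback.of_hasPullback Y.hom i
  have hbig : IsPullback (u₀ ≫ pullback.snd Y.hom i) (pullback.fst X.hom i) i (u.left ≫ Y.hom) := by
    rw [hw2, Over.w u]
    exact (IsPullback.of_hasPullback X.hom i).flip
  have hX : IsPullback (pullback.fst X.hom i) u₀ u.left (pullback.fst Y.hom i) :=
    (IsPullback.of_right hbig hw hY.flip).flip
  have hp := isHomeomorph_of_surjective (pullback.fst X.hom i)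
  have hq := isHomeomorph_of_surjective (pullback.fst Y.hom i)
  have hc : ∀ z, u.left ((pullback.fst X.hom i) z) = (pullback.fst Y.hom i) (u₀ z) := by
    intro z
    rw [← Scheme.Hom.comp_apply, ← Scheme.Hom.comp_apply, hw]
  obtain ⟨t1, t2, t3⟩ := top_transfer (u.left : ↥X.left → ↥Y.left) (u₀ : _ → _)
    (pullback.fst X.hom i : _ → _) (pullback.fst Y.hom i : _ → _) hp hq hc
  refine ⟨fun h => ?_, t1, fun _ => ⟨t2, t3⟩⟩
  exact Groth.Agent.H54.ArtRes_SOS.surjectiveOnStalks_of_residue u.left Y.hom
    (pullback.fst X.hom i) u₀ (pullback.fst Y.hom i) (pullback.snd Y.hom i) hX hY h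

end Groth.Agent.H63.ArtResMain
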