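import Groth.Prelude.Def_ArtFun4
import Groth.Agent.H63.ArtCompl
import Groth.Agent.H63.ArtCoprod
import Mathlib.AlgebraicGeometry.Noetherian
import Mathlib.AlgebraicGeometry.Stalk

/-!
The local functor of a locally Noetherian scheme at a rational point is pro-represented by the
completed local ring (helper63).
-/

set_option autoImplicit false
set_option linter.unusedSectionVars false
set_option linter.unusedVariables false
set_option linter.style.haveILetI false
universe u

namespace Groth.Agent.H63.SchPt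

open CategoryTheory AlgebraicGeometry ArtFun ArtFun.Art

variable {k : Type u} [Field k]

theorem isLocalHom_res (A : Art k k) : IsLocalHom A.res.toRingHom := by
  refine ⟨fun a ha => ?_⟩
  by_contra hna
  have h1 : a ∈ IsLocalRing.maximalIdeal A := (IsLocalRing.mem_maximalIdeal a).2 hna
  rw [mem_maximalIdeal_iff] at h1
  have h2 : IsUnit (A.res a) := ha
  rw [h1] at h2
  exact not_isUnit_zero h2

/-- A morphism `Spec A ⟶ M` over `k` through the rational point comes from a local `k`-algebra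
map out of the local ring. -/
theorem surj_aux (M : Scheme.{u}) (m : M ⟶ Spec (CommRingCat.of k))
    (x₀ : Spec (CommRingCat.of k) ⟶ M) (x : M) [Algebra k (M.presheaf.stalk x)]
    (hstr : Spec.map (CommRingCat.ofHom (algebraMap k (M.presheaf.stalk x))) =
      M.fromSpecStalk x ≫ m)
    (aug : (M.presheaf.stalk x) →ₐ[k] k)
    (hloc : IsLocalHom aug.toRingHom)
    (hx₀ : Spec.map (CommRingCat.ofHom aug.toRingHom) ≫ M.fromSpecStalk x = x₀)
    (A : Art k k) (g : Art.spec A ⟶ M) (hg1 : g ≫ m = Art.specMap (Art.ofBase A))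
    (hg2 : Art.specRes A ≫ g = x₀) :
    ∃ ψ' : (M.presheaf.stalk x) →ₐ[k] A, A.res.comp ψ' = aug ∧
      Spec.map (CommRingCat.ofHom ψ'.toRingHom) ≫ M.fromSpecStalk x = g := by
  haveI hlA : IsLocalHom (CommRingCat.ofHom A.res.toRingHom).hom := isLocalHom_res A
  haveI hla : IsLocalHom (CommRingCat.ofHom aug.toRingHom).hom := hloc
  obtain ⟨⟨y, ψ, hψ⟩, hE⟩ : ∃ p, (SpecToEquivOfLocalRing M (CommRingCat.of A)).symm p = g :=
    ⟨SpecToEquivOfLocalRing M (CommRingCat.of A) g, Equiv.symm_apply_apply _ g⟩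
  haveI := hψ
  have hE' : Spec.map ψ ≫ M.fromSpecStalk y = g := hE
  have hy : x = y := by
    have h1 : (Spec.map ψ ≫ M.fromSpecStalk y) (IsLocalRing.closedPoint A) = y := by
      rw [Scheme.Hom.comp_apply, Spec_closedPoint, Scheme.fromSpecStalk_closedPoint]
    have h2 : (Spec.map (CommRingCat.ofHom aug.toRingHom) ≫ M.fromSpecStalk x)
        (IsLocalRing.closedPoint k) = x := by
      rw [Scheme.Hom.comp_apply, Spec_closedPoint, Scheme.fromSpecStalk_closedPoint]
    rw [hE'] at h1
    rw [hx₀, ← hg2, Scheme.Hom.comp_apply] at h2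
    have h3 : (Art.specRes A) (IsLocalRing.closedPoint k) = IsLocalRing.closedPoint A :=
      Spec_closedPoint (f := CommRingCat.ofHom A.res.toRingHom)
    rw [h3, h1] at h2
    exact h2.symm
  subst hy
  have hk : CommRingCat.ofHom (algebraMap k (M.presheaf.stalk x)) ≫ ψ =
      CommRingCat.ofHom (algebraMap k A) := by
    apply Spec.map_injective
    rw [Spec.map_comp, hstr, ← Category.assoc, hE', hg1]
    rfl
  have hres : ψ ≫ CommRingCat.ofHom A.res.toRingHom = CommRingCat.ofHom aug.toRingHom := by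
    have hcomp : IsLocalHom (ψ ≫ CommRingCat.ofHom A.res.toRingHom).hom :=
      @CommRingCat.isLocalHom_comp _ _ _ ψ (CommRingCat.ofHom A.res.toRingHom) hlA hψ
    have hE1 : (SpecToEquivOfLocalRing M (CommRingCat.of k)).symm
        ⟨x, ⟨ψ ≫ CommRingCat.ofHom A.res.toRingHom, hcomp⟩⟩ =
        (SpecToEquivOfLocalRing M (CommRingCat.of k)).symm
        ⟨x, ⟨CommRingCat.ofHom aug.toRingHom, hla⟩⟩ := by
      show Spec.map (ψ ≫ CommRingCat.ofHom A.res.toRingHom) ≫ M.fromSpecStalk x =
        Spec.map (CommRingCat.ofHom aug.toRingHom) ≫ M.fromSpecStalk x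
      rw [Spec.map_comp, Category.assoc, hE', hx₀]
      exact hg2
    have h3 := (SpecToEquivOfLocalRing M (CommRingCat.of k)).symm.injective hE1
    exact congrArg Subtype.val (eq_of_heq (Sigma.mk.inj_iff.1 h3).2)
  let ψ' : (M.presheaf.stalk x) →ₐ[k] A :=
    { toRingHom := ψ.hom
      commutes' := fun c => by
        have h := congrArg (fun f => f.hom c) hk
        exact h }
  refine ⟨ψ', ?_, ?_⟩
  · apply AlgHom.ext
    intro o
    have h := congrArg (fun f => f.hom o) hres
    exact h
  · show Spec.map (CommRingCat.ofHom ψ.hom) ≫ M.fromSpecStalk x = g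
    rw [CommRingCat.ofHom_hom]
    exact hE'

theorem main_aux (M : Scheme.{u}) [IsLocallyNoetherian M] (m : M ⟶ Spec (CommRingCat.of k))
    (x₀ : Spec (CommRingCat.of k) ⟶ M) (x : M) [Algebra k (M.presheaf.stalk x)]
    (hstr : Spec.map (CommRingCat.ofHom (algebraMap k (M.presheaf.stalk x))) =
      M.fromSpecStalk x ≫ m)
    (aug : (M.presheaf.stalk x) →ₐ[k] k) (haug : Function.Surjective aug)
    (hloc : IsLocalHom aug.toRingHom)
    (hx₀ : Spec.map (CommRingCat.ofHom aug.toRingHom) ≫ M.fromSpecStalk x = x₀) :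
    ∃ (R : CRing k k)
      (e : ∀ A : Art k k, HomSet R.carrier R.res A ≃
        {g : Art.spec A ⟶ M // g ≫ m = Art.specMap (Art.ofBase A) ∧ Art.specRes A ≫ g = x₀}),
      ∀ (A B : Art k k) (h : A ⟶ B) (φ : HomSet R.carrier R.res A),
        ((e B) (HomSet.map h φ)).1 = Art.specMap h ≫ ((e A) φ).1 := by
  classical
  have hψres : ∀ (A : Art k k)
      (φ : HomSet (complCRing aug haug).carrier (complCRing aug haug).res A) o,
      A.res (φ.1 (complOf aug o)) = aug o := fun A φ o => by
    rw [← complRes_of aug o]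
    exact DFunLike.congr_fun φ.2 (complOf aug o)
  have hlocA : ∀ (A : Art k k) (ψ : (M.presheaf.stalk x) →+* A),
      (∀ o, A.res (ψ o) = aug o) → IsLocalHom ψ := by
    intro A ψ hψ
    refine ⟨fun o ho => ?_⟩
    have h1 : IsUnit (A.res (ψ o)) := ho.map A.res
    rw [hψ o] at h1
    exact hloc.map_nonunit o h1
  let toG : ∀ A : Art k k,
      HomSet (complCRing aug haug).carrier (complCRing aug haug).res A → (Art.spec A ⟶ M) :=
    fun A φ =>
      Spec.map (CommRingCat.ofHom (φ.1.comp (complOf aug)).toRingHom) ≫ M.fromSpecStalk x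
  have hi : ∀ A φ, toG A φ ≫ m = Art.specMap (Art.ofBase A) := by
    intro A φ
    show (Spec.map (CommRingCat.ofHom (φ.1.comp (complOf aug)).toRingHom) ≫
      M.fromSpecStalk x) ≫ m = _
    rw [Category.assoc, ← hstr, ← Spec.map_comp]
    have e : CommRingCat.ofHom (algebraMap k (M.presheaf.stalk x)) ≫
        CommRingCat.ofHom (φ.1.comp (complOf aug)).toRingHom =
        CommRingCat.ofHom (Art.ofBase A).toAlgHom.toRingHom := by
      ext c
      exact (φ.1.comp (complOf aug)).commutes c
    rw [e]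
    rfl
  have hii : ∀ A φ, Art.specRes A ≫ toG A φ = x₀ := by
    intro A φ
    show Spec.map (CommRingCat.ofHom A.res.toRingHom) ≫
      (Spec.map (CommRingCat.ofHom (φ.1.comp (complOf aug)).toRingHom) ≫ M.fromSpecStalk x) = x₀
    rw [← Category.assoc, ← Spec.map_comp, ← hx₀]
    have e : CommRingCat.ofHom (φ.1.comp (complOf aug)).toRingHom ≫
        CommRingCat.ofHom A.res.toRingHom = CommRingCat.ofHom aug.toRingHom := by
      ext o
      exact hψres A φ o
    rw [e]
  have hnat : ∀ (A B : Art k k) (h : A ⟶ B)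
      (φ : HomSet (complCRing aug haug).carrier (complCRing aug haug).res A),
      toG B (HomSet.map h φ) = Art.specMap h ≫ toG A φ := by
    intro A B h φ
    show Spec.map (CommRingCat.ofHom ((h.toAlgHom.comp φ.1).comp (complOf aug)).toRingHom) ≫
        M.fromSpecStalk x =
      Spec.map (CommRingCat.ofHom h.toAlgHom.toRingHom) ≫
        (Spec.map (CommRingCat.ofHom (φ.1.comp (complOf aug)).toRingHom) ≫ M.fromSpecStalk x)
    rw [← Category.assoc, ← Spec.map_comp]
    rfl
  have hinj : ∀ A, Function.Injective (toG A) := by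
    intro A φ φ' hφ
    have h1 : IsLocalHom (CommRingCat.ofHom (φ.1.comp (complOf aug)).toRingHom).hom :=
      hlocA A _ (hψres A φ)
    have h2 : IsLocalHom (CommRingCat.ofHom (φ'.1.comp (complOf aug)).toRingHom).hom :=
      hlocA A _ (hψres A φ')
    have hE : (SpecToEquivOfLocalRing M (CommRingCat.of A)).symm
        ⟨x, ⟨CommRingCat.ofHom (φ.1.comp (complOf aug)).toRingHom, h1⟩⟩ =
        (SpecToEquivOfLocalRing M (CommRingCat.of A)).symm
        ⟨x, ⟨CommRingCat.ofHom (φ'.1.comp (complOf aug)).toRingHom, h2⟩⟩ := hφ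
    have h3 := (SpecToEquivOfLocalRing M (CommRingCat.of A)).symm.injective hE
    have h4 : CommRingCat.ofHom (φ.1.comp (complOf aug)).toRingHom =
        CommRingCat.ofHom (φ'.1.comp (complOf aug)).toRingHom :=
      congrArg Subtype.val (eq_of_heq (Sigma.mk.inj_iff.1 h3).2)
    apply compl_hom_ext aug haug
    intro o
    have h5 := congrArg (fun f => f.hom o) h4
    exact h5
  have hsurj : ∀ (A : Art k k) (g : Art.spec A ⟶ M), g ≫ m = Art.specMap (Art.ofBase A) →
      Art.specRes A ≫ g = x₀ → ∃ φ, toG A φ = g := by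
    intro A g hg1 hg2
    obtain ⟨ψ', hψ'res, hψ'g⟩ := surj_aux M m x₀ x hstr aug hloc hx₀ A g hg1 hg2
    obtain ⟨φ, hφ⟩ := compl_exists_hom aug haug ψ' hψ'res
    refine ⟨φ, ?_⟩
    have e : φ.1.comp (complOf aug) = ψ' := AlgHom.ext hφ
    show Spec.map (CommRingCat.ofHom (φ.1.comp (complOf aug)).toRingHom) ≫ M.fromSpecStalk x = g
    rw [e]
    exact hψ'g
  refine ⟨complCRing aug haug, fun A => Equiv.ofBijective
    (fun φ => ⟨toG A φ, hi A φ, hii A φ⟩) ⟨?_, ?_⟩, ?_⟩
  · intro φ φ' h
    exact hinj A (congrArg Subtype.val h)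
  · rintro ⟨g, hg1, hg2⟩
    obtain ⟨φ, hφ⟩ := hsurj A g hg1 hg2
    exact ⟨φ, Subtype.ext hφ⟩
  · intro A B h φ
    exact hnat A B h φ

theorem main (M : Scheme.{u}) (m : M ⟶ Spec (CommRingCat.of k)) [IsLocallyNoetherian M]
    (x₀ : Spec (CommRingCat.of k) ⟶ M) (hx₀ : x₀ ≫ m = 𝟙 _) :
    ∃ (R : CRing k k)
      (e : ∀ A : Art k k, HomSet R.carrier R.res A ≃
        {g : Art.spec A ⟶ M // g ≫ m = Art.specMap (Art.ofBase A) ∧ Art.specRes A ≫ g = x₀}),
      ∀ (A B : Art k k) (h : A ⟶ B) (φ : HomSet R.carrier R.res A),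
        ((e B) (HomSet.map h φ)).1 = Art.specMap h ≫ ((e A) φ).1 := by
  have F1 : Spec.map (Scheme.stalkClosedPointTo x₀) ≫
      M.fromSpecStalk (x₀ (IsLocalRing.closedPoint (CommRingCat.of k))) = x₀ :=
    Scheme.Spec_stalkClosedPointTo_fromSpecStalk x₀
  have F2 : Spec.map (Spec.preimage
      (M.fromSpecStalk (x₀ (IsLocalRing.closedPoint (CommRingCat.of k))) ≫ m)) =
      M.fromSpecStalk (x₀ (IsLocalRing.closedPoint (CommRingCat.of k))) ≫ m :=
    Spec.map_preimage _
  have F3 : Spec.preimage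
      (M.fromSpecStalk (x₀ (IsLocalRing.closedPoint (CommRingCat.of k))) ≫ m) ≫
      Scheme.stalkClosedPointTo x₀ = 𝟙 _ := by
    apply Spec.map_injective
    rw [Spec.map_comp, F2, ← Category.assoc, F1, hx₀, Spec.map_id]
  letI : Algebra k (M.presheaf.stalk (x₀ (IsLocalRing.closedPoint (CommRingCat.of k)))) :=
    (Spec.preimage
      (M.fromSpecStalk (x₀ (IsLocalRing.closedPoint (CommRingCat.of k))) ≫ m)).hom.toAlgebra
  let aug : (M.presheaf.stalk (x₀ (IsLocalRing.closedPoint (CommRingCat.of k)))) →ₐ[k] k :=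
    { toRingHom := (Scheme.stalkClosedPointTo x₀).hom
      commutes' := fun c => by
        have h := congrArg (fun f => f.hom c) F3
        exact h }
  have haug : Function.Surjective aug := fun c => ⟨algebraMap k _ c, aug.commutes c⟩
  have hloc : IsLocalHom aug.toRingHom :=
    (inferInstance : IsLocalHom (Scheme.stalkClosedPointTo x₀).hom)
  refine main_aux M m x₀ (x₀ (IsLocalRing.closedPoint (CommRingCat.of k))) ?_ aug haug hloc ?_
  · exact F2
  · exact F1

end Groth.Agent.H63.SchPt
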