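import Groth.Agent.H63.ArtMinVersalExist
import Groth.Agent.H63.ArtFibre
import Groth.Agent.H63.ArtLift
import Groth.Agent.H63.ArtDer
import Groth.Agent.H61.SchlessSmall

/-!
`(S2)` implies the comparison map is bijective for fibre products with any square-zero extension
`k ⊕ V` (helper63).
-/

set_option autoImplicit false
set_option linter.unusedSectionVars false
set_option linter.unusedVariables false
set_option linter.style.haveILetI false
universe u v

namespace Groth.Agent.H63.SqZero

open CategoryTheory ArtFun ArtFun.Art Groth.Agent.H61 Groth.Agent.H63.MinVersal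

variable {Λ : Type u} {k : Type u} [CommRing Λ] [Field k] [Algebra Λ k]
variable [IsNoetherianRing Λ] [Module.Finite Λ k]

/-- The comparison map is bijective for all fibre products `A ×_k E`. -/
def Claim (F : Art Λ k ⥤ Type v) (E : Art Λ k) : Prop :=
  ∀ ⦃B A : Art Λ k⦄ (p' : B ⟶ A) (p'' : B ⟶ E)
    (h : IsFibreProd p' p'' (toBase A) (toBase E)), Function.Bijective (cmp F h)

variable {F : Art Λ k ⥤ Type v}

theorem claim_of_bot (E : Art Λ k) (hE : IsLocalRing.maximalIdeal E = ⊥) : Claim F E := by
  intro B A p' p'' h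
  have hEinj : Function.Injective (toBase E) := by
    intro a b hab
    have h1 : a - b ∈ IsLocalRing.maximalIdeal E := by
      rw [mem_maximalIdeal_iff, map_sub, sub_eq_zero]
      exact hab
    rw [hE, Ideal.mem_bot, sub_eq_zero] at h1
    exact h1
  haveI : IsIso (toBase E) := isIso_of_bijective _ ⟨hEinj, E.res_surjective⟩
  have hp' : Function.Bijective p' := by
    constructor
    · intro b₁ b₂ hb
      apply h.inj b₁ b₂ hb
      apply hEinj
      have e1 := h.w_apply b₁
      have e2 := h.w_apply b₂
      rw [← e1, ← e2, hb]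
    · intro a
      obtain ⟨e, he⟩ := E.res_surjective (A.res a)
      obtain ⟨b, hb1, -⟩ := h.surj a e he.symm
      exact ⟨b, hb1⟩
  haveI : IsIso p' := isIso_of_bijective _ hp'
  constructor
  · intro z₁ z₂ hz
    have h1 : F.map p' z₁ = F.map p' z₂ := congrArg (fun t => t.1.1) hz
    have h2 := congrArg (F.map (inv p')) h1
    rwa [← Functor.map_comp_apply, ← Functor.map_comp_apply, IsIso.hom_inv_id,
      Functor.map_id_apply, Functor.map_id_apply] at h2
  · rintro ⟨⟨x, y⟩, hxy⟩
    have hxy' : F.map (toBase A) x = F.map (toBase E) y := hxy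
    refine ⟨F.map (inv p') x, Subtype.ext (Prod.ext ?_ ?_)⟩
    · show F.map p' (F.map (inv p') x) = x
      rw [← Functor.map_comp_apply, IsIso.inv_hom_id, Functor.map_id_apply]
    · show F.map p'' (F.map (inv p') x) = y
      have hinj : Function.Injective (F.map (toBase E)) := by
        intro u w huw
        have h3 := congrArg (F.map (inv (toBase E))) huw
        rwa [← Functor.map_comp_apply, ← Functor.map_comp_apply, IsIso.hom_inv_id,
          Functor.map_id_apply, Functor.map_id_apply] at h3
      apply hinj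
      have hm : inv p' ≫ p'' ≫ toBase E = toBase A := by
        rw [← h.w, IsIso.inv_hom_id_assoc]
      rw [← Functor.map_comp_apply, ← Functor.map_comp_apply, ← hxy', hm]

theorem claim_step (hF : Heps F) {E E' : Art Λ k} (q : E ⟶ E') (l : E ⟶ dual Λ k)
    (hql : IsFibreProd q l (toBase E') (toBase (dual Λ k))) (hE' : Claim F E') : Claim F E := by
  intro B A p' p'' h
  obtain ⟨B', b₁, b₂, hB'⟩ : ∃ (B' : Art Λ k) (b₁ : B' ⟶ A) (b₂ : B' ⟶ E'),
      IsFibreProd b₁ b₂ (toBase A) (toBase E') :=
    ⟨_, _, _, isFibreProd_fibreProd (toBase A) (toBase E') E'.res_surjective⟩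
  obtain ⟨r, hr1, hr2⟩ := Groth.Agent.H63.IsFibreProd.exists_lift hB' p' (p'' ≫ q)
    (by rw [eq_toBase (p' ≫ toBase A), eq_toBase ((p'' ≫ q) ≫ toBase E')])
  have hr1' : ∀ b, b₁ (r b) = p' b := fun b => by
    have h0 : (r ≫ b₁) b = p' b := by rw [hr1]
    exact h0
  have hr2' : ∀ b, b₂ (r b) = q (p'' b) := fun b => by
    have h0 : (r ≫ b₂) b = (p'' ≫ q) b := by rw [hr2]
    exact h0
  have hBB' : IsFibreProd r (p'' ≫ l) (toBase B') (toBase (dual Λ k)) := by
    refine ⟨by rw [eq_toBase (r ≫ toBase B'), eq_toBase ((p'' ≫ l) ≫ toBase _)], ?_, ?_⟩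
    · intro x y hxy hl
      have hl' : l (p'' x) = l (p'' y) := hl
      apply h.inj x y
      · rw [← hr1', ← hr1', hxy]
      · apply hql.inj _ _ _ hl'
        rw [← hr2', ← hr2', hxy]
    · intro b' d hbd
      have hbd' : B'.res b' = (dual Λ k).res d := hbd
      obtain ⟨e, he1, he2⟩ := hql.surj (b₂ b') d (by
        show E'.res (b₂ b') = (dual Λ k).res d
        rw [res_app, hbd'])
      obtain ⟨b, hb1, hb2⟩ := h.surj (b₁ b') e (by
        show A.res (b₁ b') = E.res e
        rw [res_app, hbd', ← he2, res_app])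
      refine ⟨b, ?_, ?_⟩
      · apply hB'.inj
        · rw [hr1', hb1]
        · rw [hr2', hb2, he1]
      · show l (p'' b) = d
        rw [hb2, he2]
  have hH := hF r (p'' ≫ l) hBB'
  have hC := hE' b₁ b₂ hB'
  have hL := hF q l hql
  constructor
  · intro z₁ z₂ hz
    have h1 : F.map p' z₁ = F.map p' z₂ := congrArg (fun t => t.1.1) hz
    have h2 : F.map p'' z₁ = F.map p'' z₂ := congrArg (fun t => t.1.2) hz
    apply hH.1
    apply Subtype.ext
    apply Prod.ext
    · show F.map r z₁ = F.map r z₂
      apply hC.1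
      apply Subtype.ext
      apply Prod.ext
      · show F.map b₁ (F.map r z₁) = F.map b₁ (F.map r z₂)
        rw [← Functor.map_comp_apply, ← Functor.map_comp_apply, hr1, h1]
      · show F.map b₂ (F.map r z₁) = F.map b₂ (F.map r z₂)
        rw [← Functor.map_comp_apply, ← Functor.map_comp_apply, hr2, Functor.map_comp_apply,
          Functor.map_comp_apply, h2]
    · show F.map (p'' ≫ l) z₁ = F.map (p'' ≫ l) z₂
      rw [Functor.map_comp_apply, Functor.map_comp_apply, h2]
  · rintro ⟨⟨x, y⟩, hxy⟩
    have hxy' : F.map (toBase A) x = F.map (toBase E) y := hxy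
    have hq_base : q ≫ toBase E' = toBase E := eq_toBase _
    have hl_base : l ≫ toBase (dual Λ k) = toBase E := eq_toBase _
    obtain ⟨w, hw⟩ := hC.2 ⟨(x, F.map q y), by
      show F.map (toBase A) x = F.map (toBase E') (F.map q y)
      rw [← Functor.map_comp_apply, hq_base, hxy']⟩
    have hw1 : F.map b₁ w = x := congrArg (fun t => t.1.1) hw
    have hw2 : F.map b₂ w = F.map q y := congrArg (fun t => t.1.2) hw
    have hb₁_base : b₁ ≫ toBase A = toBase B' := eq_toBase _
    obtain ⟨z, hz⟩ := hH.2 ⟨(w, F.map l y), by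
      show F.map (toBase B') w = F.map (toBase (dual Λ k)) (F.map l y)
      rw [← Functor.map_comp_apply, hl_base, ← hb₁_base, Functor.map_comp_apply, hw1, hxy']⟩
    have hz1 : F.map r z = w := congrArg (fun t => t.1.1) hz
    have hz2 : F.map (p'' ≫ l) z = F.map l y := congrArg (fun t => t.1.2) hz
    refine ⟨z, Subtype.ext (Prod.ext ?_ ?_)⟩
    · show F.map p' z = x
      rw [← hr1, Functor.map_comp_apply, hz1, hw1]
    · show F.map p'' z = y
      apply hL.1
      apply Subtype.ext
      apply Prod.ext
      · show F.map q (F.map p'' z) = F.map q y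
        rw [← Functor.map_comp_apply, ← hr2, Functor.map_comp_apply, hz1, hw2]
      · show F.map l (F.map p'' z) = F.map l y
        rw [← Functor.map_comp_apply, hz2]

theorem claim_of_sqZero (hF : Heps F) : ∀ (n : ℕ) (E : Art Λ k),
    (IsLocalRing.maximalIdeal E).spanFinrank = n → Nonempty (base Λ k ⟶ E) →
    IsLocalRing.maximalIdeal E ^ 2 = ⊥ → Claim F E := by
  intro n
  induction n using Nat.strong_induction_on with
  | _ n ih =>
    intro E hn hσ hE
    by_cases hbot : IsLocalRing.maximalIdeal E = ⊥
    · exact claim_of_bot E hbot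
    · obtain ⟨σ⟩ := hσ
      have hne : Ideal.map σ.toAlgHom (⊥ : Ideal (base Λ k)) ⊔ IsLocalRing.maximalIdeal E ^ 2 ≠
          IsLocalRing.maximalIdeal E := by
        rw [Ideal.map_bot, hE, bot_sup_eq]
        exact fun h => hbot h.symm
      obtain ⟨θ, hfst, hvan, s, hs⟩ := exists_tangent_of_ne (S := E) E.res
        (fun s => mem_maximalIdeal_iff E s) (R' := (base Λ k)) (base Λ k).res
        (base Λ k).res_surjective σ.toAlgHom σ.res_comp ⊥ (fun r hr => (Ideal.mem_bot).2 hr) hne
        (by rw [Ideal.map_bot]; exact bot_le)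
      have hmul : ∀ a b : E, (θ (a * b)).snd = (θ a).fst * (θ b).snd + (θ a).snd * (θ b).fst := by
        intro a b
        rw [map_mul]
        rfl
      have hsq : ∀ a ∈ IsLocalRing.maximalIdeal E, ∀ b ∈ IsLocalRing.maximalIdeal E,
          a * b = 0 := by
        intro a ha b hb
        have h0 := Ideal.mul_mem_mul ha hb
        rw [← pow_two, hE] at h0
        exact (Ideal.mem_bot).1 h0
      have hσres : ∀ c, E.res (σ c) = c := fun c => res_app σ c
      obtain ⟨v, hv⟩ : ∃ v : E, v = s - σ (E.res s) := ⟨_, rfl⟩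
      have hvm : v ∈ IsLocalRing.maximalIdeal E := by
        rw [mem_maximalIdeal_iff, hv, map_sub, hσres, sub_self]
      have hvc : (θ v).snd = (θ s).snd := by
        rw [hv, map_sub]
        show (θ s).snd - (θ (σ (E.res s))).snd = (θ s).snd
        rw [hvan, sub_zero]
      have hvfst : (θ v).fst = 0 := by
        rw [hfst]
        exact (mem_maximalIdeal_iff E v).1 hvm
      have hv2 : v ∉ IsLocalRing.maximalIdeal E ^ 2 := by
        rw [hE, Ideal.mem_bot]
        intro h0
        apply hs
        rw [← hvc, h0, map_zero]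
        rfl
      have hJ : Ideal.span {v} ≤ IsLocalRing.maximalIdeal E :=
        (Ideal.span_singleton_le_iff_mem _).2 hvm
      let l : E ⟶ dual Λ k := ⟨θ, AlgHom.ext fun e => hfst e⟩
      have hl : ∀ e, l e = θ e := fun e => rfl
      have hql : IsFibreProd (quotMk E (Ideal.span {v}) hJ) l
          (toBase (quot E (Ideal.span {v}) hJ)) (toBase (dual Λ k)) := by
        refine ⟨by rw [eq_toBase (quotMk E _ hJ ≫ toBase _), eq_toBase (l ≫ toBase _)], ?_, ?_⟩
        · intro e₁ e₂ hq hle
          have h1 : e₁ - e₂ ∈ Ideal.span {v} := (quotMk_eq_iff E hJ e₁ e₂).1 hq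
          obtain ⟨a, ha⟩ := Ideal.mem_span_singleton'.1 h1
          have h2 : θ e₁ = θ e₂ := hle
          have h3 : (θ (a * v)).snd = 0 := by
            rw [ha, map_sub, h2, sub_self]
            rfl
          rw [hmul, hvfst, mul_zero, add_zero, hvc, hfst] at h3
          have h4 : E.res a = 0 := (mul_eq_zero.1 h3).resolve_right hs
          have h5 : a * v = 0 := hsq a ((mem_maximalIdeal_iff E a).2 h4) v hvm
          rw [h5] at ha
          exact sub_eq_zero.1 ha.symm
        · intro e' d hres
          obtain ⟨e, rfl⟩ := quotMk_surjective E _ hJ e'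
          have hres' : E.res e = dfst d := by
            have h0 : (quot E (Ideal.span {v}) hJ).res (quotMk E _ hJ e) = (dual Λ k).res d :=
              hres
            rw [res_app] at h0
            exact h0
          obtain ⟨a, ha⟩ := E.res_surjective ((dsnd d - (θ e).snd) / (θ s).snd)
          refine ⟨e + a * v, ?_, ?_⟩
          · rw [quotMk_eq_iff]
            have e0 : e + a * v - e = a * v := by ring
            rw [e0]
            exact Ideal.mem_span_singleton'.2 ⟨a, rfl⟩
          · rw [hl]
            apply dual_ext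
            · show (θ (e + a * v)).fst = dfst d
              rw [hfst, map_add, map_mul, (mem_maximalIdeal_iff E v).1 hvm, mul_zero, add_zero,
                hres']
            · show (θ (e + a * v)).snd = dsnd d
              rw [map_add]
              show (θ e).snd + (θ (a * v)).snd = dsnd d
              rw [hmul, hvfst, mul_zero, add_zero, hvc, hfst, ha, div_mul_cancel₀ _ hs]
              ring
      have hE'sq : IsLocalRing.maximalIdeal (quot E (Ideal.span {v}) hJ) ^ 2 = ⊥ := by
        rw [pow_two, eq_bot_iff, Ideal.mul_le]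
        intro a ha b hb
        obtain ⟨a', rfl⟩ := quotMk_surjective E _ hJ a
        obtain ⟨b', rfl⟩ := quotMk_surjective E _ hJ b
        have ha' := (quotMk_mem_maximalIdeal_iff E hJ a').1 ha
        have hb' := (quotMk_mem_maximalIdeal_iff E hJ b').1 hb
        rw [← quotMk_mul, hsq a' ha' b' hb']
        exact (Ideal.mem_bot).2 (map_zero (quotMk E _ hJ).toAlgHom)
      have hlt : (IsLocalRing.maximalIdeal (quot E (Ideal.span {v}) hJ)).spanFinrank <
          (IsLocalRing.maximalIdeal E).spanFinrank :=
        spanFinrank_lt_of_quot ((quotMk E (Ideal.span {v}) hJ).toAlgHom : E →+* _)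
          (quotMk_surjective E _ hJ) v hvm hv2
          ((quotMk_eq_zero_iff E hJ v).2 (Ideal.mem_span_singleton_self v))
      have hE' : Claim F (quot E (Ideal.span {v}) hJ) :=
        ih _ (by rw [← hn]; exact hlt) _ rfl ⟨σ ≫ quotMk E _ hJ⟩ hE'sq
      exact claim_step hF (quotMk E (Ideal.span {v}) hJ) l hql hE'

theorem main (hF : Heps F) {E : Art Λ k} (hσ : Nonempty (base Λ k ⟶ E))
    (hE : IsLocalRing.maximalIdeal E ^ 2 = ⊥) ⦃B A : Art Λ k⦄ (p' : B ⟶ A) (p'' : B ⟶ E)
    (h : IsFibreProd p' p'' (toBase A) (toBase E)) : Function.Bijective (cmp F h) :=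
  claim_of_sqZero hF _ E rfl hσ hE p' p'' h

end Groth.Agent.H63.SqZero
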