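import Groth.Agent.H63.ArtCompl
import Groth.Agent.H63.ArtC
import Groth.Agent.H63.ArtNil
import Groth.Agent.H63.ArtKaehler
import Groth.Agent.H61.CRingLib
import Mathlib.Algebra.Module.SpanRankOperations
import Mathlib.RingTheory.Artinian.Module
import Mathlib.RingTheory.Polynomial.Basic

/-!
Limits of surjective systems of Artinian local algebras with bounded embedding dimension
(helper63): the limit is a complete local Noetherian algebra and the kernel filtration defines the
adic topology (Chevalley's lemma).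
-/

set_option autoImplicit false
set_option linter.unusedSectionVars false
set_option linter.unusedVariables false
set_option linter.style.haveILetI false
universe u v

namespace Groth.Agent.H63.SurjLim

open CategoryTheory ArtFun ArtFun.Art

variable {Λ : Type u} {k : Type u} [CommRing Λ] [Field k] [Algebra Λ k]

/-- Limits of adic Cauchy sequences in a coefficient ring. -/
theorem exists_limit (R : CRing Λ k) (σ : ℕ → R.carrier)
    (hσ : ∀ m n, m ≤ n → σ m - σ n ∈ IsLocalRing.maximalIdeal R.carrier ^ m) :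
    ∃ ℓ : R.carrier, ∀ n, σ n - ℓ ∈ IsLocalRing.maximalIdeal R.carrier ^ n := by
  have hprec : IsPrecomplete (IsLocalRing.maximalIdeal R.carrier) R.carrier :=
    R.isAdicComplete.toIsPrecomplete
  obtain ⟨ℓ, hℓ⟩ := hprec.prec (f := σ) (fun {m n} hmn => by
    rw [SModEq.sub_mem, smul_eq_mul, Ideal.mul_top]
    exact hσ m n hmn)
  refine ⟨ℓ, fun n => ?_⟩
  have h := hℓ n
  rw [SModEq.sub_mem, smul_eq_mul, Ideal.mul_top] at h
  exact h

/-- Chevalley's lemma for a decreasing sequence of open ideals in a coefficient ring. -/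
theorem chevalley (P : CRing Λ k) (K : ℕ → Ideal P.carrier) (hK : Antitone K)
    (hpow : ∀ n, ∃ s, IsLocalRing.maximalIdeal P.carrier ^ s ≤ K n) (t : ℕ) :
    ∃ N, K N ≤ (⨅ n, K n) ⊔ IsLocalRing.maximalIdeal P.carrier ^ t := by
  classical
  have stab : ∀ t, ∃ N, ∀ n, N ≤ n →
      K n ⊔ IsLocalRing.maximalIdeal P.carrier ^ t = K N ⊔ IsLocalRing.maximalIdeal P.carrier ^ t := by
    intro t
    cases t with
    | zero => exact ⟨0, fun n _ => by rw [pow_zero, Ideal.one_eq_top, sup_top_eq, sup_top_eq]⟩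
    | succ t' =>
      haveI : IsArtinianRing (P.carrier ⧸ CRing.mpow P t') := CRing.isArtinianRing_quot_mpow P t'
      have hq : Function.Surjective (Ideal.Quotient.mk (CRing.mpow P t')) :=
        Ideal.Quotient.mk_surjective
      let J : ℕ →o (Ideal (P.carrier ⧸ CRing.mpow P t'))ᵒᵈ :=
        ⟨fun n => OrderDual.toDual (Ideal.map (Ideal.Quotient.mk (CRing.mpow P t')) (K n)),
          fun a b hab => Ideal.map_mono (hK hab)⟩
      obtain ⟨N, hN⟩ := IsArtinian.monotone_stabilizes J
      refine ⟨N, fun n hn => ?_⟩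
      have h1 : Ideal.map (Ideal.Quotient.mk (CRing.mpow P t')) (K N) =
          Ideal.map (Ideal.Quotient.mk (CRing.mpow P t')) (K n) := hN n hn
      have h2 : ∀ n, Ideal.comap (Ideal.Quotient.mk (CRing.mpow P t'))
          (Ideal.map (Ideal.Quotient.mk (CRing.mpow P t')) (K n)) =
            K n ⊔ IsLocalRing.maximalIdeal P.carrier ^ (t' + 1) := fun n => by
        rw [Ideal.comap_map_of_surjective _ hq, ← RingHom.ker_eq_comap_bot, Ideal.mk_ker]
      rw [← h2 n, ← h2 N, h1]
  choose Nt hNt using stab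
  let M : ℕ → ℕ := fun t => (Finset.range (t + 1)).sup Nt + t
  have hM_ge : ∀ t, Nt t ≤ M t := fun t =>
    le_trans (Finset.le_sup (f := Nt) (Finset.mem_range.2 (Nat.lt_succ_self t)))
      (Nat.le_add_right _ _)
  have hM_id : ∀ t, t ≤ M t := fun t => Nat.le_add_left _ _
  have hM_mono : ∀ t, M t ≤ M (t + 1) := fun t =>
    add_le_add (Finset.sup_mono (Finset.range_mono (Nat.le_succ _))) (Nat.le_succ _)
  have stabM : ∀ t n, M t ≤ n →
      K n ⊔ IsLocalRing.maximalIdeal P.carrier ^ t =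
        K (M t) ⊔ IsLocalRing.maximalIdeal P.carrier ^ t := fun t n hn => by
    rw [hNt t n (le_trans (hM_ge t) hn), hNt t (M t) (hM_ge t)]
  refine ⟨M t, fun y₀ hy₀ => ?_⟩
  have hstep : ∀ j (y : P.carrier), y ∈ K (M (t + j)) →
      ∃ y' ∈ K (M (t + (j + 1))), y - y' ∈ IsLocalRing.maximalIdeal P.carrier ^ (t + j) := by
    intro j y hy
    have h1 : y ∈ K (M (t + (j + 1))) ⊔ IsLocalRing.maximalIdeal P.carrier ^ (t + j) := by
      rw [stabM (t + j) (M (t + (j + 1))) (hM_mono (t + j))]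
      exact Ideal.mem_sup_left hy
    obtain ⟨y', hy', z, hz, hyz⟩ := Submodule.mem_sup.1 h1
    exact ⟨y', hy', by rw [← hyz, add_sub_cancel_left]; exact hz⟩
  let Y : ∀ j, {y : P.carrier // y ∈ K (M (t + j))} := fun j =>
    Nat.rec (motive := fun j => {y : P.carrier // y ∈ K (M (t + j))}) ⟨y₀, hy₀⟩
      (fun j yj => ⟨Classical.choose (hstep j yj.1 yj.2),
        (Classical.choose_spec (hstep j yj.1 yj.2)).1⟩) j
  have hYs : ∀ j, (Y j).1 - (Y (j + 1)).1 ∈ IsLocalRing.maximalIdeal P.carrier ^ (t + j) :=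
    fun j => (Classical.choose_spec (hstep j (Y j).1 (Y j).2)).2
  have hc : ∀ a b, a ≤ b →
      (Y a).1 - (Y b).1 ∈ IsLocalRing.maximalIdeal P.carrier ^ (t + a) := by
    intro a b hab
    induction b, hab using Nat.le_induction with
    | base =>
      rw [sub_self]
      exact Ideal.zero_mem _
    | succ b hab ih =>
      have e : (Y a).1 - (Y (b + 1)).1 = ((Y a).1 - (Y b).1) + ((Y b).1 - (Y (b + 1)).1) :=
        (sub_add_sub_cancel _ _ _).symm
      rw [e]
      exact Ideal.add_mem _ ih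
        (Ideal.pow_le_pow_right (Nat.add_le_add_left hab t) (hYs b))
  obtain ⟨ℓ, hℓ⟩ := exists_limit P (fun j => (Y j).1) (fun a b hab =>
    Ideal.pow_le_pow_right (Nat.le_add_left a t) (hc a b hab))
  have hℓ' : ∀ n, (Y n).1 - ℓ ∈ IsLocalRing.maximalIdeal P.carrier ^ n := hℓ
  have h0 : y₀ - ℓ ∈ IsLocalRing.maximalIdeal P.carrier ^ t := by
    have h1 : (Y 0).1 - (Y t).1 ∈ IsLocalRing.maximalIdeal P.carrier ^ t :=
      hc 0 t (Nat.zero_le t)
    have e : y₀ - ℓ = ((Y 0).1 - (Y t).1) + ((Y t).1 - ℓ) :=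
      (sub_add_sub_cancel _ _ _).symm
    rw [e]
    exact Ideal.add_mem _ h1 (hℓ' t)
  have hℓK : ℓ ∈ ⨅ n, K n := by
    rw [Ideal.mem_iInf]
    intro n
    obtain ⟨s, hs⟩ := hpow n
    have h1 : (Y (max s n)).1 ∈ K n :=
      hK (le_trans (le_max_right s n) (le_trans (Nat.le_add_left (max s n) t) (hM_id _)))
        (Y (max s n)).2
    have h2 : (Y (max s n)).1 - ℓ ∈ K n :=
      hs (Ideal.pow_le_pow_right (le_max_left s n) (hℓ' (max s n)))
    have e : ℓ = (Y (max s n)).1 - ((Y (max s n)).1 - ℓ) := by rw [sub_sub_cancel]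
    rw [e]
    exact Ideal.sub_mem _ h1 h2
  have e : y₀ = ℓ + (y₀ - ℓ) := by rw [add_sub_cancel]
  rw [e]
  exact Ideal.add_mem _ (Ideal.mem_sup_left hℓK) (Ideal.mem_sup_right h0)

variable [IsNoetherianRing Λ] [Module.Finite Λ k]

/-- The conclusion of the limit theorem. -/
def Concl (A : ℕ → Art Λ k) (f : ∀ n, A (n + 1) ⟶ A n) : Prop :=
  ∃ (S : CRing Λ k) (π : ∀ n, HomSet S.carrier S.res (A n)),
    (∀ n, HomSet.map (f n) (π (n + 1)) = π n) ∧
    (∀ n, Function.Surjective (π n).1) ∧
    (∀ a : ∀ n, A n, (∀ n, f n (a (n + 1)) = a n) → ∃! s : S.carrier, ∀ n, (π n).1 s = a n) ∧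
    (∀ n, ∃ N, RingHom.ker (π N).1 ≤ IsLocalRing.maximalIdeal S.carrier ^ n) ∧
    (∀ n, ∃ N, IsLocalRing.maximalIdeal S.carrier ^ N ≤ RingHom.ker (π n).1)

/-- The limit of a system covered compatibly and surjectively by a coefficient ring. -/
theorem concl_of_cover (A : ℕ → Art Λ k) (f : ∀ n, A (n + 1) ⟶ A n) (P : CRing Λ k)
    (ρ : ∀ n, HomSet P.carrier P.res (A n))
    (hcompat : ∀ n, HomSet.map (f n) (ρ (n + 1)) = ρ n)
    (hsurj : ∀ n, Function.Surjective (ρ n).1) : Concl A f := by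
  classical
  have hcompat' : ∀ n x, (f n).toAlgHom ((ρ (n + 1)).1 x) = (ρ n).1 x := fun n x =>
    congrArg (fun (φ : HomSet P.carrier P.res (A n)) => φ.1 x) (hcompat n)
  have hρres : ∀ n p, (A n).res ((ρ n).1 p) = P.res p := fun n p => DFunLike.congr_fun (ρ n).2 p
  let K : ℕ → Ideal P.carrier := fun n => RingHom.ker (ρ n).1
  have hKmem : ∀ n p, p ∈ K n ↔ (ρ n).1 p = 0 := fun n p => RingHom.mem_ker
  have hKanti : Antitone K := antitone_nat_of_succ_le (fun n p hp => by
    rw [hKmem] at hp ⊢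
    rw [← hcompat', hp, map_zero])
  have hKpow : ∀ n, ∃ s, IsLocalRing.maximalIdeal P.carrier ^ s ≤ K n := by
    intro n
    obtain ⟨s, hs⟩ := exists_maximalIdeal_pow_eq_bot (A n)
    refine ⟨s, fun p hp => ?_⟩
    have h := homSet_apply_mem_pow P (ρ n) s hp
    rw [hs] at h
    exact (hKmem n p).2 (Ideal.mem_bot.1 h)
  have hK0 : K 0 ≤ IsLocalRing.maximalIdeal P.carrier := by
    intro p hp
    rw [CRing.mem_maximalIdeal_iff, ← hρres 0 p, (hKmem 0 p).1 hp, map_zero]
  have hKinf : (⨅ n, K n) ≤ IsLocalRing.maximalIdeal P.carrier := le_trans (iInf_le K 0) hK0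
  have hchev := chevalley P K hKanti hKpow
  let S : CRing Λ k := Groth.Agent.H61.CRingQ.quot P (⨅ n, K n) hKinf
  let mk : P.carrier →ₐ[Λ] S.carrier := Groth.Agent.H61.CRingQ.mk P (⨅ n, K n) hKinf
  have hmk_surj : Function.Surjective mk := Groth.Agent.H61.CRingQ.mk_surjective P _ hKinf
  have hmk0 : ∀ p, mk p = 0 ↔ p ∈ ⨅ n, K n :=
    Groth.Agent.H61.CRingQ.mk_eq_zero_iff P _ hKinf
  have hres_mk : ∀ p, S.res (mk p) = P.res p := fun p =>
    DFunLike.congr_fun (Groth.Agent.H61.CRingQ.res_comp_mk P _ hKinf) p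
  let π : ∀ n, HomSet S.carrier S.res (A n) := fun n =>
    ⟨Groth.Agent.H61.CRingQ.lift P (⨅ n, K n) hKinf (ρ n).1
        (fun a ha => (hKmem n a).1 (iInf_le K n ha)),
      by
        apply AlgHom.ext
        intro s
        obtain ⟨p, rfl⟩ := hmk_surj s
        show (A n).res ((ρ n).1 p) = S.res (mk p)
        rw [hres_mk]
        exact hρres n p⟩
  have hπmk : ∀ n p, (π n).1 (mk p) = (ρ n).1 p := fun n p => rfl
  have hmk_pow : ∀ t p, p ∈ IsLocalRing.maximalIdeal P.carrier ^ t →
      mk p ∈ IsLocalRing.maximalIdeal S.carrier ^ t := by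
    intro t p hp
    have h1 : Ideal.map mk (IsLocalRing.maximalIdeal P.carrier) ≤
        IsLocalRing.maximalIdeal S.carrier := by
      rw [Ideal.map_le_iff_le_comap]
      intro r hr
      rw [Ideal.mem_comap, CRing.mem_maximalIdeal_iff, hres_mk]
      exact (CRing.mem_maximalIdeal_iff P r).1 hr
    have h2 := Ideal.mem_map_of_mem mk hp
    rw [Ideal.map_pow] at h2
    exact Ideal.pow_right_mono h1 t h2
  have hchevS : ∀ t, ∃ N, ∀ p, p ∈ K N → mk p ∈ IsLocalRing.maximalIdeal S.carrier ^ t := by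
    intro t
    obtain ⟨N, hN⟩ := hchev t
    refine ⟨N, fun p hp => ?_⟩
    obtain ⟨a, ha, b, hb, hab⟩ := Submodule.mem_sup.1 (hN hp)
    rw [← hab, map_add, (hmk0 a).2 ha, zero_add]
    exact hmk_pow t b hb
  have h5 : ∀ n, ∃ N, IsLocalRing.maximalIdeal S.carrier ^ N ≤ RingHom.ker (π n).1 := by
    intro n
    obtain ⟨s, hs⟩ := exists_maximalIdeal_pow_eq_bot (A n)
    refine ⟨s, fun x hx => ?_⟩
    have h := homSet_apply_mem_pow S (π n) s hx
    rw [hs] at h
    exact RingHom.mem_ker.2 (Ideal.mem_bot.1 h)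
  have h4 : ∀ t, ∃ N, RingHom.ker (π N).1 ≤ IsLocalRing.maximalIdeal S.carrier ^ t := by
    intro t
    obtain ⟨N, hN⟩ := hchevS t
    refine ⟨N, fun x hx => ?_⟩
    obtain ⟨p, rfl⟩ := hmk_surj x
    exact hN p ((hKmem N p).2 (RingHom.mem_ker.1 hx))
  have h3 : ∀ a : ∀ n, A n, (∀ n, f n (a (n + 1)) = a n) →
      ∃! s : S.carrier, ∀ n, (π n).1 s = a n := by
    intro a ha
    have htr : ∀ n j p, (ρ (n + j)).1 p = a (n + j) → (ρ n).1 p = a n := by
      intro n j
      induction j with
      | zero => intro p hp; exact hp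
      | succ j ih =>
        intro p hp
        apply ih
        rw [← hcompat' (n + j) p]
        show (f (n + j)).toAlgHom ((ρ (n + (j + 1))).1 p) = a (n + j)
        rw [hp]
        exact ha (n + j)
    have htr' : ∀ n j p, n ≤ j → (ρ j).1 p = a j → (ρ n).1 p = a n := by
      intro n j p hnj hp
      obtain ⟨i, rfl⟩ := Nat.exists_eq_add_of_le hnj
      exact htr n i p hp
    choose q hq using fun n => hsurj n (a n)
    have hdiff : ∀ N j j', N ≤ j → N ≤ j' → q j - q j' ∈ K N := by
      intro N j j' hj hj'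
      rw [hKmem, map_sub, htr' N j (q j) hj (hq j), htr' N j' (q j') hj' (hq j'), sub_self]
    choose Nc hNc using hchevS
    let M : ℕ → ℕ := fun t => (Finset.range (t + 1)).sup Nc + t
    have hM_ge : ∀ t, Nc t ≤ M t := fun t =>
      le_trans (Finset.le_sup (f := Nc) (Finset.mem_range.2 (Nat.lt_succ_self t)))
        (Nat.le_add_right _ _)
    have hM_id : ∀ t, t ≤ M t := fun t => Nat.le_add_left _ _
    have hM_mono : Monotone M := monotone_nat_of_le_succ (fun t =>
      add_le_add (Finset.sup_mono (Finset.range_mono (Nat.le_succ _))) (Nat.le_succ _))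
    obtain ⟨ℓ, hℓ⟩ := exists_limit S (fun t => mk (q (M t))) (fun a b hab => by
      show mk (q (M a)) - mk (q (M b)) ∈ _
      rw [← map_sub]
      exact hNc a _ (hdiff (Nc a) (M a) (M b) (hM_ge a) (le_trans (hM_ge a) (hM_mono hab))))
    have hℓ' : ∀ t, mk (q (M t)) - ℓ ∈ IsLocalRing.maximalIdeal S.carrier ^ t := hℓ
    have hℓπ : ∀ n, (π n).1 ℓ = a n := by
      intro n
      obtain ⟨s, hs⟩ := h5 n
      have h1 : mk (q (M (max s n))) - ℓ ∈ RingHom.ker (π n).1 :=
        hs (Ideal.pow_le_pow_right (le_max_left s n) (hℓ' (max s n)))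
      rw [RingHom.mem_ker, map_sub, sub_eq_zero] at h1
      rw [← h1, hπmk]
      exact htr' n (M (max s n)) _ (le_trans (le_max_right s n) (hM_id _)) (hq _)
    refine ⟨ℓ, hℓπ, fun s' hs' => ?_⟩
    obtain ⟨p, hp⟩ := hmk_surj (s' - ℓ)
    have hpK : p ∈ ⨅ n, K n := by
      rw [Ideal.mem_iInf]
      intro n
      rw [hKmem, ← hπmk n p, hp, map_sub, hs' n, hℓπ n, sub_self]
    have h0 : s' - ℓ = 0 := by
      rw [← hp]
      exact (hmk0 p).2 hpK
    exact sub_eq_zero.1 h0
  refine ⟨S, π, ?_, ?_, h3, h4, h5⟩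
  · intro n
    apply Subtype.ext
    apply AlgHom.ext
    intro s
    obtain ⟨p, rfl⟩ := hmk_surj s
    show (f n).toAlgHom ((π (n + 1)).1 (mk p)) = (π n).1 (mk p)
    rw [hπmk, hπmk]
    exact hcompat' n p
  · intro n y
    obtain ⟨p, hp⟩ := hsurj n y
    exact ⟨mk p, hp⟩

/-- A compatible surjective cover of a system whose transition kernels lie in the squares of the
maximal ideals. -/
theorem exists_cover (A : ℕ → Art Λ k) (f : ∀ n, A (n + 1) ⟶ A n)
    (hf : ∀ n, Function.Surjective (f n))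
    (hker : ∀ n, RingHom.ker (f n).toAlgHom ≤ IsLocalRing.maximalIdeal (A (n + 1)) ^ 2) :
    ∃ (P : CRing Λ k) (ρ : ∀ n, HomSet P.carrier P.res (A n)),
      (∀ n, HomSet.map (f n) (ρ (n + 1)) = ρ n) ∧ (∀ n, Function.Surjective (ρ n).1) := by
  classical
  haveI : Module.Finite Λ (A 0) := DerK.finite_base (A 0)
  obtain ⟨N, s, hs⟩ := Module.Finite.exists_fin (R := Λ) (M := A 0)
  let v : ∀ n, Fin N → A n := fun n =>
    Nat.rec (motive := fun n => Fin N → A n) s
      (fun n vn i => Function.surjInv (hf n) (vn i)) n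
  have hv : ∀ n i, (f n).toAlgHom (v (n + 1) i) = v n i := fun n i =>
    Function.surjInv_eq (hf n) (v n i)
  let g : ∀ n, MvPolynomial (Fin N) Λ →ₐ[Λ] A n := fun n => MvPolynomial.aeval (v n)
  have hg : ∀ n p, (f n).toAlgHom (g (n + 1) p) = g n p := by
    intro n p
    have h : (f n).toAlgHom.comp (g (n + 1)) = g n := by
      apply MvPolynomial.algHom_ext
      intro i
      show (f n).toAlgHom (MvPolynomial.aeval (v (n + 1)) (MvPolynomial.X i)) =
        MvPolynomial.aeval (v n) (MvPolynomial.X i)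
      rw [MvPolynomial.aeval_X, MvPolynomial.aeval_X]
      exact hv n i
    exact DFunLike.congr_fun h p
  let aug : MvPolynomial (Fin N) Λ →ₐ[Λ] k := (A 0).res.comp (g 0)
  have haugn : ∀ n, (A n).res.comp (g n) = aug := by
    intro n
    induction n with
    | zero => rfl
    | succ n ih =>
      apply AlgHom.ext
      intro p
      show (A (n + 1)).res (g (n + 1) p) = aug p
      rw [← res_app (f n) (g (n + 1) p)]
      show (A n).res ((f n).toAlgHom (g (n + 1) p)) = aug p
      rw [hg n p]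
      exact DFunLike.congr_fun ih p
  have hg0 : Function.Surjective (g 0) := by
    have h1 : (⊤ : Submodule Λ (A 0)) ≤ Subalgebra.toSubmodule (g 0).range := by
      rw [← hs, Submodule.span_le]
      rintro _ ⟨i, rfl⟩
      exact ⟨MvPolynomial.X i, MvPolynomial.aeval_X _ i⟩
    intro y
    obtain ⟨p, hp⟩ := h1 (Submodule.mem_top : y ∈ ⊤)
    exact ⟨p, hp⟩
  have haug : Function.Surjective aug := (A 0).res_surjective.comp hg0
  have hρex : ∀ n, ∃ ψ : HomSet (complCRing aug haug).carrier (complCRing aug haug).res (A n),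
      ∀ p, ψ.1 (AdicCompletion.of (RingHom.ker aug) _ p) = g n p :=
    fun n => compl_exists_hom aug haug (g n) (haugn n)
  choose ρ hρ using hρex
  have hcompat : ∀ n, HomSet.map (f n) (ρ (n + 1)) = ρ n := by
    intro n
    apply compl_hom_ext aug haug
    intro p
    show (f n).toAlgHom ((ρ (n + 1)).1 (AdicCompletion.of (RingHom.ker aug) _ p)) =
      (ρ n).1 (AdicCompletion.of (RingHom.ker aug) _ p)
    rw [hρ, hρ]
    exact hg n p
  have hcompat' : ∀ n x, (f n).toAlgHom ((ρ (n + 1)).1 x) = (ρ n).1 x := fun n x =>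
    congrArg (fun (φ : HomSet (complCRing aug haug).carrier (complCRing aug haug).res (A n)) =>
      φ.1 x) (hcompat n)
  have hρres : ∀ n p, (A n).res ((ρ n).1 p) = (complCRing aug haug).res p := fun n p =>
    DFunLike.congr_fun (ρ n).2 p
  refine ⟨complCRing aug haug, ρ, hcompat, ?_⟩
  intro n
  induction n with
  | zero =>
    intro y
    obtain ⟨p, hp⟩ := hg0 y
    exact ⟨AdicCompletion.of (RingHom.ker aug) _ p, (hρ 0 p).trans hp⟩
  | succ n ih =>
    have crit : Ideal.map (ρ (n + 1)).1 (IsLocalRing.maximalIdeal (complCRing aug haug).carrier) ⊔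
        IsLocalRing.maximalIdeal (A (n + 1)) ^ 2 = IsLocalRing.maximalIdeal (A (n + 1)) := by
      apply le_antisymm
      · refine sup_le ?_ (Ideal.pow_le_self two_ne_zero)
        rw [Ideal.map_le_iff_le_comap]
        intro r hr
        rw [Ideal.mem_comap, mem_maximalIdeal_iff, hρres]
        exact (CRing.mem_maximalIdeal_iff (complCRing aug haug) r).1 hr
      · intro z hz
        obtain ⟨p, hp⟩ := ih ((f n) z)
        have hw : z - (ρ (n + 1)).1 p ∈ RingHom.ker (f n).toAlgHom := by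
          rw [RingHom.mem_ker, map_sub, hcompat', hp, sub_self]
        have hw2 := hker n hw
        have hρp : (ρ (n + 1)).1 p ∈ IsLocalRing.maximalIdeal (A (n + 1)) := by
          have e : (ρ (n + 1)).1 p = z - (z - (ρ (n + 1)).1 p) := by rw [sub_sub_cancel]
          rw [e]
          exact Ideal.sub_mem _ hz (Ideal.pow_le_self two_ne_zero hw2)
        have hp' : p ∈ IsLocalRing.maximalIdeal (complCRing aug haug).carrier := by
          rw [CRing.mem_maximalIdeal_iff, ← hρres (n + 1) p]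
          exact (mem_maximalIdeal_iff (A (n + 1)) _).1 hρp
        have e : z = (ρ (n + 1)).1 p + (z - (ρ (n + 1)).1 p) := by rw [add_sub_cancel]
        rw [e]
        exact Ideal.add_mem _ (Ideal.mem_sup_left (Ideal.mem_map_of_mem _ hp'))
          (Ideal.mem_sup_right hw2)
    exact ((Groth.Agent.S12714.result (complCRing aug haug) (toCRing (A (n + 1))) (ρ (n + 1)).1
      (ρ (n + 1)).2).out 1 0).1 crit

/-- Shifting the system by one does not change the conclusion. -/
theorem concl_of_shift (A : ℕ → Art Λ k) (f : ∀ n, A (n + 1) ⟶ A n)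
    (hf : ∀ n, Function.Surjective (f n))
    (h : Concl (fun n => A (n + 1)) (fun n => f (n + 1))) : Concl A f := by
  obtain ⟨S, π', h1, h2, h3, h4, h5⟩ := h
  let π : ∀ n, HomSet S.carrier S.res (A n) := fun n =>
    Nat.rec (motive := fun n => HomSet S.carrier S.res (A n)) (HomSet.map (f 0) (π' 0))
      (fun n _ => π' n) n
  refine ⟨S, π, ?_, ?_, ?_, ?_, ?_⟩
  · intro n
    cases n with
    | zero => rfl
    | succ n => exact h1 n
  · intro n
    cases n with
    | zero => exact (hf 0).comp (h2 0)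
    | succ n => exact h2 n
  · intro a ha
    obtain ⟨s, hs, huniq⟩ := h3 (fun n => a (n + 1)) (fun n => ha (n + 1))
    refine ⟨s, fun n => ?_, fun s' hs' => huniq s' (fun n => hs' (n + 1))⟩
    cases n with
    | zero =>
      show (f 0).toAlgHom ((π' 0).1 s) = a 0
      have e : (π' 0).1 s = a 1 := hs 0
      rw [e]
      exact ha 0
    | succ n => exact hs n
  · intro t
    obtain ⟨N, hN⟩ := h4 t
    exact ⟨N + 1, hN⟩
  · intro n
    cases n with
    | zero =>
      obtain ⟨N, hN⟩ := h5 0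
      refine ⟨N, fun s hs => ?_⟩
      have e : (π' 0).1 s = 0 := RingHom.mem_ker.1 (hN hs)
      rw [RingHom.mem_ker]
      show (f 0).toAlgHom ((π' 0).1 s) = 0
      rw [e, map_zero]
    | succ n => exact h5 n

theorem concl_of_stable : ∀ (n₀ : ℕ) (A : ℕ → Art Λ k) (f : ∀ n, A (n + 1) ⟶ A n)
    (hf : ∀ n, Function.Surjective (f n))
    (hker : ∀ n, n₀ ≤ n →
      RingHom.ker (f n).toAlgHom ≤ IsLocalRing.maximalIdeal (A (n + 1)) ^ 2), Concl A f := by
  intro n₀
  induction n₀ with
  | zero =>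
    intro A f hf hker
    obtain ⟨P, ρ, h1, h2⟩ := exists_cover A f hf (fun n => hker n (Nat.zero_le n))
    exact concl_of_cover A f P ρ h1 h2
  | succ n₀ ih =>
    intro A f hf hker
    exact concl_of_shift A f hf (ih (fun n => A (n + 1)) (fun n => f (n + 1))
      (fun n => hf (n + 1)) (fun n hn => hker (n + 1) (Nat.succ_le_succ hn)))

/-- A surjection which does not lower the number of generators of the maximal ideal has kernel
in the square of the maximal ideal. -/
theorem ker_le_sq_of_spanFinrank_le {A B : Art Λ k} (g : B ⟶ A) (hg : Function.Surjective g)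
    (hμ : (IsLocalRing.maximalIdeal B).spanFinrank ≤ (IsLocalRing.maximalIdeal A).spanFinrank) :
    RingHom.ker g.toAlgHom ≤ IsLocalRing.maximalIdeal B ^ 2 := by
  classical
  have hfgB : (IsLocalRing.maximalIdeal B).FG := IsNoetherian.noetherian _
  obtain ⟨s, hcard, hspan⟩ := Submodule.FG.exists_span_finset_card_eq_spanFinrank hfgB
  have hspan' : Ideal.span (s : Set B) = IsLocalRing.maximalIdeal B := hspan
  have hsm : ∀ z ∈ s, z ∈ IsLocalRing.maximalIdeal B := fun z hz => by
    rw [← hspan']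
    exact Ideal.subset_span hz
  intro c hc
  have hc0 : g.toAlgHom c = 0 := RingHom.mem_ker.1 hc
  have hcm : c ∈ Submodule.span B (s : Set B) := by
    rw [hspan]
    exact ker_le_maximalIdeal g hc
  obtain ⟨b, -, hb⟩ := Submodule.mem_span_finset.1 hcm
  by_cases hall : ∀ z ∈ s, b z ∈ IsLocalRing.maximalIdeal B
  · rw [← hb]
    refine Ideal.sum_mem _ (fun z hz => ?_)
    rw [smul_eq_mul, pow_two]
    exact Ideal.mul_mem_mul (hall z hz) (hsm z hz)
  · exfalso
    push Not at hall
    obtain ⟨z₀, hz₀s, hz₀⟩ := hall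
    have hu : IsUnit (b z₀) := by
      by_contra h
      exact hz₀ ((IsLocalRing.mem_maximalIdeal _).2 h)
    have hu' : IsUnit (g.toAlgHom (b z₀)) := hu.map g.toAlgHom
    let T : Set A := g.toAlgHom '' ((s.erase z₀ : Finset B) : Set B)
    have hTmem : ∀ z ∈ s.erase z₀, g.toAlgHom z ∈ Ideal.span T := fun z hz =>
      Ideal.subset_span ⟨z, hz, rfl⟩
    have hz₀T : g.toAlgHom z₀ ∈ Ideal.span T := by
      have e : b z₀ • z₀ + ∑ z ∈ s.erase z₀, b z • z = c := by
        rw [Finset.add_sum_erase s (fun z => b z • z) hz₀s]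
        exact hb
      have e2 : g.toAlgHom (b z₀) * g.toAlgHom z₀ =
          -∑ z ∈ s.erase z₀, g.toAlgHom (b z) * g.toAlgHom z := by
        have h := congrArg g.toAlgHom e
        rw [map_add, hc0, smul_eq_mul, map_mul, map_sum] at h
        rw [eq_neg_iff_add_eq_zero, ← h]
        congr 1
        exact Finset.sum_congr rfl (fun z _ => by rw [smul_eq_mul, map_mul])
      rw [← Ideal.unit_mul_mem_iff_mem _ hu', e2]
      exact neg_mem (Ideal.sum_mem _ (fun z hz => Ideal.mul_mem_left _ _ (hTmem z hz)))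
    have hle : IsLocalRing.maximalIdeal A ≤ Ideal.span T := by
      intro a ha
      obtain ⟨b', rfl⟩ := hg a
      have hb' : b' ∈ IsLocalRing.maximalIdeal B := mem_maximalIdeal_of_map g ha
      rw [← hspan'] at hb'
      have h1 := Ideal.mem_map_of_mem g.toAlgHom hb'
      rw [Ideal.map_span] at h1
      refine (Ideal.span_le.2 ?_) h1
      rintro _ ⟨z, hz, rfl⟩
      by_cases h : z = z₀
      · rw [h]
        exact hz₀T
      · exact hTmem z (Finset.mem_erase.2 ⟨h, Finset.mem_coe.1 hz⟩)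
    have hTle : Ideal.span T ≤ IsLocalRing.maximalIdeal A := by
      rw [Ideal.span_le]
      rintro _ ⟨z, hz, rfl⟩
      exact map_mem_maximalIdeal g (hsm z (Finset.mem_of_mem_erase (Finset.mem_coe.1 hz)))
    have heq : Ideal.span T = IsLocalRing.maximalIdeal A := le_antisymm hTle hle
    have hTfin : T.Finite := (Finset.finite_toSet _).image _
    have h1 : (IsLocalRing.maximalIdeal A).spanFinrank ≤ T.ncard := by
      rw [← heq]
      exact Submodule.spanFinrank_span_le_ncard_of_finite hTfin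
    have h2 : T.ncard ≤ (s.erase z₀).card := by
      have h := Set.ncard_image_le (f := g.toAlgHom) (Finset.finite_toSet (s.erase z₀))
      rwa [Set.ncard_coe_finset] at h
    have h3 : (s.erase z₀).card = s.card - 1 := Finset.card_erase_of_mem hz₀s
    have h4 : 0 < s.card := Finset.card_pos.2 ⟨z₀, hz₀s⟩
    omega

/-- Bounded embedding dimension makes the transition kernels eventually lie in the squares of
the maximal ideals. -/
theorem exists_stable (A : ℕ → Art Λ k) (f : ∀ n, A (n + 1) ⟶ A n)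
    (hf : ∀ n, Function.Surjective (f n)) (d : ℕ)
    (hd : ∀ n, Module.finrank (IsLocalRing.ResidueField (A n))
      (IsLocalRing.CotangentSpace (A n)) ≤ d) :
    ∃ n₀, ∀ n, n₀ ≤ n →
      RingHom.ker (f n).toAlgHom ≤ IsLocalRing.maximalIdeal (A (n + 1)) ^ 2 := by
  classical
  let μ : ℕ → ℕ := fun n => (IsLocalRing.maximalIdeal (A n)).spanFinrank
  have hμd : ∀ n, μ n ≤ d := by
    intro n
    show (IsLocalRing.maximalIdeal (A n)).spanFinrank ≤ d
    rw [IsLocalRing.spanFinrank_maximalIdeal_eq_finrank_cotangentSpace]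
    exact hd n
  have hμmono : ∀ n, μ n ≤ μ (n + 1) := by
    intro n
    have h := Ideal.spanFinrank_map_le_of_fg ((f n).toAlgHom : A (n + 1) →+* A n)
      (I := IsLocalRing.maximalIdeal (A (n + 1))) (IsNoetherian.noetherian _)
    have hmap : Ideal.map ((f n).toAlgHom : A (n + 1) →+* A n)
        (IsLocalRing.maximalIdeal (A (n + 1))) = IsLocalRing.maximalIdeal (A n) :=
      IsLocalRing.map_maximalIdeal_of_surjective _ (hf n)
    rw [hmap] at h
    exact h
  have hμmono' : Monotone μ := monotone_nat_of_le_succ hμmono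
  let Q : ℕ → Prop := fun j => ∃ n, μ n = j
  obtain ⟨n₀, hn₀⟩ : Q (Nat.findGreatest Q d) := Nat.findGreatest_spec (hμd 0) ⟨0, rfl⟩
  have hmax : ∀ n, μ n ≤ μ n₀ := fun n => by
    rw [hn₀]
    exact Nat.le_findGreatest (hμd n) ⟨n, rfl⟩
  refine ⟨n₀, fun n hn => ker_le_sq_of_spanFinrank_le (f n) (hf n) ?_⟩
  exact le_trans (hmax (n + 1)) (hμmono' hn)

/-- The limit theorem. -/
theorem concl (A : ℕ → Art Λ k) (f : ∀ n, A (n + 1) ⟶ A n)
    (hf : ∀ n, Function.Surjective (f n)) (d : ℕ)
    (hd : ∀ n, Module.finrank (IsLocalRing.ResidueField (A n))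
      (IsLocalRing.CotangentSpace (A n)) ≤ d) : Concl A f := by
  obtain ⟨n₀, hn₀⟩ := exists_stable A f hf d hd
  exact concl_of_stable n₀ A f hf hn₀

end Groth.Agent.H63.SurjLim
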