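import Mathlib
import Groth.Prelude.Def_ActBC

/-!
# Points of a base change `(Over.pullback f).obj Y` and their underlying points of `Y`

For `f : S' ⟶ S`, `Y : Over S`, `T : Over S'`, a point `c : T ⟶ (Over.pullback f).obj Y` has an
underlying point `under f c : (Over.map f).obj T ⟶ Y`.  For a group object `G` this is a monoid
homomorphism (`under_mul`, `under_one`, `under_inv`).
-/

set_option autoImplicit false
universe u

open CategoryTheory CategoryTheory.Limits MonoidalCategory CartesianMonoidalCategory MonObj
  AlgebraicGeometry

namespace Groth.Agent.H63.BCPoints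

variable {S S' : Scheme.{u}} (f : S' ⟶ S)

/-- the underlying point of a point of a base change -/
noncomputable def under {Y : Over S} {T : Over S'} (c : T ⟶ (Over.pullback f).obj Y) :
    (Over.map f).obj T ⟶ Y :=
  Over.homMk (c.left ≫ pullback.fst Y.hom f) (by
    have h1 : c.left ≫ pullback.snd Y.hom f = T.hom := Over.w c
    show (c.left ≫ pullback.fst Y.hom f) ≫ Y.hom = T.hom ≫ f
    rw [Category.assoc, pullback.condition, ← Category.assoc, h1])

@[simp] lemma under_left {Y : Over S} {T : Over S'} (c : T ⟶ (Over.pullback f).obj Y) :
    (under f c).left = c.left ≫ pullback.fst Y.hom f := rfl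

lemma under_comp {Y : Over S} {T T' : Over S'} (h : T' ⟶ T) (c : T ⟶ (Over.pullback f).obj Y) :
    under f (h ≫ c) = (Over.map f).map h ≫ under f c := by
  apply Over.OverMorphism.ext
  simp [under_left]

lemma under_map {Y Z : Over S} {T : Over S'} (c : T ⟶ (Over.pullback f).obj Y) (φ : Y ⟶ Z) :
    under f (c ≫ (Over.pullback f).map φ) = under f c ≫ φ := by
  apply Over.OverMorphism.ext
  rw [under_left, Over.comp_left, Category.assoc, ActBC.pullback_map_left_fst,
    Over.comp_left, under_left, Category.assoc]

lemma under_injective {Y : Over S} {T : Over S'} {c d : T ⟶ (Over.pullback f).obj Y}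
    (h : under f c = under f d) : c = d := by
  apply Over.OverMorphism.ext
  apply pullback.hom_ext
  · have := congrArg (fun t => t.left) h
    simpa [under_left] using this
  · exact (Over.w c).trans (Over.w d).symm

lemma under_lift_μ {Y Z : Over S} {T : Over S'} (c : T ⟶ (Over.pullback f).obj Y)
    (d : T ⟶ (Over.pullback f).obj Z) :
    under f (lift c d ≫ Functor.LaxMonoidal.μ (Over.pullback f) Y Z) =
      lift (under f c) (under f d) := by
  apply CartesianMonoidalCategory.hom_ext
  · rw [← under_map, Category.assoc, Functor.Monoidal.μ_fst, lift_fst, lift_fst]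
  · rw [← under_map, Category.assoc, Functor.Monoidal.μ_snd, lift_snd, lift_snd]

variable {G : Over S} [GrpObj G]

lemma under_mul {T : Over S'} (c d : T ⟶ (Over.pullback f).obj G) :
    under f (c * d) = under f c * under f d := by
  have h1 : c * d = (lift c d ≫ Functor.LaxMonoidal.μ (Over.pullback f) G G) ≫
      (Over.pullback f).map μ[G] := by
    rw [Hom.mul_def, Category.assoc]
    rfl
  rw [h1, under_map, under_lift_μ, Hom.mul_def]

lemma under_one {T : Over S'} :
    under f (1 : T ⟶ (Over.pullback f).obj G) = 1 := by
  have h1 : (1 : T ⟶ (Over.pullback f).obj G) =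
      (toUnit T ≫ Functor.LaxMonoidal.ε (Over.pullback f)) ≫ (Over.pullback f).map η[G] := by
    rw [Hom.one_def, Category.assoc]
    rfl
  rw [h1, under_map, Hom.one_def]
  congr 1
  exact toUnit_unique _ _

/-- `under` as a monoid homomorphism -/
noncomputable def underHom (T : Over S') :
    (T ⟶ (Over.pullback f).obj G) →* ((Over.map f).obj T ⟶ G) where
  toFun := under f
  map_one' := under_one f
  map_mul' := under_mul f

lemma under_inv {T : Over S'} (c : T ⟶ (Over.pullback f).obj G) :
    under f c⁻¹ = (under f c)⁻¹ :=
  map_inv (underHom f T) c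

end Groth.Agent.H63.BCPoints
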