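import Mathlib
import Groth.Agent.H63.Rigid2

/-!
# Base change of Stein morphisms over a field (helper63)

If `f : X ⟶ Y` is a quasi-compact quasi-separated morphism of `k`-schemes such that
`O_Y(U) ⟶ O_X(f⁻¹U)` is bijective for every open `U`, the same holds for `T × f` for any
`k`-scheme `T`.
-/

set_option autoImplicit false
universe u
open CategoryTheory CategoryTheory.Limits AlgebraicGeometry Opposite
open MonoidalCategory CartesianMonoidalCategory

namespace Groth.Agent.H63.SteinBC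

variable {k : Type u} [Field k]

instance flat_over_field (T : Over (Spec (CommRingCat.of k))) : Flat T.hom := by
  infer_instance

instance flat_snd (T Y : Over (Spec (CommRingCat.of k))) : Flat (snd T Y).left :=
  inferInstanceAs (Flat (pullback.snd T.hom Y.hom))

theorem isPullback_whiskerLeft (T : Over (Spec (CommRingCat.of k)))
    {X Y : Over (Spec (CommRingCat.of k))} (f : X ⟶ Y) :
    IsPullback (snd T X).left (T ◁ f).left f.left (snd T Y).left :=
  (Groth.Agent.H63.Rigid.sq_whiskerLeft_snd T f).map (Over.forget _)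

/-- the affine-local step -/
theorem isIso_app_of_le (T : Over (Spec (CommRingCat.of k)))
    {X Y : Over (Spec (CommRingCat.of k))} (f : X ⟶ Y)
    [QuasiCompact f.left] [QuasiSeparated f.left]
    (hf : ∀ U : Y.left.Opens, IsIso (f.left.app U))
    (Y' : Y.left.Opens) (hY' : IsAffineOpen Y') (U : (T ⊗ Y).left.Opens) (hU : IsAffineOpen U)
    (hUY : U ≤ (snd T Y).left ⁻¹ᵁ Y') : IsIso ((T ◁ f).left.app U) := by
  have H := isPullback_whiskerLeft T f
  have hUP : (T ◁ f).left ⁻¹ᵁ U =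
      (snd T X).left ⁻¹ᵁ (f.left ⁻¹ᵁ Y') ⊓ (T ◁ f).left ⁻¹ᵁ U := by
    simp_rw [← Scheme.Hom.comp_preimage, H.w, Scheme.Hom.comp_preimage,
      ← Scheme.Hom.preimage_inf, inf_eq_right.mpr hUY]
  have hiso := isIso_pushoutSection_of_isQuasiSeparated_of_flat_right H
    (US := Y') (UT := U) (UX := f.left ⁻¹ᵁ Y') hUY le_rfl hUP hY' hU
    (f.left.isCompact_preimage hY'.isCompact)
    (f.left.isQuasiSeparated_preimage hY'.isQuasiSeparated)
  have hpo := (isIso_pushoutSection_iff H hUY le_rfl hUP).mp hiso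
  haveI : IsIso (f.left.appLE Y' (f.left ⁻¹ᵁ Y') le_rfl) := by
    rw [← Scheme.Hom.app_eq_appLE]
    exact hf Y'
  have h3 := hpo.isIso_inr_of_isIso
  rw [Scheme.Hom.app_eq_appLE]
  exact h3

/-- `T × f` is Stein when `f` is -/
theorem isIso_whiskerLeft_app (T : Over (Spec (CommRingCat.of k)))
    {X Y : Over (Spec (CommRingCat.of k))} (f : X ⟶ Y)
    [QuasiCompact f.left] [QuasiSeparated f.left]
    (hf : ∀ U : Y.left.Opens, IsIso (f.left.app U)) (U : (T ⊗ Y).left.Opens) :
    IsIso ((T ◁ f).left.app U) := by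
  let g : (T ⊗ X).left ⟶ (T ⊗ Y).left := (T ◁ f).left
  let φ : (T ⊗ Y).left.sheaf ⟶
      (TopCat.Sheaf.pushforward CommRingCat g.base).obj (T ⊗ X).left.sheaf := ⟨g.c⟩
  let ι : Type u := {U : (T ⊗ Y).left.Opens // IsAffineOpen U ∧
    ∃ Y' : Y.left.Opens, IsAffineOpen Y' ∧ U ≤ (snd T Y).left ⁻¹ᵁ Y'}
  let B : ι → TopologicalSpace.Opens (T ⊗ Y).left := fun i => i.1
  have hB : TopologicalSpace.Opens.IsBasis (Set.range B) := by
    rw [TopologicalSpace.Opens.isBasis_iff_nbhd]
    intro W x hxW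
    obtain ⟨Y', hY', hyY', -⟩ := exists_isAffineOpen_mem_and_subset
      (x := (snd T Y).left x) (U := ⊤) trivial
    have hx2 : x ∈ W ⊓ (snd T Y).left ⁻¹ᵁ Y' := ⟨hxW, hyY'⟩
    obtain ⟨U', hU', hxU', hU'W⟩ := exists_isAffineOpen_mem_and_subset hx2
    refine ⟨U', ⟨⟨U', hU', Y', hY', fun z hz => (hU'W hz).2⟩, rfl⟩, hxU', fun z hz => (hU'W hz).1⟩
  have hφ : IsIso φ := by
    refine TopCat.Sheaf.isIso_iff_isIso_basis (B := B) hB ?_
    rintro ⟨U', hU', Y', hY', hle⟩
    exact isIso_app_of_le T f hf Y' hY' U' hU' hle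
  have h1 : IsIso φ.hom := by
    exact @Functor.map_isIso _ _ _ _ _ _ (TopCat.Sheaf.forget CommRingCat _) φ hφ
  exact NatIso.isIso_app_of_isIso φ.hom (op U)

end Groth.Agent.H63.SteinBC
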