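import Mathlib
import Groth.Agent.H63.SteinBC

/-!
# Blanchard's lemma, part 1: scheme-level lemmas (helper63)

* `surjective_of_isIso_app`: a closed map `F` with `O_Y(U) ≅ O_W(F⁻¹U)` for all `U` is surjective.
* `exists_fac_of_isAffine`: a morphism to an affine scheme factors through `F` when
  `Γ(Y) ≅ Γ(W)`.
* `comp_eq_of_mem_nbhd`: local rigidity: `φ` is constant (as a morphism) on the fibres of `F` over
  the open set of points whose fibre is mapped by `φ` into a given affine open.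
* `dense_of_section`: an open neighbourhood of a section of a geometrically irreducible open
  morphism is dense.
-/

set_option autoImplicit false
universe u
open CategoryTheory CategoryTheory.Limits AlgebraicGeometry Opposite

namespace Groth.Agent.H63.Blanchard

theorem eq_bot_of_subsingleton {Y : Scheme.{u}} (U : Y.Opens) [Subsingleton Γ(Y, U)] :
    U = ⊥ := by
  have h1 : Y.basicOpen (1 : Γ(Y, U)) = U := Y.basicOpen_of_isUnit isUnit_one
  have h0 : Y.basicOpen (0 : Γ(Y, U)) = ⊥ := Y.basicOpen_zero U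
  rw [← h1, Subsingleton.elim (1 : Γ(Y, U)) 0, h0]

theorem surjective_of_isIso_app {W Y : Scheme.{u}} (F : W ⟶ Y) (hcl : IsClosedMap F.base)
    (hF : ∀ U : Y.Opens, IsIso (F.app U)) : Surjective F := by
  let U : Y.Opens := ⟨(Set.range F.base)ᶜ, hcl.isClosed_range.isOpen_compl⟩
  have hpre : F ⁻¹ᵁ U = ⊥ := by
    ext w
    constructor
    · intro h
      exact absurd ⟨w, rfl⟩ h
    · intro h
      exact absurd h (by simp)
  haveI : Subsingleton Γ(W, F ⁻¹ᵁ U) := by rw [hpre]; infer_instance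
  haveI : Subsingleton Γ(Y, U) :=
    ((ConcreteCategory.isIso_iff_bijective (F.app U)).mp (hF U)).1.subsingleton
  have hU := eq_bot_of_subsingleton U
  refine ⟨fun y => ?_⟩
  by_contra hy
  have : y ∈ U := hy
  rw [hU] at this
  exact this

theorem exists_fac_of_isAffine {W Y Z : Scheme.{u}} [IsAffine Z] (F : W ⟶ Y) [IsIso F.appTop]
    (φ : W ⟶ Z) : ∃ ψ : Y ⟶ Z, F ≫ ψ = φ := by
  refine ⟨Y.toSpecΓ ≫ Spec.map (φ.appTop ≫ inv F.appTop) ≫ Z.isoSpec.inv, ?_⟩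
  have h1 : F ≫ Y.toSpecΓ = W.toSpecΓ ≫ Spec.map F.appTop := Scheme.toSpecΓ_naturality F
  have h2 : φ ≫ Z.toSpecΓ = W.toSpecΓ ≫ Spec.map φ.appTop := Scheme.toSpecΓ_naturality φ
  rw [← cancel_mono Z.isoSpec.hom]
  simp only [Category.assoc, Iso.inv_hom_id, Category.comp_id]
  rw [Scheme.isoSpec_hom, h2, reassoc_of% h1, ← Spec.map_comp]
  congr 2
  simp

/-- the open set of points of `Y` whose fibre under `F` is mapped into `V` by `φ` -/
def nbhd {W Y Z : Scheme.{u}} (F : W ⟶ Y) (hcl : IsClosedMap F.base) (φ : W ⟶ Z)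
    (V : Z.Opens) : Y.Opens :=
  ⟨(F.base '' ((φ ⁻¹ᵁ V : W.Opens) : Set W)ᶜ)ᶜ,
    (hcl _ (φ ⁻¹ᵁ V).isOpen.isClosed_compl).isOpen_compl⟩

theorem mem_nbhd {W Y Z : Scheme.{u}} (F : W ⟶ Y) (hcl : IsClosedMap F.base) (φ : W ⟶ Z)
    (V : Z.Opens) (y : Y) :
    y ∈ nbhd F hcl φ V ↔ ∀ w : W, F.base w = y → φ.base w ∈ V := by
  change y ∈ (F.base '' ((φ ⁻¹ᵁ V : W.Opens) : Set W)ᶜ)ᶜ ↔ _
  simp only [Set.mem_compl_iff, Set.mem_image, not_exists, not_and]
  constructor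
  · intro h w hw
    by_contra hn
    exact h w hn hw
  · intro h w hn hw
    exact hn (h w hw)

/-- local rigidity -/
theorem comp_eq_of_mem_nbhd {W Y Z Q : Scheme.{u}} (F : W ⟶ Y) (hcl : IsClosedMap F.base)
    (hF : ∀ U : Y.Opens, IsIso (F.app U)) (φ : W ⟶ Z) (V : Z.Opens) (hV : IsAffineOpen V)
    (u₁ u₂ : Q ⟶ W) (hu : u₁ ≫ F = u₂ ≫ F)
    (hQ : ∀ q : Q, (u₁ ≫ F).base q ∈ nbhd F hcl φ V) :
    u₁ ≫ φ = u₂ ≫ φ := by
  set N := nbhd F hcl φ V with hN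
  let P : W.Opens := F ⁻¹ᵁ N
  have hPV : ∀ w : W, w ∈ P → φ.base w ∈ V := fun w hw =>
    (mem_nbhd F hcl φ V _).mp hw w rfl
  haveI : IsIso (F ∣_ N).appTop := by
    rw [morphismRestrict_appTop]
    have h1 := hF (N.ι ''ᵁ ⊤)
    have h2 : IsIso (W.presheaf.map (eqToHom (image_morphismRestrict_preimage F N ⊤)).op) :=
      inferInstance
    exact @IsIso.comp_isIso _ _ _ _ _ _ _ h1 h2
  haveI : IsAffine V.toScheme := hV
  have hr : Set.range ⇑(P.ι ≫ φ) ⊆ Set.range ⇑V.ι := by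
    rw [Scheme.Opens.range_ι]
    rintro _ ⟨p, rfl⟩
    exact hPV p.1 p.2
  let φV : P.toScheme ⟶ V.toScheme := IsOpenImmersion.lift V.ι (P.ι ≫ φ) hr
  have hφV : φV ≫ V.ι = P.ι ≫ φ := IsOpenImmersion.lift_fac _ _ _
  obtain ⟨ψ, hψ⟩ := exists_fac_of_isAffine (F ∣_ N) φV
  have hr1 : Set.range ⇑u₁ ⊆ Set.range ⇑P.ι := by
    rw [Scheme.Opens.range_ι]
    rintro _ ⟨q, rfl⟩
    exact hQ q
  have hr2 : Set.range ⇑u₂ ⊆ Set.range ⇑P.ι := by
    rw [Scheme.Opens.range_ι]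
    rintro _ ⟨q, rfl⟩
    have := hQ q
    rw [hu] at this
    exact this
  let ρ₁ : Q ⟶ P.toScheme := IsOpenImmersion.lift P.ι u₁ hr1
  let ρ₂ : Q ⟶ P.toScheme := IsOpenImmersion.lift P.ι u₂ hr2
  have hρ₁ : ρ₁ ≫ P.ι = u₁ := IsOpenImmersion.lift_fac _ _ _
  have hρ₂ : ρ₂ ≫ P.ι = u₂ := IsOpenImmersion.lift_fac _ _ _
  have e1 : ρ₁ ≫ (F ∣_ N) = ρ₂ ≫ (F ∣_ N) := by
    rw [← cancel_mono N.ι]
    simp only [Category.assoc, morphismRestrict_ι]
    rw [← Category.assoc, ← Category.assoc, hρ₁, hρ₂, hu]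
  calc u₁ ≫ φ = ρ₁ ≫ P.ι ≫ φ := by rw [← Category.assoc, hρ₁]
    _ = ρ₁ ≫ (F ∣_ N) ≫ ψ ≫ V.ι := by rw [← hφV, ← hψ, Category.assoc]
    _ = ρ₂ ≫ (F ∣_ N) ≫ ψ ≫ V.ι := by rw [← Category.assoc, e1, Category.assoc]
    _ = ρ₂ ≫ P.ι ≫ φ := by rw [← hφV, ← hψ, Category.assoc]
    _ = u₂ ≫ φ := by rw [← Category.assoc, hρ₂]

/-- an open neighbourhood of a section of a geometrically irreducible open morphism is dense -/
theorem dense_of_section {P R : Scheme.{u}} (p : P ⟶ R) [GeometricallyIrreducible p]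
    (hp : IsOpenMap p.base) (s : R ⟶ P) (hs : s ≫ p = 𝟙 R) (N : P.Opens)
    (hN : ∀ r : R, s.base r ∈ N) : Dense (N : Set P) := by
  rw [dense_iff_inter_open]
  rintro W hW ⟨w, hw⟩
  have hirr := p.isIrreducible_preimage hp (isIrreducible_singleton (x := p.base w))
  have h1 : ((p ⁻¹' {p.base w}) ∩ W).Nonempty := ⟨w, rfl, hw⟩
  have h2 : ((p ⁻¹' {p.base w}) ∩ (N : Set P)).Nonempty := by
    refine ⟨s.base (p.base w), ?_, hN _⟩
    have := congrArg (fun m => m.base (p.base w)) hs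
    simpa using this
  obtain ⟨z, -, hzW, hzN⟩ := hirr.isPreirreducible W N hW N.isOpen h1 h2
  exact ⟨z, hzW, hzN⟩

end Groth.Agent.H63.Blanchard
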