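import Mathlib
import Groth.Agent.H63.Blanchard1

/-!
# Factorization through a Stein morphism (EGA II 8.11.1) (helper63)

Let `F : W ⟶ Y` be a surjective closed morphism of schemes with `O_Y(U) ≅ O_W(F⁻¹U)` for all `U`.
* `eq_of_comp_eq`: `F` is an epimorphism of schemes (only injectivity on sections is needed);
* `exists_fac`: a morphism `φ : W ⟶ Z` constant on the fibres of `F` factors through `F`.
-/

set_option autoImplicit false
universe u
open CategoryTheory CategoryTheory.Limits AlgebraicGeometry Opposite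

namespace Groth.Agent.H63.SteinFac

open Groth.Agent.H63.Blanchard

theorem surjective_restrict {W Y : Scheme.{u}} (F : W ⟶ Y) [Surjective F] (U : Y.Opens) :
    Surjective (F ∣_ U) :=
  MorphismProperty.of_isPullback (P := @Surjective) (isPullback_morphismRestrict F U).flip
    inferInstance

theorem injective_app_restrict {W Y : Scheme.{u}} (F : W ⟶ Y)
    (hF : ∀ U : Y.Opens, Function.Injective (F.app U)) (U : Y.Opens) (V : U.toScheme.Opens) :
    Function.Injective ((F ∣_ U).app V) := by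
  haveI : Mono (F.app (U.ι ''ᵁ V)) := ConcreteCategory.mono_of_injective _ (hF _)
  haveI : Mono ((F ∣_ U).app V) := by
    rw [morphismRestrict_app]
    have h2 : IsIso (W.presheaf.map (eqToHom (image_morphismRestrict_preimage F U V)).op) :=
      inferInstance
    exact @mono_comp _ _ _ _ _ (F.app (U.ι ''ᵁ V)) inferInstance
      (W.presheaf.map (eqToHom (image_morphismRestrict_preimage F U V)).op)
      (by haveI := h2; infer_instance)
  exact ConcreteCategory.injective_of_mono_of_preservesPullback _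

theorem eq_of_comp_eq {W Y Z : Scheme.{u}} (F : W ⟶ Y) [Surjective F]
    (hF : ∀ U : Y.Opens, Function.Injective (F.app U)) (ψ₁ ψ₂ : Y ⟶ Z)
    (h : F ≫ ψ₁ = F ≫ ψ₂) : ψ₁ = ψ₂ := by
  have hb : ∀ y : Y, ψ₁.base y = ψ₂.base y := by
    intro y
    obtain ⟨w, rfl⟩ := F.surjective y
    exact congrArg (fun m => m.base w) h
  have hcov : TopologicalSpace.IsOpenCover (fun V : Z.affineOpens => ψ₁ ⁻¹ᵁ V.1) := by
    apply TopologicalSpace.IsOpenCover.mk
    rw [← Scheme.Hom.preimage_iSup, iSup_affineOpens_eq_top]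
    rfl
  refine Scheme.Cover.hom_ext (Y.openCoverOfIsOpenCover _ hcov) _ _ fun (V : Z.affineOpens) => ?_
  show (ψ₁ ⁻¹ᵁ V.1).ι ≫ ψ₁ = (ψ₁ ⁻¹ᵁ V.1).ι ≫ ψ₂
  set U : Y.Opens := ψ₁ ⁻¹ᵁ V.1 with hU
  haveI : IsAffine V.1.toScheme := V.2
  have hr1 : Set.range ⇑(U.ι ≫ ψ₁) ⊆ Set.range ⇑V.1.ι := by
    rw [Scheme.Opens.range_ι]
    rintro _ ⟨p, rfl⟩
    exact p.2
  have hr2 : Set.range ⇑(U.ι ≫ ψ₂) ⊆ Set.range ⇑V.1.ι := by
    rw [Scheme.Opens.range_ι]
    rintro _ ⟨p, rfl⟩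
    have : ψ₂.base p.1 ∈ V.1 := by rw [← hb]; exact p.2
    exact this
  let g₁ : U.toScheme ⟶ V.1.toScheme := IsOpenImmersion.lift V.1.ι (U.ι ≫ ψ₁) hr1
  let g₂ : U.toScheme ⟶ V.1.toScheme := IsOpenImmersion.lift V.1.ι (U.ι ≫ ψ₂) hr2
  have hg₁ : g₁ ≫ V.1.ι = U.ι ≫ ψ₁ := IsOpenImmersion.lift_fac _ _ _
  have hg₂ : g₂ ≫ V.1.ι = U.ι ≫ ψ₂ := IsOpenImmersion.lift_fac _ _ _
  have e1 : (F ∣_ U) ≫ g₁ = (F ∣_ U) ≫ g₂ := by
    rw [← cancel_mono V.1.ι]
    simp only [Category.assoc, hg₁, hg₂]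
    rw [← Category.assoc, ← Category.assoc, morphismRestrict_ι, Category.assoc, Category.assoc, h]
  have e2 : g₁ = g₂ := by
    apply ext_of_isAffine
    have e3 := congrArg Scheme.Hom.appTop e1
    rw [Scheme.Hom.comp_appTop, Scheme.Hom.comp_appTop] at e3
    haveI : Mono (F ∣_ U).appTop :=
      ConcreteCategory.mono_of_injective _ (injective_app_restrict F hF U ⊤)
    exact (cancel_mono _).mp e3
  rw [← hg₁, ← hg₂, e2]

theorem exists_fac {W Y Z : Scheme.{u}} (F : W ⟶ Y) [Surjective F] (hcl : IsClosedMap F.base)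
    (hF : ∀ U : Y.Opens, IsIso (F.app U)) (φ : W ⟶ Z)
    (hφ : ∀ p q : W, F.base p = F.base q → φ.base p = φ.base q) :
    ∃ ψ : Y ⟶ Z, F ≫ ψ = φ := by
  have hFinj : ∀ U : Y.Opens, Function.Injective (F.app U) := fun U =>
    ((ConcreteCategory.isIso_iff_bijective (F.app U)).mp (hF U)).1
  let N : Z.affineOpens → Y.Opens := fun V => nbhd F hcl φ V.1
  have hcov : TopologicalSpace.IsOpenCover N := by
    apply TopologicalSpace.IsOpenCover.mk
    rw [eq_top_iff]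
    intro y _
    obtain ⟨w, rfl⟩ := F.surjective y
    obtain ⟨V, hV, hwV, -⟩ := exists_isAffineOpen_mem_and_subset (x := φ.base w) (U := ⊤) trivial
    refine TopologicalSpace.Opens.mem_iSup.mpr ⟨⟨V, hV⟩, ?_⟩
    show F.base w ∈ nbhd F hcl φ V
    rw [mem_nbhd]
    intro w' hw'
    rw [hφ w' w hw']
    exact hwV
  have hloc : ∀ V : Z.affineOpens, ∃ ψV : (N V).toScheme ⟶ Z,
      (F ∣_ N V) ≫ ψV = (F ⁻¹ᵁ N V).ι ≫ φ := by
    intro V
    haveI : IsAffine V.1.toScheme := V.2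
    have hr : Set.range ⇑((F ⁻¹ᵁ N V).ι ≫ φ) ⊆ Set.range ⇑V.1.ι := by
      rw [Scheme.Opens.range_ι]
      rintro _ ⟨p, rfl⟩
      exact (mem_nbhd F hcl φ V.1 _).mp p.2 p.1 rfl
    haveI : IsIso (F ∣_ N V).appTop := by
      rw [morphismRestrict_appTop]
      have h1 := hF ((N V).ι ''ᵁ ⊤)
      have h2 : IsIso (W.presheaf.map
          (eqToHom (image_morphismRestrict_preimage F (N V) ⊤)).op) := inferInstance
      exact @IsIso.comp_isIso _ _ _ _ _ _ _ h1 h2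
    obtain ⟨ψ, hψ⟩ := exists_fac_of_isAffine (F ∣_ N V)
      (IsOpenImmersion.lift V.1.ι ((F ⁻¹ᵁ N V).ι ≫ φ) hr)
    exact ⟨ψ ≫ V.1.ι, by rw [← Category.assoc, hψ, IsOpenImmersion.lift_fac]⟩
  choose ψV hψV using hloc
  have hglue : ∀ V V' : Z.affineOpens,
      pullback.fst (N V).ι (N V').ι ≫ ψV V = pullback.snd (N V).ι (N V').ι ≫ ψV V' := by
    intro V V'
    have sq := isPullback_opens_inf (N V) (N V')
    have key : Y.homOfLE (inf_le_left : N V ⊓ N V' ≤ N V) ≫ ψV V =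
        Y.homOfLE (inf_le_right : N V ⊓ N V' ≤ N V') ≫ ψV V' := by
      haveI := surjective_restrict F (N V ⊓ N V')
      refine eq_of_comp_eq (F ∣_ (N V ⊓ N V')) (injective_app_restrict F hFinj _) _ _ ?_
      have c1 : (F ∣_ (N V ⊓ N V')) ≫ Y.homOfLE (inf_le_left : N V ⊓ N V' ≤ N V) =
          W.homOfLE (F.preimage_mono (inf_le_left : N V ⊓ N V' ≤ N V)) ≫ (F ∣_ N V) := by
        rw [← cancel_mono (N V).ι]
        simp only [Category.assoc, Scheme.homOfLE_ι, morphismRestrict_ι, Scheme.homOfLE_ι_assoc]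
      have c2 : (F ∣_ (N V ⊓ N V')) ≫ Y.homOfLE (inf_le_right : N V ⊓ N V' ≤ N V') =
          W.homOfLE (F.preimage_mono (inf_le_right : N V ⊓ N V' ≤ N V')) ≫ (F ∣_ N V') := by
        rw [← cancel_mono (N V').ι]
        simp only [Category.assoc, Scheme.homOfLE_ι, morphismRestrict_ι, Scheme.homOfLE_ι_assoc]
      have l : (F ∣_ (N V ⊓ N V')) ≫ Y.homOfLE (inf_le_left : N V ⊓ N V' ≤ N V) ≫ ψV V =
          (F ⁻¹ᵁ (N V ⊓ N V')).ι ≫ φ := by
        rw [← Category.assoc, c1, Category.assoc, hψV, Scheme.homOfLE_ι_assoc]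
      have r : (F ∣_ (N V ⊓ N V')) ≫ Y.homOfLE (inf_le_right : N V ⊓ N V' ≤ N V') ≫ ψV V' =
          (F ⁻¹ᵁ (N V ⊓ N V')).ι ≫ φ := by
        rw [← Category.assoc, c2, Category.assoc, hψV, Scheme.homOfLE_ι_assoc]
      rw [l, r]
    rw [← cancel_epi sq.isoPullback.hom]
    have f1 : sq.isoPullback.hom ≫ pullback.fst (N V).ι (N V').ι =
        Y.homOfLE (inf_le_left : N V ⊓ N V' ≤ N V) := sq.isoPullback_hom_fst
    have f2 : sq.isoPullback.hom ≫ pullback.snd (N V).ι (N V').ι =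
        Y.homOfLE (inf_le_right : N V ⊓ N V' ≤ N V') := sq.isoPullback_hom_snd
    rw [← Category.assoc, f1, ← Category.assoc, f2]
    exact key
  obtain ⟨ψ, hψ⟩ : ∃ ψ : Y ⟶ Z, ∀ V : Z.affineOpens, (N V).ι ≫ ψ = ψV V :=
    ⟨Scheme.Cover.glueMorphisms (Y.openCoverOfIsOpenCover N hcov) ψV hglue,
      fun V => Scheme.Cover.ι_glueMorphisms (Y.openCoverOfIsOpenCover N hcov) ψV hglue V⟩
  refine ⟨ψ, ?_⟩
  have hcovW : TopologicalSpace.IsOpenCover (fun V : Z.affineOpens => F ⁻¹ᵁ N V) := by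
    apply TopologicalSpace.IsOpenCover.mk
    rw [← Scheme.Hom.preimage_iSup, show iSup N = ⊤ from hcov]
    rfl
  refine Scheme.Cover.hom_ext (W.openCoverOfIsOpenCover _ hcovW) _ _ fun (V : Z.affineOpens) => ?_
  show (F ⁻¹ᵁ N V).ι ≫ F ≫ ψ = (F ⁻¹ᵁ N V).ι ≫ φ
  rw [← morphismRestrict_ι_assoc, hψ, hψV]

end Groth.Agent.H63.SteinFac
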