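import Mathlib
import Groth.Prelude.Def_ChGrp
import Groth.Prelude.Def_ActBC
import Groth.Agent.H63.Blanchard1
import Groth.Agent.H63.SteinFac
import Groth.Agent.H74.AbGI

/-!
# Blanchard's lemma, part 2 (helper63)

Let `f : X ⟶ Y` be a proper morphism of `k`-schemes with `O_Y(U) ≅ O_X(f⁻¹U)` for all opens `U`,
and let `G` act on `X`.

* `exists_action_of_const`: if `G × X ⟶ X ⟶ Y` is constant on the fibres of `G × X ⟶ G × Y` the
  action descends to `Y`.
* `const_of_stable`: this holds if `X ×_Y X` is stable under the diagonal action.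
* `const_of_connected`: this holds if `G` is connected and `Y` is separated.
-/

set_option autoImplicit false
universe u
open CategoryTheory CategoryTheory.Limits MonoidalCategory CartesianMonoidalCategory MonObj
  AlgebraicGeometry

namespace Groth.Agent.H63.Blanchard

open AlgGrp.Action

section General

variable {S : Scheme.{u}} {G P X : Over S} [GrpObj G]

/-- an action descends along an equivariant morphism `π` such that `𝟙 × π` and `(G × G) × π` are
epimorphisms -/
theorem action_of_epi (a : AlgGrp.Action G P) (π : P ⟶ X) (β : G ⊗ X ⟶ X)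
    (hβ : a.act ≫ π = (G ◁ π) ≫ β)
    (h1 : ∀ u v : 𝟙_ (Over S) ⊗ X ⟶ X,
      (𝟙_ (Over S) ◁ π) ≫ u = (𝟙_ (Over S) ◁ π) ≫ v → u = v)
    (h2 : ∀ u v : (G ⊗ G) ⊗ X ⟶ X, ((G ⊗ G) ◁ π) ≫ u = ((G ⊗ G) ◁ π) ≫ v → u = v) :
    ∃ b : AlgGrp.Action G X, b.act = β := by
  have key : ∀ {T : Over S} (g : T ⟶ G) (p : T ⟶ P),
      lift g (p ≫ π) ≫ β = lift g p ≫ a.act ≫ π := by
    intro T g p
    rw [hβ, lift_whiskerLeft_assoc]
  refine ⟨{ act := β, one_act := ?_, mul_act := ?_ }, rfl⟩
  · apply h1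
    apply hom_ext_lift₂
    intro T u p
    rw [lift_whiskerLeft_assoc, lift_whiskerLeft_assoc, lift_whiskerRight_assoc, leftUnitor_hom,
      lift_snd, key, toUnit_unique u (toUnit T), ← Hom.one_def, lift_one_act_assoc]
  · apply h2
    apply hom_ext_lift₃
    intro T g g' p
    rw [lift_whiskerLeft_assoc, lift_whiskerLeft_assoc, lift_whiskerRight_assoc, ← Hom.mul_def,
      key, lift_mul_act_assoc, lift_lift_associator_hom_assoc, lift_whiskerLeft_assoc, key g' p,
      ← Category.assoc (lift g' p), key]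

/-- the unit section -/
noncomputable abbrev usec (G : Over S) [GrpObj G] (X : Over S) : X ⟶ G ⊗ X :=
  lift (toUnit X ≫ η[G]) (𝟙 X)

theorem usec_natural {X Y : Over S} (f : X ⟶ Y) : usec G X ≫ (G ◁ f) = f ≫ usec G Y := by
  apply CartesianMonoidalCategory.hom_ext
  · rw [Category.assoc, whiskerLeft_fst, lift_fst, Category.assoc, lift_fst, ← Category.assoc,
      toUnit_unique (f ≫ toUnit Y) (toUnit X)]
  · rw [Category.assoc, whiskerLeft_snd, lift_snd_assoc, Category.id_comp, Category.assoc,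
      lift_snd, Category.comp_id]

theorem usec_sq {X Y : Over S} (f : X ⟶ Y) :
    IsPullback (usec G X) f (G ◁ f) (usec G Y) := by
  refine Groth.Agent.H63.Rigid.isPullback_of_pts (usec_natural f) ?_
  intro T u v huv
  refine ⟨u ≫ snd G X, ⟨?_, ?_⟩, ?_⟩
  · apply CartesianMonoidalCategory.hom_ext
    · rw [Category.assoc, lift_fst]
      have := congrArg (· ≫ fst G Y) huv
      simp only [Category.assoc, whiskerLeft_fst, lift_fst] at this
      rw [this, ← Category.assoc, ← Category.assoc]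
      congr 1
      exact toUnit_unique _ _
    · rw [Category.assoc, lift_snd, Category.comp_id]
  · have := congrArg (· ≫ snd G Y) huv
    simp only [Category.assoc, whiskerLeft_snd, lift_snd, Category.comp_id] at this
    exact this
  · rintro q ⟨hq1, -⟩
    rw [← hq1, Category.assoc, lift_snd, Category.comp_id]

theorem usec_act (a : AlgGrp.Action G P) : usec G P ≫ a.act = 𝟙 P := by
  show lift (toUnit P ≫ η[G]) (𝟙 P) ≫ a.act = 𝟙 P
  rw [← Hom.one_def, lift_one_act]

end General

theorem exists_preimage_of_isPullback {P X Y Z : Scheme.{u}} {fst : P ⟶ X} {snd : P ⟶ Y}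
    {f : X ⟶ Z} {g : Y ⟶ Z} (h : IsPullback fst snd f g) (x : X) (y : Y)
    (hxy : f.base x = g.base y) : ∃ z : P, fst.base z = x ∧ snd.base z = y := by
  obtain ⟨z, hz1, hz2⟩ := Scheme.Pullback.exists_preimage_pullback x y hxy
  refine ⟨h.isoPullback.inv.base z, ?_, ?_⟩
  · show (h.isoPullback.inv ≫ fst).base z = x
    rw [h.isoPullback_inv_fst]
    exact hz1
  · show (h.isoPullback.inv ≫ snd).base z = y
    rw [h.isoPullback_inv_snd]
    exact hz2

section Field

variable {k : Type u} [Field k] {G X Y : Over (Spec (CommRingCat.of k))}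

theorem surjective_left_of_stein (f : X ⟶ Y) [IsProper f.left]
    (hf : ∀ U : Y.left.Opens, IsIso (f.left.app U)) : Surjective f.left :=
  surjective_of_isIso_app f.left f.left.isClosedMap hf

theorem surjective_whiskerLeft (T : Over (Spec (CommRingCat.of k))) (f : X ⟶ Y)
    [Surjective f.left] : Surjective (T ◁ f).left :=
  MorphismProperty.of_isPullback (P := @Surjective)
    (Groth.Agent.H63.SteinBC.isPullback_whiskerLeft T f) inferInstance

theorem isProper_whiskerLeft (T : Over (Spec (CommRingCat.of k))) (f : X ⟶ Y)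
    [IsProper f.left] : IsProper (T ◁ f).left :=
  MorphismProperty.of_isPullback (P := @IsProper)
    (Groth.Agent.H63.SteinBC.isPullback_whiskerLeft T f) inferInstance

theorem whiskerLeft_cancel (T : Over (Spec (CommRingCat.of k))) (f : X ⟶ Y) [IsProper f.left]
    (hf : ∀ U : Y.left.Opens, IsIso (f.left.app U)) {Z : Over (Spec (CommRingCat.of k))}
    (u v : T ⊗ Y ⟶ Z) (h : (T ◁ f) ≫ u = (T ◁ f) ≫ v) : u = v := by
  haveI := surjective_left_of_stein f hf
  haveI := surjective_whiskerLeft T f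
  apply Over.OverMorphism.ext
  refine Groth.Agent.H63.SteinFac.eq_of_comp_eq (T ◁ f).left (fun U => ?_) u.left v.left ?_
  · haveI := Groth.Agent.H63.SteinBC.isIso_whiskerLeft_app T f hf U
    exact ((ConcreteCategory.isIso_iff_bijective ((T ◁ f).left.app U)).mp inferInstance).1
  · rw [← Over.comp_left, h, Over.comp_left]

/-- (iii) ⇒ (i) -/
theorem exists_action_of_const [GrpObj G] (f : X ⟶ Y) [IsProper f.left]
    (hf : ∀ U : Y.left.Opens, IsIso (f.left.app U)) (a : AlgGrp.Action G X)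
    (h3 : ∀ p q : ↥(G ⊗ X).left, (G ◁ f).left.base p = (G ◁ f).left.base q →
      (a.act ≫ f).left.base p = (a.act ≫ f).left.base q) :
    ∃ b : AlgGrp.Action G Y, (G ◁ f) ≫ b.act = a.act ≫ f := by
  haveI := surjective_left_of_stein f hf
  haveI := surjective_whiskerLeft G f
  haveI := isProper_whiskerLeft G f
  obtain ⟨ψ, hψ⟩ := Groth.Agent.H63.SteinFac.exists_fac (G ◁ f).left
    (G ◁ f).left.isClosedMap (Groth.Agent.H63.SteinBC.isIso_whiskerLeft_app G f hf)
    (a.act ≫ f).left h3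
  have hw : ψ ≫ Y.hom = (G ⊗ Y).hom := by
    refine Groth.Agent.H63.SteinFac.eq_of_comp_eq (G ◁ f).left (fun U => ?_) _ _ ?_
    · haveI := Groth.Agent.H63.SteinBC.isIso_whiskerLeft_app G f hf U
      exact ((ConcreteCategory.isIso_iff_bijective ((G ◁ f).left.app U)).mp inferInstance).1
    · rw [← Category.assoc, hψ, Over.w, Over.w]
  let β : G ⊗ Y ⟶ Y := Over.homMk ψ hw
  have hβ : (G ◁ f) ≫ β = a.act ≫ f := Over.OverMorphism.ext hψ
  obtain ⟨b, hb⟩ := action_of_epi a f β hβ.symm (whiskerLeft_cancel _ f hf)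
    (whiskerLeft_cancel _ f hf)
  exact ⟨b, by rw [hb]; exact hβ⟩

/-- two points of `G × X` over the same point of `G × Y` come from a point of a test scheme -/
theorem exists_pair (G : Over (Spec (CommRingCat.of k))) (f : X ⟶ Y) (p q : ↥(G ⊗ X).left)
    (hpq : (G ◁ f).left.base p = (G ◁ f).left.base q) :
    ∃ (T : Over (Spec (CommRingCat.of k))) (π₁ π₂ : T ⟶ G ⊗ X) (z : ↥T.left),
      π₁ ≫ (G ◁ f) = π₂ ≫ (G ◁ f) ∧ π₁.left.base z = p ∧ π₂.left.base z = q := by
  have sq : IsPullback (pullback.fst (G ◁ f) (G ◁ f)).left (pullback.snd (G ◁ f) (G ◁ f)).left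
      (G ◁ f).left (G ◁ f).left :=
    (IsPullback.of_hasPullback (G ◁ f) (G ◁ f)).map (Over.forget _)
  obtain ⟨z, hz1, hz2⟩ := exists_preimage_of_isPullback sq p q hpq
  exact ⟨_, pullback.fst (G ◁ f) (G ◁ f), pullback.snd (G ◁ f) (G ◁ f), z, pullback.condition,
    hz1, hz2⟩

theorem fst_eq_of_comp_eq {T : Over (Spec (CommRingCat.of k))} (f : X ⟶ Y)
    {π₁ π₂ : T ⟶ G ⊗ X} (hπ : π₁ ≫ (G ◁ f) = π₂ ≫ (G ◁ f)) :
    π₂ ≫ fst G X = π₁ ≫ fst G X ∧ (π₁ ≫ snd G X) ≫ f = (π₂ ≫ snd G X) ≫ f := by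
  constructor
  · have := congrArg (· ≫ fst G Y) hπ
    simp only [Category.assoc, whiskerLeft_fst] at this
    exact this.symm
  · have := congrArg (· ≫ snd G Y) hπ
    simp only [Category.assoc, whiskerLeft_snd] at this
    simpa only [Category.assoc] using this

/-- (ii) ⇒ (iii) -/
theorem const_of_stable [GrpObj G] (f : X ⟶ Y) (a : AlgGrp.Action G X)
    (h2 : ∀ (T : Over (Spec (CommRingCat.of k))) (g : T ⟶ G) (x₁ x₂ : T ⟶ X),
      x₁ ≫ f = x₂ ≫ f → lift g x₁ ≫ a.act ≫ f = lift g x₂ ≫ a.act ≫ f) :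
    ∀ p q : ↥(G ⊗ X).left, (G ◁ f).left.base p = (G ◁ f).left.base q →
      (a.act ≫ f).left.base p = (a.act ≫ f).left.base q := by
  intro p q hpq
  obtain ⟨T, π₁, π₂, z, hπ, rfl, rfl⟩ := exists_pair G f p q hpq
  obtain ⟨hg, hx⟩ := fst_eq_of_comp_eq f hπ
  have e := h2 T (π₁ ≫ fst G X) (π₁ ≫ snd G X) (π₂ ≫ snd G X) hx
  have e1 : lift (π₁ ≫ fst G X) (π₁ ≫ snd G X) = π₁ := by
    apply CartesianMonoidalCategory.hom_ext <;> simp
  have e2 : lift (π₁ ≫ fst G X) (π₂ ≫ snd G X) = π₂ := by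
    rw [← hg]
    apply CartesianMonoidalCategory.hom_ext <;> simp
  rw [e1, e2] at e
  have := congrArg (fun m => m.left.base z) e
  simpa using this

end Field

end Groth.Agent.H63.Blanchard
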