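import Mathlib
import Groth.Agent.H63.Blanchard2

/-!
# Blanchard's lemma, part 3: connected groups (helper63)

`const_of_connected`: if `G` is connected, `Y` separated and `f : X ⟶ Y` proper with
`O_Y = f_* O_X`, then `G × X ⟶ X ⟶ Y` is constant on the fibres of `G × X ⟶ G × Y`.
-/

set_option autoImplicit false
universe u
open CategoryTheory CategoryTheory.Limits MonoidalCategory CartesianMonoidalCategory MonObj
  AlgebraicGeometry

namespace Groth.Agent.H63.Blanchard

open AlgGrp.Action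

variable {k : Type u} [Field k] {G X Y : Over (Spec (CommRingCat.of k))}

theorem const_of_connected [GrpObj G] [ConnectedSpace ↥G.left] [IsSeparated Y.hom]
    (f : X ⟶ Y) [IsProper f.left] (hf : ∀ U : Y.left.Opens, IsIso (f.left.app U))
    (a : AlgGrp.Action G X) :
    ∀ p q : ↥(G ⊗ X).left, (G ◁ f).left.base p = (G ◁ f).left.base q →
      (a.act ≫ f).left.base p = (a.act ≫ f).left.base q := by
  intro p q hpq
  haveI := surjective_left_of_stein f hf
  haveI : IsProper (G ◁ f).left := isProper_whiskerLeft G f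
  have hcl : IsClosedMap (G ◁ f).left.base := (G ◁ f).left.isClosedMap
  have hst := Groth.Agent.H63.SteinBC.isIso_whiskerLeft_app G f hf
  haveI : Subsingleton ↥(Spec (CommRingCat.of k)) :=
    inferInstanceAs (Subsingleton (PrimeSpectrum k))
  -- the relation `R = X ×_Y X`
  obtain ⟨R, pr₁, pr₂, hpr, hlift⟩ : ∃ (R : Over (Spec (CommRingCat.of k))) (pr₁ pr₂ : R ⟶ X),
      pr₁ ≫ f = pr₂ ≫ f ∧ ∀ (T : Over (Spec (CommRingCat.of k))) (x₁ x₂ : T ⟶ X),
        x₁ ≫ f = x₂ ≫ f → ∃ r : T ⟶ R, r ≫ pr₁ = x₁ ∧ r ≫ pr₂ = x₂ :=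
    ⟨pullback f f, pullback.fst f f, pullback.snd f f, pullback.condition,
      fun T x₁ x₂ h => ⟨pullback.lift x₁ x₂ h, pullback.lift_fst _ _ _, pullback.lift_snd _ _ _⟩⟩
  obtain ⟨φ, hφ⟩ : ∃ φ : G ⊗ X ⟶ Y, φ = a.act ≫ f := ⟨_, rfl⟩
  obtain ⟨A₁, hA₁⟩ : ∃ A₁ : G ⊗ R ⟶ Y, A₁ = (G ◁ pr₁) ≫ φ := ⟨_, rfl⟩
  obtain ⟨A₂, hA₂⟩ : ∃ A₂ : G ⊗ R ⟶ Y, A₂ = (G ◁ pr₂) ≫ φ := ⟨_, rfl⟩
  have hπR : (G ◁ pr₁) ≫ (G ◁ f) = (G ◁ pr₂) ≫ (G ◁ f) := by
    rw [← MonoidalCategory.whiskerLeft_comp, ← MonoidalCategory.whiskerLeft_comp, hpr]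
  -- key claim
  have claim : ∀ t : ↥(G ⊗ R).left, A₁.left.base t = A₂.left.base t := by
    haveI : IsClosedImmersion (equalizer.ι A₁ A₂).left := inferInstance
    have hEcl : IsClosed (Set.range (equalizer.ι A₁ A₂).left.base) :=
      (equalizer.ι A₁ A₂).left.isClosedEmbedding.isClosed_range
    let NR : (G ⊗ R).left.Opens := ⨆ V : Y.left.affineOpens,
      ((G ◁ pr₁) ≫ (G ◁ f)).left ⁻¹ᵁ (nbhd (G ◁ f).left hcl φ.left V.1)
    have hNR_sub : (NR : Set ↥(G ⊗ R).left) ⊆ Set.range (equalizer.ι A₁ A₂).left.base := by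
      intro t ht
      obtain ⟨V, htV⟩ := TopologicalSpace.Opens.mem_iSup.mp ht
      let Q : (G ⊗ R).left.Opens := ((G ◁ pr₁) ≫ (G ◁ f)).left ⁻¹ᵁ (nbhd (G ◁ f).left hcl φ.left V.1)
      have e := comp_eq_of_mem_nbhd (G ◁ f).left hcl hst φ.left V.1 V.2
        (Q.ι ≫ (G ◁ pr₁).left) (Q.ι ≫ (G ◁ pr₂).left)
        (by simp only [Category.assoc, ← Over.comp_left, hπR])
        (fun q => q.2)
      let QO : Over (Spec (CommRingCat.of k)) := Over.mk (Q.ι ≫ (G ⊗ R).hom)
      let j : QO ⟶ G ⊗ R := Over.homMk Q.ι rfl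
      have hj : j ≫ A₁ = j ≫ A₂ := by
        apply Over.OverMorphism.ext
        rw [hA₁, hA₂]
        show Q.ι ≫ ((G ◁ pr₁) ≫ φ).left = Q.ι ≫ ((G ◁ pr₂) ≫ φ).left
        simpa only [Over.comp_left, Category.assoc] using e
      have hl := equalizer.lift_ι j hj
      refine ⟨(equalizer.lift j hj).left.base ⟨t, htV⟩, ?_⟩
      exact congrArg (fun m => m.left.base ⟨t, htV⟩) hl
    have hNR_sec : ∀ r : ↥R.left, (usec G R).left.base r ∈ NR := by
      intro r
      obtain ⟨V, hV, hyV, -⟩ := exists_isAffineOpen_mem_and_subset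
        (x := (pr₁ ≫ f).left.base r) (U := ⊤) trivial
      refine TopologicalSpace.Opens.mem_iSup.mpr ⟨⟨V, hV⟩, ?_⟩
      show ((G ◁ pr₁) ≫ (G ◁ f)).left.base ((usec G R).left.base r) ∈ nbhd (G ◁ f).left hcl φ.left V
      rw [mem_nbhd]
      intro w hw
      have e1 : ((G ◁ pr₁) ≫ (G ◁ f)).left.base ((usec G R).left.base r) =
          (usec G Y).left.base ((pr₁ ≫ f).left.base r) := by
        have h := usec_natural (G := G) (pr₁ ≫ f)
        rw [MonoidalCategory.whiskerLeft_comp] at h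
        exact congrArg (fun m => m.left.base r) h
      rw [e1] at hw
      obtain ⟨x, hx1, hx2⟩ := exists_preimage_of_isPullback
        ((usec_sq (G := G) f).map (Over.forget _)) w _ hw
      have e2 : usec G X ≫ φ = f := by
        rw [hφ, ← Category.assoc, usec_act, Category.id_comp]
      have e3 : φ.left.base ((usec G X).left.base x) = f.left.base x :=
        congrArg (fun m => m.left.base x) e2
      have hx1' : (usec G X).left.base x = w := hx1
      have hx2' : f.left.base x = (pr₁ ≫ f).left.base r := hx2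
      rw [← hx1', e3, hx2']
      exact hyV
    haveI : GeometricallyIrreducible G.hom :=
      Groth.Agent.H74.AbGI.geometricallyIrreducible_of_connected k G
    haveI : GeometricallyIrreducible (snd G R).left :=
      inferInstanceAs (GeometricallyIrreducible (pullback.snd G.hom R.hom))
    haveI : UniversallyOpen G.hom := inferInstance
    haveI : UniversallyOpen (snd G R).left :=
      inferInstanceAs (UniversallyOpen (pullback.snd G.hom R.hom))
    have hdense : Dense (NR : Set ↥(G ⊗ R).left) :=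
      dense_of_section (snd G R).left (snd G R).left.isOpenMap (usec G R).left
        (by rw [← Over.comp_left, lift_snd]; rfl) NR hNR_sec
    have hrange : Set.range (equalizer.ι A₁ A₂).left.base = Set.univ := by
      apply Set.eq_univ_of_univ_subset
      rw [← hdense.closure_eq]
      exact hEcl.closure_subset_iff.mpr hNR_sub
    intro t
    obtain ⟨e, rfl⟩ : t ∈ Set.range (equalizer.ι A₁ A₂).left.base := by
      rw [hrange]; trivial
    have := congrArg (fun m => m.left.base e) (equalizer.condition A₁ A₂)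
    simpa using this
  -- a point of `G × R` over `p, q`
  obtain ⟨T, π₁, π₂, z, hπ, rfl, rfl⟩ := exists_pair G f p q hpq
  obtain ⟨hg, hx⟩ := fst_eq_of_comp_eq f hπ
  obtain ⟨r, hr1, hr2⟩ := hlift T _ _ hx
  have hτ1 : lift (π₁ ≫ fst G X) r ≫ (G ◁ pr₁) = π₁ := by
    rw [lift_whiskerLeft, hr1]
    apply CartesianMonoidalCategory.hom_ext <;> simp
  have hτ2 : lift (π₁ ≫ fst G X) r ≫ (G ◁ pr₂) = π₂ := by
    rw [lift_whiskerLeft, hr2, ← hg]
    apply CartesianMonoidalCategory.hom_ext <;> simp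
  have c := claim ((lift (π₁ ≫ fst G X) r).left.base z)
  have c1 : A₁.left.base ((lift (π₁ ≫ fst G X) r).left.base z) =
      (a.act ≫ f).left.base (π₁.left.base z) := by
    have := congrArg (fun m => m.left.base z) (show lift (π₁ ≫ fst G X) r ≫ A₁ = π₁ ≫ a.act ≫ f by
      rw [hA₁, ← Category.assoc, hτ1, hφ])
    simpa using this
  have c2 : A₂.left.base ((lift (π₁ ≫ fst G X) r).left.base z) =
      (a.act ≫ f).left.base (π₂.left.base z) := by
    have := congrArg (fun m => m.left.base z) (show lift (π₁ ≫ fst G X) r ≫ A₂ = π₂ ≫ a.act ≫ f by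
      rw [hA₂, ← Category.assoc, hτ2, hφ])
    simpa using this
  rw [← c1, ← c2]
  exact c

end Groth.Agent.H63.Blanchard
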