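import Mathlib
import Groth.Agent.H44.CoeffField
import Groth.Agent.H44.MacLaneAll

/-!
# Coefficient fields for local rings of characteristic `p` with nilpotent maximal ideal
-/

set_option autoImplicit false
set_option linter.style.haveILetI false
universe u
open IsLocalRing

namespace Groth.Agent.H63.CoeffSection

theorem exists_section_charP (p : ℕ) (hp : p.Prime) (A : Type u) [CommRing A] [IsLocalRing A]
    [CharP A p] (hnil : ∃ n : ℕ, maximalIdeal A ^ n = ⊥) :
    ∃ σ : ResidueField A →+* A, (residue A).comp σ = RingHom.id _ := by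
  haveI : Fact p.Prime := ⟨hp⟩
  let ι : ULift.{u} (ZMod p) →+* A :=
    (ZMod.castHom (dvd_refl p) A).comp
      (ULift.ringEquiv : ULift.{u} (ZMod p) ≃+* ZMod p).toRingHom
  letI : Algebra (ULift.{u} (ZMod p)) A := ι.toAlgebra
  haveI : CharP (ResidueField A) p := by
    rw [CharP.charP_iff_prime_eq_zero hp]
    have h0 : ((p : ℕ) : A) = 0 := CharP.cast_eq_zero A p
    have h1 : residue A ((p : ℕ) : A) = 0 := by rw [h0, map_zero]
    rw [map_natCast] at h1
    exact h1
  haveI : ExpChar (ULift.{u} (ZMod p)) p := ExpChar.prime hp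
  haveI : PerfectRing (ULift.{u} (ZMod p)) p := inferInstance
  haveI : Algebra.FormallySmooth (ULift.{u} (ZMod p)) (ResidueField A) :=
    Groth.Agent.H44.CoeffField.formallySmooth_of_charP_perfect p
  obtain ⟨n, hn⟩ := hnil
  have hI : IsNilpotent (maximalIdeal A) := ⟨n, hn⟩
  let g : ResidueField A →ₐ[ULift.{u} (ZMod p)] A ⧸ maximalIdeal A :=
    { toRingHom := RingHom.id _
      commutes' := fun _ => rfl }
  refine ⟨(Algebra.FormallySmooth.lift (maximalIdeal A) hI g).toRingHom,
    RingHom.ext fun x => ?_⟩
  exact Algebra.FormallySmooth.mk_lift (maximalIdeal A) hI g x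

theorem exists_section_rel {A A' : Type u} [CommRing A] [IsLocalRing A] [CommRing A']
    [IsLocalRing A'] [Algebra A A'] [IsLocalHom (algebraMap A A')]
    (hnil' : ∃ n : ℕ, maximalIdeal A' ^ n = ⊥)
    (hgr : Algebra.IsGeometricallyReduced (ResidueField A) (ResidueField A'))
    (σ : ResidueField A →+* A) (hσ : (residue A).comp σ = RingHom.id _) :
    ∃ σ' : ResidueField A' →+* A', (residue A').comp σ' = RingHom.id _ ∧
      σ'.comp (ResidueField.map (algebraMap A A')) = (algebraMap A A').comp σ := by
  haveI : Algebra.FormallySmooth (ResidueField A) (ResidueField A') :=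
    Groth.Agent.H44.MacLane.formallySmooth_iff_isGeometricallyReduced.mpr hgr
  letI algκA' : Algebra (ResidueField A) A' := ((algebraMap A A').comp σ).toAlgebra
  obtain ⟨n, hn⟩ := hnil'
  have hI : IsNilpotent (maximalIdeal A') := ⟨n, hn⟩
  let g : ResidueField A' →ₐ[ResidueField A] A' ⧸ maximalIdeal A' :=
    { toRingHom := RingHom.id _
      commutes' := fun x => by
        have hx : residue A (σ x) = x := RingHom.congr_fun hσ x
        show algebraMap (ResidueField A) (ResidueField A') x =
          Ideal.Quotient.mk _ (algebraMap A A' (σ x))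
        conv_lhs => rw [← hx]
        rfl }
  refine ⟨(Algebra.FormallySmooth.lift (maximalIdeal A') hI g).toRingHom,
    RingHom.ext fun x => ?_, RingHom.ext fun x => ?_⟩
  · exact Algebra.FormallySmooth.mk_lift (maximalIdeal A') hI g x
  · have h1 : ResidueField.map (algebraMap A A') x =
        algebraMap (ResidueField A) (ResidueField A') x := by
      obtain ⟨a, rfl⟩ := residue_surjective x
      rfl
    show (Algebra.FormallySmooth.lift (maximalIdeal A') hI g)
      (ResidueField.map (algebraMap A A') x) = algebraMap A A' (σ x)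
    rw [h1, AlgHom.commutes]
    rfl

end Groth.Agent.H63.CoeffSection
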