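import Mathlib
import Groth.Prelude
import Groth.Agent.H18.ArtinResidue

set_option autoImplicit false
universe u
open CategoryTheory CategoryTheory.Limits AlgebraicGeometry TensorProduct

namespace Groth.Agent.H63.EssFreeB0

open IsLocalRing

/-- nilpotent Nakayama: a submodule surjecting onto `k ⊗ M` is everything -/
theorem eq_top_of_map_mk_eq_top (A : Type u) [CommRing A] [IsArtinianRing A] [IsLocalRing A]
    (M : Type u) [AddCommGroup M] [Module A M] (N : Submodule A M)
    (hN : N.map (TensorProduct.mk A (ResidueField A) M 1) = ⊤) : N = ⊤ := by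
  apply Groth.Agent.H18.ArtinResidue.eq_top_of_sup_smul_eq_top
    (Groth.Agent.H18.ArtinResidue.isNilpotent_maximalIdeal (A := A)) N
  rw [eq_top_iff]
  intro x _
  have hx : TensorProduct.mk A (ResidueField A) M 1 x ∈
      N.map (TensorProduct.mk A (ResidueField A) M 1) := by rw [hN]; trivial
  obtain ⟨n, hn, hnx⟩ := hx
  have hker : x - n ∈ LinearMap.ker (TensorProduct.mk A (ResidueField A) M 1) := by
    rw [LinearMap.mem_ker, map_sub, hnx, sub_self]
  have hker' : x - n ∈ (maximalIdeal A) • (⊤ : Submodule A M) := by
    rw [← LinearMap.ker_tensorProductMk]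
    exact hker
  have : x = n + (x - n) := by abel
  rw [this]
  exact Submodule.add_mem_sup hn hker'

/-- (EB0) pure algebra: flat modules over a local artinian ring are free -/
theorem free_of_flat_of_isArtinianRing (A : Type u) [CommRing A] [IsArtinianRing A] [IsLocalRing A]
    (M : Type u) [AddCommGroup M] [Module A M] [Module.Flat A M] : Module.Free A M := by
  let w := Module.Free.chooseBasis (ResidueField A) (ResidueField A ⊗[A] M)
  have ⟨v, heq⟩ := (TensorProduct.mk_surjective A M (ResidueField A)
    Ideal.Quotient.mk_surjective).comp_left w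
  have heq' : (TensorProduct.mk A (ResidueField A) M 1) ∘ v = w := heq
  have hli : LinearIndependent A v := by
    apply Module.IsLocalRing.linearIndependent_of_flat v
    rw [heq']
    exact w.linearIndependent
  have hspan : Submodule.span A (Set.range v) = ⊤ := by
    apply eq_top_of_map_mk_eq_top
    rw [Submodule.map_span, ← Submodule.restrictScalars_span A (ResidueField A)
      Ideal.Quotient.mk_surjective, Submodule.restrictScalars_eq_top_iff,
      ← w.span_eq, ← Set.range_comp, heq']
  exact Module.Free.of_basis (Module.Basis.mk hli hspan.ge)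

end Groth.Agent.H63.EssFreeB0
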