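import Mathlib
import Groth.Prelude
import Groth.Agent.H63.EssFreeB0

set_option autoImplicit false
universe u
open CategoryTheory CategoryTheory.Limits AlgebraicGeometry

namespace Groth.Agent.H63.EssFreeLoc

theorem isLocalRing_of_subsingleton_primeSpectrum {R : Type u} [CommRing R]
    [Nonempty (PrimeSpectrum R)] [Subsingleton (PrimeSpectrum R)] : IsLocalRing R := by
  obtain ⟨p⟩ := (inferInstance : Nonempty (PrimeSpectrum R))
  haveI : Nontrivial R := by
    rcases subsingleton_or_nontrivial R with h | h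
    · exfalso
      apply p.isPrime.ne_top
      rw [Ideal.eq_top_iff_one]
      rw [Subsingleton.elim (1 : R) 0]
      exact zero_mem _
    · exact h
  obtain ⟨M, hM⟩ := Ideal.exists_maximal R
  refine IsLocalRing.of_unique_max_ideal ⟨M, hM, fun I hI => ?_⟩
  have h1 : (⟨I, hI.isPrime⟩ : PrimeSpectrum R) = ⟨M, hM.isPrime⟩ := Subsingleton.elim _ _
  exact congrArg PrimeSpectrum.asIdeal h1

/-- (EB) flat over an artinian ring ⇒ essentially free (local charts; only needs the local case) -/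
theorem isEssentiallyFree_of_flat_of_isArtinianRing
    (A : Type u) [CommRing A] [IsArtinianRing A]
    (X : Scheme.{u}) (f : X ⟶ Spec (CommRingCat.of A)) (h : Flat f) :
    SGA3x.IsEssentiallyFree f := by
  haveI := h
  intro s
  haveI : DiscreteTopology ↥(Spec (CommRingCat.of A)) :=
    inferInstanceAs (DiscreteTopology (PrimeSpectrum A))
  obtain ⟨_, ⟨_, ⟨r, rfl⟩, rfl⟩, hsr, hsub⟩ :=
    (isBasis_basicOpen (Spec (CommRingCat.of A))).exists_subset_of_mem_open
      (Set.mem_singleton s) (isOpen_discrete {s})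
  set U : (Spec (CommRingCat.of A)).Opens := (Spec (CommRingCat.of A)).basicOpen r with hU
  have hUaff : IsAffineOpen U := (isAffineOpen_top _).basicOpen r
  haveI : IsAffine (U : Scheme.{u}) := hUaff
  -- the ring of `U` is local artinian
  haveI : IsArtinianRing Γ(Spec (CommRingCat.of A), ⊤) :=
    RingEquiv.isArtinianRing (Scheme.ΓSpecIso (CommRingCat.of A)).symm.commRingCatIsoToRingEquiv
  haveI : IsArtinianRing Γ(Spec (CommRingCat.of A), U) :=
    IsArtinianRing.localization_artinian (Submonoid.powers r) _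
  haveI : IsArtinianRing Γ((U : Scheme.{u}), ⊤) :=
    RingEquiv.isArtinianRing U.topIso.symm.commRingCatIsoToRingEquiv
  haveI : Subsingleton ↥(U : Scheme.{u}) := by
    refine ⟨fun a b => ?_⟩
    apply Subtype.ext
    have ha : a.1 = s := hsub a.2
    have hb : b.1 = s := hsub b.2
    rw [ha, hb]
  haveI : Nonempty ↥(U : Scheme.{u}) := ⟨⟨s, hsr⟩⟩
  let e := Scheme.homeoOfIso (U : Scheme.{u}).isoSpec
  haveI : Subsingleton (PrimeSpectrum Γ((U : Scheme.{u}), ⊤)) := e.symm.injective.subsingleton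
  haveI : Nonempty (PrimeSpectrum Γ((U : Scheme.{u}), ⊤)) := ⟨e (Classical.arbitrary _)⟩
  haveI : IsLocalRing Γ((U : Scheme.{u}), ⊤) := isLocalRing_of_subsingleton_primeSpectrum
  refine ⟨U, hsr, hUaff, (U : Scheme.{u}), hUaff, 𝟙 _, inferInstance, inferInstance, fun x => ?_⟩
  obtain ⟨_, ⟨(V : (pullback f (𝟙 (U : Scheme.{u}) ≫ U.ι)).Opens), hV, rfl⟩, hxV, -⟩ :=
    (Scheme.isBasis_affineOpens (pullback f (𝟙 (U : Scheme.{u}) ≫ U.ι))).exists_subset_of_mem_open
      (Set.mem_univ x) isOpen_univ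
  refine ⟨V, hxV, hV, ?_⟩
  letI := (V.ι ≫ pullback.snd f (𝟙 (U : Scheme.{u}) ≫ U.ι)).appTop.hom.toAlgebra
  haveI : IsAffine (↑V : Scheme.{u}) := hV
  have hfl : Flat (V.ι ≫ pullback.snd f (𝟙 (U : Scheme.{u}) ≫ U.ι)) := inferInstance
  rw [HasRingHomProperty.iff_of_isAffine (P := @Flat)] at hfl
  haveI : Module.Flat Γ((U : Scheme.{u}), ⊤) Γ(↑V, ⊤) := hfl
  haveI := Groth.Agent.H63.EssFreeB0.free_of_flat_of_isArtinianRing Γ((U : Scheme.{u}), ⊤) Γ(↑V, ⊤)
  infer_instance

end Groth.Agent.H63.EssFreeLoc
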