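import Mathlib
import Groth.Agent.H63.SmallLiftSq

/-!
# Lifting criteria relative to a class `C` of test algebras (e.g. finite type ones)

Generic versions of `LiftSmall`, `LiftAll`, `LiftSq` where the Artinian local test algebra `B'` is
required to satisfy a predicate `C`, and the finite type specialisation at maximal ideals.
-/

set_option autoImplicit false
set_option linter.style.haveILetI false
set_option linter.unusedSectionVars false
universe u
open IsLocalRing TensorProduct

namespace Groth.Agent.H63.SmallLift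

/-- Lifting against principal small extensions whose source satisfies `C`. -/
def LiftSmallC (R S : Type u) [CommRing R] [CommRing S] [Algebra R S] (q : Ideal S)
    (C : ∀ (B' : Type u) [CommRing B'] [Algebra R B'], Prop) : Prop :=
  ∀ (B' B : Type u) [CommRing B'] [CommRing B] [IsLocalRing B'] [IsLocalRing B]
    [IsArtinianRing B'] [IsArtinianRing B] [Algebra R B'] [Algebra R B] (π : B' →ₐ[R] B),
    C B' → Function.Surjective π →
    (∃ t : B', RingHom.ker π.toRingHom = Ideal.span {t} ∧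
      ∀ a ∈ IsLocalRing.maximalIdeal B', a * t = 0) →
    ∀ g : S →ₐ[R] B, (IsLocalRing.maximalIdeal B).comap g = q →
      ∃ g' : S →ₐ[R] B', π.comp g' = g

/-- Lifting against all proper quotients of Artinian local algebras satisfying `C`. -/
def LiftAllC (R S : Type u) [CommRing R] [CommRing S] [Algebra R S] (q : Ideal S)
    (C : ∀ (B' : Type u) [CommRing B'] [Algebra R B'], Prop) : Prop :=
  ∀ (B' : Type u) [CommRing B'] [IsLocalRing B'] [IsArtinianRing B'] [Algebra R B'], C B' →
    ∀ (I : Ideal B') (g : S →ₐ[R] B' ⧸ I), I ≠ ⊤ →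
    (∀ x : S, x ∈ q ↔ g x ∈ (maximalIdeal B').map (Ideal.Quotient.mk I)) →
    ∃ g' : S →ₐ[R] B', (Ideal.Quotient.mkₐ R I).comp g' = g

/-- Lifting of surjections onto quotients by ideals killed by the maximal ideal, test algebras
satisfying `C`. -/
def LiftSqC (R T : Type u) [CommRing R] [CommRing T] [Algebra R T]
    (C : ∀ (B' : Type u) [CommRing B'] [Algebra R B'], Prop) : Prop :=
  ∀ (B' : Type u) [CommRing B'] [IsLocalRing B'] [IsArtinianRing B'] [Algebra R B'], C B' →
    ∀ (I : Ideal B') (g : T →ₐ[R] B' ⧸ I), I ≠ ⊤ →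
    (∀ c ∈ maximalIdeal B', ∀ i ∈ I, c * i = 0) → Function.Surjective g →
    ∃ g' : T →ₐ[R] B', (Ideal.Quotient.mkₐ R I).comp g' = g

theorem liftAllC_of_liftSmallC {R S : Type u} [CommRing R] [CommRing S] [Algebra R S]
    {q : Ideal S} {C : ∀ (B' : Type u) [CommRing B'] [Algebra R B'], Prop}
    (hCq : ∀ (B' : Type u) [CommRing B'] [Algebra R B'] (I : Ideal B'), C B' → C (B' ⧸ I))
    (h : LiftSmallC R S q C) : LiftAllC R S q C := by
  intro B' _ _ _ _ hCB' I
  induction I using WellFoundedLT.induction with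
  | ind I ih =>
    intro g hI hg
    by_cases hbot : I = ⊥
    · subst hbot
      refine ⟨(AlgEquiv.quotientBot R B').toAlgHom.comp g, ?_⟩
      ext x
      obtain ⟨y, hy⟩ := Ideal.Quotient.mk_surjective (g x)
      show Ideal.Quotient.mk ⊥ (AlgEquiv.quotientBot R B' (g x)) = g x
      rw [← hy, AlgEquiv.quotientBot_mk]
    · haveI : IsNoetherianRing B' := inferInstance
      obtain ⟨I', hI'lt, hI'max⟩ := wellFounded_gt.has_min {K : Ideal B' | K < I}
        ⟨⊥, bot_lt_iff_ne_bot.mpr hbot⟩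
      have hI'lt' : I' < I := hI'lt
      obtain ⟨t, htI, htI'⟩ := SetLike.exists_of_lt hI'lt'
      have hmax : ∀ K : Ideal B', K < I → I' ≤ K → K ≤ I' := by
        intro K hK hle
        by_contra hnot
        exact hI'max K hK (lt_of_le_of_ne hle (fun h => hnot (h ▸ le_rfl)))
      have hsup : I' ⊔ Ideal.span {t} = I := by
        have hle : I' ⊔ Ideal.span {t} ≤ I :=
          sup_le hI'lt'.le ((Ideal.span_singleton_le_iff_mem _).mpr htI)
        by_contra hne
        have hlt : I' ⊔ Ideal.span {t} < I := lt_of_le_of_ne hle hne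
        have := hmax _ hlt le_sup_left
        exact htI' (this (Ideal.mem_sup_right (Ideal.mem_span_singleton_self t)))
      have hmt : ∀ a ∈ maximalIdeal B', a * t ∈ I' := by
        intro a ha
        have hle : I' ⊔ Ideal.span {a * t} ≤ I :=
          sup_le hI'lt'.le ((Ideal.span_singleton_le_iff_mem _).mpr (I.mul_mem_left a htI))
        have hne : I' ⊔ Ideal.span {a * t} ≠ I := by
          intro heq
          have ht : t ∈ I' ⊔ Ideal.span {a * t} := heq ▸ htI
          obtain ⟨i, hi, j, hj, hij⟩ := Submodule.mem_sup.mp ht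
          obtain ⟨c, rfl⟩ := Ideal.mem_span_singleton'.mp hj
          have hca : c * a ∈ maximalIdeal B' := Ideal.mul_mem_left _ c ha
          have hu : IsUnit (1 - c * a) :=
            IsLocalRing.isUnit_one_sub_self_of_mem_nonunits _
              ((IsLocalRing.mem_maximalIdeal _).mp hca)
          have hi' : (1 - c * a) * t = i := by linear_combination (-1 : B') * hij
          exact htI' ((Ideal.unit_mul_mem_iff_mem I' hu).mp (hi' ▸ hi))
        have hlt : I' ⊔ Ideal.span {a * t} < I := lt_of_le_of_ne hle hne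
        exact hmax _ hlt le_sup_left (Ideal.mem_sup_right (Ideal.mem_span_singleton_self _))
      have hI'top : I' ≠ ⊤ := fun h => hI (top_le_iff.mp (h ▸ hI'lt'.le))
      haveI := isLocalRing_quot I hI
      haveI := isLocalRing_quot I' hI'top
      haveI : IsArtinianRing (B' ⧸ I) :=
        (Ideal.Quotient.mk_surjective (I := I)).isArtinianRing
      haveI : IsArtinianRing (B' ⧸ I') :=
        (Ideal.Quotient.mk_surjective (I := I')).isArtinianRing
      let π : (B' ⧸ I') →ₐ[R] (B' ⧸ I) := Ideal.Quotient.factorₐ R hI'lt'.le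
      have hπ : Function.Surjective π := Ideal.Quotient.factor_surjective hI'lt'.le
      have hker : RingHom.ker π.toRingHom = Ideal.span {Ideal.Quotient.mk I' t} := by
        have h0 : RingHom.ker π.toRingHom = RingHom.ker (Ideal.Quotient.factor hI'lt'.le) := rfl
        rw [h0, Ideal.Quotient.factor_ker, ← hsup, Ideal.map_sup, Ideal.map_span,
          Set.image_singleton, Ideal.map_quotient_self, bot_sup_eq]
      have hkill : ∀ a ∈ maximalIdeal (B' ⧸ I'), a * Ideal.Quotient.mk I' t = 0 := by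
        intro a ha
        obtain ⟨a', rfl⟩ := Ideal.Quotient.mk_surjective a
        have ha' : a' ∈ maximalIdeal B' :=
          (map_mem_maximalIdeal_iff _ Ideal.Quotient.mk_surjective a').mp ha
        rw [← map_mul, Ideal.Quotient.eq_zero_iff_mem]
        exact hmt a' ha'
      have hcomap : (maximalIdeal (B' ⧸ I)).comap g = q := by
        ext x
        rw [Ideal.mem_comap, ← IsLocalRing.map_maximalIdeal_of_surjective
          (Ideal.Quotient.mk I) Ideal.Quotient.mk_surjective]
        exact (hg x).symm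
      obtain ⟨g₁, hg₁⟩ := h (B' ⧸ I') (B' ⧸ I) π (hCq B' I' hCB') hπ ⟨_, hker, hkill⟩ g hcomap
      have hg₁q : ∀ x : S, x ∈ q ↔ g₁ x ∈ (maximalIdeal B').map (Ideal.Quotient.mk I') := by
        intro x
        rw [hg x, IsLocalRing.map_maximalIdeal_of_surjective (Ideal.Quotient.mk I)
          Ideal.Quotient.mk_surjective, IsLocalRing.map_maximalIdeal_of_surjective
          (Ideal.Quotient.mk I') Ideal.Quotient.mk_surjective]
        have hx : g x = π.toRingHom (g₁ x) := by rw [← hg₁]; rfl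
        rw [hx, map_mem_maximalIdeal_iff π.toRingHom hπ]
      obtain ⟨g', hg'⟩ := ih I' hI'lt' g₁ hI'top hg₁q
      refine ⟨g', ?_⟩
      rw [← hg₁, ← hg']
      rfl

theorem liftAllC_atPrime {R S : Type u} [CommRing R] [CommRing S] [Algebra R S] (q : Ideal S)
    [q.IsPrime] {C : ∀ (B' : Type u) [CommRing B'] [Algebra R B'], Prop}
    (h : LiftAllC R S q C) :
    LiftAllC R (Localization.AtPrime q) (maximalIdeal (Localization.AtPrime q)) C := by
  intro B' _ _ _ _ hCB' I g hI hg
  let ι : S →ₐ[R] Localization.AtPrime q := IsScalarTower.toAlgHom R S _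
  have hq : ∀ x : S, x ∈ q ↔ (g.comp ι) x ∈ (maximalIdeal B').map (Ideal.Quotient.mk I) := by
    intro x
    rw [AlgHom.comp_apply, ← hg]
    exact (IsLocalization.AtPrime.to_map_mem_maximal_iff (Localization.AtPrime q) q x).symm
  obtain ⟨g₀, hg₀⟩ := h B' hCB' I (g.comp ι) hI hq
  have hg₀_apply : ∀ x : S, Ideal.Quotient.mk I (g₀ x) = g (ι x) := fun x => by
    rw [← AlgHom.comp_apply, ← hg₀]; rfl
  have hunit : ∀ y : q.primeCompl, IsUnit (g₀ y) := by
    intro y
    by_contra hnu
    have hm : g₀ y ∈ maximalIdeal B' := (IsLocalRing.mem_maximalIdeal _).mpr hnu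
    have : (y : S) ∈ q := by
      rw [hq, AlgHom.comp_apply, ← hg₀_apply]
      exact Ideal.mem_map_of_mem _ hm
    exact y.2 this
  let g' : Localization.AtPrime q →ₐ[R] B' :=
    IsLocalization.liftAlgHom (M := q.primeCompl) (f := g₀) hunit
  refine ⟨g', ?_⟩
  apply IsLocalization.algHom_ext q.primeCompl
  ext x
  show Ideal.Quotient.mk I (g' (algebraMap S _ x)) = g (algebraMap S _ x)
  have : g' (algebraMap S _ x) = g₀ x := by
    show IsLocalization.liftAlgHom (M := q.primeCompl) (f := g₀) hunit (algebraMap S _ x) = g₀ x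
    rw [IsLocalization.liftAlgHom_apply, IsLocalization.lift_eq]
    rfl
  rw [this, hg₀_apply]
  rfl

theorem liftSqC_of_liftAllC {R T : Type u} [CommRing R] [CommRing T] [Algebra R T] [IsLocalRing T]
    {C : ∀ (B' : Type u) [CommRing B'] [Algebra R B'], Prop}
    (h : LiftAllC R T (maximalIdeal T) C) : LiftSqC R T C := by
  intro B' _ _ _ _ hCB' I g hI _ hgsurj
  haveI : IsLocalRing (B' ⧸ I) := isLocalRing_quot I hI
  refine h B' hCB' I g hI (fun x => ?_)
  rw [IsLocalRing.map_maximalIdeal_of_surjective (Ideal.Quotient.mk I)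
    Ideal.Quotient.mk_surjective]
  exact (map_mem_maximalIdeal_iff g.toRingHom hgsurj x).symm

/-- The key construction relative to a class `C` of test algebras containing all the Artinian
quotients `L ⧸ 𝔟`. -/
theorem exists_derivation_of_liftSqC {R L T : Type u} [CommRing R] [CommRing L] [CommRing T]
    [Algebra R L] [Algebra R T] [Algebra L T] [IsScalarTower R L T]
    [IsLocalRing L] [IsNoetherianRing L] [IsLocalRing T]
    (hsurj : Function.Surjective (algebraMap L T))
    {C : ∀ (B' : Type u) [CommRing B'] [Algebra R B'], Prop}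
    (hC : ∀ (𝔟 : Ideal L) (N : ℕ), N ≠ 0 → maximalIdeal L ^ N ≤ 𝔟 → C (L ⧸ 𝔟))
    (hL : LiftSqC R T C)
    (ψ : ↥(RingHom.ker (algebraMap L T)) →ₗ[L] ResidueField T) :
    ∃ d : Derivation R L (ResidueField T),
      ∀ (b : L) (hb : b ∈ RingHom.ker (algebraMap L T)), d b = ψ ⟨b, hb⟩ := by
  classical
  suffices H : ∀ (K : Ideal L) (_ : K = RingHom.ker (algebraMap L T))
      (ψ : ↥K →ₗ[L] ResidueField T), ∃ d : Derivation R L (ResidueField T),
        ∀ (b : L) (hb : b ∈ K), d b = ψ ⟨b, hb⟩ from H _ rfl ψ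
  clear ψ
  intro K hK ψ
  let ρ : L →+* ResidueField T := algebraMap L (ResidueField T)
  have hρ_def : ∀ y, ρ y = residue T (algebraMap L T y) := fun y => rfl
  have hρ_surj : Function.Surjective ρ := fun k => by
    obtain ⟨t, rfl⟩ := IsLocalRing.residue_surjective k
    obtain ⟨y, rfl⟩ := hsurj t
    exact ⟨y, rfl⟩
  have hKker : ∀ b, b ∈ K ↔ algebraMap L T b = 0 := fun b => by rw [hK, RingHom.mem_ker]
  have hρK : ∀ b ∈ K, ρ b = 0 := fun b hb => by
    rw [hρ_def, (hKker b).mp hb, map_zero]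
  have hρm : ∀ y, ρ y = 0 ↔ y ∈ maximalIdeal L := fun y => by
    rw [hρ_def, IsLocalRing.residue_eq_zero_iff, map_mem_maximalIdeal_iff _ hsurj]
  have hsmul : ∀ (y : L) (k : ResidueField T), y • k = ρ y * k := fun y k => Algebra.smul_def y k
  have hKm : K ≤ maximalIdeal L := by
    rw [hK]; exact IsLocalRing.le_maximalIdeal (RingHom.ker_ne_top _)
  by_cases hψ : ψ = 0
  · exact ⟨0, fun b hb => by rw [hψ]; rfl⟩
  obtain ⟨b₀, hb₀⟩ : ∃ b₀ : K, ψ b₀ ≠ 0 := by
    by_contra hcon
    push Not at hcon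
    exact hψ (LinearMap.ext hcon)
  let 𝔥 : Ideal L := (LinearMap.ker ψ).map (Submodule.subtype K)
  have h𝔥_mem : ∀ x : L, x ∈ 𝔥 ↔ ∃ hx : x ∈ K, ψ ⟨x, hx⟩ = 0 := by
    intro x
    constructor
    · rintro ⟨⟨y, hy⟩, hyk, rfl⟩
      exact ⟨hy, LinearMap.mem_ker.mp hyk⟩
    · rintro ⟨hx, h0⟩
      exact ⟨⟨x, hx⟩, LinearMap.mem_ker.mpr h0, rfl⟩
  have h𝔥K : 𝔥 ≤ K := fun x hx => ((h𝔥_mem x).mp hx).1
  have hmK𝔥 : ∀ c ∈ maximalIdeal L, ∀ b (hb : b ∈ K), c * b ∈ 𝔥 := by
    intro c hc b hb
    refine (h𝔥_mem _).mpr ⟨K.mul_mem_left c hb, ?_⟩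
    have : (⟨c * b, K.mul_mem_left c hb⟩ : K) = c • ⟨b, hb⟩ := rfl
    rw [this, map_smul, hsmul, (hρm c).mpr hc, zero_mul]
  have hb₀𝔥 : (b₀ : L) ∉ 𝔥 := fun h => hb₀ (by
    obtain ⟨_, h0⟩ := (h𝔥_mem _).mp h
    exact h0)
  obtain ⟨N, hN⟩ : ∃ N : ℕ, (b₀ : L) ∉ 𝔥 ⊔ maximalIdeal L ^ N := by
    by_contra hcon
    push Not at hcon
    have hbot := Ideal.iInf_pow_smul_eq_bot_of_isLocalRing (maximalIdeal L) (M := L ⧸ 𝔥)
      (IsLocalRing.maximalIdeal.isMaximal L).ne_top
    have hmem : (Ideal.Quotient.mk 𝔥 (b₀ : L) : L ⧸ 𝔥) ∈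
        (⨅ i : ℕ, maximalIdeal L ^ i • (⊤ : Submodule L (L ⧸ 𝔥))) := by
      rw [Submodule.mem_iInf]
      intro i
      obtain ⟨h, hh, μ, hμ, hsum⟩ := Submodule.mem_sup.mp (hcon i)
      have : (Ideal.Quotient.mk 𝔥 (b₀ : L) : L ⧸ 𝔥) = μ • (1 : L ⧸ 𝔥) := by
        rw [Algebra.smul_def, mul_one, Ideal.Quotient.algebraMap_eq, ← hsum, map_add,
          Ideal.Quotient.eq_zero_iff_mem.mpr hh, zero_add]
      rw [this]
      exact Submodule.smul_mem_smul hμ Submodule.mem_top
    rw [hbot, Submodule.mem_bot, Ideal.Quotient.eq_zero_iff_mem] at hmem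
    exact hb₀𝔥 hmem
  have hN0 : N ≠ 0 := by
    rintro rfl
    apply hN
    rw [pow_zero, Ideal.one_eq_top, sup_top_eq]
    exact Submodule.mem_top
  set 𝔟 : Ideal L := 𝔥 ⊔ maximalIdeal L ^ N with h𝔟
  have h𝔥𝔟 : 𝔥 ≤ 𝔟 := le_sup_left
  have h𝔟m : 𝔟 ≤ maximalIdeal L := sup_le (h𝔥K.trans hKm) (Ideal.pow_le_self hN0)
  have h𝔟top : 𝔟 ≠ ⊤ := fun h =>
    (IsLocalRing.maximalIdeal.isMaximal L).ne_top (top_le_iff.mp (h ▸ h𝔟m))
  haveI : IsLocalRing (L ⧸ 𝔟) := isLocalRing_quot 𝔟 h𝔟top
  have hmA' : maximalIdeal (L ⧸ 𝔟) = (maximalIdeal L).map (Ideal.Quotient.mk 𝔟) :=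
    (IsLocalRing.map_maximalIdeal_of_surjective _ Ideal.Quotient.mk_surjective).symm
  haveI : IsArtinianRing (L ⧸ 𝔟) := by
    rw [isArtinianRing_iff_isNilpotent_maximalIdeal]
    refine ⟨N, ?_⟩
    rw [hmA', ← Ideal.map_pow, Ideal.zero_eq_bot, Ideal.map_eq_bot_iff_le_ker, Ideal.mk_ker]
    exact le_sup_right
  set I₀ : Ideal (L ⧸ 𝔟) := K.map (Ideal.Quotient.mk 𝔟) with hI₀
  have hI₀m : I₀ ≤ maximalIdeal (L ⧸ 𝔟) := by rw [hmA']; exact Ideal.map_mono hKm
  have hI₀top : I₀ ≠ ⊤ := fun h =>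
    (IsLocalRing.maximalIdeal.isMaximal _).ne_top (top_le_iff.mp (h ▸ hI₀m))
  have hI₀kill : ∀ c ∈ maximalIdeal (L ⧸ 𝔟), ∀ i ∈ I₀, c * i = 0 := by
    intro c hc i hi
    obtain ⟨c', rfl⟩ := Ideal.Quotient.mk_surjective c
    have hc' : c' ∈ maximalIdeal L :=
      (map_mem_maximalIdeal_iff _ Ideal.Quotient.mk_surjective c').mp hc
    obtain ⟨b, hb, rfl⟩ :=
      (Ideal.mem_map_iff_of_surjective _ Ideal.Quotient.mk_surjective).mp hi
    rw [← map_mul, Ideal.Quotient.eq_zero_iff_mem]
    exact h𝔥𝔟 (hmK𝔥 c' hc' b hb)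
  let toB : L →ₐ[R] (L ⧸ 𝔟) ⧸ I₀ := (Ideal.Quotient.mkₐ R I₀).comp (Ideal.Quotient.mkₐ R 𝔟)
  let f : L →ₐ[R] T := IsScalarTower.toAlgHom R L T
  have hf : Function.Surjective f := hsurj
  have hkill : RingHom.ker f.toRingHom ≤ RingHom.ker toB.toRingHom := by
    intro x hx
    have hxK : x ∈ K := (hKker x).mpr hx
    rw [RingHom.mem_ker]
    show Ideal.Quotient.mk I₀ (Ideal.Quotient.mk 𝔟 x) = 0
    rw [Ideal.Quotient.eq_zero_iff_mem]
    exact Ideal.mem_map_of_mem _ hxK
  let g : T →ₐ[R] (L ⧸ 𝔟) ⧸ I₀ := AlgHom.liftOfSurjective f hf toB hkill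
  have hg_apply : ∀ y : L,
      g (algebraMap L T y) = Ideal.Quotient.mk I₀ (Ideal.Quotient.mk 𝔟 y) := fun y =>
    AlgHom.liftOfSurjective_apply f hf toB hkill y
  have hgsurj : Function.Surjective g := by
    intro z
    obtain ⟨z', rfl⟩ := Ideal.Quotient.mk_surjective z
    obtain ⟨y, rfl⟩ := Ideal.Quotient.mk_surjective z'
    exact ⟨algebraMap L T y, hg_apply y⟩
  obtain ⟨g', hg'⟩ := hL (L ⧸ 𝔟) (hC 𝔟 N hN0 le_sup_right) I₀ g hI₀top hI₀kill hgsurj
  have hg'_apply : ∀ t : T, Ideal.Quotient.mk I₀ (g' t) = g t := fun t => by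
    rw [← hg']; rfl
  let E : L → L ⧸ 𝔟 := fun y => Ideal.Quotient.mk 𝔟 y - g' (algebraMap L T y)
  have hE_def : ∀ y, E y = Ideal.Quotient.mk 𝔟 y - g' (algebraMap L T y) := fun y => rfl
  have hE_mem : ∀ y, E y ∈ I₀ := by
    intro y
    rw [← Ideal.Quotient.eq_zero_iff_mem, hE_def, map_sub, hg'_apply, hg_apply, sub_self]
  have hrep : ∀ y, ∃ b, b ∈ K ∧ Ideal.Quotient.mk 𝔟 b = E y := by
    intro y
    obtain ⟨b, hb, hbe⟩ :=
      (Ideal.mem_map_iff_of_surjective _ Ideal.Quotient.mk_surjective).mp (hE_mem y)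
    exact ⟨b, hb, hbe⟩
  have hclaim : ∀ b (hb : b ∈ K), b ∈ 𝔟 → ψ ⟨b, hb⟩ = 0 := by
    intro b hb hb𝔟
    obtain ⟨c, hc⟩ := hρ_surj (ψ ⟨b, hb⟩ / ψ b₀)
    have hmemK : b - c * (b₀ : L) ∈ K := K.sub_mem hb (K.mul_mem_left c b₀.2)
    have heq : (⟨b - c * (b₀ : L), hmemK⟩ : K) = ⟨b, hb⟩ - c • b₀ := rfl
    have h1 : ψ ⟨b - c * (b₀ : L), hmemK⟩ = 0 := by
      rw [heq, map_sub, map_smul, hsmul, hc, div_mul_cancel₀ _ hb₀, sub_self]
    have h2 : b - c * (b₀ : L) ∈ 𝔥 := (h𝔥_mem _).mpr ⟨hmemK, h1⟩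
    have h3 : c * (b₀ : L) ∈ 𝔟 := by
      have : c * (b₀ : L) = b - (b - c * b₀) := by ring
      rw [this]
      exact 𝔟.sub_mem hb𝔟 (h𝔥𝔟 h2)
    have hcm : c ∈ maximalIdeal L := by
      by_contra hcu
      have hu : IsUnit c := by
        by_contra hnu
        exact hcu ((IsLocalRing.mem_maximalIdeal c).mpr hnu)
      exact hN ((Ideal.unit_mul_mem_iff_mem 𝔟 hu).mp h3)
    have : ψ ⟨b, hb⟩ = ρ c * ψ b₀ := by rw [hc, div_mul_cancel₀ _ hb₀]
    rw [this, (hρm c).mpr hcm, zero_mul]
  let d₀ : L → ResidueField T := fun y =>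
    ψ ⟨Classical.choose (hrep y), (Classical.choose_spec (hrep y)).1⟩
  have hd₀ : ∀ y b (hb : b ∈ K), Ideal.Quotient.mk 𝔟 b = E y → d₀ y = ψ ⟨b, hb⟩ := by
    intro y b hb hbe
    have hb' := (Classical.choose_spec (hrep y)).1
    have hbe' := (Classical.choose_spec (hrep y)).2
    show ψ ⟨Classical.choose (hrep y), hb'⟩ = ψ ⟨b, hb⟩
    rw [← sub_eq_zero, ← map_sub]
    have hmem : Classical.choose (hrep y) - b ∈ 𝔟 := by
      rw [← Ideal.Quotient.eq_zero_iff_mem, map_sub, hbe', hbe, sub_self]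
    exact hclaim _ (K.sub_mem hb' hb) hmem
  have hE_add : ∀ y z, E (y + z) = E y + E z := fun y z => by
    simp only [hE_def, map_add]; ring
  have hE_mul : ∀ y z, E (y * z) =
      Ideal.Quotient.mk 𝔟 y * E z + (Ideal.Quotient.mk 𝔟 z - E z) * E y := fun y z => by
    simp only [hE_def, map_mul]; ring
  have hE_smul : ∀ (r : R) y, E (algebraMap R L r * y) = algebraMap R (L ⧸ 𝔟) r * E y := by
    intro r y
    have h1 : algebraMap L T (algebraMap R L r) = algebraMap R T r :=
      (IsScalarTower.algebraMap_apply R L T r).symm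
    simp only [hE_def, map_mul, h1, AlgHom.commutes, Ideal.Quotient.mk_algebraMap]
    ring
  have hd₀_add : ∀ y z, d₀ (y + z) = d₀ y + d₀ z := by
    intro y z
    obtain ⟨by', hby, hbye⟩ := hrep y
    obtain ⟨bz, hbz, hbze⟩ := hrep z
    rw [hd₀ y by' hby hbye, hd₀ z bz hbz hbze,
      hd₀ (y + z) (by' + bz) (K.add_mem hby hbz) (by rw [map_add, hbye, hbze, hE_add]),
      ← map_add]
    rfl
  have hd₀_smul : ∀ (r : R) y, d₀ (r • y) = r • d₀ y := by
    intro r y
    obtain ⟨b, hb, hbe⟩ := hrep y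
    have hmem : algebraMap R L r * b ∈ K := K.mul_mem_left _ hb
    have hrepr : Ideal.Quotient.mk 𝔟 (algebraMap R L r * b) = E (r • y) := by
      rw [Algebra.smul_def, hE_smul, map_mul, hbe, Ideal.Quotient.mk_algebraMap]
    rw [hd₀ y b hb hbe, hd₀ (r • y) (algebraMap R L r * b) hmem hrepr]
    have : (⟨algebraMap R L r * b, hmem⟩ : K) = algebraMap R L r • ⟨b, hb⟩ := rfl
    rw [this, map_smul, hsmul, Algebra.smul_def r (ψ ⟨b, hb⟩)]
    congr 1
    exact (IsScalarTower.algebraMap_apply R L (ResidueField T) r).symm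
  have hd₀_mul : ∀ y z, d₀ (y * z) = y • d₀ z + z • d₀ y := by
    intro y z
    obtain ⟨by', hby, hbye⟩ := hrep y
    obtain ⟨bz, hbz, hbze⟩ := hrep z
    have hmem : y * bz + (z - bz) * by' ∈ K :=
      K.add_mem (K.mul_mem_left _ hbz) (K.mul_mem_left _ hby)
    have hrepr : Ideal.Quotient.mk 𝔟 (y * bz + (z - bz) * by') = E (y * z) := by
      rw [hE_mul, map_add, map_mul, map_mul, map_sub, hbye, hbze]
    rw [hd₀ y by' hby hbye, hd₀ z bz hbz hbze, hd₀ (y * z) _ hmem hrepr]
    have : (⟨y * bz + (z - bz) * by', hmem⟩ : K) = y • ⟨bz, hbz⟩ + (z - bz) • ⟨by', hby⟩ := rfl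
    rw [this, map_add, map_smul, map_smul, hsmul (z - bz), map_sub, hρK bz hbz, sub_zero,
      ← hsmul]
  have hd₀_one : d₀ 1 = 0 := by
    have h0 : Ideal.Quotient.mk 𝔟 (0 : L) = E 1 := by
      rw [hE_def, map_zero, map_one, map_one, map_one, sub_self]
    rw [hd₀ 1 0 K.zero_mem h0]
    exact map_zero ψ
  refine ⟨{ toLinearMap := { toFun := d₀, map_add' := hd₀_add, map_smul' := fun r y => hd₀_smul r y }
            map_one_eq_zero' := hd₀_one
            leibniz' := fun y z => hd₀_mul y z }, ?_⟩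
  intro b hb
  have hbe : Ideal.Quotient.mk 𝔟 b = E b := by
    rw [hE_def, (hKker b).mp hb, map_zero, sub_zero]
  show d₀ b = ψ ⟨b, hb⟩
  exact hd₀ b b hb hbe

/-- Formal smoothness at a maximal ideal of a finite type algebra over a Noetherian ring, from the
lifting property against finite type Artinian local test algebras. -/
theorem formallySmooth_of_liftSqFT {R S T : Type u} [CommRing R] [CommRing S] [CommRing T]
    [Algebra R S] [Algebra S T] [Algebra R T] [IsScalarTower R S T]
    [IsNoetherianRing R] [Algebra.FiniteType R S] (q : Ideal S) [hqmax : q.IsMaximal]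
    [IsLocalization.AtPrime T q] [IsLocalRing T]
    (hL : LiftSqC R T (fun B' _ _ => Algebra.FiniteType R B')) : Algebra.FormallySmooth R T := by
  classical
  obtain ⟨n, f, hf⟩ := (Algebra.FiniteType.iff_quotient_mvPolynomial'' (R := R) (S := S)).mp
    inferInstance
  let ι : MvPolynomial (Fin n) R →ₐ[R] T := (IsScalarTower.toAlgHom R S T).comp f
  letI : Algebra (MvPolynomial (Fin n) R) T := ι.toRingHom.toAlgebra
  have hAT : ∀ a : MvPolynomial (Fin n) R,
      algebraMap (MvPolynomial (Fin n) R) T a = algebraMap S T (f a) := fun a => rfl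
  haveI : IsScalarTower R (MvPolynomial (Fin n) R) T := IsScalarTower.of_algebraMap_eq (fun r => by
    rw [hAT, AlgHom.commutes, ← IsScalarTower.algebraMap_apply])
  let Q : Ideal (MvPolynomial (Fin n) R) :=
    (maximalIdeal T).comap (algebraMap (MvPolynomial (Fin n) R) T)
  haveI : Q.IsPrime := Ideal.comap_isPrime _ _
  have hQq : Q = q.comap f := by
    ext a
    show algebraMap S T (f a) ∈ maximalIdeal T ↔ f a ∈ q
    exact IsLocalization.AtPrime.to_map_mem_maximal_iff T q (f a)
  haveI hQmax : Q.IsMaximal := by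
    rw [hQq]
    exact Ideal.comap_isMaximal_of_surjective f hf
  have hunit : ∀ y : Q.primeCompl, IsUnit (algebraMap (MvPolynomial (Fin n) R) T y) := fun y => by
    by_contra h
    exact y.2 ((IsLocalRing.mem_maximalIdeal _).mpr h)
  let φ : Localization.AtPrime Q →+* T :=
    IsLocalization.lift (M := Q.primeCompl) (g := algebraMap (MvPolynomial (Fin n) R) T) hunit
  letI : Algebra (Localization.AtPrime Q) T := φ.toAlgebra
  have hφ_apply : ∀ z, algebraMap (Localization.AtPrime Q) T z = φ z := fun z => rfl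
  haveI : IsScalarTower (MvPolynomial (Fin n) R) (Localization.AtPrime Q) T :=
    IsScalarTower.of_algebraMap_eq (fun a => by
      rw [hφ_apply]; exact (IsLocalization.lift_eq hunit a).symm)
  haveI : IsScalarTower R (Localization.AtPrime Q) T :=
    IsScalarTower.of_algebraMap_eq (fun r => by
      rw [IsScalarTower.algebraMap_apply R (MvPolynomial (Fin n) R) (Localization.AtPrime Q),
        ← IsScalarTower.algebraMap_apply (MvPolynomial (Fin n) R) (Localization.AtPrime Q) T,
        ← IsScalarTower.algebraMap_apply R (MvPolynomial (Fin n) R) T])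
  have h₁ : Function.Surjective (algebraMap (Localization.AtPrime Q) T) := by
    intro t
    obtain ⟨⟨s, u⟩, rfl⟩ := IsLocalization.mk'_surjective q.primeCompl t
    obtain ⟨a, rfl⟩ := hf s
    obtain ⟨b, hb⟩ := hf u.1
    have hbQ : b ∈ Q.primeCompl := by
      intro hbm
      have h1 : algebraMap S T (f b) ∈ maximalIdeal T := hbm
      rw [hb] at h1
      exact ((IsLocalRing.mem_maximalIdeal _).mp h1) (IsLocalization.map_units T u)
    refine ⟨IsLocalization.mk' (Localization.AtPrime Q) a ⟨b, hbQ⟩, ?_⟩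
    rw [hφ_apply, IsLocalization.lift_mk'_spec]
    show algebraMap S T (f a) = algebraMap S T (f b) * IsLocalization.mk' T (f a) u
    rw [hb]
    exact (IsLocalization.mk'_spec' T (f a) u).symm
  have h₂ : (RingHom.ker (algebraMap (Localization.AtPrime Q) T)).FG :=
    IsNoetherian.noetherian _
  -- the Artinian quotients of `L` are of finite type over `R` since `Q` is maximal
  have hC : ∀ (𝔟 : Ideal (Localization.AtPrime Q)) (N : ℕ), N ≠ 0 →
      maximalIdeal (Localization.AtPrime Q) ^ N ≤ 𝔟 →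
      Algebra.FiniteType R (Localization.AtPrime Q ⧸ 𝔟) := by
    intro 𝔟 N _ hN𝔟
    let θ : MvPolynomial (Fin n) R →ₐ[R] Localization.AtPrime Q ⧸ 𝔟 :=
      (Ideal.Quotient.mkₐ R 𝔟).comp (IsScalarTower.toAlgHom R _ (Localization.AtPrime Q))
    refine Algebra.FiniteType.of_surjective θ ?_
    intro z
    obtain ⟨z', rfl⟩ := Ideal.Quotient.mk_surjective z
    obtain ⟨⟨a, s⟩, rfl⟩ := IsLocalization.mk'_surjective Q.primeCompl z'
    have hcop : Q ^ N ⊔ Ideal.span {(s : MvPolynomial (Fin n) R)} = ⊤ := by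
      apply Ideal.pow_sup_eq_top
      have hs : (s : MvPolynomial (Fin n) R) ∉ Q := s.2
      by_contra hne
      have hle : Q = Q ⊔ Ideal.span {(s : MvPolynomial (Fin n) R)} :=
        hQmax.eq_of_le hne le_sup_left
      have hmem : (s : MvPolynomial (Fin n) R) ∈
          Q ⊔ Ideal.span {(s : MvPolynomial (Fin n) R)} :=
        Ideal.mem_sup_right (Ideal.mem_span_singleton_self _)
      rw [← hle] at hmem
      exact hs hmem
    obtain ⟨u, hu, v, hv, huv⟩ := Submodule.mem_sup.mp
      (show (1 : MvPolynomial (Fin n) R) ∈ Q ^ N ⊔ Ideal.span {(s : MvPolynomial (Fin n) R)} by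
        rw [hcop]; trivial)
    obtain ⟨c, rfl⟩ := Ideal.mem_span_singleton'.mp hv
    refine ⟨a * c, ?_⟩
    show Ideal.Quotient.mk 𝔟 (algebraMap _ (Localization.AtPrime Q) (a * c)) =
      Ideal.Quotient.mk 𝔟 (IsLocalization.mk' (Localization.AtPrime Q) a s)
    rw [Ideal.Quotient.mk_eq_mk_iff_sub_mem]
    have hu' : algebraMap _ (Localization.AtPrime Q) u ∈ 𝔟 := by
      apply hN𝔟
      rw [← IsLocalization.AtPrime.map_eq_maximalIdeal Q (Localization.AtPrime Q), ← Ideal.map_pow]
      exact Ideal.mem_map_of_mem _ hu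
    have hkey : algebraMap _ (Localization.AtPrime Q) (a * c) -
        IsLocalization.mk' (Localization.AtPrime Q) a s =
        - (IsLocalization.mk' (Localization.AtPrime Q) a s *
          algebraMap _ (Localization.AtPrime Q) u) := by
      have h1 : IsLocalization.mk' (Localization.AtPrime Q) a s *
          algebraMap _ (Localization.AtPrime Q) (s : MvPolynomial (Fin n) R) =
          algebraMap _ (Localization.AtPrime Q) a := IsLocalization.mk'_spec _ a s
      have h2 : algebraMap (MvPolynomial (Fin n) R) (Localization.AtPrime Q) u +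
          algebraMap _ (Localization.AtPrime Q) c * algebraMap _ (Localization.AtPrime Q)
            (s : MvPolynomial (Fin n) R) = 1 := by
        rw [← map_mul, ← map_add, huv, map_one]
      rw [map_mul]
      linear_combination (-(algebraMap _ (Localization.AtPrime Q) c)) * h1 +
        (IsLocalization.mk' (Localization.AtPrime Q) a s) * h2
    rw [hkey]
    exact 𝔟.neg_mem (𝔟.mul_mem_left _ hu')
  haveI : Algebra.FormallySmooth R (Localization.AtPrime Q) := inferInstance
  haveI : Algebra.EssFiniteType (MvPolynomial (Fin n) R) (Localization.AtPrime Q) :=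
    .of_isLocalization _ Q.primeCompl
  haveI : Algebra.EssFiniteType R (Localization.AtPrime Q) := .comp _ (MvPolynomial (Fin n) R) _
  haveI : Module.Finite (Localization.AtPrime Q) Ω[Localization.AtPrime Q⁄R] := inferInstance
  haveI : Module.Free (Localization.AtPrime Q) Ω[Localization.AtPrime Q⁄R] :=
    Module.free_of_flat_of_isLocalRing
  rw [Algebra.FormallySmooth.iff_injective_cotangentComplexBaseChange_residueField
    (Localization.AtPrime Q) h₁ h₂, injective_iff_map_eq_zero]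
  intro x hx
  refine (Module.forall_dual_apply_eq_zero_iff (ResidueField T) x).mp ?_
  intro φ₀
  let ψ : ↥(RingHom.ker (algebraMap (Localization.AtPrime Q) T)) →ₗ[Localization.AtPrime Q]
      ResidueField T :=
    (φ₀.restrictScalars (Localization.AtPrime Q)) ∘ₗ
      (TensorProduct.mk (Localization.AtPrime Q) (ResidueField T)
        ↥(RingHom.ker (algebraMap (Localization.AtPrime Q) T)) 1)
  have hψ : ∀ b, ψ b = φ₀ ((1 : ResidueField T) ⊗ₜ[Localization.AtPrime Q] b) := fun b => rfl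
  obtain ⟨dq, hdq⟩ := exists_derivation_of_liftSqC (R := R) (L := Localization.AtPrime Q) (T := T)
    h₁ (C := fun B' _ _ => Algebra.FiniteType R B') hC hL ψ
  let Λq : Ω[Localization.AtPrime Q⁄R] →ₗ[Localization.AtPrime Q] ResidueField T :=
    dq.liftKaehlerDifferential
  have hdψ : ∀ (b : Localization.AtPrime Q)
      (hb : b ∈ RingHom.ker (algebraMap (Localization.AtPrime Q) T)),
      Λq (KaehlerDifferential.D R (Localization.AtPrime Q) b) = ψ ⟨b, hb⟩ := by
    intro b hb
    rw [← hdq b hb]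
    exact Derivation.liftKaehlerDifferential_comp_D dq b
  have hF : ∀ (a : ResidueField T) (b : ↥(RingHom.ker (algebraMap (Localization.AtPrime Q) T))),
      KaehlerDifferential.cotangentComplexBaseChange R T (Localization.AtPrime Q)
        (ResidueField T) (a ⊗ₜ b) =
        a • ((1 : ResidueField T) ⊗ₜ[Localization.AtPrime Q]
          KaehlerDifferential.D R (Localization.AtPrime Q) (b : Localization.AtPrime Q)) :=
    fun a b => rfl
  have key : ∀ z : ResidueField T ⊗[Localization.AtPrime Q]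
      ↥(RingHom.ker (algebraMap (Localization.AtPrime Q) T)),
      φ₀ z = (Λq.liftBaseChange (ResidueField T))
        (KaehlerDifferential.cotangentComplexBaseChange R T (Localization.AtPrime Q)
          (ResidueField T) z) := by
    intro z
    induction z using TensorProduct.induction_on with
    | zero => rw [map_zero, map_zero, map_zero]
    | tmul a b =>
      rw [hF, map_smul, LinearMap.liftBaseChange_tmul, one_smul, hdψ b.1 b.2]
      show φ₀ (a ⊗ₜ b) = a • φ₀ ((1 : ResidueField T) ⊗ₜ[Localization.AtPrime Q] b)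
      rw [← map_smul, TensorProduct.smul_tmul', smul_eq_mul, mul_one]
    | add z₁ z₂ h₁ h₂ => rw [map_add, map_add, map_add, h₁, h₂]
  rw [key x, hx, map_zero]

/-- A finite type algebra over a Noetherian ring is smooth as soon as it has the lifting property
against finite type small extensions at every maximal ideal. -/
theorem smooth_of_forall_maximal_liftSmallFT {R S : Type u} [CommRing R] [CommRing S]
    [Algebra R S] [IsNoetherianRing R] [Algebra.FiniteType R S]
    (H : ∀ (𝔪 : Ideal S) [𝔪.IsMaximal],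
      LiftSmallC R S 𝔪 (fun B' _ _ => Algebra.FiniteType R B')) :
    Algebra.Smooth R S := by
  haveI hfp : Algebra.FinitePresentation R S :=
    Algebra.FinitePresentation.of_finiteType.mp inferInstance
  refine ⟨?_, hfp⟩
  rw [← Algebra.smoothLocus_eq_univ_iff]
  by_contra hne
  have hopen : IsOpen (Algebra.smoothLocus R S) := Algebra.isOpen_smoothLocus
  obtain ⟨J, hJ⟩ := (PrimeSpectrum.isClosed_iff_zeroLocus_ideal _).mp hopen.isClosed_compl
  have hJtop : J ≠ ⊤ := by
    rintro rfl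
    apply hne
    have : (Algebra.smoothLocus R S)ᶜ = ∅ := by rw [hJ]; simp
    exact Set.compl_empty_iff.mp this
  obtain ⟨𝔪, h𝔪max, hJ𝔪⟩ := Ideal.exists_le_maximal J hJtop
  have hmem : (⟨𝔪, h𝔪max.isPrime⟩ : PrimeSpectrum S) ∈ (Algebra.smoothLocus R S)ᶜ := by
    rw [hJ, PrimeSpectrum.mem_zeroLocus]
    exact hJ𝔪
  apply hmem
  show Algebra.FormallySmooth R (Localization.AtPrime 𝔪)
  have hCq : ∀ (B' : Type u) [CommRing B'] [Algebra R B'] (I : Ideal B'),
      Algebra.FiniteType R B' → Algebra.FiniteType R (B' ⧸ I) := by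
    intro B' _ _ I hB'
    exact Algebra.FiniteType.of_surjective (Ideal.Quotient.mkₐ R I)
      (Ideal.Quotient.mkₐ_surjective R I)
  exact formallySmooth_of_liftSqFT 𝔪
    (liftSqC_of_liftAllC (liftAllC_atPrime 𝔪 (liftAllC_of_liftSmallC hCq (H 𝔪))))

end Groth.Agent.H63.SmallLift
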