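import Mathlib
import Groth.Agent.H63.SmallLiftC
import Groth.Agent.S5008

/-!
# Smoothness and lifting along small extensions of Artinian local rings (scheme level)
-/

set_option autoImplicit false
set_option linter.style.haveILetI false
universe u
open CategoryTheory CategoryTheory.Limits AlgebraicGeometry TopologicalSpace
open IsLocalRing Groth.Agent.H14

namespace Groth.Agent.H63.SmallLift

/-- The lifting property against small extensions of Artinian local rings, with a locally of finite
type structure map. -/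
def SmallExtLP {X S : Scheme.{u}} (f : X ⟶ S) : Prop :=
  ∀ (B B' : Type u) [CommRing B] [CommRing B'] [IsArtinianRing B] [IsArtinianRing B']
    [IsLocalRing B] [IsLocalRing B']
    (φ : B' →+* B) (ε : B'), Function.Surjective φ → RingHom.ker φ = Ideal.span {ε} →
    (∀ m ∈ IsLocalRing.maximalIdeal B', ε * m = 0) →
    ∀ (α : Spec (CommRingCat.of B) ⟶ X) (β : Spec (CommRingCat.of B') ⟶ S),
      LocallyOfFiniteType β →
      Spec.map (CommRingCat.ofHom φ) ≫ β = α ≫ f →
      ∃ γ : Spec (CommRingCat.of B') ⟶ X, Spec.map (CommRingCat.ofHom φ) ≫ γ = α ∧ γ ≫ f = β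

theorem smallExtLP_of_smooth {X S : Scheme.{u}} (f : X ⟶ S) [Smooth f] : SmallExtLP f := by
  intro B B' _ _ _ _ _ _ φ ε hφ hker hkill α β _ hcomm
  have hx : α.base (IsLocalRing.closedPoint B) ∈ f.smoothLocus := by
    rw [f.smoothLocus_eq_top]; trivial
  have hεm : ε ∈ IsLocalRing.maximalIdeal B' := by
    by_contra hε
    have hu : IsUnit ε := by
      by_contra hnu
      exact hε ((IsLocalRing.mem_maximalIdeal _).mpr hnu)
    have h1 : ε ∈ RingHom.ker φ := by rw [hker]; exact Ideal.mem_span_singleton_self ε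
    have h2 : φ ε = 0 := h1
    have h3 : IsUnit (φ ε) := hu.map φ
    rw [h2] at h3
    exact not_isUnit_zero h3
  have hker2 : RingHom.ker φ ^ 2 = ⊥ := by
    rw [hker, Ideal.span_singleton_pow, pow_two, hkill ε hεm]
    exact Ideal.span_singleton_eq_bot.mpr rfl
  exact (Groth.Agent.S5008.result f _).mp hx B B' φ hφ hker2 α β rfl hcomm

theorem smooth_of_smallExtLP {X S : Scheme.{u}} (f : X ⟶ S) [IsLocallyNoetherian S]
    [LocallyOfFiniteType f] (H : SmallExtLP f) : Smooth f := by
  refine ⟨fun {U} hU {V} hV e => ?_⟩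
  letI : Algebra Γ(S, U) Γ(X, V) := (f.appLE U V e).hom.toAlgebra
  haveI : IsNoetherianRing Γ(S, U) := IsLocallyNoetherian.component_noetherian ⟨U, hU⟩
  haveI : Algebra.FiniteType Γ(S, U) Γ(X, V) := f.finiteType_appLE hU hV e
  show Algebra.Smooth Γ(S, U) Γ(X, V)
  apply smooth_of_forall_maximal_liftSmallFT
  intro 𝔪 _
  intro B' B _ _ _ _ _ _ _ _ π hFT hπ ht g _
  obtain ⟨t, hkert, hkill⟩ := ht
  have hsq := IsAffineOpen.SpecMap_appLE_fromSpec f hU hV e
  let a : Γ(X, V) →+* B := g.toRingHom
  let b : Γ(S, U) →+* B' := algebraMap Γ(S, U) B'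
  let φ : B' →+* B := π.toRingHom
  have hφ : Function.Surjective φ := hπ
  have hab : φ.comp b = a.comp (f.appLE U V e).hom := by
    refine RingHom.ext fun r => ?_
    show π (algebraMap _ B' r) = g ((f.appLE U V e).hom r)
    rw [AlgHom.commutes]
    exact (g.commutes r).symm
  have hcomm : Spec.map (CommRingCat.ofHom φ) ≫
      (Spec.map (CommRingCat.ofHom b) ≫ hU.fromSpec) =
      (Spec.map (CommRingCat.ofHom a) ≫ hV.fromSpec) ≫ f := by
    rw [Category.assoc, ← hsq, ← Category.assoc, ← Category.assoc, ← Spec.map_comp,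
      ← Spec.map_comp]
    congr 2
    ext1
    exact hab
  haveI : LocallyOfFiniteType (Spec.map (CommRingCat.ofHom b)) := by
    rw [HasRingHomProperty.Spec_iff (P := @LocallyOfFiniteType)]
    exact RingHom.finiteType_algebraMap.mpr hFT
  have hβ : LocallyOfFiniteType (Spec.map (CommRingCat.ofHom b) ≫ hU.fromSpec) := inferInstance
  obtain ⟨γ, hγ1, hγ2⟩ := H B B' φ t hφ hkert
    (fun m hm => by rw [mul_comm]; exact hkill m hm) _ _ hβ hcomm
  have hmemV : ∀ y, hV.fromSpec.base y ∈ V := fun y => by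
    have h : hV.fromSpec y ∈ Set.range hV.fromSpec := ⟨y, rfl⟩
    rw [hV.range_fromSpec] at h
    exact h
  have hγV : γ.base (closedPoint B') ∈ V := by
    rw [← closedPoint_of_surjective φ hφ]
    change (Spec.map (CommRingCat.ofHom φ) ≫ γ).base (closedPoint B) ∈ V
    rw [hγ1]
    change hV.fromSpec.base ((Spec.map (CommRingCat.ofHom a)).base (closedPoint B)) ∈ V
    exact hmemV _
  obtain ⟨c, hc⟩ := exists_chart hV γ hγV
  have h1 : c ≫ CommRingCat.ofHom φ = CommRingCat.ofHom a := by
    apply Spec.map_injective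
    rw [← cancel_mono hV.fromSpec, Spec.map_comp, Category.assoc, hc, hγ1]
  have h2 : f.appLE U V e ≫ c = CommRingCat.ofHom b := by
    apply Spec.map_injective
    rw [← cancel_mono hU.fromSpec, Spec.map_comp, Category.assoc, hsq, ← Category.assoc, hc,
      hγ2]
  refine ⟨{ toRingHom := c.hom
            commutes' := fun r => RingHom.congr_fun (congrArg CommRingCat.Hom.hom h2) r }, ?_⟩
  exact AlgHom.ext fun x => RingHom.congr_fun (congrArg CommRingCat.Hom.hom h1) x

/-- `S1417`. -/
theorem smooth_iff_smallExtLP {X S : Scheme.{u}} (f : X ⟶ S) [IsLocallyNoetherian S]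
    [LocallyOfFiniteType f] : Smooth f ↔ SmallExtLP f :=
  ⟨fun _ => smallExtLP_of_smooth f, smooth_of_smallExtLP f⟩

end Groth.Agent.H63.SmallLift
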