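import Mathlib
import Groth.Agent.H63.SmoothSmallExt

/-!
# Smoothness along infinitesimal neighbourhoods

If the base changes of `f : X ⟶ S` to all infinitesimal neighbourhoods of a closed subscheme `Z` of
the locally Noetherian scheme `S` are smooth, then `f` is smooth at all points over `Z`.
-/

set_option autoImplicit false
set_option linter.style.haveILetI false
universe u
open CategoryTheory CategoryTheory.Limits AlgebraicGeometry TopologicalSpace
open IsLocalRing Groth.Agent.H14

namespace Groth.Agent.H63.SmallLift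

/-- The kernel of a small extension has square zero. -/
theorem ker_sq_eq_bot_of_small {B B' : Type u} [CommRing B] [CommRing B'] [IsLocalRing B]
    [IsLocalRing B'] (φ : B' →+* B) (ε : B') (hker : RingHom.ker φ = Ideal.span {ε})
    (hkill : ∀ m ∈ IsLocalRing.maximalIdeal B', ε * m = 0) : RingHom.ker φ ^ 2 = ⊥ := by
  have hεm : ε ∈ IsLocalRing.maximalIdeal B' := by
    by_contra hε
    have hu : IsUnit ε := by
      by_contra hnu
      exact hε ((IsLocalRing.mem_maximalIdeal _).mpr hnu)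
    have h1 : ε ∈ RingHom.ker φ := by rw [hker]; exact Ideal.mem_span_singleton_self ε
    have h2 : φ ε = 0 := h1
    have h3 : IsUnit (φ ε) := hu.map φ
    rw [h2] at h3
    exact not_isUnit_zero h3
  rw [hker, Ideal.span_singleton_pow, pow_two, hkill ε hεm]
  exact Ideal.span_singleton_eq_bot.mpr rfl

/-- Smooth morphisms lift along square zero surjections of local rings. -/
theorem lp_of_smooth {X S : Scheme.{u}} (f : X ⟶ S) [Smooth f] (B B' : Type u) [CommRing B]
    [CommRing B'] [IsLocalRing B] [IsLocalRing B'] (φ : B' →+* B) (hφ : Function.Surjective φ)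
    (hker2 : RingHom.ker φ ^ 2 = ⊥) (α : Spec (CommRingCat.of B) ⟶ X)
    (β : Spec (CommRingCat.of B') ⟶ S) (hcomm : Spec.map (CommRingCat.ofHom φ) ≫ β = α ≫ f) :
    ∃ γ : Spec (CommRingCat.of B') ⟶ X, Spec.map (CommRingCat.ofHom φ) ≫ γ = α ∧ γ ≫ f = β := by
  have hx : α.base (IsLocalRing.closedPoint B) ∈ f.smoothLocus := by
    rw [f.smoothLocus_eq_top]; trivial
  exact (Groth.Agent.S5008.result f _).mp hx B B' φ hφ hker2 α β rfl hcomm

/-- The lifting property at a point against small extensions of Artinian local rings. -/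
def SmallExtLPAt {X S : Scheme.{u}} (f : X ⟶ S) (x : X) : Prop :=
  ∀ (B B' : Type u) [CommRing B] [CommRing B'] [IsArtinianRing B] [IsArtinianRing B']
    [IsLocalRing B] [IsLocalRing B']
    (φ : B' →+* B) (ε : B'), Function.Surjective φ → RingHom.ker φ = Ideal.span {ε} →
    (∀ m ∈ IsLocalRing.maximalIdeal B', ε * m = 0) →
    ∀ (α : Spec (CommRingCat.of B) ⟶ X) (β : Spec (CommRingCat.of B') ⟶ S),
      α.base (IsLocalRing.closedPoint B) = x →
      Spec.map (CommRingCat.ofHom φ) ≫ β = α ≫ f →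
      ∃ γ : Spec (CommRingCat.of B') ⟶ X, Spec.map (CommRingCat.ofHom φ) ≫ γ = α ∧ γ ≫ f = β

theorem mem_smoothLocus_of_smallExtLPAt {X S : Scheme.{u}} (f : X ⟶ S) [IsLocallyNoetherian S]
    [LocallyOfFinitePresentation f] (x : X) (H : SmallExtLPAt f x) : x ∈ f.smoothLocus := by
  obtain ⟨_, ⟨U, hU, rfl⟩, hxU, -⟩ :=
    S.isBasis_affineOpens.exists_subset_of_mem_open (Set.mem_univ (f x)) isOpen_univ
  obtain ⟨_, ⟨V, hV, rfl⟩, hxV, hVU⟩ :=
    X.isBasis_affineOpens.exists_subset_of_mem_open hxU (U.2.preimage f.continuous)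
  rw [Scheme.Hom.mem_smoothLocus, formallySmooth_stalkMap_iff U hU V hV hVU hxV]
  letI : Algebra Γ(S, U) Γ(X, V) := (f.appLE U V hVU).hom.toAlgebra
  haveI : IsNoetherianRing Γ(S, U) := IsLocallyNoetherian.component_noetherian ⟨U, hU⟩
  haveI : Algebra.FiniteType Γ(S, U) Γ(X, V) := f.finiteType_appLE hU hV hVU
  show Algebra.IsSmoothAt Γ(S, U) (hV.primeIdealOf ⟨x, hxV⟩).asIdeal
  rw [isSmoothAt_iff_liftSmall]
  intro B' B _ _ _ _ _ _ _ _ π hπ ht g hg
  obtain ⟨t, hkert, hkill⟩ := ht
  have hsq := IsAffineOpen.SpecMap_appLE_fromSpec f hU hV hVU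
  let a : Γ(X, V) →+* B := g.toRingHom
  let b : Γ(S, U) →+* B' := algebraMap Γ(S, U) B'
  let φ : B' →+* B := π.toRingHom
  have hφ : Function.Surjective φ := hπ
  have hab : φ.comp b = a.comp (f.appLE U V hVU).hom := by
    refine RingHom.ext fun r => ?_
    show π (algebraMap _ B' r) = g ((f.appLE U V hVU).hom r)
    rw [AlgHom.commutes]
    exact (g.commutes r).symm
  have hcomm : Spec.map (CommRingCat.ofHom φ) ≫
      (Spec.map (CommRingCat.ofHom b) ≫ hU.fromSpec) =
      (Spec.map (CommRingCat.ofHom a) ≫ hV.fromSpec) ≫ f := by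
    rw [Category.assoc, ← hsq, ← Category.assoc, ← Category.assoc, ← Spec.map_comp,
      ← Spec.map_comp]
    congr 2
    ext1
    exact hab
  have hα : (Spec.map (CommRingCat.ofHom a) ≫ hV.fromSpec).base (closedPoint B) = x := by
    change hV.fromSpec.base ((Spec.map (CommRingCat.ofHom a)).base (closedPoint B)) = x
    have : (Spec.map (CommRingCat.ofHom a)).base (closedPoint B) =
        hV.primeIdealOf ⟨x, hxV⟩ := by
      apply PrimeSpectrum.ext
      exact hg
    rw [this]
    exact hV.fromSpec_primeIdealOf ⟨x, hxV⟩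
  obtain ⟨γ, hγ1, hγ2⟩ := H B B' φ t hφ hkert
    (fun m hm => by rw [mul_comm]; exact hkill m hm) _ _ hα hcomm
  have hγV : γ.base (closedPoint B') ∈ V := by
    rw [← closedPoint_of_surjective φ hφ]
    change (Spec.map (CommRingCat.ofHom φ) ≫ γ).base (closedPoint B) ∈ V
    rw [hγ1, hα]
    exact hxV
  obtain ⟨c, hc⟩ := exists_chart hV γ hγV
  have h1 : c ≫ CommRingCat.ofHom φ = CommRingCat.ofHom a := by
    apply Spec.map_injective
    rw [← cancel_mono hV.fromSpec, Spec.map_comp, Category.assoc, hc, hγ1]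
  have h2 : f.appLE U V hVU ≫ c = CommRingCat.ofHom b := by
    apply Spec.map_injective
    rw [← cancel_mono hU.fromSpec, Spec.map_comp, Category.assoc, hsq, ← Category.assoc, hc,
      hγ2]
  refine ⟨{ toRingHom := c.hom
            commutes' := fun r => RingHom.congr_fun (congrArg CommRingCat.Hom.hom h2) r }, ?_⟩
  exact AlgHom.ext fun y => RingHom.congr_fun (congrArg CommRingCat.Hom.hom h1) y

/-- A morphism from the spectrum of an Artinian local ring whose closed point lands in the support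
of an ideal sheaf `I` factors through an infinitesimal neighbourhood. -/
theorem exists_factor_subscheme {S : Scheme.{u}} (I : S.IdealSheafData) {B' : Type u}
    [CommRing B'] [IsLocalRing B'] [IsArtinianRing B'] (β : Spec (CommRingCat.of B') ⟶ S)
    (hβ : β.base (closedPoint B') ∈ I.support) :
    ∃ (n : ℕ) (β' : Spec (CommRingCat.of B') ⟶ (I ^ (n + 1)).subscheme),
      β' ≫ (I ^ (n + 1)).subschemeι = β := by
  obtain ⟨_, ⟨U, hU, rfl⟩, hxU, -⟩ :=
    S.isBasis_affineOpens.exists_subset_of_mem_open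
      (Set.mem_univ (β.base (closedPoint B'))) isOpen_univ
  obtain ⟨b, hb⟩ := exists_chart hU β hxU
  obtain ⟨N, hN⟩ : ∃ N, maximalIdeal B' ^ N = ⊥ := by
    have h := IsArtinianRing.isNilpotent_jacobson_bot (R := B')
    rw [IsLocalRing.jacobson_eq_maximalIdeal _ bot_ne_top] at h
    exact h
  let UU : S.affineOpens := ⟨U, hU⟩
  have hmem : ∀ s ∈ I.ideal UU, b.hom s ∈ maximalIdeal B' := by
    intro s hs
    have hz : β.base (closedPoint B') ∈ S.zeroLocus (U := U) (I.ideal UU) :=
      (Scheme.IdealSheafData.mem_support_iff_of_mem (U := UU) hxU).mp hβ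
    have hnb : β.base (closedPoint B') ∉ S.basicOpen s :=
      (Scheme.mem_zeroLocus_iff _ _ _).mp hz s hs
    by_contra hns
    apply hnb
    have hy : (Spec.map b).base (closedPoint B') ∈ hU.fromSpec ⁻¹ᵁ S.basicOpen s := by
      rw [hU.fromSpec_preimage_basicOpen]
      exact hns
    have h3 : hU.fromSpec.base ((Spec.map b).base (closedPoint B')) ∈ S.basicOpen s := hy
    rw [← hb]
    exact h3
  have hker : ∀ a ∈ (I ^ (N + 1)).ideal UU, b.hom a = 0 := by
    intro a ha
    have h1 : (I ^ (N + 1)).ideal UU = (I.ideal UU) ^ (N + 1) := rfl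
    rw [h1] at ha
    have h2 : Ideal.map b.hom ((I.ideal UU) ^ (N + 1)) ≤ ⊥ := by
      rw [Ideal.map_pow, ← hN]
      exact (Ideal.pow_le_pow_right (Nat.le_succ N)).trans
        (Ideal.pow_right_mono (Ideal.map_le_iff_le_comap.mpr hmem) N)
    exact (Ideal.mem_bot).mp (h2 (Ideal.mem_map_of_mem _ ha))
  let bbar : Γ(S, U) ⧸ (I ^ (N + 1)).ideal UU →+* B' := Ideal.Quotient.lift _ b.hom hker
  have key : (I ^ (N + 1)).subschemeCover.f UU ≫ (I ^ (N + 1)).subschemeι =
      Spec.map (CommRingCat.ofHom (Ideal.Quotient.mk ((I ^ (N + 1)).ideal UU))) ≫ hU.fromSpec :=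
    ((I ^ (N + 1)).subschemeCover_map_subschemeι UU).trans ((I ^ (N + 1)).glueDataObjι_ι UU)
  refine ⟨N, Spec.map (CommRingCat.ofHom bbar) ≫ (I ^ (N + 1)).subschemeCover.f UU, ?_⟩
  refine (Category.assoc _ _ _).trans ?_
  refine (congrArg (fun k => Spec.map (CommRingCat.ofHom bbar) ≫ k) key).trans ?_
  rw [← Category.assoc, ← Spec.map_comp, ← hb]
  congr 2

/-- `S1359`. -/
theorem mem_smoothLocus_of_infNbhd {X S : Scheme.{u}} (f : X ⟶ S) [IsLocallyNoetherian S]
    [LocallyOfFinitePresentation f] (I : S.IdealSheafData)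
    (h : ∀ n : ℕ, Smooth (pullback.snd f (I ^ (n + 1)).subschemeι)) (x : X)
    (hx : f x ∈ I.support) : x ∈ f.smoothLocus := by
  apply mem_smoothLocus_of_smallExtLPAt
  intro B B' _ _ _ _ _ _ φ ε hφ hker hkill α β hα hcomm
  have hβpt : β.base (closedPoint B') ∈ I.support := by
    rw [← closedPoint_of_surjective φ hφ]
    change (Spec.map (CommRingCat.ofHom φ) ≫ β).base (closedPoint B) ∈ I.support
    rw [hcomm]
    change f.base (α.base (closedPoint B)) ∈ I.support
    rw [hα]
    exact hx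
  obtain ⟨n, β', hβ'⟩ := exists_factor_subscheme I β hβpt
  haveI := h n
  have hcond : α ≫ f = (Spec.map (CommRingCat.ofHom φ) ≫ β') ≫ (I ^ (n + 1)).subschemeι := by
    rw [Category.assoc, hβ', hcomm]
  obtain ⟨γ', hγ1, hγ2⟩ := lp_of_smooth (pullback.snd f (I ^ (n + 1)).subschemeι) B B' φ hφ
    (ker_sq_eq_bot_of_small φ ε hker hkill)
    (pullback.lift α (Spec.map (CommRingCat.ofHom φ) ≫ β') hcond) β'
    (pullback.lift_snd _ _ _).symm
  refine ⟨γ' ≫ pullback.fst _ _, ?_, ?_⟩
  · rw [← Category.assoc, hγ1]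
    exact pullback.lift_fst _ _ _
  · rw [Category.assoc, pullback.condition, ← Category.assoc, hγ2, hβ']

end Groth.Agent.H63.SmallLift
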