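import Mathlib
import Groth.Agent.H63.SmoothInfNbhd
import Groth.Agent.H63.StalkLiftEtale

/-!
# Étaleness along infinitesimal neighbourhoods
-/

set_option autoImplicit false
set_option linter.style.haveILetI false
universe u
open CategoryTheory CategoryTheory.Limits AlgebraicGeometry TopologicalSpace
open IsLocalRing Groth.Agent.H14

namespace Groth.Agent.H63.SmallLift

/-- The kernel of `Spec (A ⧸ J) ⟶ Spec A` is nilpotent if `J ^ 2 = ⊥`. -/
theorem isNilpotent_ker_SpecMap_mk {A : Type u} [CommRing A] (J : Ideal A) (hJ : J ^ 2 = ⊥) :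
    IsNilpotent (Spec.map (CommRingCat.ofHom (Ideal.Quotient.mk J))).ker := by
  refine ⟨2, ?_⟩
  let i := Spec.map (CommRingCat.ofHom (Ideal.Quotient.mk J))
  show i.ker ^ 2 = ⊥
  rw [eq_bot_iff]
  apply Scheme.IdealSheafData.le_of_isAffine
  have h1 : (i.ker ^ 2).ideal ⟨⊤, isAffineOpen_top _⟩ =
      (i.ker.ideal ⟨⊤, isAffineOpen_top _⟩) ^ 2 := rfl
  rw [h1, Scheme.Hom.ker_apply, sq, Ideal.mul_le]
  intro a ha b hb
  have hnat := Scheme.ΓSpecIso_naturality (CommRingCat.ofHom (Ideal.Quotient.mk J))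
  have key : ∀ c ∈ RingHom.ker (i.app ⊤).hom,
      (Scheme.ΓSpecIso (CommRingCat.of A)).hom.hom c ∈ J := by
    intro c hc
    have h2 : i.appTop.hom c = 0 := hc
    have h3 := congrArg (fun k => k.hom c) hnat
    simp only [CommRingCat.hom_comp, RingHom.comp_apply] at h3
    rw [← Ideal.Quotient.eq_zero_iff_mem]
    refine h3.symm.trans ?_
    show (Scheme.ΓSpecIso (CommRingCat.of (A ⧸ J))).hom.hom (i.appTop.hom c) = 0
    rw [h2, map_zero]
  have hab : (Scheme.ΓSpecIso (CommRingCat.of A)).hom.hom (a * b) = 0 := by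
    rw [map_mul]
    have : (Scheme.ΓSpecIso (CommRingCat.of A)).hom.hom a *
        (Scheme.ΓSpecIso (CommRingCat.of A)).hom.hom b ∈ J ^ 2 := by
      rw [sq]; exact Ideal.mul_mem_mul (key a ha) (key b hb)
    rw [hJ] at this
    exact this
  have hinj : Function.Injective (Scheme.ΓSpecIso (CommRingCat.of A)).hom.hom :=
    (ConcreteCategory.bijective_of_isIso (Scheme.ΓSpecIso (CommRingCat.of A)).hom).1
  have hzero : a * b = 0 := hinj (by rw [hab, map_zero])
  rw [hzero]
  exact Ideal.zero_mem _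

/-- Uniqueness of lifts along square zero thickenings of Artinian local rings when all the
infinitesimal neighbourhoods are formally unramified. -/
theorem lift_unique_of_infNbhd {X S : Scheme.{u}} (f : X ⟶ S) (I : S.IdealSheafData)
    (h : ∀ n : ℕ, FormallyUnramified (pullback.snd f (I ^ (n + 1)).subschemeι))
    {A' : Type u} [CommRing A'] [IsLocalRing A'] [IsArtinianRing A'] (J : Ideal A')
    (hJ2 : J ^ 2 = ⊥) (γ γ' : Spec (CommRingCat.of A') ⟶ X)
    (hpt : (γ ≫ f).base (closedPoint A') ∈ I.support)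
    (h1 : Spec.map (CommRingCat.ofHom (Ideal.Quotient.mk J)) ≫ γ =
      Spec.map (CommRingCat.ofHom (Ideal.Quotient.mk J)) ≫ γ')
    (h2 : γ ≫ f = γ' ≫ f) : γ = γ' := by
  obtain ⟨n, β', hβ'⟩ := exists_factor_subscheme I (γ ≫ f) hpt
  haveI := h n
  have hc : γ ≫ f = β' ≫ (I ^ (n + 1)).subschemeι := hβ'.symm
  have hc' : γ' ≫ f = β' ≫ (I ^ (n + 1)).subschemeι := by rw [← h2, hβ']
  haveI : IsClosedImmersion (Spec.map (CommRingCat.ofHom (Ideal.Quotient.mk J))) :=
    IsClosedImmersion.spec_of_surjective _ Ideal.Quotient.mk_surjective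
  have hig : Spec.map (CommRingCat.ofHom (Ideal.Quotient.mk J)) ≫ pullback.lift γ β' hc =
      Spec.map (CommRingCat.ofHom (Ideal.Quotient.mk J)) ≫ pullback.lift γ' β' hc' := by
    apply pullback.hom_ext
    · rw [Category.assoc, Category.assoc, pullback.lift_fst, pullback.lift_fst, h1]
    · rw [Category.assoc, Category.assoc, pullback.lift_snd, pullback.lift_snd]
  have hgf : pullback.lift γ β' hc ≫ pullback.snd f (I ^ (n + 1)).subschemeι =
      pullback.lift γ' β' hc' ≫ pullback.snd f (I ^ (n + 1)).subschemeι := by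
    rw [pullback.lift_snd, pullback.lift_snd]
  have heq := FormallyUnramified.hom_ext (Spec.map (CommRingCat.ofHom (Ideal.Quotient.mk J)))
    (isNilpotent_ker_SpecMap_mk J hJ2) (pullback.snd f (I ^ (n + 1)).subschemeι) hig hgf
  calc γ = pullback.lift γ β' hc ≫ pullback.fst _ _ := (pullback.lift_fst _ _ _).symm
    _ = pullback.lift γ' β' hc' ≫ pullback.fst _ _ := by rw [heq]
    _ = γ' := pullback.lift_fst _ _ _

/-- `S1360`. -/
theorem etale_nhd_of_infNbhd {X S : Scheme.{u}} (f : X ⟶ S) [IsLocallyNoetherian S]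
    [LocallyOfFinitePresentation f] (I : S.IdealSheafData)
    (h : ∀ n : ℕ, Etale (pullback.snd f (I ^ (n + 1)).subschemeι)) (x : X)
    (hx : f x ∈ I.support) : ∃ U : X.Opens, x ∈ U ∧ Etale (U.ι ≫ f) := by
  haveI : LocallyOfFiniteType f := inferInstance
  rw [etale_nhd_iff_stalkLiftUnique]
  have hsm : (f.stalkMap x).hom.FormallySmooth :=
    mem_smoothLocus_of_infNbhd f I (fun n => by haveI := h n; infer_instance) x hx
  intro A' _ _ _ hh _ J hJ hJm g₀ hcompat hl hs
  obtain ⟨g, hg1, hg2⟩ := stalkLift_of_formallySmooth f x hsm A' hh J hJ hJm g₀ hcompat hl hs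
  refine ⟨g, ⟨hg1, hg2⟩, ?_⟩
  rintro g' ⟨hg'1, hg'2⟩
  have hJ2 : J ^ 2 = ⊥ := by
    have hJm' : J ≤ maximalIdeal A' := IsLocalRing.le_maximalIdeal hJ
    rw [eq_bot_iff, sq, ← hJm]
    exact Ideal.mul_mono_right hJm'
  have hstalk := Scheme.SpecMap_stalkMap_fromSpecStalk (f := f) (x := x)
  have hγf : ∀ k : X.presheaf.stalk x →+* A', k.comp (f.stalkMap x).hom = hh →
      (Spec.map (CommRingCat.ofHom k) ≫ X.fromSpecStalk x) ≫ f =
        Spec.map (CommRingCat.ofHom hh) ≫ S.fromSpecStalk (f x) := by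
    intro k hk
    rw [Category.assoc, ← hstalk, ← Category.assoc, ← Spec.map_comp]
    congr 2
    ext1
    exact hk
  have hiγ : ∀ k : X.presheaf.stalk x →+* A', (Ideal.Quotient.mk J).comp k = g₀ →
      Spec.map (CommRingCat.ofHom (Ideal.Quotient.mk J)) ≫
        (Spec.map (CommRingCat.ofHom k) ≫ X.fromSpecStalk x) =
        Spec.map (CommRingCat.ofHom g₀) ≫ X.fromSpecStalk x := by
    intro k hk
    rw [← Category.assoc, ← Spec.map_comp]
    congr 2
    ext1
    exact hk
  have hβpt : (Spec.map (CommRingCat.ofHom hh) ≫ S.fromSpecStalk (f x)).base (closedPoint A') =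
      f x := by
    change (S.fromSpecStalk (f x)).base ((Spec.map (CommRingCat.ofHom hh)).base (closedPoint A')) =
      f x
    have h0 : (Spec.map (CommRingCat.ofHom hh)).base (closedPoint A') =
        closedPoint (S.presheaf.stalk (f x)) := IsLocalRing.comap_closedPoint hh
    rw [h0]
    exact Scheme.fromSpecStalk_closedPoint
  have hγγ' : Spec.map (CommRingCat.ofHom g') ≫ X.fromSpecStalk x =
      Spec.map (CommRingCat.ofHom g) ≫ X.fromSpecStalk x := by
    apply lift_unique_of_infNbhd f I (fun n => by haveI := h n; infer_instance) J hJ2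
    · rw [hγf g' hg'1, hβpt]
      exact hx
    · rw [hiγ g' hg'2, hiγ g hg2]
    · rw [hγf g' hg'1, hγf g hg1]
  have h3 : Spec.map (CommRingCat.ofHom g') = Spec.map (CommRingCat.ofHom g) :=
    (cancel_mono (X.fromSpecStalk x)).mp hγγ'
  have h4 : CommRingCat.ofHom g' = CommRingCat.ofHom g := Spec.map_injective h3
  exact congrArg CommRingCat.Hom.hom h4

end Groth.Agent.H63.SmallLift
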