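import Mathlib
import Groth.Prelude.Def_W4bk4git07Quot
import Groth.Agent.H63.GrpFlatPt
import Groth.Agent.H63.EquivFlat

/-!
# Geometric quotients: universal openness, separatedness (helper63)
-/

set_option autoImplicit false
set_option linter.style.haveILetI false
universe u
open CategoryTheory CategoryTheory.Limits AlgebraicGeometry MonoidalCategory
  CartesianMonoidalCategory MonObj Topology TopologicalSpace

namespace Groth.Agent.H63.GeomQuot

open Groth.Agent.H63.EquivFlat

lemma isOpenMap_of_comp_surjective {A B D : Type*} [TopologicalSpace A] [TopologicalSpace B]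
    [TopologicalSpace D] {f : A → B} {g : B → D} (hf : Function.Surjective f)
    (hf' : Continuous f) (hfg : IsOpenMap (g ∘ f)) : IsOpenMap g := by
  intro V hV
  have : g '' V = (g ∘ f) '' (f ⁻¹' V) := by
    rw [Set.image_comp, Set.image_preimage_eq _ hf]
  rw [this]
  exact hfg _ (hV.preimage hf')

set_option backward.isDefEq.respectTransparency.types false in
lemma universallyOpen_of_comp_surjective {X Y Z : Scheme.{u}} (f : X ⟶ Y) (g : Y ⟶ Z)
    [UniversallyOpen (f ≫ g)] [Surjective f] : UniversallyOpen g := by
  constructor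
  intro X' Y' i₁ i₂ f' H
  have := UniversallyOpen.universally_isOpenMap _ _ _
    ((IsPullback.of_hasPullback i₁ f).paste_horiz H)
  exact isOpenMap_of_comp_surjective
    (MorphismProperty.pullback_fst (P := @Surjective) i₁ f ‹Surjective f›).1
    (Scheme.Hom.continuous _) this

/-- a universally submersive morphism whose kernel pair projection is universally open is
universally open -/
lemma universallyOpen_of_kernelPair {X Y : Scheme.{u}} (f : X ⟶ Y)
    (hsub : GIT.IsUnivSubmersive f) [UniversallyOpen (pullback.fst f f)] :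
    UniversallyOpen f := by
  constructor
  intro X' Y' pr g f' H
  have hq : IsQuotientMap f' := hsub _ _ _ H
  have hw : f' ≫ g = pr ≫ f := H.w
  have hcond : (pullback.fst f' f' ≫ pr) ≫ f = (pullback.snd f' f' ≫ pr) ≫ f := by
    rw [Category.assoc, Category.assoc, ← hw, pullback.condition_assoc]
  let l : pullback f' f' ⟶ pullback f f :=
    pullback.lift (pullback.fst f' f' ≫ pr) (pullback.snd f' f' ≫ pr) hcond
  have big : IsPullback (pullback.fst f' f') (l ≫ pullback.snd f f) (pr ≫ f) f := by
    have h1 := (IsPullback.of_hasPullback f' f').paste_vert H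
    rw [hw] at h1
    have h2 : l ≫ pullback.snd f f = pullback.snd f' f' ≫ pr := pullback.lift_snd _ _ _
    rw [h2]
    exact h1
  have sq : IsPullback (pullback.fst f' f') l pr (pullback.fst f f) :=
    IsPullback.of_bot big (pullback.lift_fst _ _ _).symm (IsPullback.of_hasPullback f f)
  haveI : UniversallyOpen (pullback.fst f' f') :=
    MorphismProperty.of_isPullback (P := @UniversallyOpen) sq.flip inferInstance
  have hq₁ : IsOpenMap (pullback.fst f' f') := (pullback.fst f' f').isOpenMap
  intro U hU
  have heq : f' ⁻¹' (f' '' U) = pullback.fst f' f' '' (pullback.snd f' f' ⁻¹' U) := by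
    ext x
    constructor
    · rintro ⟨u, hu, hux⟩
      obtain ⟨z, hz1, hz2⟩ := Scheme.Pullback.exists_preimage_pullback (f := f') (g := f') x u
        hux.symm
      exact ⟨z, by rw [Set.mem_preimage, hz2]; exact hu, hz1⟩
    · rintro ⟨z, hz, rfl⟩
      refine ⟨pullback.snd f' f' z, hz, ?_⟩
      have h1 := congrArg (fun t => t.base z) (pullback.condition (f := f') (g := f'))
      simp only [Scheme.Hom.comp_base, TopCat.comp_app] at h1
      exact h1.symm
  have hopen : IsOpen (f' ⁻¹' (f' '' U)) := by
    rw [heq]
    exact hq₁ _ (hU.preimage (pullback.snd f' f').continuous)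
  exact hq.isOpen_preimage.mp hopen

section Cart

variable {C : Type*} [Category C] [CartesianMonoidalCategory C]

theorem sq_fst' (G : C) {P X : C} (p : P ⟶ X) : IsPullback (fst P G) (p ▷ G) p (fst X G) := by
  refine Groth.Agent.H40.FpqcFam.isPullback_of_pts (whiskerRight_fst _ _).symm ?_
  intro T x y hxy
  refine ⟨lift x (y ≫ snd X G), ⟨lift_fst _ _, ?_⟩, ?_⟩
  · rw [lift_whiskerRight, hxy]
    apply CartesianMonoidalCategory.hom_ext
    · rw [lift_fst]
    · rw [lift_snd]
  · rintro q ⟨hq1, hq2⟩
    apply CartesianMonoidalCategory.hom_ext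
    · rw [lift_fst, hq1]
    · rw [lift_snd, ← hq2, Category.assoc, whiskerRight_snd]

end Cart

/-- the kernel pair as a base change of the diagonal -/
lemma isPullback_kernelPair_diagonal {X T S : Scheme.{u}} (f : X ⟶ T) (i : T ⟶ S) (x : X ⟶ S)
    (hx : f ≫ i = x) :
    IsPullback (pullback.lift (pullback.fst f f) (pullback.snd f f)
        (by rw [← hx, pullback.condition_assoc]) : pullback f f ⟶ pullback x x)
      (pullback.fst f f ≫ f)
      (pullback.map x x i i f f (𝟙 S) (by rw [Category.comp_id, hx])
        (by rw [Category.comp_id, hx]))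
      (pullback.diagonal i) := by
  subst hx
  have h := (pullback_map_diagonal_isPullback f f i).flip
  convert h using 1
  apply pullback.hom_ext
  · rw [pullback.lift_fst, pullback.map, pullback.lift_fst, Category.comp_id]
  · rw [pullback.lift_snd, pullback.map, pullback.lift_snd, Category.comp_id]

section Quot

variable {S : Scheme.{u}} {G X Y : Over S} [GrpObj G] (a : AlgGrp.Action G X) (φ : X ⟶ Y)

/-- the inclusion of the kernel pair of `φ` into `X ×_S X` -/
noncomputable def kerIncl : pullback φ.left φ.left ⟶ (X ⊗ X).left :=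
  (pullback.lift (pullback.fst φ.left φ.left) (pullback.snd φ.left φ.left)
    (by rw [← Over.w φ, pullback.condition_assoc]) : _ ⟶ pullback X.hom X.hom)

lemma isPullback_kerIncl :
    IsPullback (kerIncl φ) (pullback.fst φ.left φ.left ≫ φ.left) (φ ⊗ₘ φ).left
      (pullback.diagonal Y.hom) := by
  rw [Over.tensorHom_left]
  exact isPullback_kernelPair_diagonal φ.left Y.hom X.hom (Over.w φ)

lemma psi_left_eq (hinv : GIT.IsInvariant a φ) :
    (GIT.psi a (𝟙 X)).left = GIT.PsiY a φ hinv ≫ kerIncl φ := by
  have h1 : GIT.psi a (𝟙 X) ≫ fst X X = a.act := by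
    rw [GIT.psi, lift_fst, whiskerLeft_id, Category.id_comp]
  have h2 : GIT.psi a (𝟙 X) ≫ snd X X = snd G X := by
    rw [GIT.psi, lift_snd]
  have h1' := congrArg (fun t => t.left) h1
  have h2' := congrArg (fun t => t.left) h2
  simp only [Over.comp_left] at h1' h2'
  apply pullback.hom_ext
  · refine h1'.trans ?_
    rw [Category.assoc]
    change _ = _ ≫ (pullback.lift _ _ _ ≫ pullback.fst X.hom X.hom)
    rw [pullback.lift_fst, GIT.PsiY, pullback.lift_fst]
  · refine h2'.trans ?_
    rw [Category.assoc]
    change _ = _ ≫ (pullback.lift _ _ _ ≫ pullback.snd X.hom X.hom)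
    rw [pullback.lift_snd, GIT.PsiY, pullback.lift_snd]

lemma range_psi (h : GIT.IsGeomQuot a φ) :
    Set.range (GIT.psi a (𝟙 X)).left.base = Set.range (kerIncl φ).base := by
  rw [psi_left_eq a φ h.inv]
  simp only [Scheme.Hom.comp_base, TopCat.hom_comp, ContinuousMap.coe_comp]
  rw [Set.range_comp, h.orbit.range_eq, Set.image_univ]

lemma isQuotientMap_tensorHom (hsub : GIT.IsUnivSubmersive φ.left) :
    IsQuotientMap (φ ⊗ₘ φ).left.base := by
  have e : φ ⊗ₘ φ = (φ ▷ X) ≫ (Y ◁ φ) := tensorHom_def _ _
  have h1 : IsQuotientMap (φ ▷ X).left.base :=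
    hsub _ _ _ (((sq_fst' X φ).flip).map (Over.forget S))
  have h2 : IsQuotientMap (Y ◁ φ).left.base :=
    hsub _ _ _ (((sq_snd' Y φ).flip).map (Over.forget S))
  rw [e]
  simp only [Over.comp_left, Scheme.Hom.comp_base, TopCat.hom_comp, ContinuousMap.coe_comp]
  exact h2.comp h1

theorem isSeparated_iff (h : GIT.IsGeomQuot a φ) :
    IsSeparated Y.hom ↔ IsClosed (Set.range (GIT.psi a (𝟙 X)).left.base) := by
  rw [range_psi a φ h]
  have sq := isPullback_kerIncl φ
  constructor
  · intro hs
    haveI : IsClosedImmersion (kerIncl φ) :=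
      MorphismProperty.of_isPullback (P := @IsClosedImmersion) sq.flip inferInstance
    exact (kerIncl φ).isClosedEmbedding.isClosed_range
  · intro hc
    have hpre : Set.range (kerIncl φ).base =
        (φ ⊗ₘ φ).left.base ⁻¹' Set.range (pullback.diagonal Y.hom).base := by
      ext p
      constructor
      · rintro ⟨z, rfl⟩
        refine ⟨(pullback.fst φ.left φ.left ≫ φ.left).base z, ?_⟩
        have h1 := congrArg (fun t => t.base z) sq.w
        simp only [Scheme.Hom.comp_base, TopCat.comp_app] at h1 ⊢
        exact h1.symm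
      · rintro ⟨y, hy⟩
        obtain ⟨z, hz1, -⟩ := exists_preimage_of_isPullback sq p y hy.symm
        exact ⟨z, hz1⟩
    rw [hpre] at hc
    have hcl : IsClosed (Set.range (pullback.diagonal Y.hom).base) :=
      (isQuotientMap_tensorHom φ h.subm).isClosed_preimage.mp hc
    haveI : IsClosedImmersion (pullback.diagonal Y.hom) :=
      IsClosedImmersion.of_isPreimmersion _ hcl
    exact ⟨inferInstance⟩

end Quot

section Field

variable {k : Type u} [Field k] {G X Y : Over (Spec (CommRingCat.of k))} [GrpObj G]
  (a : AlgGrp.Action G X) (φ : X ⟶ Y)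

theorem universallyOpen_of_isGeomQuot [LocallyOfFiniteType G.hom] [LocallyOfFiniteType X.hom] (h : GIT.IsGeomQuot a φ) :
    UniversallyOpen φ.left := by
  haveI : IsLocallyNoetherian X.left := LocallyOfFiniteType.isLocallyNoetherian X.hom
  haveI : UniversallyOpen a.act.left := by
    haveI : Flat G.hom := inferInstance
    haveI := Groth.Agent.H63.GrpFlatPt.flat_act a
    haveI : LocallyOfFiniteType (G ⊗ X).hom := by rw [Over.tensorObj_hom]; infer_instance
    haveI : LocallyOfFiniteType (a.act.left ≫ X.hom) := by rw [Over.w a.act]; infer_instance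
    haveI : LocallyOfFiniteType a.act.left := locallyOfFiniteType_of_comp a.act.left X.hom
    haveI : LocallyOfFinitePresentation a.act.left := inferInstance
    infer_instance
  haveI : Surjective (GIT.PsiY a φ h.inv) := ⟨h.orbit⟩
  haveI : UniversallyOpen (GIT.PsiY a φ h.inv ≫ pullback.fst φ.left φ.left) := by
    have : GIT.PsiY a φ h.inv ≫ pullback.fst φ.left φ.left = a.act.left :=
      pullback.lift_fst _ _ _
    rw [this]
    infer_instance
  haveI := universallyOpen_of_comp_surjective (GIT.PsiY a φ h.inv)
    (pullback.fst φ.left φ.left)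
  exact universallyOpen_of_kernelPair φ.left h.subm

end Field

end Groth.Agent.H63.GeomQuot
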