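import Mathlib
import Groth.Prelude.Def_W4bk4git07Quot
import Groth.Agent.H63.GeomQuot
import Groth.Agent.H63.RatPt

/-!
# Geometric quotients: orbits of generalized points are fibres (helper63)
-/

set_option autoImplicit false
set_option linter.style.haveILetI false
universe u
open CategoryTheory CategoryTheory.Limits AlgebraicGeometry MonoidalCategory
  CartesianMonoidalCategory MonObj Topology TopologicalSpace

namespace Groth.Agent.H63.GeomQuot

open Groth.Agent.H63.EquivFlat

/-- range of the top map of a cartesian square of schemes -/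
lemma range_fst_of_isPullback {P X Y Z : Scheme.{u}} {p₁ : P ⟶ X} {p₂ : P ⟶ Y}
    {f : X ⟶ Z} {g : Y ⟶ Z} (h : IsPullback p₁ p₂ f g) :
    Set.range p₁.base = f.base ⁻¹' Set.range g.base := by
  ext x
  constructor
  · rintro ⟨z, rfl⟩
    refine ⟨p₂.base z, ?_⟩
    have h1 := congrArg (fun t => t.base z) h.w
    simp only [Scheme.Hom.comp_base, TopCat.comp_app] at h1
    exact h1.symm
  · rintro ⟨y, hy⟩
    obtain ⟨z, hz1, -⟩ := exists_preimage_of_isPullback h x y hy.symm
    exact ⟨z, hz1⟩

section Cart

variable {C : Type*} [Category C] [CartesianMonoidalCategory C]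

/-- the graph of `c` is the base change of the diagonal -/
theorem sq_graph {T Y : C} (c : T ⟶ Y) :
    IsPullback (lift c (𝟙 T)) c (Y ◁ c) (lift (𝟙 Y) (𝟙 Y)) := by
  refine Groth.Agent.H40.FpqcFam.isPullback_of_pts ?_ ?_
  · rw [lift_whiskerLeft, Category.id_comp, comp_lift, Category.comp_id]
  · intro T' v u huv
    have h1 : v ≫ fst Y T = u := by
      have := congrArg (fun t => t ≫ fst Y Y) huv
      simp only [Category.assoc, whiskerLeft_fst, lift_fst, Category.comp_id] at this
      exact this
    have h2 : v ≫ snd Y T ≫ c = u := by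
      have := congrArg (fun t => t ≫ snd Y Y) huv
      simp only [Category.assoc, whiskerLeft_snd, lift_snd, Category.comp_id] at this
      exact this
    refine ⟨v ≫ snd Y T, ⟨?_, by rw [Category.assoc]; exact h2⟩, ?_⟩
    · apply CartesianMonoidalCategory.hom_ext
      · rw [Category.assoc, lift_fst, Category.assoc, h2, h1]
      · rw [Category.assoc, lift_snd, Category.comp_id]
    · rintro q' ⟨hq1, -⟩
      rw [← hq1, Category.assoc, lift_snd, Category.comp_id]

end Cart

section Quot

variable {S : Scheme.{u}} {G X Y : Over S} [GrpObj G] (a : AlgGrp.Action G X) (φ : X ⟶ Y)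

/-- the orbit map of a generalized point is a base change of `Ψ = (σ, p₂)` -/
theorem sq_psi {T : Over S} (f : T ⟶ X) :
    IsPullback (GIT.psi a f) (G ◁ f) (X ◁ f) (GIT.psi a (𝟙 X)) := by
  refine Groth.Agent.H40.FpqcFam.isPullback_of_pts ?_ ?_
  · simp only [GIT.psi]
    rw [lift_whiskerLeft, comp_lift, whiskerLeft_id, Category.id_comp, whiskerLeft_snd]
  · intro T' u v huv
    have h1 : u ≫ fst X T = v ≫ a.act := by
      have := congrArg (fun t => t ≫ fst X X) huv
      simp only [GIT.psi, Category.assoc, whiskerLeft_fst, lift_fst, whiskerLeft_id,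
        Category.id_comp] at this
      exact this
    have h2 : u ≫ snd X T ≫ f = v ≫ snd G X := by
      have := congrArg (fun t => t ≫ snd X X) huv
      simp only [GIT.psi, Category.assoc, whiskerLeft_snd, lift_snd] at this
      exact this
    have hq : lift (v ≫ fst G X) (u ≫ snd X T) ≫ (G ◁ f) = v := by
      rw [lift_whiskerLeft]
      apply CartesianMonoidalCategory.hom_ext
      · rw [lift_fst]
      · rw [lift_snd, Category.assoc, h2]
    refine ⟨lift (v ≫ fst G X) (u ≫ snd X T), ⟨?_, hq⟩, ?_⟩
    · simp only [GIT.psi]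
      rw [comp_lift, ← Category.assoc, hq, lift_snd]
      apply CartesianMonoidalCategory.hom_ext
      · rw [lift_fst, h1]
      · rw [lift_snd]
    · rintro q' ⟨hq1, hq2⟩
      apply CartesianMonoidalCategory.hom_ext
      · rw [lift_fst, ← hq2, Category.assoc, whiskerLeft_fst]
      · rw [lift_snd, ← hq1]
        simp only [GIT.psi, Category.assoc, lift_snd]

lemma range_kerIncl :
    Set.range (kerIncl φ).base =
      (φ ⊗ₘ φ).left.base ⁻¹' Set.range (pullback.diagonal Y.hom).base :=
  range_fst_of_isPullback (isPullback_kerIncl φ)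

lemma diag_left : (lift (𝟙 Y) (𝟙 Y) : Y ⟶ Y ⊗ Y).left = pullback.diagonal Y.hom := by
  apply pullback.hom_ext
  · have h := congrArg (fun t => t.left) (lift_fst (𝟙 Y) (𝟙 Y))
    simp only [Over.comp_left] at h
    refine h.trans ?_
    rw [pullback.diagonal_fst]
    rfl
  · have h := congrArg (fun t => t.left) (lift_snd (𝟙 Y) (𝟙 Y))
    simp only [Over.comp_left] at h
    refine h.trans ?_
    rw [pullback.diagonal_snd]
    rfl

/-- the orbit of a generalized point `f : T ⟶ X` is the fibre of `φ × T` over the graph of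
`f ≫ φ` -/
theorem range_psi_eq (h : GIT.IsGeomQuot a φ) {T : Over S} (f : T ⟶ X) :
    Set.range (GIT.psi a f).left.base =
      (φ ▷ T).left.base ⁻¹' Set.range (lift (f ≫ φ) (𝟙 T) : T ⟶ Y ⊗ T).left.base := by
  have e1 : Set.range (GIT.psi a f).left.base =
      (X ◁ f).left.base ⁻¹' Set.range (GIT.psi a (𝟙 X)).left.base :=
    range_fst_of_isPullback ((sq_psi a f).map (Over.forget S))
  have e2 : Set.range (lift (f ≫ φ) (𝟙 T) : T ⟶ Y ⊗ T).left.base =
      (Y ◁ (f ≫ φ)).left.base ⁻¹' Set.range (lift (𝟙 Y) (𝟙 Y) : Y ⟶ Y ⊗ Y).left.base :=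
    range_fst_of_isPullback ((sq_graph (f ≫ φ)).map (Over.forget S))
  rw [e1, range_psi a φ h, range_kerIncl φ, e2, diag_left]
  have e3 : (X ◁ f) ≫ (φ ⊗ₘ φ) = (φ ▷ T) ≫ (Y ◁ (f ≫ φ)) := by
    rw [tensorHom_def', ← Category.assoc, ← whiskerLeft_comp, ← whisker_exchange]
  ext p
  simp only [Set.mem_preimage]
  have e4 := congrArg (fun t => t.left.base p) e3
  simp only [Over.comp_left, Scheme.Hom.comp_base, TopCat.comp_app] at e4
  rw [e4]

/-- the graph of a geometric point is closed -/
theorem isClosed_range_graph {Ω : Type u} [Field Ω] {T : Over S}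
    (e : T.left ≅ Spec (CommRingCat.of Ω)) (c : T ⟶ Y) :
    IsClosed (Set.range (lift c (𝟙 T) : T ⟶ Y ⊗ T).left.base) := by
  set s : T.left ⟶ (Y ⊗ T).left := (lift c (𝟙 T) : T ⟶ Y ⊗ T).left with hs
  have hsp : s ≫ (snd Y T).left = 𝟙 T.left := by
    have h := congrArg (fun t => t.left) (lift_snd c (𝟙 T))
    simp only [Over.comp_left] at h
    exact h
  have hsec : (e.inv ≫ s) ≫ ((snd Y T).left ≫ e.hom) = 𝟙 _ := by
    rw [Category.assoc, ← Category.assoc s, hsp, Category.id_comp, e.inv_hom_id]
  let pt : Spec (CommRingCat.of Ω) := IsLocalRing.closedPoint Ω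
  have hcl := Groth.Agent.H63.RatPt.isClosed_singleton ((snd Y T).left ≫ e.hom) (e.inv ≫ s)
    hsec pt
  haveI : Subsingleton ↥(Spec (CommRingCat.of Ω)) :=
    inferInstanceAs (Subsingleton (PrimeSpectrum Ω))
  have hr : Set.range s.base = {(e.inv ≫ s).base pt} := by
    ext y
    constructor
    · rintro ⟨t, rfl⟩
      have h1 : t = e.inv.base (e.hom.base t) := by
        have := congrArg (fun m => m.base t) e.hom_inv_id
        simp only [Scheme.Hom.comp_base, TopCat.comp_app, Scheme.Hom.id_base,
          TopCat.id_app] at this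
        exact this.symm
      rw [Subsingleton.elim (e.hom.base t) pt] at h1
      rw [Set.mem_singleton_iff, h1]
      simp only [Scheme.Hom.comp_base, TopCat.comp_app]
    · rintro rfl
      exact ⟨e.inv.base pt, by simp only [Scheme.Hom.comp_base, TopCat.comp_app]⟩
  rw [hr]
  exact hcl

/-- a geometric quotient has closed orbits of geometric points -/
theorem isClosedAction_of_isGeomQuot (h : GIT.IsGeomQuot a φ) : GIT.IsClosedAction a := by
  intro Ω _ _ T e f
  rw [range_psi_eq a φ h f]
  exact (isClosed_range_graph e (f ≫ φ)).preimage (φ ▷ T).left.base.hom.continuous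

end Quot

end Groth.Agent.H63.GeomQuot
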