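import Mathlib
import Groth.Prelude.Def_W4bk4git07Quot
import Groth.Agent.H63.GeomQuot2
import Groth.Agent.H63.ActionTranslate
import Groth.Agent.H63.SurjK

/-!
# Closed actions and quotients in stages (helper63)
-/

set_option autoImplicit false
set_option linter.style.haveILetI false
universe u
open CategoryTheory CategoryTheory.Limits AlgebraicGeometry MonoidalCategory
  CartesianMonoidalCategory MonObj Topology TopologicalSpace

namespace Groth.Agent.H63.GeomQuot

open Groth.Agent.H63.EquivFlat Groth.Agent.H63.ActionTranslate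

section Cart

variable {C : Type*} [Category C] [CartesianMonoidalCategory C]

theorem sq_whisker {X Y T' T : C} (π : X ⟶ Y) (r : T' ⟶ T) :
    IsPullback (X ◁ r) (π ▷ T') (π ▷ T) (Y ◁ r) := by
  refine Groth.Agent.H40.FpqcFam.isPullback_of_pts (whisker_exchange π r) ?_
  intro T'' u v huv
  have h1 : u ≫ fst X T ≫ π = v ≫ fst Y T' := by
    have := congrArg (fun t => t ≫ fst Y T) huv
    simp only [Category.assoc, whiskerRight_fst, whiskerLeft_fst] at this
    exact this
  have h2 : u ≫ snd X T = v ≫ snd Y T' ≫ r := by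
    have := congrArg (fun t => t ≫ snd Y T) huv
    simp only [Category.assoc, whiskerRight_snd, whiskerLeft_snd] at this
    exact this
  refine ⟨lift (u ≫ fst X T) (v ≫ snd Y T'), ⟨?_, ?_⟩, ?_⟩
  · rw [lift_whiskerLeft]
    apply CartesianMonoidalCategory.hom_ext
    · rw [lift_fst]
    · rw [lift_snd, Category.assoc, ← h2]
  · rw [lift_whiskerRight]
    apply CartesianMonoidalCategory.hom_ext
    · rw [lift_fst, Category.assoc, h1]
    · rw [lift_snd]
  · rintro q' ⟨hq1, hq2⟩
    apply CartesianMonoidalCategory.hom_ext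
    · rw [lift_fst, ← hq1, Category.assoc, whiskerLeft_fst]
    · rw [lift_snd, ← hq2, Category.assoc, whiskerRight_snd]

end Cart

section Lift

variable {S : Scheme.{u}} {X Y T : Over S}

/-- geometric points lift along surjective morphisms locally of finite type -/
theorem exists_lift_geomPoint (π : X ⟶ Y) [LocallyOfFiniteType π.left]
    (hs : Function.Surjective π.left.base) {Ω : Type u} [Field Ω] [IsAlgClosed Ω]
    (e : T.left ≅ Spec (CommRingCat.of Ω)) (y : T ⟶ Y) : ∃ f : T ⟶ X, f ≫ π = y := by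
  let Z : Over (Spec (CommRingCat.of Ω)) := Over.mk (pullback.snd π.left y.left ≫ e.hom)
  haveI : LocallyOfFiniteType Z.hom := by
    change LocallyOfFiniteType (pullback.snd π.left y.left ≫ e.hom)
    infer_instance
  haveI : Nonempty Z.left := by
    let t₀ : T.left := e.inv.base (IsLocalRing.closedPoint Ω)
    obtain ⟨x₀, hx₀⟩ := hs (y.left.base t₀)
    obtain ⟨z, -, -⟩ := Scheme.Pullback.exists_preimage_pullback (f := π.left) (g := y.left)
      x₀ t₀ hx₀
    exact ⟨z⟩
  obtain ⟨pt⟩ := Groth.Agent.H63.SurjK.exists_Kpoint Ω Z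
  have hpt : pt.left ≫ pullback.snd π.left y.left ≫ e.hom = 𝟙 _ := by
    have h1 := Over.w pt
    have h2 : (Groth.Agent.H63.SurjK.Kpt Ω Ω).hom = 𝟙 _ := by
      change Spec.map (CommRingCat.ofHom (algebraMap Ω Ω)) = 𝟙 _
      rw [Algebra.algebraMap_self, CommRingCat.ofHom_id, Spec.map_id]
    rw [h2] at h1
    exact h1
  have hpt' : pt.left ≫ pullback.snd π.left y.left = e.inv := by
    have h1 := congrArg (fun t => t ≫ e.inv) hpt
    simp only [Category.assoc, e.hom_inv_id, Category.comp_id, Category.id_comp] at h1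
    exact h1
  have hcomp : (e.hom ≫ pt.left ≫ pullback.fst π.left y.left) ≫ π.left = y.left := by
    rw [Category.assoc, Category.assoc, pullback.condition, ← Category.assoc pt.left, hpt',
      e.hom_inv_id_assoc]
  refine ⟨Over.homMk (e.hom ≫ pt.left ≫ pullback.fst π.left y.left) ?_, ?_⟩
  · rw [← Over.w π, ← Category.assoc, hcomp, Over.w y]
  · apply Over.OverMorphism.ext
    rw [Over.comp_left]
    exact hcomp

end Lift

section Stages

variable {S : Scheme.{u}} {H N Q X Y : Over S} [GrpObj H] [GrpObj N] [GrpObj Q]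
  (i : N ⟶ H) (q : H ⟶ Q) (a : AlgGrp.Action H X) (aN : AlgGrp.Action N X)
  (π : X ⟶ Y) (aQ : AlgGrp.Action Q Y)

include q in
omit [GrpObj N] in
lemma psi_comp_whiskerRight (hequiv : (q ⊗ₘ π) ≫ aQ.act = a.act ≫ π) {T : Over S} (f : T ⟶ X) :
    GIT.psi a f ≫ (π ▷ T) = (q ▷ T) ≫ GIT.psi aQ (f ≫ π) := by
  simp only [GIT.psi]
  rw [lift_whiskerRight, comp_lift, whiskerRight_snd]
  congr 1
  have h1 : (q ▷ T) ≫ (Q ◁ (f ≫ π)) = (H ◁ f) ≫ (q ⊗ₘ π) := by
    rw [tensorHom_def', ← Category.assoc, ← whiskerLeft_comp, whisker_exchange]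
  rw [← Category.assoc (q ▷ T), h1]
  simp only [Category.assoc]
  rw [hequiv]

/-- multiplication `N × (H × T) → H × T` -/
noncomputable def mulNT (T : Over S) : N ⊗ (H ⊗ T) ⟶ H ⊗ T :=
  lift ((fst N (H ⊗ T) ≫ i) * (snd N (H ⊗ T) ≫ fst H T)) (snd N (H ⊗ T) ≫ snd H T)

omit [GrpObj Q] in
lemma psi_stage (haN : aN.act = (i ▷ X) ≫ a.act) {T : Over S} (f : T ⟶ X) :
    GIT.psi aN ((H ◁ f) ≫ a.act) ≫ (X ◁ snd H T) = mulNT i T ≫ GIT.psi a f := by
  simp only [GIT.psi, mulNT]
  rw [lift_whiskerLeft, comp_lift, lift_snd]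
  congr 1
  rw [← Category.assoc, lift_whiskerLeft, act_mul, haN]
  have h1 : (N ◁ ((H ◁ f) ≫ a.act)) ≫ (i ▷ X) =
      lift (fst N (H ⊗ T) ≫ i) (snd N (H ⊗ T) ≫ (H ◁ f) ≫ a.act) := by
    apply CartesianMonoidalCategory.hom_ext
    · rw [Category.assoc, whiskerRight_fst, whiskerLeft_fst_assoc, lift_fst]
    · rw [Category.assoc, whiskerRight_snd, whiskerLeft_snd, lift_snd]
  rw [← Category.assoc, h1]
  congr 2
  rw [← Category.assoc]
  congr 1
  apply CartesianMonoidalCategory.hom_ext
  · rw [Category.assoc, whiskerLeft_fst, lift_fst]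
  · rw [Category.assoc, whiskerLeft_snd, lift_snd, Category.assoc]

/-- the `H`-orbit of a generalized point is the preimage of the `Q`-orbit of its image -/
theorem range_psi_stage (haN : aN.act = (i ▷ X) ≫ a.act) (hπ : GIT.IsGeomQuot aN π)
    (hequiv : (q ⊗ₘ π) ≫ aQ.act = a.act ≫ π) [Surjective q.left] {T : Over S} (f : T ⟶ X) :
    Set.range (GIT.psi a f).left.base =
      (π ▷ T).left.base ⁻¹' Set.range (GIT.psi aQ (f ≫ π)).left.base := by
  have e5 := psi_comp_whiskerRight q a π aQ hequiv f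
  haveI : Surjective (q ▷ T).left := by
    have SQ0 : IsPullback (fst H T).left (q ▷ T).left q.left (fst Q T).left :=
      (sq_fst' T q).map (Over.forget S)
    exact MorphismProperty.of_isPullback (P := @Surjective) SQ0
      (inferInstance : Surjective q.left)
  apply Set.Subset.antisymm
  · rintro _ ⟨w, rfl⟩
    refine ⟨(q ▷ T).left.base w, ?_⟩
    have h1 := congrArg (fun t => t.left.base w) e5
    simp only [Over.comp_left, Scheme.Hom.comp_base, TopCat.comp_app] at h1
    exact h1.symm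
  · rintro p ⟨wQ, hwQ⟩
    obtain ⟨w', rfl⟩ := (q ▷ T).left.surjective wQ
    have h1 := congrArg (fun t => t.left.base w') e5
    simp only [Over.comp_left, Scheme.Hom.comp_base, TopCat.comp_app] at h1
    have e6 : (lift (((H ◁ f) ≫ a.act) ≫ π) (𝟙 (H ⊗ T)) : H ⊗ T ⟶ Y ⊗ (H ⊗ T)) ≫
        (Y ◁ snd H T) = GIT.psi a f ≫ (π ▷ T) := by
      simp only [GIT.psi]
      rw [lift_whiskerLeft, lift_whiskerRight, Category.id_comp]
    have h2 := congrArg (fun t => t.left.base w') e6
    simp only [Over.comp_left, Scheme.Hom.comp_base, TopCat.comp_app] at h2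
    have SQ : IsPullback (X ◁ snd H T).left (π ▷ (H ⊗ T)).left (π ▷ T).left
        (Y ◁ snd H T).left := (sq_whisker π (snd H T)).map (Over.forget S)
    obtain ⟨z, hz1, hz2⟩ := exists_preimage_of_isPullback SQ p
      ((lift (((H ◁ f) ≫ a.act) ≫ π) (𝟙 (H ⊗ T)) : H ⊗ T ⟶ Y ⊗ (H ⊗ T)).left.base w')
      (by rw [h2, h1, hwQ])
    have hz : z ∈ Set.range (GIT.psi aN ((H ◁ f) ≫ a.act)).left.base := by
      rw [range_psi_eq aN π hπ ((H ◁ f) ≫ a.act)]
      exact ⟨w', hz2.symm⟩
    obtain ⟨w'', rfl⟩ := hz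
    refine ⟨(mulNT i T).left.base w'', ?_⟩
    have h3 := congrArg (fun t => t.left.base w'') (psi_stage i a aN haN f)
    simp only [Over.comp_left, Scheme.Hom.comp_base, TopCat.comp_app] at h3
    rw [← h3]
    exact hz1

/-- quotient in stages: the `Q`-action on `Y = X/N` is closed iff the `H`-action on `X` is -/
theorem isClosedAction_iff [LocallyOfFiniteType π.left] (haN : aN.act = (i ▷ X) ≫ a.act)
    (hπ : GIT.IsGeomQuot aN π) (hequiv : (q ⊗ₘ π) ≫ aQ.act = a.act ≫ π) [Surjective q.left] :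
    GIT.IsClosedAction aQ ↔ GIT.IsClosedAction a := by
  constructor
  · intro hQ Ω _ _ T e f
    rw [range_psi_stage i q a aN π aQ haN hπ hequiv f]
    exact (hQ Ω T e (f ≫ π)).preimage (π ▷ T).left.base.hom.continuous
  · intro ha Ω _ _ T e y
    obtain ⟨f, rfl⟩ := exists_lift_geomPoint π hπ.surj e y
    have h1 := ha Ω T e f
    rw [range_psi_stage i q a aN π aQ haN hπ hequiv f] at h1
    have SQ : IsPullback (π ▷ T).left (fst X T).left (fst Y T).left π.left :=
      ((sq_fst' T π).flip).map (Over.forget S)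
    have hqm : IsQuotientMap (π ▷ T).left.base := hπ.subm _ _ _ SQ
    exact hqm.isClosed_preimage.mp h1

end Stages

end Groth.Agent.H63.GeomQuot
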