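import Groth.Agent.H63.StalkBaseChange
import Groth.Agent.H63.GeomRegSmooth
import Groth.Agent.H71.RegularLoc
import Groth.Prelude.Def_Curv2

/-!
# Geometric regularity at a point of a `k`-scheme versus the local ring
-/

set_option autoImplicit false
universe u
open CategoryTheory Limits AlgebraicGeometry TensorProduct IsLocalRing

namespace Groth.Agent.H63.GeomRegAt

/-- In `k' ⊗ A` (`k'/k` purely inseparable algebraic, `A` local) a prime containing `1 ⊗ m_A` is
the maximal ideal. -/
theorem eq_maximalIdeal_of_purelyInseparable (k k' A : Type u) [Field k] [Field k'] [Algebra k k']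
    [Algebra.IsIntegral k k'] [IsPurelyInseparable k k'] [CommRing A] [IsLocalRing A]
    [Algebra k A] (Q : Ideal (k' ⊗[k] A)) [hQp : Q.IsPrime]
    (hQ : ∀ a ∈ maximalIdeal A, (1 : k') ⊗ₜ[k] a ∈ Q) :
    ∀ b : k' ⊗[k] A, ¬ IsUnit b → b ∈ Q := by
  intro b hb
  obtain ⟨n, hn, a, ha⟩ := IsPurelyInseparable.exists_pow_mem_range_tensorProduct (k := k) (K := k')
    (R := A) (Algebra.TensorProduct.comm k k' A b)
  have h1 : b ^ n = (1 : k') ⊗ₜ[k] a := by
    apply (Algebra.TensorProduct.comm k k' A).injective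
    rw [map_pow, ← ha]
    simp [Algebra.TensorProduct.algebraMap_apply]
  have ha' : a ∈ maximalIdeal A := by
    rw [mem_maximalIdeal, mem_nonunits_iff]
    intro hu
    apply hb
    have h2 : IsUnit ((1 : k') ⊗ₜ[k] a) :=
      hu.map (Algebra.TensorProduct.includeRight : A →ₐ[k] k' ⊗[k] A)
    rw [← h1] at h2
    exact (isUnit_pow_iff (Nat.pos_iff_ne_zero.mp hn)).mp h2
  exact hQp.mem_of_pow_mem n (h1 ▸ hQ a ha')

/-- `k' ⊗ A` is a regular ring as soon as its localization at some prime over `m_A` is regular. -/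
theorem isRegularRing_tensor_of_localization (k k' A : Type u) [Field k] [Field k'] [Algebra k k']
    [Module.Finite k k'] [IsPurelyInseparable k k'] [CommRing A] [IsLocalRing A]
    [IsNoetherianRing A] [Algebra k A] (Q : Ideal (k' ⊗[k] A)) [hQp : Q.IsPrime]
    (hQ : ∀ a ∈ maximalIdeal A, (1 : k') ⊗ₜ[k] a ∈ Q)
    (hreg : IsRegularLocalRing (Localization.AtPrime Q)) : IsRegularRing (k' ⊗[k] A) := by
  haveI hN' : IsNoetherianRing (A ⊗[k] k') := IsNoetherianRing.of_finite A (A ⊗[k] k')
  haveI hN : IsNoetherianRing (k' ⊗[k] A) :=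
    isNoetherianRing_of_ringEquiv (A ⊗[k] k') (Algebra.TensorProduct.comm k A k').toRingEquiv
  apply Groth.Agent.H71.RL.isRegularRing_of_maximal
  intro m hm
  have hmQ : Q = m := by
    apply le_antisymm
    · intro b hb
      by_contra hbm
      obtain ⟨c, i, hi, hci⟩ := hm.exists_inv hbm
      -- `c * b + i = 1`, with `i ∈ m`; `i` is a non-unit so `i ∈ Q`
      have hiQ : i ∈ Q := eq_maximalIdeal_of_purelyInseparable k k' A Q hQ i
        (fun hu => hm.ne_top (Ideal.eq_top_of_isUnit_mem _ hi hu))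
      have : (1 : k' ⊗[k] A) ∈ Q := by
        rw [← hci]
        exact Q.add_mem (Q.mul_mem_left c hb) hiQ
      exact hQp.ne_top ((Ideal.eq_top_iff_one Q).mpr this)
    · intro b hb
      exact eq_maximalIdeal_of_purelyInseparable k k' A Q hQ b
        (fun hu => hm.ne_top (Ideal.eq_top_of_isUnit_mem _ hb hu))
  exact Groth.Agent.H63.SmoothRegular.isRegularLocalRing_of_eq Q m hmQ hreg

variable (k : Type u) [Field k] (X : Scheme.{u}) [X.Over (Spec (CommRingCat.of k))]

theorem stalkAlgebra_eq (x : X) :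
    Curv2.stalkAlgebra k X x =
      Groth.Agent.H63.StalkBaseChange.stalkAlgebra (X ↘ Spec (CommRingCat.of k)) x := rfl

/-- If `K ⊗ O_{X,x}` is a regular ring then the local rings of `X_K` over `x` are regular. -/
theorem isRegularLocalRing_stalk_of_isRegularRing_tensor (x : X) (K : Type u) [Field K]
    [Algebra k K] (x' : ↥(Curv2.bc k X K)) (hx' : (Curv2.bcFst k X K).base x' = x)
    (h : letI := Groth.Agent.H63.StalkBaseChange.stalkAlgebra (X ↘ Spec (CommRingCat.of k)) x
      IsRegularRing (K ⊗[k] X.presheaf.stalk x)) :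
    IsRegularLocalRing ((Curv2.bc k X K).presheaf.stalk x') := by
  letI := Groth.Agent.H63.StalkBaseChange.stalkAlgebra (X ↘ Spec (CommRingCat.of k)) x
  obtain ⟨Q, hQ, -, ⟨e⟩⟩ := Groth.Agent.H63.StalkBaseChange.exists_prime_ringEquiv_stalk (K := K)
    (X ↘ Spec (CommRingCat.of k)) (Curv2.bcFst k X K) (Curv2.bcSnd k X K)
    (IsPullback.of_hasPullback _ _) x' x hx'
  haveI := hQ
  haveI := h
  haveI : IsRegularLocalRing (Localization.AtPrime Q) := inferInstance
  exact IsRegularLocalRing.of_ringEquiv e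

/-- There are points of `X_K` over every point of `X`. -/
theorem exists_point_over (x : X) (K : Type u) [Field K] [Algebra k K] :
    ∃ x' : ↥(Curv2.bc k X K), (Curv2.bcFst k X K).base x' = x := by
  obtain ⟨z, hz, -⟩ := Scheme.Pullback.exists_preimage_pullback
    (f := X ↘ Spec (CommRingCat.of k)) (g := Spec.map (CommRingCat.ofHom (algebraMap k K)))
    x (IsLocalRing.closedPoint K) (@Subsingleton.elim (PrimeSpectrum k) inferInstance _ _)
  exact ⟨z, hz⟩

/-- For `k'/k` finite purely inseparable: regular local rings of `X_{k'}` over `x` ⇒ `k' ⊗ O_{X,x}`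
regular. -/
theorem isRegularRing_tensor_of_stalk_purelyInseparable [IsLocallyNoetherian X] (x : X)
    (k' : Type u) [Field k'] [Algebra k k'] [Module.Finite k k'] [IsPurelyInseparable k k']
    (h : ∀ x' : ↥(Curv2.bc k X k'), (Curv2.bcFst k X k').base x' = x →
      IsRegularLocalRing ((Curv2.bc k X k').presheaf.stalk x')) :
    letI := Groth.Agent.H63.StalkBaseChange.stalkAlgebra (X ↘ Spec (CommRingCat.of k)) x
    IsRegularRing (k' ⊗[k] X.presheaf.stalk x) := by
  letI := Groth.Agent.H63.StalkBaseChange.stalkAlgebra (X ↘ Spec (CommRingCat.of k)) x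
  obtain ⟨x', hx'⟩ := exists_point_over k X x k'
  obtain ⟨Q, hQ, hQm, ⟨e⟩⟩ := Groth.Agent.H63.StalkBaseChange.exists_prime_ringEquiv_stalk (K := k')
    (X ↘ Spec (CommRingCat.of k)) (Curv2.bcFst k X k') (Curv2.bcSnd k X k')
    (IsPullback.of_hasPullback _ _) x' x hx'
  haveI := hQ
  haveI := h x' hx'
  have hreg : IsRegularLocalRing (Localization.AtPrime Q) := IsRegularLocalRing.of_ringEquiv e.symm
  exact isRegularRing_tensor_of_localization k k' (X.presheaf.stalk x) Q hQm hreg

end Groth.Agent.H63.GeomRegAt
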