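import Mathlib
import Groth.Prelude.Def_AlgGrp
import Groth.Agent.H63.OrbitLC

/-!
# Existence of closed orbits (helper63)
-/

set_option autoImplicit false
set_option linter.style.haveILetI false
universe u
open CategoryTheory CategoryTheory.Limits AlgebraicGeometry MonoidalCategory
  CartesianMonoidalCategory MonObj Topology TopologicalSpace

namespace Groth.Agent.H63.OrbitLC

open Groth.Agent.H63.EquivFlat Groth.Agent.H63.ActionTranslate Groth.Agent.H63.GrpExt

section Stable

variable {S : Scheme.{u}} {G X : Over S} [GrpObj G] (a : AlgGrp.Action G X)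

/-- a subset of `X` stable under the action of `G` -/
def IsStable (Z : Set X.left) : Prop :=
  ∀ w : ↥(G ⊗ X).left, (snd G X).left.base w ∈ Z → a.act.left.base w ∈ Z

theorem isStable_range_orbitMap (x : 𝟙_ (Over S) ⟶ X) :
    IsStable a (Set.range (a.orbitMap x).left.base) := act_mem_orbit a x

variable {a}

theorem IsStable.diff {Z O : Set X.left} (hZ : IsStable a Z) (hO : IsStable a O) :
    IsStable a (Z \ O) := by
  intro w hw
  refine ⟨hZ w hw.1, fun h => hw.2 ?_⟩
  obtain ⟨w', hw'1, hw'2⟩ := exists_swap a w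
  rw [← hw'2]
  exact hO w' (by rw [hw'1]; exact h)

theorem IsStable.closure {Z : Set X.left} (hZ : IsStable a Z)
    (hp₂ : IsOpenMap (snd G X).left.base) : IsStable a (closure Z) := by
  intro w hw
  have h1 : w ∈ _root_.closure ((snd G X).left.base ⁻¹' Z) := by
    rw [← hp₂.preimage_closure_eq_closure_preimage (snd G X).left.continuous]
    exact hw
  have h2 := image_closure_subset_closure_image a.act.left.continuous ⟨w, h1, rfl⟩
  refine closure_mono ?_ h2
  rintro _ ⟨w', hw', rfl⟩
  exact hZ w' hw'

theorem IsStable.range_orbitMap_subset {Z : Set X.left} (hZ : IsStable a Z)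
    (x : 𝟙_ (Over S) ⟶ X) (hx : Set.range x.left.base ⊆ Z) :
    Set.range (a.orbitMap x).left.base ⊆ Z := by
  rintro _ ⟨g, rfl⟩
  have e : a.orbitMap x = lift (𝟙 G) (toUnit G ≫ x) ≫ a.act := rfl
  have h := congrArg (fun t => t.left.base g) e
  simp only [Over.comp_left, Scheme.Hom.comp_base, TopCat.comp_app] at h
  rw [h]
  apply hZ
  have e2 : lift (𝟙 G) (toUnit G ≫ x) ≫ snd G X = toUnit G ≫ x := lift_snd _ _
  have h2 := congrArg (fun t => t.left.base g) e2
  simp only [Over.comp_left, Scheme.Hom.comp_base, TopCat.comp_app] at h2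
  rw [h2]
  exact hx ⟨_, rfl⟩

end Stable

section Field

variable {k : Type u} [Field k] [IsAlgClosed k] {G X : Over (Spec (CommRingCat.of k))}
  [GrpObj G] (a : AlgGrp.Action G X)

theorem exists_isClosed_orbit [LocallyOfFiniteType G.hom] [QuasiCompact G.hom]
    [LocallyOfFiniteType X.hom] [QuasiCompact X.hom] [Nonempty X.left] :
    ∃ x : 𝟙_ (Over (Spec (CommRingCat.of k))) ⟶ X,
      IsClosed (Set.range (a.orbitMap x).left.base) := by
  haveI : IsLocallyNoetherian X.left := LocallyOfFiniteType.isLocallyNoetherian X.hom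
  haveI : CompactSpace X.left := QuasiCompact.compactSpace_of_compactSpace X.hom
  haveI : IsNoetherian X.left := {}
  haveI : NoetherianSpace X.left := inferInstance
  haveI : JacobsonSpace X.left := LocallyOfFiniteType.jacobsonSpace X.hom
  haveI : Subsingleton ↥(𝟙_ (Over (Spec (CommRingCat.of k)))).left :=
    inferInstanceAs (Subsingleton (PrimeSpectrum k))
  haveI : Nonempty G.left := ⟨η[G].left.base (IsLocalRing.closedPoint k)⟩
  haveI : Flat G.hom := inferInstance
  haveI : LocallyOfFinitePresentation G.hom := inferInstance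
  haveI : UniversallyOpen G.hom := inferInstance
  have hp₂ : IsOpenMap (snd G X).left.base := by
    haveI : UniversallyOpen (snd G X).left := by rw [Over.snd_left]; infer_instance
    exact (snd G X).left.isOpenMap
  have wf : WellFoundedLT (Closeds X.left) :=
    ((noetherianSpace_TFAE X.left).out 0 1).mp ‹NoetherianSpace X.left›
  let 𝒮 : Set (Closeds X.left) := {Z | (Z : Set X.left).Nonempty ∧ IsStable a (Z : Set X.left)}
  have h𝒮 : 𝒮.Nonempty := ⟨⊤, Set.univ_nonempty, fun _ _ => trivial⟩
  haveI := wf
  obtain ⟨Z, hZ𝒮, hmin⟩ := (wellFounded_lt (α := Closeds X.left)).has_min 𝒮 h𝒮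
  obtain ⟨z, hzZ, hzc⟩ := nonempty_inter_closedPoints hZ𝒮.1 Z.isClosed.isLocallyClosed
  obtain ⟨x, hx⟩ := exists_section_of_isClosed X z hzc
  refine ⟨x, ?_⟩
  have hxZ : Set.range x.left.base ⊆ (Z : Set X.left) := by
    rintro _ ⟨p, rfl⟩
    rw [Subsingleton.elim p (IsLocalRing.closedPoint k), hx]
    exact hzZ
  have hOZ : Set.range (a.orbitMap x).left.base ⊆ (Z : Set X.left) :=
    hZ𝒮.2.range_orbitMap_subset x hxZ
  have hOne : (Set.range (a.orbitMap x).left.base).Nonempty := Set.range_nonempty _
  have hstO := isStable_range_orbitMap a x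
  -- closure of the orbit is `Z`
  have hcl : closure (Set.range (a.orbitMap x).left.base) = (Z : Set X.left) := by
    by_contra hne
    let Z' : Closeds X.left := ⟨closure (Set.range (a.orbitMap x).left.base), isClosed_closure⟩
    have hZ'le : Z' ≤ Z := closure_minimal hOZ Z.isClosed
    have hZ'lt : Z' < Z := lt_of_le_of_ne hZ'le (fun h => hne (congrArg (fun W : Closeds X.left => (W : Set X.left)) h))
    exact hmin Z' ⟨hOne.mono subset_closure, hstO.closure hp₂⟩ hZ'lt
  have hlc := isLocallyClosed_range_orbitMap a x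
  have hD : IsClosed (closure (Set.range (a.orbitMap x).left.base) \
      Set.range (a.orbitMap x).left.base) := by
    have h : IsOpen (closure (Set.range (a.orbitMap x).left.base) \
        Set.range (a.orbitMap x).left.base)ᶜ := hlc.isOpen_coborder
    exact isOpen_compl_iff.mp h
  have hempty : closure (Set.range (a.orbitMap x).left.base) \
      Set.range (a.orbitMap x).left.base = ∅ := by
    by_contra hne
    let Z'' : Closeds X.left := ⟨_, hD⟩
    have hZ''le : Z'' ≤ Z := by
      intro y hy
      have h1 : y ∈ closure (Set.range (a.orbitMap x).left.base) := hy.1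
      rw [hcl] at h1
      exact h1
    have hZ''lt : Z'' < Z := by
      refine lt_of_le_of_ne hZ''le (fun h => ?_)
      obtain ⟨y, hy⟩ := hOne
      have hyZ : y ∈ (Z'' : Set X.left) := by
        rw [h]
        exact hOZ hy
      exact hyZ.2 hy
    exact hmin Z'' ⟨Set.nonempty_iff_ne_empty.mpr hne, (hstO.closure hp₂).diff hstO⟩ hZ''lt
  rw [Set.sdiff_eq_empty] at hempty
  exact closure_subset_iff_isClosed.mp hempty

end Field

end Groth.Agent.H63.OrbitLC
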