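import Mathlib
import Groth.Prelude.Def_AlgGrp
import Groth.Agent.H63.OrbitLC2

/-!
# Orbits in locally finite type schemes (no quasi-compactness of `X`) (helper63)
-/

set_option autoImplicit false
set_option linter.style.haveILetI false
universe u
open CategoryTheory CategoryTheory.Limits AlgebraicGeometry MonoidalCategory
  CartesianMonoidalCategory MonObj Topology TopologicalSpace

namespace Groth.Agent.H63.OrbitLC

open Groth.Agent.H63.EquivFlat Groth.Agent.H63.ActionTranslate Groth.Agent.H63.GrpExt

section Top

/-- a locally constructible set contains a nonempty open subset of its closure near any of its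
points -/
theorem exists_open_of_isLocallyConstructible {X : Type*} [TopologicalSpace X] {s : Set X}
    (hs : IsLocallyConstructible s) (x : X) (hx : x ∈ s) :
    ∃ U : Set X, IsOpen U ∧ (U ∩ closure s).Nonempty ∧ U ∩ closure s ⊆ s := by
  obtain ⟨W, hWx, hWo, hc⟩ := hs x
  have hxW : x ∈ W := mem_of_mem_nhds hWx
  obtain ⟨V, hVo, -, hVne, hVsub⟩ := exists_open_of_isConstructible hc Set.univ isOpen_univ
    ⟨⟨x, hxW⟩, trivial, hx⟩
  have hcl : closure ((Subtype.val : W → X) ⁻¹' s) = (Subtype.val : W → X) ⁻¹' closure s :=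
    (hWo.isOpenEmbedding_subtypeVal.isOpenMap.preimage_closure_eq_closure_preimage
      continuous_subtype_val s).symm
  refine ⟨Subtype.val '' V, hWo.isOpenEmbedding_subtypeVal.isOpenMap V hVo, ?_, ?_⟩
  · obtain ⟨v, hv1, hv2⟩ := hVne
    rw [hcl] at hv2
    exact ⟨v.1, ⟨v, hv1, rfl⟩, hv2⟩
  · rintro _ ⟨⟨v, hv1, rfl⟩, hv2⟩
    exact hVsub ⟨hv1, by rw [hcl]; exact hv2⟩

end Top

section Field

variable {k : Type u} [Field k] {G X : Over (Spec (CommRingCat.of k))} [GrpObj G]
  (a : AlgGrp.Action G X) (x : 𝟙_ (Over (Spec (CommRingCat.of k))) ⟶ X)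

omit [GrpObj G] in
theorem isOpenMap_snd : IsOpenMap (snd G X).left.base := by
  haveI : UniversallyOpen G.hom := inferInstance
  haveI : UniversallyOpen (snd G X).left := by rw [Over.snd_left]; infer_instance
  exact (snd G X).left.isOpenMap

/-- orbits are locally closed (no quasi-compactness of `X` needed) -/
theorem isLocallyClosed_range_orbitMap' [LocallyOfFiniteType G.hom] [QuasiCompact G.hom]
    [LocallyOfFiniteType X.hom] :
    IsLocallyClosed (Set.range (a.orbitMap x).left.base) := by
  set o := a.orbitMap x with ho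
  haveI : IsLocallyNoetherian X.left := LocallyOfFiniteType.isLocallyNoetherian X.hom
  haveI : QuasiCompact o.left := quasiCompact_of_finiteType G.hom o.left
  haveI : LocallyOfFiniteType (o.left ≫ X.hom) := by rw [Over.w o]; infer_instance
  haveI : LocallyOfFiniteType o.left := locallyOfFiniteType_of_comp o.left X.hom
  haveI : LocallyOfFinitePresentation o.left := inferInstance
  have hc : IsLocallyConstructible (Set.range o.left.base) := by
    rw [← Set.image_univ]
    exact o.left.isLocallyConstructible_image .univ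
  obtain ⟨U', hU'o, hU'ne, hU'sub⟩ := exists_open_of_isLocallyConstructible hc
    (o.left.base (η[G].left.base (IsLocalRing.closedPoint k))) ⟨_, rfl⟩
  -- openness of the action and of the projection
  haveI : Flat G.hom := inferInstance
  haveI : LocallyOfFinitePresentation G.hom := inferInstance
  haveI : UniversallyOpen G.hom := inferInstance
  have hp₂ : IsOpenMap (snd G X).left.base := isOpenMap_snd
  have hα : IsOpenMap a.act.left.base := by
    haveI := Groth.Agent.H63.GrpFlatPt.flat_act a
    haveI : LocallyOfFiniteType (G ⊗ X).hom := by rw [Over.tensorObj_hom]; infer_instance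
    haveI : LocallyOfFiniteType (a.act.left ≫ X.hom) := by rw [Over.w a.act]; infer_instance
    haveI : LocallyOfFiniteType a.act.left := locallyOfFiniteType_of_comp a.act.left X.hom
    haveI : LocallyOfFinitePresentation a.act.left := inferInstance
    exact a.act.left.isOpenMap
  -- closure of the orbit is stable
  have hF3 : IsStable a (closure (Set.range o.left.base)) :=
    (isStable_range_orbitMap a x).closure hp₂
  have hV : IsOpen (a.act.left.base '' ((snd G X).left.base ⁻¹' U')) :=
    hα _ (hU'o.preimage (snd G X).left.continuous)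
  have heq : Set.range o.left.base =
      a.act.left.base '' ((snd G X).left.base ⁻¹' U') ∩ closure (Set.range o.left.base) := by
    apply Set.Subset.antisymm
    · intro y hy
      refine ⟨?_, subset_closure hy⟩
      obtain ⟨u, hu1, hu2⟩ := hU'ne
      obtain ⟨w, hw1, hw2⟩ := exists_act_eq a x y u hy (hU'sub ⟨hu1, hu2⟩)
      exact ⟨w, by rw [Set.mem_preimage, hw1]; exact hu1, hw2⟩
    · rintro y ⟨⟨w, hw1, rfl⟩, hyc⟩
      obtain ⟨w', hw'1, hw'2⟩ := exists_swap a w
      have h1 : (snd G X).left.base w ∈ closure (Set.range o.left.base) := by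
        rw [← hw'2]
        exact hF3 w' (by rw [hw'1]; exact hyc)
      exact act_mem_orbit a x w (hU'sub ⟨hw1, h1⟩)
  rw [heq]
  exact hV.isLocallyClosed.inter isClosed_closure.isLocallyClosed

variable [IsAlgClosed k]

/-- a nonempty closed stable subset which is a noetherian space contains a closed orbit -/
theorem exists_isClosed_orbit_in [LocallyOfFiniteType G.hom] [QuasiCompact G.hom]
    [LocallyOfFiniteType X.hom] (F : Set X.left) (hF : IsClosed F) (hFs : IsStable a F)
    (hFne : F.Nonempty) [NoetherianSpace F] :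
    ∃ x : 𝟙_ (Over (Spec (CommRingCat.of k))) ⟶ X, Set.range x.left.base ⊆ F ∧
      IsClosed (Set.range (a.orbitMap x).left.base) := by
  haveI : JacobsonSpace X.left := LocallyOfFiniteType.jacobsonSpace X.hom
  haveI : Subsingleton ↥(𝟙_ (Over (Spec (CommRingCat.of k)))).left :=
    inferInstanceAs (Subsingleton (PrimeSpectrum k))
  have hp₂ : IsOpenMap (snd G X).left.base := isOpenMap_snd
  haveI : Nonempty F := hFne.to_subtype
  have wf : WellFoundedLT (Closeds F) := inferInstance
  let 𝒮 : Set (Closeds F) :=
    {Z | (Z : Set F).Nonempty ∧ IsStable a (Subtype.val '' (Z : Set F))}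
  have h𝒮 : 𝒮.Nonempty := by
    refine ⟨⊤, Set.univ_nonempty, ?_⟩
    have : Subtype.val '' ((⊤ : Closeds F) : Set F) = F := by
      rw [Closeds.coe_top, Set.image_univ, Subtype.range_coe]
    rw [this]
    exact hFs
  obtain ⟨Z, hZ𝒮, hmin⟩ := wf.wf.has_min 𝒮 h𝒮
  set Z' : Set X.left := Subtype.val '' (Z : Set F) with hZ'
  have hZ'c : IsClosed Z' := hF.isClosedEmbedding_subtypeVal.isClosedMap _ Z.isClosed
  have hZ'F : Z' ⊆ F := by
    rintro _ ⟨z, -, rfl⟩
    exact z.2
  have hkey : ∀ T : Set X.left, IsClosed T → T.Nonempty → IsStable a T → T ⊆ Z' → T = Z' := by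
    intro T hTc hTne hTs hTZ
    let T' : Closeds F := ⟨Subtype.val ⁻¹' T, hTc.preimage continuous_subtype_val⟩
    have hT'img : Subtype.val '' (T' : Set F) = T := by
      change Subtype.val '' (Subtype.val ⁻¹' T : Set F) = T
      rw [Subtype.image_preimage_coe]
      exact Set.inter_eq_right.mpr (hTZ.trans hZ'F)
    have hT'le : T' ≤ Z := by
      intro t ht
      have ht' : t.1 ∈ T := ht
      obtain ⟨z, hz, hzt⟩ := hTZ ht'
      have : z = t := Subtype.ext hzt
      exact this ▸ hz
    have hT'mem : T' ∈ 𝒮 := by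
      refine ⟨?_, ?_⟩
      · obtain ⟨t, ht⟩ := hTne
        exact ⟨⟨t, hZ'F (hTZ ht)⟩, ht⟩
      · rw [hT'img]
        exact hTs
    have hTZ' : T' = Z := by
      by_contra hne
      exact hmin T' hT'mem (lt_of_le_of_ne hT'le hne)
    rw [← hT'img, hTZ']
  obtain ⟨z, hzZ, hzc⟩ := nonempty_inter_closedPoints (hZ𝒮.1.image Subtype.val)
    hZ'c.isLocallyClosed
  obtain ⟨x, hx⟩ := exists_section_of_isClosed X z hzc
  have hxZ : Set.range x.left.base ⊆ Z' := by
    rintro _ ⟨p, rfl⟩
    rw [Subsingleton.elim p (IsLocalRing.closedPoint k), hx]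
    exact hzZ
  refine ⟨x, hxZ.trans hZ'F, ?_⟩
  have hOZ : Set.range (a.orbitMap x).left.base ⊆ Z' :=
    hZ𝒮.2.range_orbitMap_subset x hxZ
  haveI : Nonempty G.left := ⟨η[G].left.base (IsLocalRing.closedPoint k)⟩
  have hOne : (Set.range (a.orbitMap x).left.base).Nonempty := Set.range_nonempty _
  have hstO := isStable_range_orbitMap a x
  have hcl : closure (Set.range (a.orbitMap x).left.base) = Z' :=
    hkey _ isClosed_closure (hOne.mono subset_closure) (hstO.closure hp₂)
      (closure_minimal hOZ hZ'c)
  have hlc := isLocallyClosed_range_orbitMap' a x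
  have hD : IsClosed (closure (Set.range (a.orbitMap x).left.base) \
      Set.range (a.orbitMap x).left.base) := by
    have h : IsOpen (closure (Set.range (a.orbitMap x).left.base) \
        Set.range (a.orbitMap x).left.base)ᶜ := hlc.isOpen_coborder
    exact isOpen_compl_iff.mp h
  have hempty : closure (Set.range (a.orbitMap x).left.base) \
      Set.range (a.orbitMap x).left.base = ∅ := by
    by_contra hne
    have h1 := hkey _ hD (Set.nonempty_iff_ne_empty.mpr hne) ((hstO.closure hp₂).diff hstO)
      (by rw [hcl]; exact Set.sdiff_subset)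
    obtain ⟨y, hy⟩ := hOne
    have hyZ : y ∈ Z' := hOZ hy
    rw [← h1] at hyZ
    exact hyZ.2 hy
  rw [Set.sdiff_eq_empty] at hempty
  exact closure_subset_iff_isClosed.mp hempty

end Field

end Groth.Agent.H63.OrbitLC
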