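import Mathlib
import Groth.Prelude.Def_W4c6nonredquotmfGoodQuot
import Groth.Agent.H63.OrbitLC3
import Groth.Agent.H63.RatPt
import Groth.Agent.H63.QuotTower

/-!
# Good quotients: orbits in fibres (helper63)
-/

set_option autoImplicit false
set_option linter.style.haveILetI false
universe u
open CategoryTheory CategoryTheory.Limits AlgebraicGeometry MonoidalCategory
  CartesianMonoidalCategory MonObj Topology TopologicalSpace

namespace Groth.Agent.H63.GoodQuot

open Groth.Agent.H63.OrbitLC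

section General

variable {S : Scheme.{u}} {G X Y : Over S} [GrpObj G] (a : AlgGrp.Action G X) (φ : X ⟶ Y)

/-- a good quotient is surjective -/
theorem surjective (h : NRQuot.IsGoodQuot a φ) : Function.Surjective φ.left.base := by
  have h1 := h.inter PEmpty.{u + 1} (fun i => i.elim) (fun i => i.elim) (fun i => i.elim)
  rw [Set.iInter_of_empty, Set.iInter_of_empty, Set.image_univ] at h1
  intro y
  have : y ∈ Set.range φ.left.base := by rw [h1]; trivial
  exact this

/-- fibres of an invariant morphism are stable -/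
theorem isStable_fibre (h : GIT.IsInvariant a φ) (W : Set Y.left) :
    IsStable a (φ.left.base ⁻¹' W) := by
  intro w hw
  have e : a.act ≫ φ = snd G X ≫ φ := h
  have h1 := congrArg (fun t => t.left.base w) e
  simp only [Over.comp_left, Scheme.Hom.comp_base, TopCat.comp_app] at h1
  rw [Set.mem_preimage, h1]
  exact hw

/-- the unit point lies on the orbit -/
theorem mem_range_orbitMap (x : 𝟙_ (Over S) ⟶ X) (pt : ↥(𝟙_ (Over S)).left) :
    x.left.base pt ∈ Set.range (a.orbitMap x).left.base := by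
  refine ⟨η[G].left.base pt, ?_⟩
  have e : η[G] ≫ a.orbitMap x = x := by
    have h1 := Groth.Agent.H63.QuotTower.one_comp_orbitMap a x (T := 𝟙_ (Over S))
    rw [toUnit_unit, Category.id_comp] at h1
    have h0 : (1 : 𝟙_ (Over S) ⟶ G) = η[G] := by
      rw [Hom.one_def, toUnit_unit, Category.id_comp]
    rw [← h0]
    exact h1
  have h2 := congrArg (fun t => t.left.base pt) e
  simp only [Over.comp_left, Scheme.Hom.comp_base, TopCat.comp_app] at h2
  exact h2

/-- fibres of an affine morphism from a locally noetherian scheme are noetherian spaces -/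
theorem noetherianSpace_fibre [IsLocallyNoetherian X.left] (hφ : IsAffineHom φ.left)
    (y : Y.left) : NoetherianSpace ↥(φ.left.base ⁻¹' {y}) := by
  obtain ⟨V, hV, hyV, -⟩ := exists_isAffineOpen_mem_and_subset (x := y) (U := ⊤) trivial
  have hU : IsAffineOpen (φ.left ⁻¹ᵁ V) := hV.preimage φ.left
  haveI : IsNoetherianRing Γ(X.left, φ.left ⁻¹ᵁ V) :=
    IsLocallyNoetherian.component_noetherian ⟨_, hU⟩
  haveI : NoetherianSpace ↥(φ.left ⁻¹ᵁ V) := noetherianSpace_of_isAffineOpen _ hU
  have hsub : φ.left.base ⁻¹' {y} ⊆ ((φ.left ⁻¹ᵁ V : X.left.Opens) : Set X.left) := by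
    intro x hx
    have hx' : φ.left.base x = y := hx
    change φ.left.base x ∈ V
    rw [hx']
    exact hyV
  haveI : NoetherianSpace ↥((φ.left ⁻¹ᵁ V : X.left.Opens) : Set X.left) :=
    ‹NoetherianSpace ↥(φ.left ⁻¹ᵁ V)›
  exact NoetherianSpace.of_subset hsub

end General

section Field

variable {k : Type u} [Field k] [IsAlgClosed k] {G X Y : Over (Spec (CommRingCat.of k))}
  [GrpObj G] (a : AlgGrp.Action G X) (φ : X ⟶ Y)

/-- two `k`-points with closed orbits and the same image under a good quotient are translates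
of each other -/
theorem exists_act_eq_of_isClosed [LocallyOfFiniteType G.hom] (h : NRQuot.IsGoodQuot a φ)
    (x₁ x₂ : 𝟙_ (Over (Spec (CommRingCat.of k))) ⟶ X)
    (hcl₁ : IsClosed (Set.range (a.orbitMap x₁).left.base))
    (hcl₂ : IsClosed (Set.range (a.orbitMap x₂).left.base)) (hφ : x₁ ≫ φ = x₂ ≫ φ) :
    ∃ g : 𝟙_ (Over (Spec (CommRingCat.of k))) ⟶ G, lift g x₁ ≫ a.act = x₂ := by
  haveI : Subsingleton ↥(𝟙_ (Over (Spec (CommRingCat.of k)))).left :=
    inferInstanceAs (Subsingleton (PrimeSpectrum k))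
  let pt : ↥(𝟙_ (Over (Spec (CommRingCat.of k)))).left := IsLocalRing.closedPoint k
  have hZ : ∀ x : 𝟙_ (Over (Spec (CommRingCat.of k))) ⟶ X,
      NRQuot.IsInvariantSet a (Set.range (a.orbitMap x).left.base) := fun x =>
    isStable_range_orbitMap a x
  let xs : ULift.{u} Bool → (𝟙_ (Over (Spec (CommRingCat.of k))) ⟶ X) :=
    fun i => cond i.down x₁ x₂
  have hxs : ∀ i, xs i ≫ φ = x₁ ≫ φ := by
    rintro ⟨_ | _⟩
    · exact hφ.symm
    · rfl
  have hcl : ∀ i, IsClosed (Set.range (a.orbitMap (xs i)).left.base) := by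
    rintro ⟨_ | _⟩
    · exact hcl₂
    · exact hcl₁
  have hinter := h.inter (ULift.{u} Bool)
    (fun i => Set.range (a.orbitMap (xs i)).left.base)
    (fun i => hcl i) (fun i => hZ (xs i))
  have hy : (x₁ ≫ φ).left.base pt ∈
      ⋂ i, φ.left.base '' Set.range (a.orbitMap (xs i)).left.base := by
    rw [Set.mem_iInter]
    intro i
    refine ⟨(xs i).left.base pt, mem_range_orbitMap a (xs i) pt, ?_⟩
    rw [← hxs i]
    simp only [Over.comp_left, Scheme.Hom.comp_base, TopCat.comp_app]
  rw [← hinter] at hy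
  obtain ⟨z, hz, -⟩ := hy
  rw [Set.mem_iInter] at hz
  have hz1 : z ∈ Set.range (a.orbitMap x₁).left.base := hz ⟨true⟩
  have hz2 : z ∈ Set.range (a.orbitMap x₂).left.base := hz ⟨false⟩
  obtain ⟨w, hw1, hw2⟩ := exists_act_eq a x₂ (x₂.left.base pt) z
    (mem_range_orbitMap a x₂ pt) hz2
  have hx2 : x₂.left.base pt ∈ Set.range (a.orbitMap x₁).left.base := by
    rw [← hw2]
    exact hZ x₁ w (by rw [hw1]; exact hz1)
  haveI : JacobsonSpace G.left := LocallyOfFiniteType.jacobsonSpace G.hom
  have hC : IsClosed ((a.orbitMap x₁).left.base ⁻¹' {x₂.left.base pt}) :=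
    (Groth.Agent.H63.RatPt.isClosed_singleton' x₂ pt).preimage
      (a.orbitMap x₁).left.base.hom.continuous
  have hne : ((a.orbitMap x₁).left.base ⁻¹' {x₂.left.base pt}).Nonempty := by
    obtain ⟨g, hg⟩ := hx2
    exact ⟨g, hg⟩
  obtain ⟨g₀, hg₀, hg₀c⟩ := nonempty_inter_closedPoints hne hC.isLocallyClosed
  obtain ⟨g, hg⟩ := Groth.Agent.H63.ActionTranslate.exists_section_of_isClosed G g₀ hg₀c
  refine ⟨g, ?_⟩
  rw [← Groth.Agent.H63.ActionTranslate.point_comp_orbitMap]
  apply Groth.Agent.H63.RatPt.over_ext _ _ pt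
  simp only [Over.comp_left, Scheme.Hom.comp_base, TopCat.comp_app]
  have hg' : g.left.base pt = g₀ := hg
  rw [hg']
  exact hg₀

/-- each fibre of a good quotient over a `k`-point contains a closed orbit -/
theorem exists_isClosed_orbit_over [LocallyOfFiniteType G.hom] [QuasiCompact G.hom]
    [LocallyOfFiniteType X.hom] (h : NRQuot.IsGoodQuot a φ)
    (y : 𝟙_ (Over (Spec (CommRingCat.of k))) ⟶ Y) :
    ∃ x : 𝟙_ (Over (Spec (CommRingCat.of k))) ⟶ X, x ≫ φ = y ∧
      IsClosed (Set.range (a.orbitMap x).left.base) := by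
  haveI : Subsingleton ↥(𝟙_ (Over (Spec (CommRingCat.of k)))).left :=
    inferInstanceAs (Subsingleton (PrimeSpectrum k))
  let pt : ↥(𝟙_ (Over (Spec (CommRingCat.of k)))).left := IsLocalRing.closedPoint k
  haveI : IsLocallyNoetherian X.left := LocallyOfFiniteType.isLocallyNoetherian X.hom
  haveI := noetherianSpace_fibre φ h.affine (y.left.base pt)
  have hF : IsClosed (φ.left.base ⁻¹' {y.left.base pt}) :=
    (Groth.Agent.H63.RatPt.isClosed_singleton' y pt).preimage φ.left.base.hom.continuous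
  have hFne : (φ.left.base ⁻¹' {y.left.base pt}).Nonempty := by
    obtain ⟨x, hx⟩ := surjective a φ h (y.left.base pt)
    exact ⟨x, hx⟩
  obtain ⟨x, hx1, hx2⟩ := exists_isClosed_orbit_in a _ hF (isStable_fibre a φ h.inv _) hFne
  refine ⟨x, ?_, hx2⟩
  apply Groth.Agent.H63.RatPt.over_ext _ _ pt
  have h1 : x.left.base pt ∈ φ.left.base ⁻¹' {y.left.base pt} := hx1 ⟨pt, rfl⟩
  simp only [Over.comp_left, Scheme.Hom.comp_base, TopCat.comp_app]
  exact h1

end Field

end Groth.Agent.H63.GoodQuot
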