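import Mathlib
import Groth.Agent.H63.GrpHomFlat

/-!
# Quasi-compact dominant homomorphisms of group schemes over a field are surjective

SGA3 VI_B 1.2 style argument: maximal points of the target are hit (quasi-compact + dominant);
for an arbitrary point `y` of `H` one writes `y = h · (h⁻¹ y)` with `h` a maximal point of
`H_{κ(y)}`; both `h` and `h⁻¹ y` are maximal points, hence are hit.
-/

universe u
open CategoryTheory CategoryTheory.Limits AlgebraicGeometry MonoidalCategory
  CartesianMonoidalCategory MonObj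

namespace Groth.Agent.H63.GrpDominant

open Groth.Agent.H63.GrpHomFlat

section Top

/-- A point without proper generizations. -/
def IsMaxPt {X : Type*} [TopologicalSpace X] (x : X) : Prop := ∀ x' : X, x' ⤳ x → x' = x

theorem exists_isMaxPt (X : Scheme.{u}) [Nonempty X] : ∃ x : X, IsMaxPt x := by
  obtain ⟨x₀⟩ := ‹Nonempty X›
  obtain ⟨Z, hZ, -⟩ := exists_mem_irreducibleComponents_subset_of_isIrreducible ({x₀} : Set X)
    isIrreducible_singleton
  have hZcl : IsClosed Z := isClosed_of_mem_irreducibleComponents Z hZ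
  obtain ⟨ξ, hξ⟩ := QuasiSober.sober hZ.1 hZcl
  refine ⟨ξ, fun x' hx' => ?_⟩
  have h1 : Z ⊆ closure {x'} := by
    rw [← hξ.def]
    exact specializes_iff_closure_subset.mp hx'
  have h2 : closure {x'} ⊆ Z := hZ.2 isIrreducible_singleton.closure h1
  have h3 : ξ ⤳ x' := by
    rw [specializes_iff_closure_subset, hξ.def]
    exact h2
  exact (hx'.antisymm h3).eq

theorem IsMaxPt.map_of_flat {X Y : Scheme.{u}} (f : X ⟶ Y) [Flat f] {x : X} (hx : IsMaxPt x) :
    IsMaxPt (f.base x) := by
  intro y' hy'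
  obtain ⟨x', hx', rfl⟩ := Flat.generalizingMap f hy'
  rw [hx x' hx']

/-- A quasi-compact dominant morphism hits every maximal point. -/
theorem mem_range_of_isMaxPt {X Y : Scheme.{u}} (f : X ⟶ Y) [QuasiCompact f]
    (hf : DenseRange f.base) {y : Y} (hy : IsMaxPt y) : y ∈ Set.range f.base := by
  obtain ⟨_, ⟨U₀, hU, rfl⟩, hyU, -⟩ := Y.isBasis_affineOpens.exists_subset_of_mem_open
    (Set.mem_univ y) isOpen_univ
  obtain ⟨U, rfl⟩ : ∃ U : Y.Opens, U = U₀ := ⟨U₀, rfl⟩
  haveI : IsAffine U.toScheme := hU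
  haveI : QuasiCompact (f ∣_ U) := inferInstance
  have hcs : CompactSpace (f ⁻¹ᵁ U).toScheme := QuasiCompact.compactSpace_of_compactSpace (f ∣_ U)
  obtain ⟨R, g, hg⟩ := (compactSpace_iff_exists (X := (f ⁻¹ᵁ U).toScheme)).mp hcs
  let φ : Spec R ⟶ Spec Γ(U.toScheme, ⊤) := g ≫ (f ∣_ U) ≫ U.toScheme.isoSpec.hom
  have hφd : DenseRange φ.base := by
    have h1 : DenseRange (f ∣_ U).base := by
      have hr : Set.range (f ∣_ U).base = (Subtype.val : ↥U → Y) ⁻¹' Set.range f.base := by
        rw [morphismRestrict_base]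
        exact Set.range_restrictPreimage _ _
      rw [DenseRange, hr]
      exact hf.preimage U.2.isOpenEmbedding_subtypeVal.isOpenMap
    have h2 : DenseRange g.base := hg.denseRange
    have h3 : DenseRange U.toScheme.isoSpec.hom.base :=
      (U.toScheme.isoSpec.hom.homeomorph.surjective).denseRange
    have h4 := h3.comp (h1.comp h2 (f ∣_ U).continuous) U.toScheme.isoSpec.hom.continuous
    simpa [φ] using h4
  let y₀ : U.toScheme := ⟨y, hyU⟩
  let p : PrimeSpectrum Γ(U.toScheme, ⊤) := U.toScheme.isoSpec.hom.base y₀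
  have hp : p.asIdeal ∈ minimalPrimes Γ(U.toScheme, ⊤) := by
    refine ⟨⟨p.2, bot_le⟩, fun q hq hqp => ?_⟩
    let q' : PrimeSpectrum Γ(U.toScheme, ⊤) := ⟨q, hq.1⟩
    have hs : q' ⤳ p := (PrimeSpectrum.le_iff_specializes q' p).mp hqp
    have hs2 : U.toScheme.isoSpec.inv.base q' ⤳ U.toScheme.isoSpec.inv.base p :=
      hs.map U.toScheme.isoSpec.inv.continuous
    have hpy : U.toScheme.isoSpec.inv.base p = y₀ := by
      simp [p]
    rw [hpy] at hs2
    have hs3 : U.ι.base (U.toScheme.isoSpec.inv.base q') ⤳ y := hs2.map U.ι.continuous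
    have h5 := hy _ hs3
    have h6 : U.toScheme.isoSpec.inv.base q' = y₀ := U.ι.isOpenEmbedding.injective h5
    have h7 : q' = p := by
      have h := congrArg U.toScheme.isoSpec.hom.base h6
      have hh : (U.toScheme.isoSpec.inv ≫ U.toScheme.isoSpec.hom).base q' = q' := by
        rw [Iso.inv_hom_id]; rfl
      exact hh.symm.trans h
    rw [← h7]
  obtain ⟨ψ, hψ⟩ : ∃ ψ, φ = Spec.map ψ := ⟨Spec.preimage φ, (Spec.map_preimage φ).symm⟩
  have hd : DenseRange (PrimeSpectrum.comap ψ.hom) := by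
    rw [hψ] at hφd
    exact hφd
  obtain ⟨r, hr⟩ := (PrimeSpectrum.denseRange_comap_iff_minimalPrimes ψ.hom).mp hd p.asIdeal hp
  have hr' : φ.base r = p := by
    rw [hψ]
    exact hr
  refine ⟨(f ⁻¹ᵁ U).ι.base (g.base r), ?_⟩
  have h8 : (f ∣_ U).base (g.base r) = y₀ := by
    have : U.toScheme.isoSpec.hom.base ((f ∣_ U).base (g.base r)) = p := hr'
    exact U.toScheme.isoSpec.hom.homeomorph.injective this
  have h9 := morphismRestrict_base_coe f U (g.base r)
  rw [h8] at h9
  exact h9.symm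

end Top

section Abstract

variable {C : Type*} [Category C] [CartesianMonoidalCategory C] {H : C} [GrpObj H] {K : C}

/-- `(h, t) ↦ (h⁻¹ · c t, t)`. -/
def flipMap (c : K ⟶ H) : H ⊗ K ⟶ H ⊗ K := lift ((fst H K)⁻¹ * (snd H K ≫ c)) (snd H K)

/-- `(h, t) ↦ (c t · h⁻¹, t)`. -/
def flipInv (c : K ⟶ H) : H ⊗ K ⟶ H ⊗ K := lift ((snd H K ≫ c) * (fst H K)⁻¹) (snd H K)

lemma flipMap_fst (c : K ⟶ H) : flipMap c ≫ fst H K = (fst H K)⁻¹ * (snd H K ≫ c) := lift_fst _ _
lemma flipMap_snd (c : K ⟶ H) : flipMap c ≫ snd H K = snd H K := lift_snd _ _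
lemma flipInv_fst (c : K ⟶ H) : flipInv c ≫ fst H K = (snd H K ≫ c) * (fst H K)⁻¹ := lift_fst _ _
lemma flipInv_snd (c : K ⟶ H) : flipInv c ≫ snd H K = snd H K := lift_snd _ _

lemma flipMap_flipInv (c : K ⟶ H) : flipMap c ≫ flipInv c = 𝟙 _ := by
  apply CartesianMonoidalCategory.hom_ext
  · rw [Category.assoc, flipInv_fst, MonObj.comp_mul, GrpObj.comp_inv, ← Category.assoc,
      flipMap_snd, flipMap_fst, Category.id_comp]
    group
  · rw [Category.assoc, flipInv_snd, flipMap_snd, Category.id_comp]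

lemma flipInv_flipMap (c : K ⟶ H) : flipInv c ≫ flipMap c = 𝟙 _ := by
  apply CartesianMonoidalCategory.hom_ext
  · rw [Category.assoc, flipMap_fst, MonObj.comp_mul, GrpObj.comp_inv, ← Category.assoc,
      flipInv_snd, flipInv_fst, Category.id_comp]
    group
  · rw [Category.assoc, flipMap_snd, flipInv_snd, Category.id_comp]

instance (c : K ⟶ H) : IsIso (flipMap c) := ⟨flipInv c, flipMap_flipInv c, flipInv_flipMap c⟩

end Abstract

section Points

variable {S : Scheme.{u}} {G H T : Over S} [GrpObj G] [GrpObj H]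

/-- If two `T`-points of `H` send the point `a` of `T` into the image of `f`, so does
their product. -/
theorem mul_mem_range (f : G ⟶ H) [IsMonHom f] (p₁ p₂ : T ⟶ H) (a : T.left)
    (h₁ : p₁.left.base a ∈ Set.range f.left.base) (h₂ : p₂.left.base a ∈ Set.range f.left.base) :
    (p₁ * p₂).left.base a ∈ Set.range f.left.base := by
  obtain ⟨g₁, hg₁⟩ := h₁
  obtain ⟨g₂, hg₂⟩ := h₂
  obtain ⟨w₁, hw₁, -⟩ := Scheme.Pullback.exists_preimage_pullback (f := p₁.left) (g := f.left)
    a g₁ hg₁.symm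
  have hw₁' : (pullback.fst p₁.left f.left ≫ p₂.left).base w₁ = f.left.base g₂ := by
    rw [Scheme.Hom.comp_base, TopCat.comp_app, hw₁, hg₂]
  obtain ⟨w₂, hw₂, -⟩ := Scheme.Pullback.exists_preimage_pullback
    (f := pullback.fst p₁.left f.left ≫ p₂.left) (g := f.left) w₁ g₂ hw₁'
  let e₀ := pullback.fst (pullback.fst p₁.left f.left ≫ p₂.left) f.left ≫
    pullback.fst p₁.left f.left
  let Wₒ : Over S := Over.mk (e₀ ≫ T.hom)
  let e : Wₒ ⟶ T := Over.homMk e₀ rfl
  let γ₁ : Wₒ ⟶ G := Over.homMk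
    (pullback.fst (pullback.fst p₁.left f.left ≫ p₂.left) f.left ≫ pullback.snd p₁.left f.left)
    (by
      change (_ ≫ _) ≫ G.hom = e₀ ≫ T.hom
      rw [← Over.w f, ← Over.w p₁]
      simp only [e₀, Category.assoc]
      rw [pullback.condition_assoc])
  let γ₂ : Wₒ ⟶ G := Over.homMk
    (pullback.snd (pullback.fst p₁.left f.left ≫ p₂.left) f.left)
    (by
      change _ ≫ G.hom = e₀ ≫ T.hom
      rw [← Over.w f, ← Over.w p₂]
      simp only [e₀, Category.assoc]
      rw [← pullback.condition_assoc]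
      simp only [Category.assoc])
  have e1 : γ₁ ≫ f = e ≫ p₁ := by
    ext
    simp only [Over.comp_left, γ₁, e, Over.homMk_left, e₀, Category.assoc]
    rw [pullback.condition]
  have e2 : γ₂ ≫ f = e ≫ p₂ := by
    ext
    simp only [Over.comp_left, γ₂, e, Over.homMk_left, e₀, Category.assoc]
    rw [← pullback.condition]
  have e3 : (γ₁ * γ₂) ≫ f = e ≫ (p₁ * p₂) := by
    rw [MonObj.mul_comp, e1, e2, MonObj.comp_mul]
  have hea : e.left.base w₂ = a := by
    change e₀.base w₂ = a
    simp only [e₀, Scheme.Hom.comp_base, TopCat.comp_app]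
    rw [hw₂, hw₁]
  refine ⟨(γ₁ * γ₂).left.base w₂, ?_⟩
  have := congrArg (fun t => t.left.base w₂) e3
  simp only [Over.comp_left, Scheme.Hom.comp_base, TopCat.comp_app] at this
  rw [this, hea]

end Points

section Main

variable {k : Type u} [Field k] {G H : Over (Spec (CommRingCat.of k))} [GrpObj G] [GrpObj H]

theorem surjective_of_denseRange (f : G ⟶ H) [IsMonHom f] [QuasiCompact f.left]
    (hf : DenseRange f.left.base) : Surjective f.left := by
  refine ⟨fun y => ?_⟩
  let Kₒ : Over (Spec (CommRingCat.of k)) := Over.mk (H.left.fromSpecResidueField y ≫ H.hom)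
  let y' : Kₒ ⟶ H := Over.homMk (H.left.fromSpecResidueField y) rfl
  haveI : Flat Kₒ.hom := inferInstance
  haveI hp₁ : Flat (fst H Kₒ).left := by rw [Over.fst_left]; infer_instance
  haveI : IsIso (flipMap y').left :=
    (inferInstance : IsIso ((Over.forget _).map (flipMap y')))
  haveI hp₂ : Flat ((fst H Kₒ)⁻¹ * (snd H Kₒ ≫ y')).left := by
    rw [← flipMap_fst, Over.comp_left]
    infer_instance
  haveI : Nonempty (H ⊗ Kₒ).left := by
    obtain ⟨s⟩ : Nonempty (Spec (H.left.residueField y)) := inferInstance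
    exact ⟨(lift y' (𝟙 Kₒ)).left.base s⟩
  obtain ⟨a, ha⟩ := exists_isMaxPt (H ⊗ Kₒ).left
  have h1 : (fst H Kₒ).left.base a ∈ Set.range f.left.base :=
    mem_range_of_isMaxPt f.left hf (ha.map_of_flat _)
  have h2 : ((fst H Kₒ)⁻¹ * (snd H Kₒ ≫ y')).left.base a ∈ Set.range f.left.base :=
    mem_range_of_isMaxPt f.left hf (ha.map_of_flat _)
  have h3 := mul_mem_range f _ _ a h1 h2
  rw [_root_.mul_inv_cancel_left] at h3
  have h4 : (snd H Kₒ ≫ y').left.base a = y := by
    rw [Over.comp_left, Scheme.Hom.comp_base, TopCat.comp_app]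
    exact Scheme.fromSpecResidueField_apply _ _
  rwa [h4] at h3

theorem flat_of_denseRange (f : G ⟶ H) [IsMonHom f] [QuasiCompact f.left]
    (hf : DenseRange f.left.base) [IsReduced H.left] : Flat f.left := by
  haveI := surjective_of_denseRange f hf
  exact flat_left_of_isReduced f

end Main

end Groth.Agent.H63.GrpDominant
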