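import Mathlib
import Groth.Agent.H63.GrpDominant

/-!
# Every point of a group scheme over a field is a product of two maximal points (helper63)
-/

universe u
open CategoryTheory CategoryTheory.Limits AlgebraicGeometry MonoidalCategory
  CartesianMonoidalCategory MonObj

namespace Groth.Agent.H63.GrpDominant

theorem IsMaxPt.closure_mem_irreducibleComponents {X : Type*} [TopologicalSpace X] [QuasiSober X]
    {y : X} (hy : IsMaxPt y) : closure {y} ∈ irreducibleComponents X := by
  refine ⟨isIrreducible_singleton.closure, fun Z hZ hle => ?_⟩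
  obtain ⟨ξ, hξ⟩ := QuasiSober.sober hZ.closure isClosed_closure
  have h1 : closure {y} ⊆ closure {ξ} := by
    rw [hξ.def]
    exact hle.trans subset_closure
  have h2 : ξ ⤳ y := specializes_iff_closure_subset.mpr h1
  have h3 := hy ξ h2
  rw [h3] at hξ
  change Z ⊆ closure {y}
  rw [hξ.def]
  exact subset_closure

variable {k : Type u} [Field k] {G : Over (Spec (CommRingCat.of k))} [GrpObj G]

theorem exists_maxPt_factorization (x : G.left) :
    ∃ z : ↥(G ⊗ G).left, μ[G].left.base z = x ∧ IsMaxPt ((fst G G).left.base z) ∧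
      IsMaxPt ((snd G G).left.base z) := by
  let Kₒ : Over (Spec (CommRingCat.of k)) := Over.mk (G.left.fromSpecResidueField x ≫ G.hom)
  let y' : Kₒ ⟶ G := Over.homMk (G.left.fromSpecResidueField x) rfl
  haveI : Flat Kₒ.hom := inferInstance
  haveI hp₁ : Flat (fst G Kₒ).left := by rw [Over.fst_left]; infer_instance
  haveI : IsIso (flipMap y').left :=
    (inferInstance : IsIso ((Over.forget _).map (flipMap y')))
  haveI hp₂ : Flat ((fst G Kₒ)⁻¹ * (snd G Kₒ ≫ y')).left := by
    rw [← flipMap_fst, Over.comp_left]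
    infer_instance
  haveI : Nonempty (G ⊗ Kₒ).left := by
    obtain ⟨s⟩ : Nonempty (Spec (G.left.residueField x)) := inferInstance
    exact ⟨(lift y' (𝟙 Kₒ)).left.base s⟩
  obtain ⟨a, ha⟩ := exists_isMaxPt (G ⊗ Kₒ).left
  refine ⟨(lift (fst G Kₒ) ((fst G Kₒ)⁻¹ * (snd G Kₒ ≫ y'))).left.base a, ?_, ?_, ?_⟩
  · have e : lift (fst G Kₒ) ((fst G Kₒ)⁻¹ * (snd G Kₒ ≫ y')) ≫ μ[G] = snd G Kₒ ≫ y' := by
      rw [← Hom.mul_def, _root_.mul_inv_cancel_left]
    have h := congrArg (fun t => t.left.base a) e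
    simp only [Over.comp_left, Scheme.Hom.comp_base, TopCat.comp_app] at h
    rw [h]
    exact Scheme.fromSpecResidueField_apply _ _
  · have e : lift (fst G Kₒ) ((fst G Kₒ)⁻¹ * (snd G Kₒ ≫ y')) ≫ fst G G = fst G Kₒ :=
      lift_fst _ _
    have h := congrArg (fun t => t.left.base a) e
    simp only [Over.comp_left, Scheme.Hom.comp_base, TopCat.comp_app] at h
    rw [h]
    exact ha.map_of_flat _
  · have e : lift (fst G Kₒ) ((fst G Kₒ)⁻¹ * (snd G Kₒ ≫ y')) ≫ snd G G =
        (fst G Kₒ)⁻¹ * (snd G Kₒ ≫ y') := lift_snd _ _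
    have h := congrArg (fun t => t.left.base a) e
    simp only [Over.comp_left, Scheme.Hom.comp_base, TopCat.comp_app] at h
    rw [h]
    exact ha.map_of_flat _

end Groth.Agent.H63.GrpDominant
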