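import Mathlib

/-! Schemes finite over an artinian ring are exactly the discrete ones among the quasi-compact
schemes locally of finite type (helper63). -/

set_option autoImplicit false
universe u
open CategoryTheory CategoryTheory.Limits AlgebraicGeometry

namespace Groth.Agent.H63.HomArtDisc

/-- (D2) -/
theorem discreteTopology_of_isFinite {A : Type u} [CommRing A] [IsArtinianRing A]
    {X : Scheme.{u}} (f : X ⟶ Spec (CommRingCat.of A)) [IsFinite f] : DiscreteTopology X := by
  haveI : IsAffine X := isAffine_of_isAffineHom f
  have hfin : (f.appTop).hom.Finite := f.finite_appTop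
  haveI : IsArtinianRing Γ(Spec (CommRingCat.of A), ⊤) :=
    (Scheme.ΓSpecIso (CommRingCat.of A)).commRingCatIsoToRingEquiv.symm.isArtinianRing
  haveI : IsArtinianRing Γ(X, ⊤) := by
    algebraize [(f.appTop).hom]
    exact IsArtinianRing.of_finite Γ(Spec (CommRingCat.of A), ⊤) Γ(X, ⊤)
  haveI : DiscreteTopology ↥(Spec Γ(X, ⊤)) :=
    inferInstanceAs (DiscreteTopology (PrimeSpectrum Γ(X, ⊤)))
  exact X.isoSpec.hom.homeomorph.symm.discreteTopology

set_option backward.isDefEq.respectTransparency.types false in
/-- (D1) -/
theorem isFinite_of_discreteTopology {A : Type u} [CommRing A] [IsArtinianRing A]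
    {X : Scheme.{u}} (f : X ⟶ Spec (CommRingCat.of A)) [LocallyOfFiniteType f] [QuasiCompact f]
    [DiscreteTopology X] : IsFinite f := by
  haveI : CompactSpace X := QuasiCompact.compactSpace_of_compactSpace f
  haveI : Finite X := finite_of_compact_of_discrete
  haveI : IsAffine X := inferInstance
  haveI : IsNoetherianRing (CommRingCat.of A) := inferInstanceAs (IsNoetherianRing A)
  haveI : IsLocallyNoetherian X := LocallyOfFiniteType.isLocallyNoetherian f
  haveI : IsLocallyArtinian X := .of_isLocallyNoetherian_of_discreteTopology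
  haveI : IsArtinianRing Γ(X, ⊤) := inferInstance
  haveI : IsArtinianRing Γ(Spec (CommRingCat.of A), ⊤) :=
    (Scheme.ΓSpecIso (CommRingCat.of A)).commRingCatIsoToRingEquiv.symm.isArtinianRing
  have hft : (f.appTop).hom.FiniteType :=
    HasRingHomProperty.appTop (P := @LocallyOfFiniteType) f inferInstance
  rw [HasAffineProperty.iff_of_isAffine (P := @IsFinite)]
  refine ⟨inferInstance, ?_⟩
  algebraize [(f.appTop).hom]
  exact (Module.finite_iff_isArtinianRing _ _).mpr inferInstance

end Groth.Agent.H63.HomArtDisc
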