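import Mathlib
import Groth.Agent.H63.HomArtProper
import Groth.Agent.H63.GrpKernel
import Groth.Agent.H63.HomArtDisc

/-! SGA3 VI_B 1.4.1: a quasi-compact homomorphism between group schemes lft over a local artinian
ring is finite iff its kernel is discrete (helper63). -/

set_option autoImplicit false
universe u
open CategoryTheory CategoryTheory.Limits AlgebraicGeometry MonoidalCategory CartesianMonoidalCategory MonObj GrpObj

namespace Groth.Agent.H63.HomArtFinite

open Groth.Agent.H63.HomArtProper

variable (A : Type u) [CommRing A] [IsArtinianRing A] [IsLocalRing A]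

/-- finite kernel implies finite fibres -/
theorem locallyQuasiFinite_hom_of_kernel {S : Scheme.{u}} (G H : Over S) [GrpObj G] [GrpObj H]
    (u : G ⟶ H) [IsMonHom u] [LocallyOfFiniteType u.left] [QuasiCompact u.left]
    (hker : IsFinite (pullback.snd u.left (η[H] : 𝟙_ (Over S) ⟶ H).left)) :
    LocallyQuasiFinite u.left := by
  let N : Over S := pullback u η[H]
  let i : N ⟶ G := pullback.fst u η[H]
  have hN : AlgGrp.IsKernel i u := by
    have h := IsPullback.of_hasPullback u η[H]
    rwa [toUnit_unique (pullback.snd u η[H]) (toUnit N)] at h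
  have hK : IsPullback (fst G N).left (fst G N * (snd G N ≫ i)).left u.left u.left :=
    (Groth.Agent.H63.GrpKernel.kernel_sq u i hN).map (Over.forget _)
  have hP : IsPullback (pullback.fst u η[H]).left (pullback.snd u η[H]).left u.left
      (η[H] : 𝟙_ (Over S) ⟶ H).left := (IsPullback.of_hasPullback u η[H]).map (Over.forget _)
  haveI : IsFinite (pullback.snd u η[H]).left := by
    rw [← hP.isoPullback_hom_snd]
    infer_instance
  haveI : IsIso (𝟙_ (Over S)).hom := inferInstanceAs (IsIso (𝟙 S))
  haveI : IsFinite N.hom := by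
    rw [← Over.w (pullback.snd u η[H])]; infer_instance
  haveI : IsFinite (fst G N).left := inferInstanceAs (IsFinite (pullback.fst G.hom N.hom))
  apply LocallyQuasiFinite.of_finite_preimage_singleton
  intro h
  by_cases hh : ∃ g, u.left g = h
  · obtain ⟨g, rfl⟩ := hh
    refine ((fst G N).left.finite_preimage_singleton g).image
      ((fst G N * (snd G N ≫ i)).left) |>.subset ?_
    intro g' hg'
    obtain ⟨z, hz1, hz2⟩ := Scheme.exists_preimage_of_isPullback hK g g' hg'.symm
    exact ⟨z, hz1, hz2⟩
  · convert Set.finite_empty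
    rw [Set.eq_empty_iff_forall_notMem]
    intro g hg
    exact hh ⟨g, hg⟩

/-- SGA3 VI_B 1.4.1 -/
theorem isFinite_hom_iff (G H : Over (Spec (CommRingCat.of A))) [GrpObj G] [GrpObj H]
    [LocallyOfFiniteType G.hom] [LocallyOfFiniteType H.hom] (u : G ⟶ H) [IsMonHom u]
    [QuasiCompact u.left] :
    IsFinite u.left ↔ DiscreteTopology ↥(pullback u.left
      (η[H] : 𝟙_ (Over (Spec (CommRingCat.of A))) ⟶ H).left) := by
  haveI : LocallyOfFiniteType (u.left ≫ H.hom) := by rw [Over.w]; infer_instance
  haveI : LocallyOfFiniteType u.left := locallyOfFiniteType_of_comp _ H.hom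
  constructor
  · intro hfin
    exact Groth.Agent.H63.HomArtDisc.discreteTopology_of_isFinite (A := A)
      (f := (pullback.snd u.left (η[H] : 𝟙_ (Over (Spec (CommRingCat.of A))) ⟶ H).left :
        _ ⟶ Spec (CommRingCat.of A)))
  · intro hdisc
    have hfin : IsFinite (pullback.snd u.left
        (η[H] : 𝟙_ (Over (Spec (CommRingCat.of A))) ⟶ H).left) :=
      Groth.Agent.H63.HomArtDisc.isFinite_of_discreteTopology (A := A)
        (f := (pullback.snd u.left (η[H] : 𝟙_ (Over (Spec (CommRingCat.of A))) ⟶ H).left :
          _ ⟶ Spec (CommRingCat.of A)))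
    haveI : IsProper u.left := isProper_hom_of_kernel A G H u inferInstance
    haveI : LocallyQuasiFinite u.left := locallyQuasiFinite_hom_of_kernel G H u hfin
    rw [IsFinite.iff_isProper_and_locallyQuasiFinite]
    exact ⟨inferInstance, inferInstance⟩

end Groth.Agent.H63.HomArtFinite
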