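import Mathlib
import Groth.Agent.H63.HomArtBC
import Groth.Agent.H63.HomArtRed
import Groth.Agent.H63.HomArtBase
import Groth.Agent.H22.UnivOpenDesc
import Groth.Agent.H93.FlatOpenRange

/-! SGA3 VI_B 1.2: a homomorphism with open image between group schemes lft over a local artinian
ring is universally open (helper63). -/

set_option autoImplicit false
universe u
open CategoryTheory CategoryTheory.Limits AlgebraicGeometry MonoidalCategory CartesianMonoidalCategory MonObj GrpObj

namespace Groth.Agent.H63.HomArtOpen

open Groth.Agent.H22.UnivOpenDesc Groth.Agent.H63.HomArtBase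


section field

variable {K : Type u} [Field K] [IsAlgClosed K]

/-- over an algebraically closed field: a homomorphism with open image between lft group schemes
is universally open -/
theorem universallyOpen_hom_field (G H : Over (Spec (CommRingCat.of K))) [GrpObj G] [GrpObj H]
    [LocallyOfFiniteType G.hom] [LocallyOfFiniteType H.hom] (u : G ⟶ H) [IsMonHom u]
    (hu : IsOpen (Set.range u.left)) : UniversallyOpen u.left := by
  obtain ⟨Gr, Hr, strG, strH, rG, rH, v, hmG, hmH, hmv, hciG, hsG, hciH, hsH, hredG, hredH, hv⟩ :=
    Groth.Agent.H63.HomArtRed.exists_reduced_hom u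
  have hv' : v.left ≫ rH.left = rG.left ≫ u.left := by
    have := congrArg CommaMorphism.left hv
    simpa using this
  haveI : LocallyOfFiniteType Gr.hom := by rw [← Over.w rG]; infer_instance
  haveI : LocallyOfFiniteType Hr.hom := by rw [← Over.w rH]; infer_instance
  -- the range of `v` is open
  have hrange : Set.range v.left = rH.left ⁻¹' (Set.range u.left) := by
    ext x
    constructor
    · rintro ⟨g, rfl⟩
      refine ⟨rG.left g, ?_⟩
      rw [← Scheme.Hom.comp_apply, ← hv', Scheme.Hom.comp_apply]
    · rintro ⟨g, hg⟩
      obtain ⟨g', rfl⟩ := hsG.surj g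
      refine ⟨g', ?_⟩
      apply rH.left.isClosedEmbedding.injective
      rw [← hg, ← Scheme.Hom.comp_apply, hv', Scheme.Hom.comp_apply]
  have hopen : IsOpen (Set.range v.left) := by
    rw [hrange]
    exact hu.preimage rH.left.continuous
  haveI : Flat v.left := Groth.Agent.H93.FlatOpenRange.flat_of_isOpen_range Gr Hr v hopen
  haveI : LocallyOfFiniteType v.left := by
    haveI : LocallyOfFiniteType (v.left ≫ Hr.hom) := by rw [Over.w v]; infer_instance
    exact locallyOfFiniteType_of_comp v.left Hr.hom
  haveI : IsLocallyNoetherian Hr.left := LocallyOfFiniteType.isLocallyNoetherian Hr.hom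
  haveI : LocallyOfFinitePresentation v.left := inferInstance
  haveI : UniversallyOpen v.left := UniversallyOpen.of_flat v.left
  haveI : UniversallyOpen rH.left := by
    apply universallyOpen_of_isClosedImmersion
    convert isOpen_univ
    rw [Set.eq_univ_iff_forall]
    exact hsH.surj
  haveI : UniversallyOpen (rG.left ≫ u.left) := by rw [← hv']; infer_instance
  exact universallyOpen_of_comp_surjective rG.left u.left

end field

section main

variable (A : Type u) [CommRing A] [IsArtinianRing A] [IsLocalRing A]

/-- SGA3 VI_B 1.2 (ii) ⇒ (i) -/
theorem universallyOpen_hom (G H : Over (Spec (CommRingCat.of A))) [GrpObj G] [GrpObj H]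
    [LocallyOfFiniteType G.hom] [LocallyOfFiniteType H.hom] (u : G ⟶ H) [IsMonHom u]
    (hu : IsOpen (Set.range u.left)) : UniversallyOpen u.left := by
  letI : GrpObj ((Over.pullback (b A)).obj G) := Functor.grpObjObj
  letI : GrpObj ((Over.pullback (b A)).obj H) := Functor.grpObjObj
  haveI : IsMonHom ((Over.pullback (b A)).map u) := inferInstance
  haveI : LocallyOfFiniteType ((Over.pullback (b A)).obj G).hom :=
    inferInstanceAs (LocallyOfFiniteType (pullback.snd G.hom (b A)))
  haveI : LocallyOfFiniteType ((Over.pullback (b A)).obj H).hom :=
    inferInstanceAs (LocallyOfFiniteType (pullback.snd H.hom (b A)))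
  have sq := Groth.Agent.H63.HomArtBC.isPullback_baseChange (b A) u
  have hu₁ : IsOpen (Set.range ((Over.pullback (b A)).map u).left) := by
    have := Scheme.image_preimage_eq_of_isPullback sq Set.univ
    rw [Set.preimage_univ, Set.image_univ, Set.image_univ] at this
    rw [this]
    exact hu.preimage (pullback.fst H.hom (b A)).continuous
  haveI : UniversallyOpen ((Over.pullback (b A)).map u).left :=
    universallyOpen_hom_field _ _ ((Over.pullback (b A)).map u) hu₁
  exact universallyOpen_of_isPullback sq

end main

end Groth.Agent.H63.HomArtOpen
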