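import Mathlib
import Groth.Prelude
import Groth.Agent.H20.InfGrp_GL1
import Groth.Agent.H77.InfGrp_GL2
import Groth.Agent.H76.InfGrp_SH
import Groth.Agent.H51.Reduced

set_option autoImplicit false
universe u
open CategoryTheory CategoryTheory.Limits MonoidalCategory CartesianMonoidalCategory MonObj GrpObj AlgebraicGeometry

namespace Groth.Agent.H63.InfGrpMain

theorem main (S : Scheme.{u}) [IsReduced S]
    (I : Over S) [GrpObj I] [IsCommMonObj I] [IsFinite I.hom]
    (hconn : ∀ s : S, ConnectedSpace ↥(I.hom.fiber s)) :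
    IsZero ((BigSite.resEt Scheme.fppfPrecoverage S).obj (CGrpSh.pts Scheme.fppfPrecoverage I)) := by
  apply Groth.Agent.H76.InfGrp_SH.isZero_resEt_pts S I
  intro U σ
  haveI hU : Etale ((EtFppf.a S).obj U).hom := U.prop
  haveI : IsReduced ((EtFppf.a S).obj U).left :=
    Groth.Agent.H51.isReduced_of_smooth ((EtFppf.a S).obj U).hom
  apply Over.OverMorphism.ext
  refine Groth.Agent.H77.InfGrp_GL2.eq_of_forall_residueField σ.left
    (1 : (EtFppf.a S).obj U ⟶ I).left I.hom ?_ ?_
  · rw [Over.w, Over.w]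
  · intro x
    apply Groth.Agent.H20.InfGrp_GL1.comp_eq_of_field I hconn
      ↑(((EtFppf.a S).obj U).left.residueField x)
    rw [Category.assoc, Category.assoc, Over.w, Over.w]

end Groth.Agent.H63.InfGrpMain
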