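import Mathlib
import Groth.Prelude.Def_Red2
import Groth.Prelude.Def_ActBC
import Groth.Agent.H43.LSDefs
set_option autoImplicit false
universe u
open CategoryTheory Limits MonoidalCategory CartesianMonoidalCategory MonObj GrpObj AlgebraicGeometry
open Groth.Agent.H43.LS

namespace Groth.Agent.H63.LS_RED

/-- The group algebra of `ℤ^r` over a reduced ring is reduced. -/
theorem isReduced_monoidAlgebra (R : Type u) [CommRing R] [_root_.IsReduced R] (r : ℕ) :
    _root_.IsReduced (MonoidAlgebra R (Multiplicative (Fin r → ℤ))) := by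
  refine ⟨fun x hx => ?_⟩
  have key : ∀ m, x.coeff m = 0 := by
    intro m
    have hmem : x.coeff m ∈ nilradical R := by
      rw [nilradical_eq_sInf, Ideal.mem_sInf]
      intro p hp
      haveI : p.IsPrime := hp
      have hnil : IsNilpotent (MonoidAlgebra.mapRingHom (Multiplicative (Fin r → ℤ))
          (Ideal.Quotient.mk p) x) := hx.map _
      have h0 := hnil.eq_zero
      have h1 := MonoidAlgebra.coeff_mapRingHom (M := Multiplicative (Fin r → ℤ))
        (Ideal.Quotient.mk p) x m
      rw [h0] at h1
      rw [← Ideal.Quotient.eq_zero_iff_mem, ← h1]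
      rfl
    rw [nilradical_eq_zero] at hmem
    exact (Ideal.mem_bot (R := R)).1 hmem
  ext m
  rw [key m]
  rfl


/-- Base change of `Spec Z[ℤ^r] ⟶ Spec Z` to a reduced affine scheme is reduced. -/
theorem isReduced_pullback_Spec' (Z : Type u) [CommRing Z] (r : ℕ) (A : CommRingCat.{u})
    [_root_.IsReduced A] (h : Spec A ⟶ Spec (CommRingCat.of Z)) :
    IsReduced (pullback (Spec.map (CommRingCat.ofHom (algebraMap Z
        (MonoidAlgebra Z (Multiplicative (Fin r → ℤ)))))) h) := by
  let φ : CommRingCat.of Z ⟶ A := Spec.preimage h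
  have hφ : Spec.map φ = h := Spec.map_preimage h
  letI : Algebra Z A := φ.hom.toAlgebra
  have hφ' : CommRingCat.ofHom (algebraMap Z A) = φ := rfl
  rw [← hφ, ← hφ']
  let e := pullbackSpecIso Z (MonoidAlgebra Z (Multiplicative (Fin r → ℤ))) A
  haveI hred : _root_.IsReduced (TensorProduct Z
      (MonoidAlgebra Z (Multiplicative (Fin r → ℤ))) A) := by
    haveI := isReduced_monoidAlgebra A r
    let ψ := ((Algebra.TensorProduct.comm Z
      (MonoidAlgebra Z (Multiplicative (Fin r → ℤ))) A).trans
      ((MonoidAlgebra.scalarTensorEquiv (M := Multiplicative (Fin r → ℤ)) Z A).restrictScalars Z))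
    exact isReduced_of_injective ψ.toRingEquiv.toRingHom ψ.injective
  haveI : IsReduced (Spec (CommRingCat.of (TensorProduct Z
      (MonoidAlgebra Z (Multiplicative (Fin r → ℤ))) A))) := inferInstance
  exact isReduced_of_isOpenImmersion e.hom

theorem isReduced_pullback_Spec (r : ℕ) (A : CommRingCat.{u}) [_root_.IsReduced A]
    (h : Spec A ⟶ Spec (CommRingCat.of (ULift.{u} ℤ))) :
    IsReduced (pullback (Red.diag (ULift.{u} ℤ) (Fin r → ℤ)).hom h) :=
  isReduced_pullback_Spec' (ULift.{u} ℤ) r A h

/-- `D_S(ℤ^r)` is reduced over a reduced base. -/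
theorem isReduced_DS (S' : Scheme.{u}) [IsReduced S'] (r : ℕ) :
    IsReduced (Red.DS S' (Fin r → ℤ)).left := by
  show IsReduced (pullback (Red.diag (ULift.{u} ℤ) (Fin r → ℤ)).hom
    (Limits.IsTerminal.from specULiftZIsTerminal S'))
  let C := Scheme.Pullback.openCoverOfRight S'.affineCover
    (Red.diag (ULift.{u} ℤ) (Fin r → ℤ)).hom (Limits.IsTerminal.from specULiftZIsTerminal S')
  haveI : ∀ i, IsReduced (C.X i) := by
    intro (i : S'.affineCover.I₀)
    haveI : IsOpenImmersion (S'.affineCover.f i) := S'.affineCover.map_prop i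
    haveI : IsReduced (S'.affineCover.X i) := isReduced_of_isOpenImmersion (S'.affineCover.f i)
    have hA : _root_.IsReduced (S'.local_affine i).choose_spec.choose :=
      (affine_isReduced_iff _).1 ‹IsReduced (S'.affineCover.X i)›
    haveI := hA
    exact isReduced_pullback_Spec r _ _
  exact IsReduced.of_openCover _ C

/-- (LS-RED) for helper43's S16621 squad: a locally split torus over a reduced base is reduced. -/
theorem isReduced_of_locSplit {S : Scheme.{u}} [IsReduced S] {T : Over S} [GrpObj T]
    (hT : ∀ s : S, ∃ U : S.Opens, s ∈ U ∧ ∃ r : ℕ,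
      Red.IsSplitTorusWith (Fin r → ℤ) (Red.bc U.ι T)) : IsReduced T.left := by
  haveI : ∀ x : T.left, _root_.IsReduced (T.left.presheaf.stalk x) := by
    intro x
    obtain ⟨U, hsU, r, ⟨e⟩⟩ := hT (T.hom x)
    let e1 : Red.bc U.ι T ≅ Red.DS U.toScheme (Fin r → ℤ) := (Grp.forget _).mapIso e
    let e2 : (Red.bc U.ι T).left ≅ (Red.DS U.toScheme (Fin r → ℤ)).left :=
      (Over.forget _).mapIso e1
    haveI : IsReduced (Red.DS U.toScheme (Fin r → ℤ)).left := isReduced_DS U.toScheme r
    haveI : IsReduced (Red.bc U.ι T).left := isReduced_of_isOpenImmersion e2.hom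
    have hx : x ∈ Set.range (pullback.fst T.hom U.ι) := by
      rw [Scheme.Pullback.range_fst]
      show T.hom x ∈ Set.range U.ι
      rw [Scheme.Opens.range_ι]
      exact hsU
    obtain ⟨y, rfl⟩ := hx
    have hinj : Function.Injective ((pullback.fst T.hom U.ι).stalkMap y).hom :=
      (ConcreteCategory.bijective_of_isIso ((pullback.fst T.hom U.ι).stalkMap y)).1
    haveI : IsReduced (pullback T.hom U.ι) := ‹IsReduced (Red.bc U.ι T).left›
    exact isReduced_of_injective _ hinj
  exact isReduced_of_isReduced_stalk T.left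

end Groth.Agent.H63.LS_RED
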