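import Mathlib

/-!
# Moving marked points of the trivial first-order deformation of a smooth algebra
-/

set_option autoImplicit false
universe u v
open TrivSqZeroExt

namespace Groth.Agent.H63.MarkedAut

theorem exists_markedAut
    (k : Type u) [Field k] (A : Type u) [CommRing A] [Algebra k A] [Algebra.FormallySmooth k A]
    {ι : Type v} [Finite ι] (q : ι → (A →ₐ[k] k)) (hq : Function.Injective q)
    (q' : ι → (DualNumber A →ₐ[k] DualNumber k))
    (hε : ∀ i, q' i DualNumber.eps = DualNumber.eps) (hq' : ∀ i x, (q' i x).fst = q i x.fst) :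
    ∃ φ : DualNumber A ≃ₐ[k] DualNumber A,
      φ DualNumber.eps = DualNumber.eps ∧ (∀ x, (φ x).fst = x.fst) ∧
        ∀ i x, (q' i (φ x)).fst = q i x.fst ∧ (q' i (φ x)).snd = q i x.snd := by
  classical
  let E : Subalgebra k (DualNumber A) :=
    { carrier := {x | ∀ i, snd (q' i x) = 0}
      mul_mem' := by
        intro a b ha hb i
        have ha' := ha i
        have hb' := hb i
        simp [snd_mul, ha', hb']
      add_mem' := by
        intro a b ha hb i
        have ha' := ha i
        have hb' := hb i
        simp [ha', hb']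
      one_mem' := by
        intro i
        simp
      zero_mem' := by
        intro i
        simp
      algebraMap_mem' := by
        intro c i
        rw [AlgHom.commutes]
        simp [TrivSqZeroExt.algebraMap_eq_inl] }
  have hEmem : ∀ x : DualNumber A, x ∈ E ↔ ∀ i, snd (q' i x) = 0 := fun x => Iff.rfl
  let fE : E →ₐ[k] A := (TrivSqZeroExt.fstHom k A A).comp E.val
  have hfE : ∀ x : E, fE x = fst (x : DualNumber A) := fun x => rfl
  -- CRT
  have hmax : ∀ j, (RingHom.ker (q j).toRingHom).IsMaximal := fun j =>
    RingHom.ker_isMaximal_of_surjective _ (fun c => ⟨algebraMap k _ c, by simp⟩)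
  have hcop : Pairwise (fun j j' => IsCoprime (RingHom.ker (q j).toRingHom)
      (RingHom.ker (q j').toRingHom)) := by
    intro j j' hne
    rw [Ideal.isCoprime_iff_sup_eq]
    refine Ideal.IsMaximal.coprime_of_ne (hmax j) (hmax j') ?_
    intro heq
    apply hne
    apply hq
    ext x
    have h1 : x - algebraMap k _ (q j x) ∈ RingHom.ker (q j).toRingHom := by
      rw [RingHom.mem_ker]; simp
    rw [heq, RingHom.mem_ker] at h1
    have h2 : q j' x - q j x = 0 := by simpa using h1
    exact (sub_eq_zero.mp h2).symm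
  have hCRT : ∀ t : ι → k, ∃ c : A, ∀ j, q j c = t j := by
    intro t
    obtain ⟨c, hc⟩ := Ideal.exists_forall_sub_mem_ideal hcop (fun j => algebraMap k A (t j))
    refine ⟨c, fun j => ?_⟩
    have := hc j
    rw [RingHom.mem_ker] at this
    have h2 : q j c - t j = 0 := by simpa using this
    exact sub_eq_zero.mp h2
  have hmulε : ∀ (i : ι) (c : A), snd (q' i (inl c * DualNumber.eps)) = q i c := by
    intro i c
    rw [map_mul, hε, snd_mul]
    have := hq' i (inl c)
    rw [fst_inl] at this
    simp [this]
  have hsurj : Function.Surjective fE := by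
    intro a
    obtain ⟨c, hc⟩ := hCRT (fun i => snd (q' i (inl a)))
    have hmem : (inl a : DualNumber A) - inl c * DualNumber.eps ∈ E := by
      rw [hEmem]
      intro i
      rw [map_sub, snd_sub, hmulε, hc, sub_self]
    refine ⟨⟨_, hmem⟩, ?_⟩
    rw [hfE]
    simp
  have hker : IsNilpotent (RingHom.ker (fE : E →+* A)) := by
    refine ⟨2, ?_⟩
    rw [Ideal.zero_eq_bot, eq_bot_iff]
    have h2 : RingHom.ker (fE : E →+* A) ^ 2 =
        RingHom.ker (fE : E →+* A) * RingHom.ker (fE : E →+* A) := pow_two _
    rw [h2]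
    refine Ideal.mul_le.mpr ?_
    intro x hx y hy
    rw [RingHom.mem_ker] at hx hy
    have hx' : fst (x : DualNumber A) = 0 := hx
    have hy' : fst (y : DualNumber A) = 0 := hy
    rw [Ideal.mem_bot]
    apply Subtype.ext
    change (x : DualNumber A) * (y : DualNumber A) = 0
    ext
    · simp [hx']
    · simp [hx', hy']
  let σ : A →ₐ[k] E :=
    Algebra.FormallySmooth.liftOfSurjective (AlgHom.id k A) fE hsurj hker
  have hσ : ∀ a, fst ((σ a : E) : DualNumber A) = a := fun a =>
    Algebra.FormallySmooth.liftOfSurjective_apply (AlgHom.id k A) fE hsurj hker a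
  have hσq : ∀ i a, q' i ((σ a : E) : DualNumber A) = inl (q i a) := by
    intro i a
    ext
    · rw [hq', hσ, fst_inl]
    · rw [(σ a).2 i, snd_inl]
  let φ₀ : DualNumber A →ₐ[k] DualNumber A :=
    DualNumber.lift ⟨(E.val.comp σ, DualNumber.eps), DualNumber.eps_mul_eps,
      fun _ => DualNumber.commute_eps_left _⟩
  have hφ₀ : ∀ x, φ₀ x = ((σ (fst x) : E) : DualNumber A) +
      ((σ (snd x) : E) : DualNumber A) * DualNumber.eps := fun x =>
    DualNumber.lift_apply_apply _ x
  have hfst : ∀ x, fst (φ₀ x) = fst x := by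
    intro x
    rw [hφ₀]
    simp [hσ]
  have hsnd : ∀ x, snd (φ₀ x) = snd ((σ (fst x) : E) : DualNumber A) + snd x := by
    intro x
    rw [hφ₀]
    simp [hσ]
  have hbij : Function.Bijective φ₀ := by
    constructor
    · intro x y hxy
      have h1 : fst x = fst y := by rw [← hfst x, ← hfst y, hxy]
      have h2 := congrArg snd hxy
      rw [hsnd, hsnd, h1] at h2
      exact TrivSqZeroExt.ext h1 (add_left_cancel h2)
    · intro y
      refine ⟨(fst y, snd y - snd ((σ (fst y) : E) : DualNumber A)), ?_⟩
      apply TrivSqZeroExt.ext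
      · rw [hfst]; rfl
      · rw [hsnd]
        change snd ((σ (fst y) : E) : DualNumber A) + (snd y - snd ((σ (fst y) : E) : DualNumber A))
          = snd y
        abel
  refine ⟨AlgEquiv.ofBijective φ₀ hbij, ?_, ?_, ?_⟩
  · rw [AlgEquiv.coe_ofBijective]
    exact DualNumber.lift_apply_eps _
  · intro x
    rw [AlgEquiv.coe_ofBijective]
    exact hfst x
  · intro i x
    rw [AlgEquiv.coe_ofBijective, hφ₀, map_add, map_mul, hσq, hσq, hε]
    constructor
    · simp
    · simp

end Groth.Agent.H63.MarkedAut
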