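import Mathlib
import Groth.Prelude.Def_AlgGrp
import Groth.Agent.H63.OrbitLC3
import Groth.Agent.S14480
import Groth.Agent.S14901

/-!
# Dimension of orbit boundaries (helper63)
-/

set_option autoImplicit false
set_option linter.style.haveILetI false
universe u
open CategoryTheory CategoryTheory.Limits AlgebraicGeometry MonoidalCategory
  CartesianMonoidalCategory MonObj Topology TopologicalSpace

namespace Groth.Agent.H63.OrbitDim

open Groth.Agent.H63.OrbitLC Groth.Agent.H54

section Top

/-- points of the closure of the image of a noetherian sober space are specializations of the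
images of finitely many points -/
theorem exists_finite_specializes {A B : Type*} [TopologicalSpace A] [TopologicalSpace B]
    [NoetherianSpace A] [QuasiSober A] (o : A → B) (ho : Continuous o) :
    ∃ F : Finset A, ∀ z ∈ closure (Set.range o), ∃ g ∈ F, o g ⤳ z := by
  classical
  rcases isEmpty_or_nonempty A with hA | hA
  · refine ⟨∅, fun z hz => ?_⟩
    have h0 : Set.range o = ∅ := Set.range_eq_empty o
    rw [h0, closure_empty] at hz
    exact absurd hz (Set.notMem_empty z)
  have hfin : (irreducibleComponents A).Finite := NoetherianSpace.finite_irreducibleComponents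
  have hgen : ∀ Z ∈ irreducibleComponents A, ∃ gp : A, closure {gp} = Z := by
    intro Z hZ
    have hirr : IsIrreducible Z := hZ.1
    have hcl : IsClosed Z := isClosed_of_mem_irreducibleComponents Z hZ
    exact ⟨hirr.genericPoint, hirr.closure_genericPoint hcl⟩
  choose! gp hgp using hgen
  refine ⟨hfin.toFinset.image gp, ?_⟩
  intro z hz
  have hC : IsClosed (⋃ Z ∈ irreducibleComponents A, closure {o (gp Z)}) :=
    hfin.isClosed_biUnion fun _ _ => isClosed_closure
  have hsub : Set.range o ⊆ ⋃ Z ∈ irreducibleComponents A, closure {o (gp Z)} := by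
    rintro _ ⟨g, rfl⟩
    have hZ := irreducibleComponent_mem_irreducibleComponents g
    refine Set.mem_biUnion hZ ?_
    have h1 : g ∈ closure {gp (irreducibleComponent g)} := by
      rw [hgp _ hZ]
      exact mem_irreducibleComponent
    have h2 : gp (irreducibleComponent g) ⤳ g := specializes_iff_mem_closure.mpr h1
    exact specializes_iff_mem_closure.mp (h2.map ho)
  have hz' := closure_minimal hsub hC hz
  obtain ⟨Z, hZ, hzZ⟩ := Set.mem_iUnion₂.mp hz'
  refine ⟨gp Z, ?_, specializes_iff_mem_closure.mpr hzZ⟩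
  exact Finset.mem_image_of_mem _ (hfin.mem_toFinset.mpr hZ)

theorem topologicalKrullDim_eq_bot_of_isEmpty (T : Type*) [TopologicalSpace T] [IsEmpty T] :
    topologicalKrullDim T = ⊥ := by
  haveI : IsEmpty (IrreducibleCloseds T) := ⟨fun Z => by
    obtain ⟨t, -⟩ := Z.isIrreducible.nonempty
    exact isEmptyElim t⟩
  exact Order.krullDim_eq_bot

end Top

section Field

variable {k : Type u} [Field k] {G X : Over (Spec (CommRingCat.of k))} [GrpObj G]
  (a : AlgGrp.Action G X) (x : 𝟙_ (Over (Spec (CommRingCat.of k))) ⟶ X)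

/-- the boundary of an orbit has smaller dimension than the orbit -/
theorem dim_boundary_lt [LocallyOfFiniteType G.hom] [QuasiCompact G.hom]
    [LocallyOfFiniteType X.hom] :
    topologicalKrullDim ↥(closure (Set.range (a.orbitMap x).left.base) \
        Set.range (a.orbitMap x).left.base) <
      topologicalKrullDim ↥(Set.range (a.orbitMap x).left.base) := by
  classical
  set o := (a.orbitMap x).left with ho
  set O := Set.range o.base with hO
  have hlc : IsLocallyClosed O := isLocallyClosed_range_orbitMap' a x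
  have hlc' : IsLocallyClosed O := hlc
  obtain ⟨W, Z, hWo, hZc, hOWZ⟩ := hlc
  have hOW : O = W ∩ closure O := by
    apply Set.Subset.antisymm
    · intro y hy
      exact ⟨(hOWZ ▸ hy : y ∈ W ∩ Z).1, subset_closure hy⟩
    · rintro y ⟨hyW, hyc⟩
      have hcZ : closure O ⊆ Z := closure_minimal (hOWZ ▸ Set.inter_subset_right) hZc
      rw [hOWZ]
      exact ⟨hyW, hcZ hyc⟩
  -- tdeg of points of `O` is bounded by `dim O`
  have hle : ∀ ξ ∈ O, (tdeg X.hom ξ : WithBot ℕ∞) ≤ topologicalKrullDim ↥O := by
    intro ξ hξ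
    have hξW : ξ ∈ W := (hOW ▸ hξ : ξ ∈ W ∩ closure O).1
    have h1 := Groth.Agent.S14901.tdeg_le_dim_inter X.hom ξ ⟨W, hWo⟩ hξW
    refine h1.trans ?_
    have hsub : ((⟨W, hWo⟩ : X.left.Opens) : Set X.left) ∩ closure ({ξ} : Set X.left) ⊆ O := by
      rintro y ⟨hyW, hyc⟩
      rw [hOW]
      exact ⟨hyW, closure_mono (Set.singleton_subset_iff.mpr hξ) hyc⟩
    exact (Topology.IsEmbedding.inclusion hsub).isInducing.topologicalKrullDim_le
  -- finitely many generic points
  haveI : IsLocallyNoetherian G.left := LocallyOfFiniteType.isLocallyNoetherian G.hom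
  haveI : CompactSpace G.left := QuasiCompact.compactSpace_of_compactSpace G.hom
  haveI : IsNoetherian G.left := {}
  haveI : NoetherianSpace G.left := inferInstance
  obtain ⟨F, hF⟩ := exists_finite_specializes o.base o.base.hom.continuous
  have hFne : F.Nonempty := by
    let e₀ : G.left := η[G].left.base (IsLocalRing.closedPoint k)
    obtain ⟨g, hg, -⟩ := hF (o.base e₀) (subset_closure ⟨e₀, rfl⟩)
    exact ⟨g, hg⟩
  obtain ⟨g₀, hg₀F, hg₀⟩ := Finset.exists_max_image F (fun g => tdeg X.hom (o.base g)) hFne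
  have hM : (tdeg X.hom (o.base g₀) : WithBot ℕ∞) ≤ topologicalKrullDim ↥O :=
    hle _ ⟨g₀, rfl⟩
  have hlt : ∀ z ∈ closure O \ O, tdeg X.hom z < tdeg X.hom (o.base g₀) := by
    rintro z ⟨hzc, hzO⟩
    obtain ⟨g, hgF, hgz⟩ := hF z hzc
    have hne : o.base g ≠ z := fun h => hzO (h ▸ ⟨g, rfl⟩)
    exact lt_of_lt_of_le (tdeg_lt_of_specializes X.hom hgz hne) (hg₀ g hgF)
  have hDc : IsClosed (closure O \ O) := by
    have h : IsOpen (closure O \ O)ᶜ :=
      hlc'.isOpen_coborder
    exact isOpen_compl_iff.mp h
  rcases Nat.eq_zero_or_pos (tdeg X.hom (o.base g₀)) with h0 | hpos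
  · haveI : IsEmpty ↥(closure O \ O) := ⟨fun z => by
      have := hlt z.1 z.2
      omega⟩
    rw [topologicalKrullDim_eq_bot_of_isEmpty]
    exact lt_of_lt_of_le (WithBot.bot_lt_coe _) hM
  · have h1 : topologicalKrullDim ↥(closure O \ O) ≤ ((tdeg X.hom (o.base g₀) - 1 : ℕ) : ℕ) :=
      Groth.Agent.S14480.topologicalKrullDim_closed_le_of_forall_tdeg_le X.hom _ hDc _
        (fun z hz => by have := hlt z hz; omega)
    refine lt_of_le_of_lt h1 (lt_of_lt_of_le ?_ hM)
    have : tdeg X.hom (o.base g₀) - 1 < tdeg X.hom (o.base g₀) := by omega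
    exact_mod_cast this

end Field

end Groth.Agent.H63.OrbitDim
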