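import Mathlib
import Groth.Prelude.Def_ChGrp
import Groth.Prelude.Def_ActBC
import Groth.Agent.H63.Rigid5
import Groth.Agent.H63.ProperGamma
import Groth.Agent.S5342

/-!
# Actions of connected groups on products with an anti-affine (e.g. proper) factor

* `action_of_splitEpi`: an action on `P` descends along a split epi `π : P ⟶ X` as soon as
  `π ∘ act` factors through `G × X`.
* `exists_act_fst`, `exists_act_snd`: for a connected group `G` acting on `X × Y` the first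
  component of the action does not depend on `Y` if `Y` has only constant global functions
  (rigidity), and symmetrically.
-/

set_option autoImplicit false
universe u
open CategoryTheory CategoryTheory.Limits MonoidalCategory CartesianMonoidalCategory MonObj
  AlgebraicGeometry

namespace Groth.Agent.H63.ProdAction

open AlgGrp.Action

section General

variable {S : Scheme.{u}} {G P X : Over S} [GrpObj G]

/-- an action descends along an equivariant split epimorphism -/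
theorem action_of_splitEpi (a : AlgGrp.Action G P) (π : P ⟶ X) (σ : X ⟶ P) (hσ : σ ≫ π = 𝟙 X)
    (β : G ⊗ X ⟶ X) (hβ : a.act ≫ π = (G ◁ π) ≫ β) : ∃ b : AlgGrp.Action G X, b.act = β := by
  have key : ∀ {T : Over S} (g : T ⟶ G) (p : T ⟶ P),
      lift g p ≫ a.act ≫ π = lift g (p ≫ π) ≫ β := by
    intro T g p
    rw [hβ, lift_whiskerLeft_assoc]
  have key' : ∀ {T : Over S} (g : T ⟶ G) (x : T ⟶ X),
      lift g x ≫ β = lift g (x ≫ σ) ≫ a.act ≫ π := by
    intro T g x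
    rw [key, Category.assoc, hσ, Category.comp_id]
  refine ⟨{ act := β, one_act := ?_, mul_act := ?_ }, rfl⟩
  · apply hom_ext_lift₂
    intro T u x
    rw [lift_whiskerRight_assoc, leftUnitor_hom, lift_snd, key',
      toUnit_unique u (toUnit T), ← Hom.one_def, lift_one_act_assoc, Category.assoc, hσ,
      Category.comp_id]
  · apply hom_ext_lift₃
    intro T g g' x
    rw [lift_whiskerRight_assoc, ← Hom.mul_def, lift_lift_associator_hom_assoc,
      lift_whiskerLeft_assoc, key', lift_mul_act_assoc, key, key' g' x, Category.assoc]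

end General

section Field

variable {k : Type u} [Field k] {G X Y : Over (Spec (CommRingCat.of k))} [GrpObj G]

/-- the first component of an action on `X × Y` is independent of `Y` when `Y` is anti-affine -/
theorem exists_act_fst [ConnectedSpace G.left] [LocallyOfFiniteType G.hom]
    [LocallyOfFiniteType X.hom] [ConnectedSpace X.left] [IsSeparated X.hom]
    [QuasiCompact Y.hom] [QuasiSeparated Y.hom]
    (hY : Function.Bijective ((Scheme.ΓSpecIso (CommRingCat.of k)).inv ≫ Y.hom.appTop).hom)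
    (x₁ : 𝟙_ (Over (Spec (CommRingCat.of k))) ⟶ X) (y₀ : 𝟙_ (Over (Spec (CommRingCat.of k))) ⟶ Y)
    (a : AlgGrp.Action G (X ⊗ Y)) :
    ∃ b : AlgGrp.Action G X, a.act ≫ fst X Y = (G ◁ fst X Y) ≫ b.act := by
  haveI : Subsingleton ↥(Spec (CommRingCat.of k)) :=
    inferInstanceAs (Subsingleton (PrimeSpectrum k))
  -- the parameter space `G × X`
  haveI : ConnectedSpace (G ⊗ X).left :=
    Groth.Agent.S5342.result k G.left X.left G.hom X.hom η[G].left (Over.w η[G])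
  haveI : LocallyOfFiniteType (G ⊗ X).hom := by
    rw [Over.tensorObj_hom]; infer_instance
  haveI : IsLocallyNoetherian (G ⊗ X).left := LocallyOfFiniteType.isLocallyNoetherian (G ⊗ X).hom
  obtain ⟨θ, hθ⟩ : ∃ θ : Y ⊗ (G ⊗ X) ⟶ G ⊗ (X ⊗ Y),
      θ = lift (snd Y (G ⊗ X) ≫ fst G X) (lift (snd Y (G ⊗ X) ≫ snd G X) (fst Y (G ⊗ X))) :=
    ⟨_, rfl⟩
  have hθp : ∀ {T : Over (Spec (CommRingCat.of k))} (y : T ⟶ Y) (g : T ⟶ G) (x : T ⟶ X),
      lift y (lift g x) ≫ θ = lift g (lift x y) := by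
    intro T y g x
    rw [hθ, comp_lift, comp_lift, lift_snd_assoc, lift_fst, lift_snd_assoc, lift_snd, lift_fst]
  obtain ⟨F, hF⟩ : ∃ F : Y ⊗ (G ⊗ X) ⟶ X, F = θ ≫ a.act ≫ fst X Y := ⟨_, rfl⟩
  obtain ⟨t₀, ht₀⟩ : ∃ t₀ : 𝟙_ (Over (Spec (CommRingCat.of k))) ⟶ G ⊗ X, t₀ = lift η[G] x₁ :=
    ⟨_, rfl⟩
  have hgood : Groth.Agent.H63.Rigid.Good y₀ F t₀ := by
    unfold Groth.Agent.H63.Rigid.Good
    apply hom_ext_lift₂
    intro T y u
    have hu : u = toUnit T := toUnit_unique _ _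
    have L : lift y u ≫ (Y ◁ t₀) ≫ F = u ≫ x₁ := by
      rw [lift_whiskerLeft_assoc, ht₀, comp_lift, hF, ← Category.assoc, hθp, hu, ← Hom.one_def,
        lift_one_act_assoc, lift_fst]
    have R : lift y u ≫ snd Y _ ≫ t₀ ≫ Groth.Agent.H63.Rigid.sec y₀ (G ⊗ X) ≫ F = u ≫ x₁ := by
      have e : u ≫ t₀ ≫ Groth.Agent.H63.Rigid.sec y₀ (G ⊗ X) =
          lift (toUnit T ≫ y₀) (lift (u ≫ η[G]) (u ≫ x₁)) := by
        unfold Groth.Agent.H63.Rigid.sec
        rw [comp_lift, comp_lift, Category.comp_id, ht₀, comp_lift]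
        congr 1
        rw [← Category.assoc, ← Category.assoc]
        congr 1
        exact toUnit_unique _ _
      rw [lift_snd_assoc, ← Category.assoc, ← Category.assoc, Category.assoc u, e, hF,
        ← Category.assoc, hθp, hu, ← Hom.one_def, lift_one_act_assoc, lift_fst]
    rw [L, R]
  have key := Groth.Agent.H63.Rigid.rigidity y₀ F hY t₀ hgood
  obtain ⟨β, hβdef⟩ : ∃ β : G ⊗ X ⟶ X, β = Groth.Agent.H63.Rigid.sec y₀ (G ⊗ X) ≫ F := ⟨_, rfl⟩
  have hβ : a.act ≫ fst X Y = (G ◁ fst X Y) ≫ β := by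
    apply hom_ext_lift₂
    intro T g p
    have hp : p = lift (p ≫ fst X Y) (p ≫ snd X Y) := (lift_comp_fst_snd p).symm
    rw [lift_whiskerLeft_assoc]
    conv_lhs => rw [hp, ← hθp (p ≫ snd X Y) g (p ≫ fst X Y), Category.assoc, ← hF, key]
    rw [lift_snd_assoc, hβdef]
  obtain ⟨b, hb⟩ := action_of_splitEpi a (fst X Y) (lift (𝟙 X) (toUnit X ≫ y₀)) (lift_fst _ _) β hβ
  exact ⟨b, by rw [hb]; exact hβ⟩

/-- the second component of an action on `X × Y` is independent of `X` when `X` is anti-affine -/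
theorem exists_act_snd [ConnectedSpace G.left] [LocallyOfFiniteType G.hom]
    [LocallyOfFiniteType Y.hom] [ConnectedSpace Y.left] [IsSeparated Y.hom]
    [QuasiCompact X.hom] [QuasiSeparated X.hom]
    (hX : Function.Bijective ((Scheme.ΓSpecIso (CommRingCat.of k)).inv ≫ X.hom.appTop).hom)
    (x₀ : 𝟙_ (Over (Spec (CommRingCat.of k))) ⟶ X) (y₁ : 𝟙_ (Over (Spec (CommRingCat.of k))) ⟶ Y)
    (a : AlgGrp.Action G (X ⊗ Y)) :
    ∃ c : AlgGrp.Action G Y, a.act ≫ snd X Y = (G ◁ snd X Y) ≫ c.act := by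
  haveI : Subsingleton ↥(Spec (CommRingCat.of k)) :=
    inferInstanceAs (Subsingleton (PrimeSpectrum k))
  haveI : ConnectedSpace (G ⊗ Y).left :=
    Groth.Agent.S5342.result k G.left Y.left G.hom Y.hom η[G].left (Over.w η[G])
  haveI : LocallyOfFiniteType (G ⊗ Y).hom := by
    rw [Over.tensorObj_hom]; infer_instance
  haveI : IsLocallyNoetherian (G ⊗ Y).left := LocallyOfFiniteType.isLocallyNoetherian (G ⊗ Y).hom
  obtain ⟨θ, hθ⟩ : ∃ θ : X ⊗ (G ⊗ Y) ⟶ G ⊗ (X ⊗ Y),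
      θ = lift (snd X (G ⊗ Y) ≫ fst G Y) (lift (fst X (G ⊗ Y)) (snd X (G ⊗ Y) ≫ snd G Y)) :=
    ⟨_, rfl⟩
  have hθp : ∀ {T : Over (Spec (CommRingCat.of k))} (x : T ⟶ X) (g : T ⟶ G) (y : T ⟶ Y),
      lift x (lift g y) ≫ θ = lift g (lift x y) := by
    intro T x g y
    rw [hθ, comp_lift, comp_lift, lift_snd_assoc, lift_fst, lift_snd_assoc, lift_snd, lift_fst]
  obtain ⟨F, hF⟩ : ∃ F : X ⊗ (G ⊗ Y) ⟶ Y, F = θ ≫ a.act ≫ snd X Y := ⟨_, rfl⟩
  obtain ⟨t₀, ht₀⟩ : ∃ t₀ : 𝟙_ (Over (Spec (CommRingCat.of k))) ⟶ G ⊗ Y, t₀ = lift η[G] y₁ :=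
    ⟨_, rfl⟩
  have hgood : Groth.Agent.H63.Rigid.Good x₀ F t₀ := by
    unfold Groth.Agent.H63.Rigid.Good
    apply hom_ext_lift₂
    intro T x u
    have hu : u = toUnit T := toUnit_unique _ _
    have L : lift x u ≫ (X ◁ t₀) ≫ F = u ≫ y₁ := by
      rw [lift_whiskerLeft_assoc, ht₀, comp_lift, hF, ← Category.assoc, hθp, hu, ← Hom.one_def,
        lift_one_act_assoc, lift_snd]
    have R : lift x u ≫ snd X _ ≫ t₀ ≫ Groth.Agent.H63.Rigid.sec x₀ (G ⊗ Y) ≫ F = u ≫ y₁ := by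
      have e : u ≫ t₀ ≫ Groth.Agent.H63.Rigid.sec x₀ (G ⊗ Y) =
          lift (toUnit T ≫ x₀) (lift (u ≫ η[G]) (u ≫ y₁)) := by
        unfold Groth.Agent.H63.Rigid.sec
        rw [comp_lift, comp_lift, Category.comp_id, ht₀, comp_lift]
        congr 1
        rw [← Category.assoc, ← Category.assoc]
        congr 1
        exact toUnit_unique _ _
      rw [lift_snd_assoc, ← Category.assoc, ← Category.assoc, Category.assoc u, e, hF,
        ← Category.assoc, hθp, hu, ← Hom.one_def, lift_one_act_assoc, lift_snd]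
    rw [L, R]
  have key := Groth.Agent.H63.Rigid.rigidity x₀ F hX t₀ hgood
  obtain ⟨β, hβdef⟩ : ∃ β : G ⊗ Y ⟶ Y, β = Groth.Agent.H63.Rigid.sec x₀ (G ⊗ Y) ≫ F := ⟨_, rfl⟩
  have hβ : a.act ≫ snd X Y = (G ◁ snd X Y) ≫ β := by
    apply hom_ext_lift₂
    intro T g p
    have hp : p = lift (p ≫ fst X Y) (p ≫ snd X Y) := (lift_comp_fst_snd p).symm
    rw [lift_whiskerLeft_assoc]
    conv_lhs => rw [hp, ← hθp (p ≫ fst X Y) g (p ≫ snd X Y), Category.assoc, ← hF, key]
    rw [lift_snd_assoc, hβdef]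
  obtain ⟨c, hc⟩ := action_of_splitEpi a (snd X Y) (lift (toUnit Y ≫ x₀) (𝟙 Y)) (lift_snd _ _) β hβ
  exact ⟨c, by rw [hc]; exact hβ⟩

end Field

end Groth.Agent.H63.ProdAction
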