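import Mathlib

/-! An open immersion with closed range into an affine scheme which induces an isomorphism on
global sections is an isomorphism (helper63). -/

set_option autoImplicit false
universe u
open CategoryTheory CategoryTheory.Limits AlgebraicGeometry

namespace Groth.Agent.H63.QAffFin

/-- (FIN) -/
theorem isIso_of_isClosed_range {X Z : Scheme.{u}} [IsAffine Z] (j : X ⟶ Z) [IsOpenImmersion j]
    [IsIso j.appTop] (h : IsClosed (Set.range j)) : IsIso j := by
  -- `X` is compact
  haveI : CompactSpace X := by
    have hc : IsCompact (Set.range j) := h.isCompact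
    rw [← isCompact_univ_iff]
    have := j.isOpenEmbedding.isEmbedding.isCompact_iff (s := Set.univ)
    rw [this, Set.image_univ]
    exact hc
  -- the complement of the range is empty
  have hsurj : Function.Surjective j := by
    by_contra hns
    have hne : ∃ z : Z, z ∉ Set.range j := by
      by_contra hall
      exact hns (fun z => by
        by_contra hz
        exact hall ⟨z, hz⟩)
    obtain ⟨z, hz⟩ := hne
    let V : Z.Opens := ⟨(Set.range j)ᶜ, h.isOpen_compl⟩
    have hzV : z ∈ V := hz
    obtain ⟨_, ⟨r, rfl⟩, hzr, hrV⟩ :=
      TopologicalSpace.Opens.isBasis_iff_nbhd.mp (isBasis_basicOpen Z) hzV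
    -- `j ⁻¹ (D r) = ∅`
    have hbot : X.basicOpen (j.appTop r) = ⊥ := by
      rw [← Scheme.preimage_basicOpen_top]
      ext x
      simp only [TopologicalSpace.Opens.coe_bot, Set.mem_empty_iff_false, iff_false]
      intro hx
      exact hrV hx ⟨x, rfl⟩
    have hnil : IsNilpotent (j.appTop r) := (Scheme.isNilpotent_iff_basicOpen_eq_bot _).mpr hbot
    have hnil' : IsNilpotent r := by
      obtain ⟨n, hn⟩ := hnil
      refine ⟨n, ?_⟩
      have hinj : Function.Injective j.appTop.hom :=
        ((ConcreteCategory.isIso_iff_bijective j.appTop).mp inferInstance).1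
      apply hinj
      rw [map_pow, map_zero]
      exact hn
    have : Z.basicOpen r = ⊥ := Z.basicOpen_eq_bot_of_isNilpotent ⊤ r hnil'
    rw [this] at hzr
    exact hzr
  haveI : Epi j.base := (TopCat.epi_iff_surjective _).mpr hsurj
  exact IsOpenImmersion.isIso j

end Groth.Agent.H63.QAffFin
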