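import Mathlib

/-! Künneth for global sections over a field (helper63). -/

set_option autoImplicit false
universe u
open CategoryTheory CategoryTheory.Limits AlgebraicGeometry MonoidalCategory CartesianMonoidalCategory

namespace Groth.Agent.H63.QAffKun

lemma appLE_top_top {X Y : Scheme.{u}} (f : X ⟶ Y) (e : (⊤ : X.Opens) ≤ f ⁻¹ᵁ ⊤) :
    f.appLE ⊤ ⊤ e = f.appTop :=
  (Scheme.Hom.app_eq_appLE f (U := ⊤)).symm

/-- (KU) Künneth for global sections over a field. -/
theorem isPushout_appTop {k : Type u} [Field k] (X T : Over (Spec (CommRingCat.of k)))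
    [QuasiCompact X.hom] [QuasiSeparated X.hom] [QuasiCompact T.hom] [QuasiSeparated T.hom] :
    IsPushout X.hom.appTop T.hom.appTop (fst X T).left.appTop (snd X T).left.appTop := by
  haveI : Subsingleton ↥(Spec (CommRingCat.of k)) :=
    inferInstanceAs (Subsingleton (PrimeSpectrum k))
  have H : IsPullback (pullback.fst X.hom T.hom) (pullback.snd X.hom T.hom) X.hom T.hom :=
    IsPullback.of_hasPullback _ _
  haveI : CompactSpace X.left := QuasiCompact.compactSpace_of_compactSpace X.hom
  haveI : QuasiSeparatedSpace X.left := quasiSeparatedSpace_of_quasiSeparated X.hom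
  haveI : CompactSpace T.left := QuasiCompact.compactSpace_of_compactSpace T.hom
  haveI : QuasiSeparatedSpace T.left := quasiSeparatedSpace_of_quasiSeparated T.hom
  have hUY : (⊤ : (pullback X.hom T.hom).Opens) =
      pullback.fst X.hom T.hom ⁻¹ᵁ ⊤ ⊓ pullback.snd X.hom T.hom ⁻¹ᵁ ⊤ := by simp
  have hflat : (X.hom.appLE ⊤ ⊤ (by simp)).hom.Flat := by
    have hk : IsField ↑Γ(Spec (CommRingCat.of k), ⊤) :=
      MulEquiv.isField (Field.toIsField k)
        (Scheme.ΓSpecIso (CommRingCat.of k)).commRingCatIsoToRingEquiv.toMulEquiv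
    letI := hk.toField
    rw [RingHom.Flat]
    letI := (X.hom.appLE ⊤ ⊤ (by simp)).hom.toAlgebra
    exact Module.Flat.of_free
  have hiso := isIso_pushoutSection_of_isCompact_of_flat_right_of_ringHomFlat H
    (US := ⊤) (UT := ⊤) (UX := ⊤) (by simp) (by simp) hUY (isAffineOpen_top _)
    isCompact_univ isQuasiSeparated_univ isCompact_univ isQuasiSeparated_univ hflat
  have hpo := (isIso_pushoutSection_iff H _ _ hUY).mp hiso
  have e1 : X.hom.appLE ⊤ ⊤ (by simp) = X.hom.appTop := appLE_top_top _ _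
  have e2 : T.hom.appLE ⊤ ⊤ (by simp) = T.hom.appTop := appLE_top_top _ _
  have e3 : (pullback.fst X.hom T.hom).appLE ⊤ ⊤ (by simp) = (pullback.fst X.hom T.hom).appTop :=
    appLE_top_top _ _
  have e4 : (pullback.snd X.hom T.hom).appLE ⊤ ⊤ (by simp) = (pullback.snd X.hom T.hom).appTop :=
    appLE_top_top _ _
  rw [e1, e2, e3, e4] at hpo
  exact hpo

end Groth.Agent.H63.QAffKun
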