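import Mathlib
import Groth.Agent.H63.QAffKun

/-! Global sections of a product of morphisms inducing isomorphisms on global sections
(helper63). -/

set_option autoImplicit false
universe u
open CategoryTheory CategoryTheory.Limits AlgebraicGeometry MonoidalCategory CartesianMonoidalCategory

namespace Groth.Agent.H63.QAffTen

open Groth.Agent.H63.QAffKun

/-- (TEN) -/
theorem isIso_tensorHom_appTop {k : Type u} [Field k] {X X' T T' : Over (Spec (CommRingCat.of k))}
    [QuasiCompact X.hom] [QuasiSeparated X.hom] [QuasiCompact T.hom] [QuasiSeparated T.hom]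
    [QuasiCompact X'.hom] [QuasiSeparated X'.hom] [QuasiCompact T'.hom] [QuasiSeparated T'.hom]
    (a : X ⟶ X') (b : T ⟶ T') [IsIso a.left.appTop] [IsIso b.left.appTop] :
    IsIso (a ⊗ₘ b).left.appTop := by
  have P := isPushout_appTop X T
  have P' := isPushout_appTop X' T'
  have hf : (fst X' T').left.appTop ≫ (a ⊗ₘ b).left.appTop =
      a.left.appTop ≫ (fst X T).left.appTop := by
    rw [← Scheme.Hom.comp_appTop, ← Scheme.Hom.comp_appTop, ← Over.comp_left, ← Over.comp_left,
      tensorHom_fst]
  have hs : (snd X' T').left.appTop ≫ (a ⊗ₘ b).left.appTop =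
      b.left.appTop ≫ (snd X T).left.appTop := by
    rw [← Scheme.Hom.comp_appTop, ← Scheme.Hom.comp_appTop, ← Over.comp_left, ← Over.comp_left,
      tensorHom_snd]
  have hX : X.hom.appTop = X'.hom.appTop ≫ a.left.appTop := by
    rw [← Scheme.Hom.comp_appTop, Over.w]
  have hT : T.hom.appTop = T'.hom.appTop ≫ b.left.appTop := by
    rw [← Scheme.Hom.comp_appTop, Over.w]
  have hcompat : X.hom.appTop ≫ inv a.left.appTop ≫ (fst X' T').left.appTop =
      T.hom.appTop ≫ inv b.left.appTop ≫ (snd X' T').left.appTop := by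
    rw [hX, hT, Category.assoc, Category.assoc, IsIso.hom_inv_id_assoc, IsIso.hom_inv_id_assoc]
    exact P'.w
  let v := P.desc (inv a.left.appTop ≫ (fst X' T').left.appTop)
    (inv b.left.appTop ≫ (snd X' T').left.appTop) hcompat
  have hv1 : (fst X T).left.appTop ≫ v = inv a.left.appTop ≫ (fst X' T').left.appTop :=
    P.inl_desc _ _ _
  have hv2 : (snd X T).left.appTop ≫ v = inv b.left.appTop ≫ (snd X' T').left.appTop :=
    P.inr_desc _ _ _
  refine ⟨⟨v, ?_, ?_⟩⟩
  · apply P'.hom_ext
    · rw [← Category.assoc, hf, Category.assoc, hv1, IsIso.hom_inv_id_assoc, Category.comp_id]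
    · rw [← Category.assoc, hs, Category.assoc, hv2, IsIso.hom_inv_id_assoc, Category.comp_id]
  · apply P.hom_ext
    · rw [← Category.assoc, hv1, Category.assoc, hf, IsIso.inv_hom_id_assoc, Category.comp_id]
    · rw [← Category.assoc, hv2, Category.assoc, hs, IsIso.inv_hom_id_assoc, Category.comp_id]

end Groth.Agent.H63.QAffTen
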