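import Mathlib
import Groth.Agent.S8033
import Groth.Agent.H63.QAffTen
import Groth.Agent.H63.QAffFin
import Groth.Agent.H62.QAffEXT
import Groth.Agent.H62.QAffGRP

/-! SGA3 VI_B 11.11: a quasi-affine group scheme of finite type over a field is affine (helper63). -/

set_option autoImplicit false
universe u
open CategoryTheory CategoryTheory.Limits AlgebraicGeometry MonoidalCategory CartesianMonoidalCategory MonObj GrpObj

namespace Groth.Agent.H63.QAffMain

open Groth.Agent.H63.QAffTen Groth.Agent.H63.QAffFin Groth.Agent.H62.QAffEXT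

variable {k : Type u} [Field k]

theorem isAffine_of_isQuasiAffine (G : Over (Spec (CommRingCat.of k))) [GrpObj G]
    [QuasiCompact G.hom] [G.left.IsQuasiAffine] : IsAffine G.left := by
  -- the affine hull
  let zhom : Spec Γ(G.left, ⊤) ⟶ Spec (CommRingCat.of k) :=
    Spec.map G.hom.appTop ≫ inv (Spec (CommRingCat.of k)).toSpecΓ
  let Z : Over (Spec (CommRingCat.of k)) := Over.mk zhom
  have hw : G.left.toSpecΓ ≫ zhom = G.hom := by
    simp only [zhom]
    rw [← Category.assoc, ← Scheme.toSpecΓ_naturality, Category.assoc, IsIso.hom_inv_id,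
      Category.comp_id]
  let j : G ⟶ Z := Over.homMk G.left.toSpecΓ hw
  haveI : IsAffine Z.left := inferInstanceAs (IsAffine (Spec Γ(G.left, ⊤)))
  haveI hj1 : IsIso j.left.appTop := by
    show IsIso (G.left.toSpecΓ.appTop)
    rw [Scheme.toSpecΓ_appTop]
    infer_instance
  haveI : QuasiSeparated G.hom := inferInstance
  haveI : QuasiCompact Z.hom := inferInstanceAs (QuasiCompact zhom)
  haveI : QuasiSeparated Z.hom := inferInstanceAs (QuasiSeparated zhom)
  haveI hj2 : IsIso (j ⊗ₘ j).left.appTop := isIso_tensorHom_appTop j j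
  haveI : QuasiCompact (G ⊗ G).hom := by
    rw [Over.tensorObj_hom]; infer_instance
  haveI : QuasiSeparated (G ⊗ G).hom := by
    rw [Over.tensorObj_hom]; infer_instance
  haveI : QuasiCompact (Z ⊗ Z).hom := by
    rw [Over.tensorObj_hom]; infer_instance
  haveI : QuasiSeparated (Z ⊗ Z).hom := by
    rw [Over.tensorObj_hom]; infer_instance
  haveI hj3 : IsIso ((j ⊗ₘ j) ⊗ₘ j).left.appTop := isIso_tensorHom_appTop (j ⊗ₘ j) j
  obtain ⟨str, hmon⟩ := Groth.Agent.H62.QAffGRP.exists_grpObj_of_ext j
    (fun φ => existsUnique_ext j φ) (fun φ => existsUnique_ext (j ⊗ₘ j) φ)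
    (fun f g h => by
      obtain ⟨_, _, huniq⟩ := existsUnique_ext ((j ⊗ₘ j) ⊗ₘ j) (((j ⊗ₘ j) ⊗ₘ j) ≫ g)
      exact (huniq f h).trans (huniq g rfl).symm)
  haveI : IsOpenImmersion j.left := inferInstanceAs (IsOpenImmersion G.left.toSpecΓ)
  have hcl : IsClosed (Set.range j.left) :=
    Groth.Agent.S8033.isClosed_range_openSubgroup k Z G j
  haveI : IsIso j.left := isIso_of_isClosed_range j.left hcl
  exact IsAffine.of_isIso j.left

end Groth.Agent.H63.QAffMain
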