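import Mathlib
import Groth.Prelude.Def_AlgGrp
import Groth.Prelude.Def_AGF
import Groth.Prelude.Def_RedSub
import Groth.Agent.H63.QuotTower
import Groth.Agent.H63.Blanchard2
import Groth.Agent.H48.FppfSource

/-!
# From an fppf quotient map `q : G ⟶ X` to an action of `G` on `X` (helper63)
-/

set_option autoImplicit false
set_option linter.style.haveILetI false
universe u
open CategoryTheory CategoryTheory.Limits AlgebraicGeometry MonoidalCategory
  CartesianMonoidalCategory MonObj

namespace Groth.Agent.H63.QuotAdapt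

open Groth.Agent.H63.EquivFlat Groth.Agent.H63.GrpExt

variable {S : Scheme.{u}}

theorem effectiveEpi_whiskerLeft (T : Over S) {G X : Over S} (q : G ⟶ X) [Surjective q.left]
    [Flat q.left] [LocallyOfFinitePresentation q.left] : EffectiveEpi (T ◁ q).left := by
  have SQw : IsPullback (snd T G).left (T ◁ q).left q.left (snd T X).left :=
    (sq_snd' T q).map (Over.forget _)
  haveI : Surjective (T ◁ q).left :=
    MorphismProperty.of_isPullback (P := @Surjective) SQw inferInstance
  haveI : Flat (T ◁ q).left := MorphismProperty.of_isPullback (P := @Flat) SQw inferInstance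
  haveI : LocallyOfFinitePresentation (T ◁ q).left :=
    MorphismProperty.of_isPullback (P := @LocallyOfFinitePresentation) SQw inferInstance
  infer_instance

theorem epi_whiskerLeft (T : Over S) {G X : Over S} (q : G ⟶ X) [Surjective q.left]
    [Flat q.left] [LocallyOfFinitePresentation q.left] : Epi (T ◁ q) := by
  haveI := effectiveEpi_whiskerLeft T q
  haveI : Epi (T ◁ q).left := inferInstance
  exact Groth.Agent.H40.FpqcDesc.epi_of_epi_left (T ◁ q)

variable {k : Type u} [Field k]

theorem exists_action_of_isQuotient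
    {G H X : Over (Spec (CommRingCat.of k))} [GrpObj G] [GrpObj H] [LocallyOfFiniteType G.hom]
    (i : H ⟶ G) [IsMonHom i] (q : G ⟶ X) (hq : RedSub.IsQuotient i q) :
    ∃ (a : AlgGrp.Action G X) (o : 𝟙_ (Over (Spec (CommRingCat.of k))) ⟶ X),
      a.orbitMap o = q ∧ AGF.IsQuotient i X a o := by
  obtain ⟨hs, hfl, hfp, hpb⟩ := hq
  haveI := hs; haveI := hfl; haveI := hfp
  have hX : LocallyOfFiniteType X.hom := by
    haveI : LocallyOfFiniteType (q.left ≫ X.hom) := by rw [Over.w q]; infer_instance
    exact Groth.Agent.H48.FppfSource.locallyOfFiniteType_of_comp_fppf q.left X.hom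
  haveI := effectiveEpi_whiskerLeft G q
  obtain ⟨β, hβ⟩ := Groth.Agent.H40.FpqcDesc.exists_desc (G ◁ q) (μ[G] ≫ q) (fun W h₁ h₂ e => by
    have e1 : h₁ ≫ fst G G = h₂ ≫ fst G G := by
      have := congrArg (· ≫ fst G X) e
      simpa only [Category.assoc, whiskerLeft_fst] using this
    have e2 : (h₁ ≫ snd G G) ≫ q = (h₂ ≫ snd G G) ≫ q := by
      have := congrArg (· ≫ snd G X) e
      simpa only [Category.assoc, whiskerLeft_snd] using this
    obtain ⟨h, hh⟩ := Groth.Agent.H63.QuotTower.exists_mul_of_eq i q hpb _ _ e2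
    have m1 : h₁ ≫ μ[G] = (h₁ ≫ fst G G) * (h₁ ≫ snd G G) := by
      rw [Hom.mul_def]
      congr 1
      apply CartesianMonoidalCategory.hom_ext
      · rw [lift_fst]
      · rw [lift_snd]
    have m2 : h₂ ≫ μ[G] = (h₂ ≫ fst G G) * (h₂ ≫ snd G G) := by
      rw [Hom.mul_def]
      congr 1
      apply CartesianMonoidalCategory.hom_ext
      · rw [lift_fst]
      · rw [lift_snd]
    rw [← Category.assoc, ← Category.assoc, m1, m2, hh, ← e1, ← _root_.mul_assoc,
      Groth.Agent.H63.QuotTower.mul_comp_eq i q hpb])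
  obtain ⟨a, ha⟩ := Groth.Agent.H63.Blanchard.action_of_epi (mulAction G) q β
    (by show μ[G] ≫ q = _; rw [hβ])
    (fun u v e => by haveI := epi_whiskerLeft (𝟙_ _) q; exact (cancel_epi _).mp e)
    (fun u v e => by haveI := epi_whiskerLeft (G ⊗ G) q; exact (cancel_epi _).mp e)
  have horb : a.orbitMap (η[G] ≫ q) = q := by
    unfold AlgGrp.Action.orbitMap
    rw [ha]
    have h1 : lift (𝟙 G) (toUnit G ≫ η[G] ≫ q) = lift (𝟙 G) (toUnit G ≫ η[G]) ≫ (G ◁ q) := by
      rw [lift_whiskerLeft, Category.assoc]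
    rw [h1, Category.assoc, hβ, ← Category.assoc, ← Hom.mul_def, ← Hom.one_def, _root_.mul_one,
      Category.id_comp]
  refine ⟨a, η[G] ≫ q, horb, hX, ?_, ?_, ?_⟩
  · rw [horb]; exact hfl
  · rw [horb]; exact hs
  · rw [horb]; exact hpb

end Groth.Agent.H63.QuotAdapt
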