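import Mathlib
import Groth.Prelude.Def_AlgGrp
import Groth.Prelude.Def_AGF
import Groth.Agent.H63.QuotTower
import Groth.Agent.H12.NoethTop

/-!
# Quotients by open-image subgroups are finite (helper63)
-/

set_option autoImplicit false
set_option linter.style.haveILetI false
universe u
open CategoryTheory CategoryTheory.Limits AlgebraicGeometry MonoidalCategory
  CartesianMonoidalCategory MonObj Topology TopologicalSpace

namespace Groth.Agent.H63.QuotFinite

open Groth.Agent.H63.EquivFlat Groth.Agent.H63.ActionTranslate Groth.Agent.H63.GrpExt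
  Groth.Agent.H63.QuotTower

variable {k : Type u} [Field k]

/-- If the "subgroup" `r₀ : G₀ → G` has open image and `π : G → X` is an fppf quotient by it, the
diagonal of `X` has open image. -/
theorem isOpen_range_diagonal {G G₀ X : Over (Spec (CommRingCat.of k))} [GrpObj G] [GrpObj G₀]
    (r₀ : G₀ ⟶ G) [IsMonHom r₀] [Mono r₀] (hopen : IsOpen (Set.range r₀.left.base))
    (π : G ⟶ X) [Flat π.left] [Surjective π.left] [LocallyOfFinitePresentation π.left]
    (hpb : IsPullback (fst G G₀) ((G ◁ r₀) ≫ μ[G]) π π) :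
    IsOpen (Set.range (lift (𝟙 X) (𝟙 X)).left.base) := by
  have hκμ : (G ◁ r₀) ≫ μ[G] = fst G G₀ * (snd G G₀ ≫ r₀) := by
    have h := comp_whiskerLeft_mul r₀ (𝟙 (G ⊗ G₀))
    simpa only [Category.id_comp] using h
  let κ : G ⊗ G₀ ⟶ G ⊗ G := lift (fst G G₀) ((G ◁ r₀) ≫ μ[G])
  let δ : G ⊗ G ⟶ G := (fst G G)⁻¹ * snd G G
  have SQδ : IsPullback κ (snd G G₀) δ r₀ := by
    refine Groth.Agent.H40.FpqcFam.isPullback_of_pts ?_ ?_
    · change lift (fst G G₀) ((G ◁ r₀) ≫ μ[G]) ≫ ((fst G G)⁻¹ * snd G G) = _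
      rw [MonObj.comp_mul, GrpObj.comp_inv, lift_fst, lift_snd, hκμ, _root_.inv_mul_cancel_left]
    · intro T x y hxy
      have h1 : x ≫ snd G G = (x ≫ fst G G) * (y ≫ r₀) := by
        rw [← hxy]
        change _ = (x ≫ fst G G) * (x ≫ ((fst G G)⁻¹ * snd G G))
        rw [MonObj.comp_mul, GrpObj.comp_inv, _root_.mul_inv_cancel_left]
      have hp : lift (x ≫ fst G G) y ≫ κ = x := by
        change lift (x ≫ fst G G) y ≫ lift (fst G G₀) ((G ◁ r₀) ≫ μ[G]) = x
        apply CartesianMonoidalCategory.hom_ext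
        · rw [Category.assoc, lift_fst, lift_fst]
        · rw [Category.assoc, lift_snd, hκμ, MonObj.comp_mul, lift_fst, lift_snd_assoc, h1]
      refine ⟨lift (x ≫ fst G G) y, ⟨hp, lift_snd _ _⟩, ?_⟩
      rintro q ⟨hq1, hq2⟩
      apply CartesianMonoidalCategory.hom_ext
      · rw [lift_fst, ← hq1]
        change q ≫ fst G G₀ = (q ≫ lift (fst G G₀) ((G ◁ r₀) ≫ μ[G])) ≫ fst G G
        rw [Category.assoc, lift_fst]
      · rw [lift_snd, hq2]
  have SQδ' : IsPullback κ.left (snd G G₀).left δ.left r₀.left := SQδ.map (Over.forget _)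
  have hrκ : Set.range κ.left.base = δ.left.base ⁻¹' (Set.range r₀.left.base) := by
    ext z
    constructor
    · rintro ⟨w, rfl⟩
      have h := congrArg (fun t => t.base w) SQδ'.w
      simp only [Scheme.Hom.comp_base, TopCat.comp_app] at h
      exact ⟨(snd G G₀).left.base w, h.symm⟩
    · rintro ⟨y, hy⟩
      obtain ⟨p, hp, -⟩ := exists_preimage_of_isPullback SQδ' z y hy.symm
      exact ⟨p, hp⟩
  have hκopen : IsOpen (Set.range κ.left.base) := by
    rw [hrκ]
    exact hopen.preimage δ.left.continuous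
  haveI : UniversallyOpen π.left := inferInstance
  haveI : UniversallyOpen (π ⊗ₘ π).left := by
    rw [Over.tensorHom_left]
    exact MorphismProperty.pullbackMap (P := @UniversallyOpen) (inferInstance : UniversallyOpen π.left)
      (inferInstance : UniversallyOpen π.left) (Over.w π).symm (Over.w π).symm
  have hopenmap : IsOpenMap (π ⊗ₘ π).left.base := (π ⊗ₘ π).left.isOpenMap
  have himg : (π ⊗ₘ π).left.base '' (Set.range κ.left.base) =
      Set.range (lift (𝟙 X) (𝟙 X)).left.base := by
    have e1 : κ ≫ (π ⊗ₘ π) = (fst G G₀ ≫ π) ≫ lift (𝟙 X) (𝟙 X) := by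
      change lift (fst G G₀) ((G ◁ r₀) ≫ μ[G]) ≫ (π ⊗ₘ π) = _
      rw [lift_map, comp_lift, Category.comp_id, hpb.w]
    have e2 : lift (𝟙 G) (toUnit G ≫ η[G₀]) ≫ κ = lift (𝟙 G) (𝟙 G) := by
      change lift (𝟙 G) (toUnit G ≫ η[G₀]) ≫ lift (fst G G₀) ((G ◁ r₀) ≫ μ[G]) = _
      apply CartesianMonoidalCategory.hom_ext
      · rw [Category.assoc, lift_fst, lift_fst, lift_fst]
      · rw [Category.assoc, lift_snd, lift_snd, hκμ, MonObj.comp_mul, lift_fst, lift_snd_assoc,
          Category.assoc, IsMonHom.one_hom, ← Hom.one_def, _root_.mul_one]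
    have e3 : lift (𝟙 G) (𝟙 G) ≫ (π ⊗ₘ π) = π ≫ lift (𝟙 X) (𝟙 X) := by
      rw [lift_map, comp_lift, Category.comp_id, Category.id_comp]
    ext z
    constructor
    · rintro ⟨_, ⟨w, rfl⟩, rfl⟩
      have h := congrArg (fun t => t.left.base w) e1
      simp only [Over.comp_left, Scheme.Hom.comp_base, TopCat.comp_app] at h
      exact ⟨_, h.symm⟩
    · rintro ⟨x, rfl⟩
      obtain ⟨g, rfl⟩ := π.left.surjective x
      refine ⟨κ.left.base ((lift (𝟙 G) (toUnit G ≫ η[G₀])).left.base g), ⟨_, rfl⟩, ?_⟩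
      have h2 := congrArg (fun t => t.left.base g) e2
      simp only [Over.comp_left, Scheme.Hom.comp_base, TopCat.comp_app] at h2
      have h3 := congrArg (fun t => t.left.base g) e3
      simp only [Over.comp_left, Scheme.Hom.comp_base, TopCat.comp_app] at h3
      rw [h2, h3]
  rw [← himg]
  exact hopenmap _ hκopen

/-- A `k`-scheme whose diagonal has open image is discrete. -/
theorem discreteTopology_of_isOpen_range_diagonal {X : Over (Spec (CommRingCat.of k))}
    (hΔ : IsOpen (Set.range (lift (𝟙 X) (𝟙 X)).left.base)) : DiscreteTopology X.left := by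
  rw [discreteTopology_iff_isOpen_singleton]
  intro x
  let jx : Spec (X.left.residueField x) ⟶ X.left := X.left.fromSpecResidueField x
  let Tₒ : Over (Spec (CommRingCat.of k)) := Over.mk (jx ≫ X.hom)
  let jₒ : Tₒ ⟶ X := Over.homMk jx rfl
  haveI : IsIntegral (Spec (CommRingCat.of k)) := inferInstance
  haveI : Subsingleton (Spec (CommRingCat.of k)) :=
    inferInstanceAs (Subsingleton (PrimeSpectrum k))
  haveI : UniversallyOpen Tₒ.hom := inferInstance
  haveI : UniversallyOpen (snd Tₒ X).left := by rw [Over.snd_left]; infer_instance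
  have hO : IsOpen ((jₒ ▷ X).left.base ⁻¹' Set.range (lift (𝟙 X) (𝟙 X)).left.base) :=
    hΔ.preimage (jₒ ▷ X).left.continuous
  have himg := (snd Tₒ X).left.isOpenMap _ hO
  have hjx : ∀ t, jₒ.left.base t = x := fun t => Scheme.fromSpecResidueField_apply _ _
  convert himg using 1
  ext x'
  constructor
  · rintro rfl
    obtain ⟨t₀⟩ : Nonempty (Spec (X.left.residueField x')) := inferInstance
    refine ⟨(lift (𝟙 Tₒ) jₒ).left.base t₀, ?_, ?_⟩
    · have e : lift (𝟙 Tₒ) jₒ ≫ (jₒ ▷ X) = jₒ ≫ lift (𝟙 X) (𝟙 X) := by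
        rw [lift_whiskerRight, comp_lift, Category.id_comp, Category.comp_id]
      have h := congrArg (fun t => t.left.base t₀) e
      simp only [Over.comp_left, Scheme.Hom.comp_base, TopCat.comp_app] at h
      exact ⟨_, h.symm⟩
    · have e : lift (𝟙 Tₒ) jₒ ≫ snd Tₒ X = jₒ := lift_snd _ _
      have h := congrArg (fun t => t.left.base t₀) e
      simp only [Over.comp_left, Scheme.Hom.comp_base, TopCat.comp_app] at h
      rw [h]
      exact hjx t₀
  · rintro ⟨w, ⟨x'', hx''⟩, rfl⟩
    have e1 : (jₒ ▷ X) ≫ fst X X = fst Tₒ X ≫ jₒ := whiskerRight_fst _ _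
    have e2 : (jₒ ▷ X) ≫ snd X X = snd Tₒ X := whiskerRight_snd _ _
    have h1 := congrArg (fun t => t.left.base w) e1
    have h2 := congrArg (fun t => t.left.base w) e2
    simp only [Over.comp_left, Scheme.Hom.comp_base, TopCat.comp_app] at h1 h2
    have e3 : lift (𝟙 X) (𝟙 X) ≫ fst X X = 𝟙 X := lift_fst _ _
    have e4 : lift (𝟙 X) (𝟙 X) ≫ snd X X = 𝟙 X := lift_snd _ _
    have h3 := congrArg (fun t => t.left.base x'') e3
    have h4 := congrArg (fun t => t.left.base x'') e4
    simp only [Over.comp_left, Scheme.Hom.comp_base, TopCat.comp_app, Over.id_left,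
      Scheme.Hom.id_base, TopCat.id_app] at h3 h4
    rw [hx''] at h3 h4
    rw [h1, hjx] at h3
    rw [h2] at h4
    change (snd Tₒ X).left.base w = x
    rw [h4, ← h3]

/-- A quasi-compact, locally finite type, discrete `k`-scheme is finite. -/
theorem isFinite_of_discreteTopology (X : Over (Spec (CommRingCat.of k)))
    [LocallyOfFiniteType X.hom] [CompactSpace X.left] [DiscreteTopology X.left] :
    IsFinite X.hom := by
  haveI : IsLocallyNoetherian X.left := LocallyOfFiniteType.isLocallyNoetherian X.hom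
  haveI : IsNoetherian X.left := {}
  haveI : QuasiCompact X.hom := inferInstance
  haveI : Finite X.left := finite_of_compact_of_discrete
  haveI : LocallyQuasiFinite X.hom :=
    LocallyQuasiFinite.of_finite_preimage_singleton X.hom (fun _ => Set.toFinite _)
  haveI : IsLocallyArtinian (Spec (CommRingCat.of k)) := by
    rw [Scheme.isLocallyArtinianScheme_Spec]
    infer_instance
  exact IsFinite.of_locallyQuasiFinite X.hom

end Groth.Agent.H63.QuotFinite
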