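import Mathlib
import Groth.Prelude.Def_AGF
import Groth.Agent.H63.OrbitQuot
import Groth.Agent.H40.FpqcDesc
import Groth.Agent.H69.CharPAffine
import Groth.Agent.H69.UHSch
import Groth.Agent.S0353

/-!
# `G/H_red → G/H` is a universal homeomorphism; affineness of `G/H` vs `G/H_red`
-/

set_option autoImplicit false
universe u
open CategoryTheory CategoryTheory.Limits MonoidalCategory CartesianMonoidalCategory MonObj
  AlgebraicGeometry

namespace Groth.Agent.H63.QuotRed

section Sch

theorem universallyOpen_of_comp_surjective {X Y Z : Scheme.{u}} (f : X ⟶ Y) (g : Y ⟶ Z)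
    [UniversallyOpen (f ≫ g)] [Surjective f] : UniversallyOpen g := by
  constructor
  intro X' Y' i₁ i₂ f' H
  have h1 := UniversallyOpen.universally_isOpenMap _ _ _
    ((IsPullback.of_hasPullback i₁ f).paste_horiz H)
  have hs : Function.Surjective (pullback.fst i₁ f) :=
    (MorphismProperty.of_isPullback (P := @Surjective) (IsPullback.of_hasPullback i₁ f).flip
      ‹Surjective f›).1
  intro U hU
  have : (f' : X' → Y') '' U = ((pullback.fst i₁ f ≫ f' : _ ⟶ Y') : _ → Y') ''
      ((pullback.fst i₁ f : _ → X') ⁻¹' U) := by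
    ext y
    constructor
    · rintro ⟨x, hx, rfl⟩
      obtain ⟨w, rfl⟩ := hs x
      exact ⟨w, hx, by rw [Scheme.Hom.comp_apply]⟩
    · rintro ⟨w, hw, rfl⟩
      exact ⟨_, hw, by rw [Scheme.Hom.comp_apply]⟩
  rw [this]
  exact h1 _ (hU.preimage (pullback.fst i₁ f).continuous)

theorem isUnivHomeo_of_universallyOpen {X Y : Scheme.{u}} (f : X ⟶ Y) [UniversallyOpen f]
    [UniversallyInjective f] [Surjective f] : FlatMor.IsUnivHomeo f := by
  intro X' Y' i₁ i₂ f' h
  have h1 : UniversallyOpen f' := MorphismProperty.of_isPullback h.flip inferInstance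
  have h2 : UniversallyInjective f' := MorphismProperty.of_isPullback h.flip inferInstance
  have h3 : Surjective f' := MorphismProperty.of_isPullback h.flip inferInstance
  show IsHomeomorph f'
  exact ⟨f'.continuous, f'.isOpenMap, f'.injective, f'.surjective⟩

end Sch

section Field

variable {k : Type u} [Field k] {G H H' X X' : Over (Spec (CommRingCat.of k))} [GrpObj G]

/-- the comparison `G/H' → G/H` for a surjective `H' → H` is a universal homeomorphism -/
theorem exists_univHomeo [LocallyOfFiniteType G.hom] [LocallyOfFiniteType X.hom]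
    [LocallyOfFiniteType X'.hom] (h : H ⟶ G) (h' : H' ⟶ H) [Surjective h'.left]
    (φ : G ⟶ X) (φ' : G ⟶ X') [Flat φ.left] [Surjective φ.left] [Flat φ'.left]
    [Surjective φ'.left]
    (SQ : IsPullback (fst G H) ((G ◁ h) ≫ μ[G]) φ φ)
    (SQ' : IsPullback (fst G H') ((G ◁ (h' ≫ h)) ≫ μ[G]) φ' φ') :
    ∃ ρ : X' ⟶ X, φ' ≫ ρ = φ ∧ FlatMor.IsUnivHomeo ρ.left := by
  haveI := Groth.Agent.H40.FpqcDesc.effectiveEpi_left φ'
  have hm : (G ◁ h') ≫ (G ◁ h) ≫ μ[G] = (G ◁ (h' ≫ h)) ≫ μ[G] := by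
    rw [← Category.assoc, ← MonoidalCategory.whiskerLeft_comp]
  obtain ⟨ρ, hρ⟩ := Groth.Agent.H40.FpqcDesc.exists_desc φ' φ (fun W g₁ g₂ hg => by
    obtain ⟨l, hl1, hl2⟩ : ∃ l : W ⟶ G ⊗ H', l ≫ fst G H' = g₁ ∧
        l ≫ (G ◁ (h' ≫ h)) ≫ μ[G] = g₂ := ⟨SQ'.lift g₁ g₂ hg, SQ'.lift_fst _ _ _, SQ'.lift_snd _ _ _⟩
    have e1 : l ≫ (G ◁ h') ≫ fst G H = g₁ := by
      rw [whiskerLeft_fst, hl1]
    have e2 : l ≫ (G ◁ h') ≫ (G ◁ h) ≫ μ[G] = g₂ := by
      rw [hm, hl2]
    calc g₁ ≫ φ = (l ≫ (G ◁ h') ≫ fst G H) ≫ φ := by rw [e1]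
      _ = (l ≫ (G ◁ h') ≫ (G ◁ h) ≫ μ[G]) ≫ φ := by
        simp only [Category.assoc]; rw [SQ.w]; simp only [Category.assoc]
      _ = g₂ ≫ φ := by rw [e2])
  refine ⟨ρ, hρ, ?_⟩
  have hρl : φ'.left ≫ ρ.left = φ.left := by rw [← Over.comp_left, hρ]
  haveI : Surjective (φ'.left ≫ ρ.left) := by rw [hρl]; infer_instance
  haveI : Surjective ρ.left := Surjective.of_comp φ'.left ρ.left
  haveI := Groth.Agent.H40.FpqcDesc.locallyOfFinitePresentation_left φ
  haveI : UniversallyOpen (φ'.left ≫ ρ.left) := by rw [hρl]; infer_instance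
  haveI : UniversallyOpen ρ.left := universallyOpen_of_comp_surjective φ'.left ρ.left
  -- universal injectivity through the diagonal
  have SQl : IsPullback (fst G H).left ((G ◁ h) ≫ μ[G]).left φ.left φ.left :=
    SQ.map (Over.forget _)
  have SQl' : IsPullback (fst G H').left ((G ◁ (h' ≫ h)) ≫ μ[G]).left φ'.left φ'.left :=
    SQ'.map (Over.forget _)
  have hv : ((fst G H).left ≫ φ'.left) ≫ ρ.left = (((G ◁ h) ≫ μ[G]).left ≫ φ'.left) ≫ ρ.left := by
    rw [Category.assoc, Category.assoc, hρl, SQl.w]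
  -- `v : G × H → X' ×_X X'`
  obtain ⟨v, hv1, hv2⟩ : ∃ v : (G ⊗ H).left ⟶ pullback ρ.left ρ.left,
      v ≫ pullback.fst ρ.left ρ.left = (fst G H).left ≫ φ'.left ∧
      v ≫ pullback.snd ρ.left ρ.left = ((G ◁ h) ≫ μ[G]).left ≫ φ'.left :=
    ⟨pullback.lift _ _ hv, pullback.lift_fst _ _ _, pullback.lift_snd _ _ _⟩
  haveI hvs : Surjective v := by
    -- two successive base changes of `φ'`
    let a₁ := pullback.snd φ'.left (pullback.fst ρ.left ρ.left)
    let a₂ := pullback.snd φ'.left (a₁ ≫ pullback.snd ρ.left ρ.left)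
    haveI : Surjective a₁ := inferInstance
    haveI : Surjective a₂ := inferInstance
    let g₁ := a₂ ≫ pullback.fst φ'.left (pullback.fst ρ.left ρ.left)
    let g₂ := pullback.fst φ'.left (a₁ ≫ pullback.snd ρ.left ρ.left)
    have c1 : g₁ ≫ φ'.left = a₂ ≫ a₁ ≫ pullback.fst ρ.left ρ.left := by
      simp only [g₁, Category.assoc]; rw [pullback.condition]
    have c2 : g₂ ≫ φ'.left = a₂ ≫ a₁ ≫ pullback.snd ρ.left ρ.left := pullback.condition
    have c : g₁ ≫ φ.left = g₂ ≫ φ.left := by
      rw [← hρl, ← Category.assoc, ← Category.assoc, c1, c2]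
      simp only [Category.assoc]
      rw [pullback.condition]
    have e : SQl.lift g₁ g₂ c ≫ v = a₂ ≫ a₁ := by
      apply pullback.hom_ext
      · rw [Category.assoc, hv1, ← Category.assoc, SQl.lift_fst, c1, Category.assoc]
      · rw [Category.assoc, hv2, ← Category.assoc, SQl.lift_snd, c2, Category.assoc]
    haveI : Surjective (SQl.lift g₁ g₂ c ≫ v) := by rw [e]; infer_instance
    exact Surjective.of_comp (SQl.lift g₁ g₂ c) v
  have sqh : IsPullback (snd G H').left (G ◁ h').left h'.left (snd G H).left :=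
    (Groth.Agent.H63.EquivFlat.sq_snd' G h').map (Over.forget _)
  haveI : Surjective (G ◁ h').left :=
    MorphismProperty.of_isPullback (P := @Surjective) sqh inferInstance
  have hd : (G ◁ h').left ≫ v = ((fst G H').left ≫ φ'.left) ≫ pullback.diagonal ρ.left := by
    apply pullback.hom_ext
    · rw [Category.assoc, hv1, Category.assoc, pullback.diagonal_fst, Category.comp_id,
        ← Category.assoc, ← Over.comp_left, whiskerLeft_fst]
    · rw [Category.assoc, hv2, Category.assoc, pullback.diagonal_snd, Category.comp_id,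
        ← Category.assoc, ← Over.comp_left, hm, ← SQl'.w]
  haveI : Surjective (((fst G H').left ≫ φ'.left) ≫ pullback.diagonal ρ.left) := by
    rw [← hd]; infer_instance
  haveI : Surjective (pullback.diagonal ρ.left) :=
    Surjective.of_comp ((fst G H').left ≫ φ'.left) (pullback.diagonal ρ.left)
  haveI : UniversallyInjective ρ.left :=
    (UniversallyInjective.iff_diagonal ρ.left).mpr inferInstance
  exact isUnivHomeo_of_universallyOpen ρ.left

end Field

end Groth.Agent.H63.QuotRed
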