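import Mathlib
import Groth.Prelude.Def_AlgGrp
import Groth.Agent.H37.GrpIdComp
import Groth.Agent.H63.HomArtRed
import Groth.Agent.H63.OrbitSmooth
import Groth.Agent.H93.FlatOpenRange

/-! The homomorphism induced on reduced subgroups is flat when `u(F⁰)` is dense in `G⁰`
(helper63). -/

set_option autoImplicit false
universe u
open CategoryTheory CategoryTheory.Limits AlgebraicGeometry MonoidalCategory CartesianMonoidalCategory MonObj GrpObj

namespace Groth.Agent.H63.RedQuotFlat

variable {k : Type u} [Field k]

theorem pt' {S : Scheme.{u}} {A B C : Over S} (a : A ⟶ B) (b : B ⟶ C) (c : A ⟶ C)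
    (h : a ≫ b = c) (z : A.left) : b.left.base (a.left.base z) = c.left.base z := by
  subst h
  rfl

/-- the neutral component of a group scheme over a field is irreducible -/
theorem isIrreducible_connectedComponent (G : Over (Spec (CommRingCat.of k))) [GrpObj G]
    (p₀ : (𝟙_ (Over (Spec (CommRingCat.of k)))).left) :
    IsIrreducible (connectedComponent
      ((η[G] : 𝟙_ (Over (Spec (CommRingCat.of k))) ⟶ G).left.base p₀)) := by
  haveI : Subsingleton ↥(Spec (CommRingCat.of k)) :=
    inferInstanceAs (Subsingleton (PrimeSpectrum k))
  have hp₀ : p₀ = IsLocalRing.closedPoint k := Subsingleton.elim (α := ↥(Spec (CommRingCat.of k))) _ _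
  obtain ⟨G₀, _, incl, _, -, -, hrange, hirr, -⟩ := Groth.Agent.H37.exists_identityComponent k G
  haveI := hirr
  haveI : Nonempty ↥(Spec (CommRingCat.of k)) := ⟨IsLocalRing.closedPoint k⟩
  haveI : IrreducibleSpace G₀.left :=
    GeometricallyIrreducible.irreducibleSpace_of_subsingleton (f := G₀.hom)
  rw [hp₀, ← hrange, ← Set.image_univ]
  exact (IrreducibleSpace.isIrreducible_univ _).image _ incl.left.continuous.continuousOn

/-- (P2) -/
theorem exists_flat_reduced_hom {F G F' G' : Over (Spec (CommRingCat.of k))} [GrpObj F] [GrpObj G]
    [GrpObj F'] [GrpObj G'] [LocallyOfFiniteType F.hom] [LocallyOfFiniteType G.hom]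
    (u : F ⟶ G) [IsMonHom u]
    [IsReduced F'.left] (a : F' ⟶ F) [IsMonHom a] [IsClosedImmersion a.left] [Surjective a.left]
    [IsReduced G'.left] (b : G' ⟶ G) [IsMonHom b] [IsClosedImmersion b.left] [Surjective b.left]
    (p₀ : (𝟙_ (Over (Spec (CommRingCat.of k)))).left)
    (hc : connectedComponent ((η[G] : 𝟙_ (Over (Spec (CommRingCat.of k))) ⟶ G).left.base p₀) ⊆
      closure (u.left.base '' connectedComponent
        ((η[F] : 𝟙_ (Over (Spec (CommRingCat.of k))) ⟶ F).left.base p₀))) :
    ∃ u' : F' ⟶ G', IsMonHom u' ∧ u' ≫ b = a ≫ u ∧ Flat u'.left := by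
  -- the induced homomorphism
  obtain ⟨v₀, hv₀⟩ := Groth.Agent.H63.OrbitSmooth.exists_lift_immersion b.left
    (a.left ≫ u.left) (by
      intro x _
      exact (inferInstance : Surjective b.left).surj x)
  have hw : v₀ ≫ G'.hom = F'.hom := by
    rw [← Over.w b, ← Category.assoc, hv₀, Category.assoc, Over.w u, Over.w a]
  let u' : F' ⟶ G' := Over.homMk v₀ hw
  have hu' : u' ≫ b = a ≫ u := by
    ext
    simp only [Over.comp_left]
    exact hv₀
  haveI : Mono b.left := inferInstance
  haveI : Mono b := by
    constructor
    intro Z x y hxy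
    ext
    rw [← cancel_mono b.left]
    have := congrArg CommaMorphism.left hxy
    simpa using this
  haveI : IsMonHom (u' ≫ b) := by rw [hu']; infer_instance
  haveI hmon : IsMonHom u' := Groth.Agent.H63.HomArtRed.isMonHom_of_comp_mono u' b
  refine ⟨u', hmon, hu', ?_⟩
  -- generic points of the neutral components
  set eF := (η[F] : 𝟙_ (Over (Spec (CommRingCat.of k))) ⟶ F).left.base p₀ with heF
  set eG := (η[G] : 𝟙_ (Over (Spec (CommRingCat.of k))) ⟶ G).left.base p₀ with heG
  have hirrF : IsIrreducible (connectedComponent eF) := isIrreducible_connectedComponent F p₀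
  have hirrG : IsIrreducible (connectedComponent eG) := isIrreducible_connectedComponent G p₀
  have hclF : IsClosed (connectedComponent eF) := isClosed_connectedComponent
  have hclG : IsClosed (connectedComponent eG) := isClosed_connectedComponent
  have hζF : closure {hirrF.genericPoint} = connectedComponent eF :=
    hirrF.isGenericPoint_genericPoint hclF
  have hζG : closure {hirrG.genericPoint} = connectedComponent eG :=
    hirrG.isGenericPoint_genericPoint hclG
  set ζF := hirrF.genericPoint with hζF'
  set ζG := hirrG.genericPoint with hζG'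
  have hζFmem : ζF ∈ connectedComponent eF := by
    rw [← hζF]; exact subset_closure rfl
  have hζGmem : ζG ∈ connectedComponent eG := by
    rw [← hζG]; exact subset_closure rfl
  have hue : u.left.base eF = eG := pt' _ _ _ (IsMonHom.one_hom (f := u)) p₀
  have himg : u.left.base '' connectedComponent eF ⊆ connectedComponent eG := by
    apply IsPreconnected.subset_connectedComponent
    · exact isPreconnected_connectedComponent.image _ u.left.continuous.continuousOn
    · exact ⟨eF, mem_connectedComponent, hue⟩
  have h1 : u.left.base ζF ∈ closure {ζG} := by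
    rw [hζG]; exact himg ⟨ζF, hζFmem, rfl⟩
  have h2 : ζG ∈ closure {u.left.base ζF} := by
    have h3 : closure (u.left.base '' connectedComponent eF) ⊆ closure {u.left.base ζF} := by
      apply closure_minimal _ isClosed_closure
      rw [← hζF]
      refine (image_closure_subset_closure_image u.left.continuous).trans ?_
      rw [Set.image_singleton]
    exact h3 (hc hζGmem)
  have heq : u.left.base ζF = ζG :=
    ((specializes_iff_mem_closure.mpr h1).antisymm (specializes_iff_mem_closure.mpr h2)).symm.eq
  -- the point of `G'` over `ζG`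
  obtain ⟨ξ, hξ⟩ := (inferInstance : Surjective b.left).surj ζG
  obtain ⟨x', hx'⟩ := (inferInstance : Surjective a.left).surj ζF
  have hmem : ξ ∈ Set.range u'.left := by
    refine ⟨x', ?_⟩
    apply b.left.isClosedEmbedding.injective
    have h4 : b.left.base (u'.left.base x') = u.left.base (a.left.base x') := by
      have e1 := pt' u' b _ rfl x'
      have e2 := pt' a u _ rfl x'
      rw [e1, hu', ← e2]
    rw [h4, hx', heq, hξ]
  have hfield : IsField (G'.left.presheaf.stalk ξ) := by
    apply isField_stalk_of_closure_mem_irreducibleComponents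
    show Maximal IsIrreducible (closure {ξ})
    refine ⟨isIrreducible_singleton.closure, ?_⟩
    intro Z' hZ' hle z' hz'
    have hZc : b.left.base '' Z' ⊆ connectedComponent eG := by
      have hξZ : ξ ∈ Z' := hle (subset_closure rfl)
      have : b.left.base '' Z' ⊆ connectedComponent ζG := by
        apply IsPreconnected.subset_connectedComponent
        · exact (IsIrreducible.isConnected
            (hZ'.image _ b.left.continuous.continuousOn)).isPreconnected
        · exact ⟨ξ, hξZ, hξ⟩
      rwa [← connectedComponent_eq hζGmem] at this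
    have hz : b.left.base z' ∈ closure {b.left.base ξ} := by
      rw [hξ, hζG]; exact hZc ⟨z', hz', rfl⟩
    rw [b.left.isClosedEmbedding.isInducing.closure_eq_preimage_closure_image, Set.image_singleton]
    exact hz
  exact Groth.Agent.H93.FlatOpenRange.flat_left_of_isField' u' ξ hmem hfield

end Groth.Agent.H63.RedQuotFlat
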