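import Mathlib
import Groth.Prelude.Def_AlgGrp
import Groth.Agent.H40.TorsorSq

/-! `G' × F ≅ (X ×_Y G) ×_X F` for a `G'`-torsor `G → Y` (helper63). -/

set_option autoImplicit false
universe u
open CategoryTheory CategoryTheory.Limits AlgebraicGeometry MonoidalCategory CartesianMonoidalCategory MonObj GrpObj

namespace Groth.Agent.H63.RedQuotTheta

/-- (P3) -/
theorem isPullback_theta {S : Scheme.{u}} {F G G' X Y : Over S} [GrpObj G] [GrpObj G']
    (u : F ⟶ G) (b : G' ⟶ G) [IsMonHom b] (p : F ⟶ X) (q : G ⟶ Y)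
    (hq : IsPullback ((b ▷ G) ≫ μ[G]) (snd G' G) q q) (v : X ⟶ Y) (hv : p ≫ v = u ≫ q)
    (θ : G' ⊗ F ⟶ pullback v q) (hθ₁ : θ ≫ pullback.fst v q = snd G' F ≫ p)
    (hθ₂ : θ ≫ pullback.snd v q = (fst G' F ≫ b) * (snd G' F ≫ u)) :
    IsPullback θ (snd G' F) (pullback.fst v q) p := by
  have key : ∀ {T : Over S} (x : T ⟶ G') (y : T ⟶ G),
      lift x y ≫ (b ▷ G) ≫ μ[G] = (x ≫ b) * y := by
    intro T x y
    rw [← Category.assoc, lift_whiskerRight, Hom.mul_def]
  refine Groth.Agent.H40.FpqcFam.isPullback_of_pts hθ₁ ?_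
  intro T z f hzf
  have hg : (z ≫ pullback.snd v q) ≫ q = (f ≫ u) ≫ q := by
    rw [Category.assoc, ← pullback.condition, ← Category.assoc, hzf, Category.assoc, hv,
      Category.assoc]
  let t : T ⟶ G' ⊗ G := hq.lift (z ≫ pullback.snd v q) (f ≫ u) hg
  have ht1 : t ≫ (b ▷ G) ≫ μ[G] = z ≫ pullback.snd v q := hq.lift_fst _ _ _
  have ht2 : t ≫ snd G' G = f ≫ u := hq.lift_snd _ _ _
  have ht : t = lift (t ≫ fst G' G) (f ≫ u) := by
    apply CartesianMonoidalCategory.hom_ext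
    · rw [lift_fst]
    · rw [lift_snd, ht2]
  refine ⟨lift (t ≫ fst G' G) f, ⟨?_, lift_snd _ _⟩, ?_⟩
  · apply pullback.hom_ext
    · rw [Category.assoc, hθ₁, lift_snd_assoc, hzf]
    · rw [Category.assoc, hθ₂, MonObj.comp_mul, lift_fst_assoc, lift_snd_assoc, ← ht1]
      conv_rhs => rw [ht]
      rw [key]
  · rintro m ⟨hm1, hm2⟩
    apply CartesianMonoidalCategory.hom_ext
    · rw [lift_fst]
      have h1 : lift (m ≫ fst G' F) (f ≫ u) = t := by
        apply hq.hom_ext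
        · rw [key, ht1, ← hm1, Category.assoc m θ, hθ₂, MonObj.comp_mul, ← Category.assoc m,
            ← Category.assoc m, hm2, Category.assoc]
        · rw [lift_snd, ht2]
      rw [← h1, lift_fst]
    · rw [lift_snd, hm2]

end Groth.Agent.H63.RedQuotTheta
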