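import Mathlib
import Groth.Prelude.Def_AlgGrp
import Groth.Agent.H63.GrpHomFlat
import Groth.Agent.H40.TorsorSq
import Groth.Agent.H37.FlatHomP1
import Groth.Agent.H63.RedQuotFlat
import Groth.Agent.H63.RedQuotTheta

/-! SGA3 VI_B: flatness of a homomorphism through the reduced subgroups and the quotients by them
(helper63). -/

set_option autoImplicit false
universe u
open CategoryTheory CategoryTheory.Limits AlgebraicGeometry MonoidalCategory CartesianMonoidalCategory MonObj GrpObj

namespace Groth.Agent.H63.RedQuotMain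

open Groth.Agent.H37.FlatHomP1 Groth.Agent.H63.RedQuotFlat Groth.Agent.H63.RedQuotTheta

section Cat

variable {C : Type*} [Category C] [CartesianMonoidalCategory C]

/-- `A' × B → A × B` is the base change of `A' → A`. -/
theorem isPullback_whiskerRight {A A' : C} (f : A' ⟶ A) (B : C) :
    IsPullback (f ▷ B) (fst A' B) (fst A B) f := by
  refine Groth.Agent.H40.FpqcFam.isPullback_of_pts (whiskerRight_fst f B) ?_
  intro T x y hxy
  refine ⟨lift y (x ≫ snd A B), ⟨?_, lift_fst _ _⟩, ?_⟩
  · apply CartesianMonoidalCategory.hom_ext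
    · rw [Category.assoc, whiskerRight_fst, lift_fst_assoc, hxy]
    · rw [Category.assoc, whiskerRight_snd, lift_snd]
  · rintro m ⟨hm1, hm2⟩
    apply CartesianMonoidalCategory.hom_ext
    · rw [lift_fst, hm2]
    · rw [lift_snd, ← hm1, Category.assoc, whiskerRight_snd]

end Cat

variable {k : Type u} [Field k]

theorem flat_hom_iff (F G F' G' : Over (Spec (CommRingCat.of k))) [GrpObj F] [GrpObj G]
    [GrpObj F'] [GrpObj G'] [LocallyOfFiniteType F.hom] [LocallyOfFiniteType G.hom]
    (u : F ⟶ G) [IsMonHom u]
    [IsReduced F'.left] (a : F' ⟶ F) [IsMonHom a] [IsClosedImmersion a.left] [Surjective a.left]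
    [IsReduced G'.left] (b : G' ⟶ G) [IsMonHom b] [IsClosedImmersion b.left] [Surjective b.left]
    (X Y : Over (Spec (CommRingCat.of k))) (p : F ⟶ X) [Flat p.left] [Surjective p.left]
    (hp : IsPullback ((a ▷ F) ≫ μ[F]) (snd F' F) p p)
    (q : G ⟶ Y) [Flat q.left]
    (hq : IsPullback ((b ▷ G) ≫ μ[G]) (snd G' G) q q)
    (v : X ⟶ Y) (hv : p ≫ v = u ≫ q) :
    Flat u.left ↔
      ((∀ p₀ : (𝟙_ (Over (Spec (CommRingCat.of k)))).left,
        connectedComponent ((η[G] : (𝟙_ (Over (Spec (CommRingCat.of k)))) ⟶ G).left.base p₀) ⊆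
          closure (u.left.base '' connectedComponent
            ((η[F] : (𝟙_ (Over (Spec (CommRingCat.of k)))) ⟶ F).left.base p₀))) ∧
        Flat v.left) := by
  haveI : LocallyOfFiniteType (u.left ≫ G.hom) := by rw [Over.w]; infer_instance
  haveI : LocallyOfFiniteType u.left := locallyOfFiniteType_of_comp _ G.hom
  haveI : IsLocallyNoetherian G.left := LocallyOfFiniteType.isLocallyNoetherian G.hom
  haveI : LocallyOfFinitePresentation u.left := inferInstance
  constructor
  · intro hflat
    haveI : Flat (p.left ≫ v.left) := by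
      rw [← Over.comp_left, hv, Over.comp_left]; infer_instance
    refine ⟨fun p₀ => ?_, Groth.Agent.H63.GrpHomFlat.flat_of_flat_comp p.left v.left⟩
    haveI : UniversallyOpen u.left := UniversallyOpen.of_flat u.left
    exact (connectedComponent_subset_image u u.left.isOpenMap p₀).trans subset_closure
  · rintro ⟨hc, hvflat⟩
    let p₀ : (𝟙_ (Over (Spec (CommRingCat.of k)))).left := IsLocalRing.closedPoint k
    obtain ⟨u', hmon, hu', hflat'⟩ := exists_flat_reduced_hom u a b p₀ (hc p₀)
    -- the torsor map `c : F' × F → F`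
    have hp' : IsPullback ((a ▷ F) ≫ μ[F]).left (snd F' F).left p.left p.left :=
      hp.map (Over.forget _)
    haveI : Flat ((a ▷ F) ≫ μ[F]).left :=
      MorphismProperty.of_isPullback (P := @Flat) hp'.flip inferInstance
    haveI : Surjective ((a ▷ F) ≫ μ[F]).left :=
      MorphismProperty.of_isPullback (P := @Surjective) hp'.flip inferInstance
    -- `P = X ×_Y G`
    let w : F ⟶ pullback v q := pullback.lift p u hv
    have hcomp : (snd G' F ≫ p) ≫ v = ((fst G' F ≫ b) * (snd G' F ≫ u)) ≫ q := by
      have h1 : (fst G' F ≫ b) * (snd G' F ≫ u) =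
          lift (fst G' F) (snd G' F ≫ u) ≫ ((b ▷ G) ≫ μ[G]) := by
        rw [Hom.mul_def, ← Category.assoc, lift_whiskerRight]
      rw [h1, Category.assoc, Category.assoc, hq.w, lift_snd_assoc, Category.assoc, hv]
    let θ : G' ⊗ F ⟶ pullback v q :=
      pullback.lift (snd G' F ≫ p) ((fst G' F ≫ b) * (snd G' F ≫ u)) hcomp
    have hw1 : w ≫ pullback.fst v q = p := pullback.lift_fst _ _ _
    have hw2 : w ≫ pullback.snd v q = u := pullback.lift_snd _ _ _
    have hθ1 : θ ≫ pullback.fst v q = snd G' F ≫ p := pullback.lift_fst _ _ _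
    have hθ2 : θ ≫ pullback.snd v q = (fst G' F ≫ b) * (snd G' F ≫ u) := pullback.lift_snd _ _ _
    have hθ := isPullback_theta u b p q hq v hv θ hθ1 hθ2
    have hθ' : IsPullback θ.left (snd G' F).left (pullback.fst v q).left p.left :=
      hθ.map (Over.forget _)
    haveI : Flat θ.left := MorphismProperty.of_isPullback (P := @Flat) hθ'.flip inferInstance
    have hwr : IsPullback (u' ▷ F).left (fst F' F).left (fst G' F).left u'.left :=
      (isPullback_whiskerRight u' F).map (Over.forget _)
    haveI : Flat (u' ▷ F).left := MorphismProperty.of_isPullback (P := @Flat) hwr.flip hflat'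
    have hcw : ((a ▷ F) ≫ μ[F]) ≫ w = (u' ▷ F) ≫ θ := by
      apply pullback.hom_ext
      · rw [Category.assoc, hw1, Category.assoc (u' ▷ F), hθ1, hp.w, whiskerRight_snd_assoc]
      · rw [Category.assoc, hw2, Category.assoc (u' ▷ F), hθ2]
        have h1 : (a ▷ F) ≫ μ[F] = (fst F' F ≫ a) * snd F' F := by
          have h2 : a ▷ F = lift (fst F' F ≫ a) (snd F' F) := by
            apply CartesianMonoidalCategory.hom_ext
            · rw [whiskerRight_fst, lift_fst]
            · rw [whiskerRight_snd, lift_snd]
          rw [Hom.mul_def, h2]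
        rw [h1, MonObj.mul_comp, MonObj.comp_mul, whiskerRight_fst_assoc, whiskerRight_snd_assoc,
          Category.assoc, hu']
    haveI : Flat (((a ▷ F) ≫ μ[F]).left ≫ w.left) := by
      rw [← Over.comp_left, hcw, Over.comp_left]; infer_instance
    haveI : Flat w.left := Groth.Agent.H63.GrpHomFlat.flat_of_flat_comp ((a ▷ F) ≫ μ[F]).left w.left
    have hπ : IsPullback (pullback.fst v q).left (pullback.snd v q).left v.left q.left :=
      (IsPullback.of_hasPullback v q).map (Over.forget _)
    haveI : Flat (pullback.snd v q).left :=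
      MorphismProperty.of_isPullback (P := @Flat) hπ hvflat
    have hu : u.left = w.left ≫ (pullback.snd v q).left := by
      rw [← Over.comp_left, hw2]
    rw [hu]
    infer_instance

end Groth.Agent.H63.RedQuotMain
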