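import Mathlib
import Groth.Prelude
import Groth.Agent.H30.ShQuot2

set_option autoImplicit false
universe u
open CategoryTheory CategoryTheory.Limits MonoidalCategory CartesianMonoidalCategory MonObj GrpObj AlgebraicGeometry

namespace Groth.Agent.H63.SemiDir

/-- (SD) the semidirect product `A ⋊ B` as a group structure on (a copy of) `A ⊗ B`, with the
homomorphism `(x, y) ↦ a x * b y` to `G`. -/
theorem exists_semidirect (k : Type u) [Field k] (G A B : Over (Spec (CommRingCat.of k)))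
    [GrpObj G] [GrpObj A] [GrpObj B] (a : A ⟶ G) [IsMonHom a] [Mono a] (b : B ⟶ G) [IsMonHom b]
    (hN : ∀ (T : Over (Spec (CommRingCat.of k))) (y : T ⟶ B) (x : T ⟶ A),
      ∃ x' : T ⟶ A, (y ≫ b) * (x ≫ a) * (y ≫ b)⁻¹ = x' ≫ a) :
    ∃ (P : Over (Spec (CommRingCat.of k))) (_ : GrpObj P) (e : P ≅ A ⊗ B) (f : P ⟶ G),
      IsMonHom f ∧ f = e.hom ≫ (a ⊗ₘ b) ≫ μ[G] := by
  obtain ⟨P, ⟨e⟩⟩ : ∃ P : Over (Spec (CommRingCat.of k)), Nonempty (P ≅ A ⊗ B) :=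
    ⟨_, ⟨Iso.refl _⟩⟩
  have hφ : (a ⊗ₘ b) ≫ μ[G] = (fst A B ≫ a) * (snd A B ≫ b) := by
    have h0 : a ⊗ₘ b = lift (fst A B ≫ a) (snd A B ≫ b) := by
      ext <;> simp
    rw [Hom.mul_def, h0]
  set φ : A ⊗ B ⟶ G := (a ⊗ₘ b) ≫ μ[G] with hφdef
  set ψ : P ⟶ G ⊗ B := e.hom ≫ lift φ (snd A B) with hψdef
  have hψ_fst : ∀ {T : Over (Spec (CommRingCat.of k))} (z : T ⟶ P),
      (z ≫ ψ) ≫ fst G B = ((z ≫ e.hom ≫ fst A B) ≫ a) * ((z ≫ e.hom ≫ snd A B) ≫ b) := by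
    intro T z
    rw [hψdef, Category.assoc, Category.assoc, lift_fst, hφ, MonObj.comp_mul, MonObj.comp_mul]
    simp only [Category.assoc]
  have hψ_snd : ∀ {T : Over (Spec (CommRingCat.of k))} (z : T ⟶ P),
      (z ≫ ψ) ≫ snd G B = z ≫ e.hom ≫ snd A B := by
    intro T z
    rw [hψdef, Category.assoc, Category.assoc, lift_snd]
  have hmk : ∀ {T : Over (Spec (CommRingCat.of k))} (x : T ⟶ A) (y : T ⟶ B),
      (lift x y ≫ e.inv) ≫ e.hom ≫ fst A B = x ∧ (lift x y ≫ e.inv) ≫ e.hom ≫ snd A B = y := by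
    intro T x y
    constructor
    · rw [Category.assoc, e.inv_hom_id_assoc, lift_fst]
    · rw [Category.assoc, e.inv_hom_id_assoc, lift_snd]
  haveI : Mono ψ := by
    refine ⟨fun {T} z z' h => ?_⟩
    have h2 : z ≫ e.hom ≫ snd A B = z' ≫ e.hom ≫ snd A B := by
      rw [← hψ_snd z, ← hψ_snd z', h]
    have h1 : ((z ≫ e.hom ≫ fst A B) ≫ a) * ((z ≫ e.hom ≫ snd A B) ≫ b) =
        ((z' ≫ e.hom ≫ fst A B) ≫ a) * ((z' ≫ e.hom ≫ snd A B) ≫ b) := by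
      rw [← hψ_fst z, ← hψ_fst z', h]
    rw [h2] at h1
    have h3 : (z ≫ e.hom ≫ fst A B) ≫ a = (z' ≫ e.hom ≫ fst A B) ≫ a := mul_right_cancel h1
    have h4 : z ≫ e.hom ≫ fst A B = z' ≫ e.hom ≫ fst A B := (cancel_mono a).mp h3
    have h5 : z ≫ e.hom = z' ≫ e.hom := by
      apply CartesianMonoidalCategory.hom_ext
      · simpa only [Category.assoc] using h4
      · simpa only [Category.assoc] using h2
    exact (cancel_mono e.hom).mp h5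
  have hmul : ∀ {T : Over (Spec (CommRingCat.of k))} (p q : T ⟶ P),
      ∃ z : T ⟶ P, z ≫ ψ = (p ≫ ψ) * (q ≫ ψ) := by
    intro T p q
    set x := p ≫ e.hom ≫ fst A B with hx
    set y := p ≫ e.hom ≫ snd A B with hy
    set x' := q ≫ e.hom ≫ fst A B with hx'
    set y' := q ≫ e.hom ≫ snd A B with hy'
    obtain ⟨x'', hx''⟩ := hN T y x'
    refine ⟨lift (x * x'') (y * y') ≫ e.inv, ?_⟩
    obtain ⟨m1, m2⟩ := hmk (x * x'') (y * y')
    apply CartesianMonoidalCategory.hom_ext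
    · have hR : ((p ≫ ψ) * (q ≫ ψ)) ≫ fst G B =
          ((x ≫ a) * (y ≫ b)) * ((x' ≫ a) * (y' ≫ b)) := by
        rw [MonObj.mul_comp, hψ_fst, hψ_fst]
      have hL : ((lift (x * x'') (y * y') ≫ e.inv) ≫ ψ) ≫ fst G B =
          ((x ≫ a) * (x'' ≫ a)) * ((y ≫ b) * (y' ≫ b)) := by
        rw [hψ_fst, m1, m2, MonObj.mul_comp, MonObj.mul_comp]
      rw [hL, hR, ← hx'']
      group
    · have hR : ((p ≫ ψ) * (q ≫ ψ)) ≫ snd G B = y * y' := by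
        rw [MonObj.mul_comp, hψ_snd, hψ_snd]
      rw [hψ_snd, m2, hR]
  have hinv : ∀ {T : Over (Spec (CommRingCat.of k))} (p : T ⟶ P),
      ∃ z : T ⟶ P, z ≫ ψ = (p ≫ ψ)⁻¹ := by
    intro T p
    set x := p ≫ e.hom ≫ fst A B with hx
    set y := p ≫ e.hom ≫ snd A B with hy
    obtain ⟨x3, hx3⟩ := hN T y⁻¹ x⁻¹
    refine ⟨lift x3 y⁻¹ ≫ e.inv, ?_⟩
    obtain ⟨m1, m2⟩ := hmk x3 y⁻¹
    apply CartesianMonoidalCategory.hom_ext
    · have hR : (p ≫ ψ)⁻¹ ≫ fst G B = ((x ≫ a) * (y ≫ b))⁻¹ := by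
        rw [GrpObj.inv_comp, hψ_fst]
      have hL : ((lift x3 y⁻¹ ≫ e.inv) ≫ ψ) ≫ fst G B = (x3 ≫ a) * (y ≫ b)⁻¹ := by
        rw [hψ_fst, m1, m2, GrpObj.inv_comp]
      rw [hL, hR, ← hx3, GrpObj.inv_comp, GrpObj.inv_comp]
      group
    · have hR : (p ≫ ψ)⁻¹ ≫ snd G B = y⁻¹ := by
        rw [GrpObj.inv_comp, hψ_snd]
      rw [hψ_snd, m2, hR]
  have hone : ∃ e0 : 𝟙_ (Over (Spec (CommRingCat.of k))) ⟶ P, e0 ≫ ψ = η[G ⊗ B] := by
    refine ⟨lift (1 : 𝟙_ _ ⟶ A) (1 : 𝟙_ _ ⟶ B) ≫ e.inv, ?_⟩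
    obtain ⟨m1, m2⟩ := hmk (1 : 𝟙_ (Over (Spec (CommRingCat.of k))) ⟶ A) (1 : 𝟙_ _ ⟶ B)
    have hη : η[G ⊗ B] = (1 : 𝟙_ (Over (Spec (CommRingCat.of k))) ⟶ G ⊗ B) := by
      rw [Hom.one_def, toUnit_unit, Category.id_comp]
    apply CartesianMonoidalCategory.hom_ext
    · rw [hψ_fst, m1, m2, hη, MonObj.one_comp, MonObj.one_comp, MonObj.one_comp, _root_.mul_one]
    · rw [hψ_snd, m2, hη, MonObj.one_comp]
  obtain ⟨str, hstr⟩ := Groth.Agent.H30.ShQuot.exists_grpObj_of_closed ψ hmul hinv hone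
  letI := str
  haveI := hstr
  refine ⟨P, str, e, ψ ≫ fst G B, inferInstance, ?_⟩
  rw [hψdef, Category.assoc, lift_fst]

end Groth.Agent.H63.SemiDir
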