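import Mathlib
import Groth.Agent.H63.BCPoints
import Groth.Agent.H30.ShQuot2
import Groth.Agent.H37.GrpAct

/-!
# The stabilizer group scheme of an action, as a group object over `X`

For an action `a` of `G` on `X` (over `S`), the stabilizer `(G ⊗ X) ×_{X ⊗ X} X ⟶ X` (pullback of
`(σ, p₂)` along the diagonal) is a group object of `Over X.left`.
-/

set_option autoImplicit false
universe u

open CategoryTheory CategoryTheory.Limits MonoidalCategory CartesianMonoidalCategory MonObj
  AlgebraicGeometry

namespace Groth.Agent.H63.StabGrp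

open Groth.Agent.H63.BCPoints

variable {S : Scheme.{u}} {G X : Over S} [GrpObj G] (a : AlgGrp.Action G X)

/-- the stabilizer, as an object over `X` -/
noncomputable abbrev stabObj : Over X.left :=
  Over.mk (pullback.snd (lift a.act (snd G X)).left (lift (𝟙 X) (𝟙 X)).left)

/-- the base change of `G` to `X` -/
noncomputable abbrev GX (G X : Over S) : Over X.left := (Over.pullback X.hom).obj G

lemma stab_fst_snd :
    pullback.fst (lift a.act (snd G X)).left (lift (𝟙 X) (𝟙 X)).left ≫ pullback.snd G.hom X.hom =
      pullback.snd (lift a.act (snd G X)).left (lift (𝟙 X) (𝟙 X)).left := by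
  have h := pullback.condition (f := (lift a.act (snd G X)).left) (g := (lift (𝟙 X) (𝟙 X)).left)
  have h2 := congrArg (fun t => t ≫ (snd X X).left) h
  simp only [Category.assoc, ← Over.comp_left, lift_snd, Over.id_left, Category.comp_id] at h2
  exact h2

/-- the inclusion of the stabilizer in `G ×_S X` -/
noncomputable def stabι : stabObj a ⟶ GX G X :=
  Over.homMk (pullback.fst (lift a.act (snd G X)).left (lift (𝟙 X) (𝟙 X)).left) (stab_fst_snd a)

lemma stabι_left : (stabι a).left =
    pullback.fst (lift a.act (snd G X)).left (lift (𝟙 X) (𝟙 X)).left := rfl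

instance : Mono (stabι a) := by
  haveI : Mono (lift (𝟙 X) (𝟙 X)) := by
    haveI : IsSplitMono (lift (𝟙 X) (𝟙 X)) := ⟨⟨⟨fst X X, lift_fst _ _⟩⟩⟩
    infer_instance
  haveI : Mono (lift (𝟙 X) (𝟙 X)).left :=
    inferInstanceAs (Mono ((Over.forget S).map (lift (𝟙 X) (𝟙 X))))
  haveI : Mono (stabι a).left := by
    rw [stabι_left]; infer_instance
  exact Over.mono_of_mono_left _

/-- the tautological point of `X` -/
noncomputable def yT (T : Over X.left) : (Over.map X.hom).obj T ⟶ X := Over.homMk T.hom rfl

lemma lift_under_left (T : Over X.left) (c : T ⟶ GX G X) :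
    (lift (under X.hom c) (yT T)).left = c.left := by
  rw [Over.lift_left]
  apply pullback.hom_ext
  · rw [pullback.lift_fst]; rfl
  · rw [pullback.lift_snd]
    exact (Over.w c).symm

/-- points of the stabilizer -/
theorem stab_iff (T : Over X.left) (c : T ⟶ GX G X) :
    (∃ z : T ⟶ stabObj a, z ≫ stabι a = c) ↔
      lift (under X.hom c) (yT T) ≫ a.act = yT T := by
  constructor
  · rintro ⟨z, rfl⟩
    apply Over.OverMorphism.ext
    rw [Over.comp_left, lift_under_left, Over.comp_left, stabι_left, Category.assoc]
    have h := pullback.condition (f := (lift a.act (snd G X)).left) (g := (lift (𝟙 X) (𝟙 X)).left)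
    have h2 := congrArg (fun t => t ≫ (fst X X).left) h
    simp only [Category.assoc, ← Over.comp_left, lift_fst, Over.id_left, Category.comp_id] at h2
    rw [h2]
    exact Over.w z
  · intro h
    have hw : c.left ≫ (lift a.act (snd G X)).left = T.hom ≫ (lift (𝟙 X) (𝟙 X)).left := by
      rw [← lift_under_left T c, ← Over.comp_left]
      have e : lift (under X.hom c) (yT T) ≫ lift a.act (snd G X) =
          yT T ≫ lift (𝟙 X) (𝟙 X) := by
        apply CartesianMonoidalCategory.hom_ext
        · rw [Category.assoc, lift_fst, Category.assoc, lift_fst, h, Category.comp_id]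
        · rw [Category.assoc, lift_snd, Category.assoc, lift_snd, lift_snd, Category.comp_id]
      rw [e, Over.comp_left]
      rfl
    refine ⟨Over.homMk (pullback.lift c.left T.hom hw) (pullback.lift_snd _ _ _), ?_⟩
    apply Over.OverMorphism.ext
    rw [Over.comp_left, stabι_left]
    exact pullback.lift_fst _ _ _

/-- The stabilizer is a group object over `X`, and a subgroup of `G ×_S X`. -/
theorem exists_grpObj_stab :
    ∃ str : GrpObj (stabObj a), @IsMonHom _ _ _ (stabObj a) (GX G X) str.toMonObj _ (stabι a) := by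
  refine Groth.Agent.H30.ShQuot.exists_grpObj_of_closed (stabι a) ?_ ?_ ?_
  · intro T x y
    rw [stab_iff, under_mul, Groth.Agent.H37.act_mul a.act a.mul_act,
      (stab_iff a T (y ≫ stabι a)).mp ⟨y, rfl⟩, (stab_iff a T (x ≫ stabι a)).mp ⟨x, rfl⟩]
  · intro T x
    rw [stab_iff, under_inv]
    have h1 := (stab_iff a T (x ≫ stabι a)).mp ⟨x, rfl⟩
    have h2 := Groth.Agent.H37.act_mul a.act a.mul_act (under X.hom (x ≫ stabι a))⁻¹
      (under X.hom (x ≫ stabι a)) (yT T)
    rw [h1, inv_mul_cancel, Groth.Agent.H37.act_one a.act a.one_act] at h2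
    exact h2.symm
  · have h : ∃ z : 𝟙_ (Over X.left) ⟶ stabObj a, z ≫ stabι a = (1 : 𝟙_ (Over X.left) ⟶ GX G X) := by
      rw [stab_iff, under_one, Groth.Agent.H37.act_one a.act a.one_act]
    obtain ⟨z, hz⟩ := h
    exact ⟨z, by rw [hz, MonObj.one_eq_one]⟩

end Groth.Agent.H63.StabGrp
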