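import Mathlib
import Groth.Agent.H63.StabGrp
import Groth.Agent.S0353
import Groth.Agent.H51.Reduced

/-!
# Fibres of the stabilizer group scheme

Over a field `k`, for an action of `G` on `X`, the fibre of the stabilizer `π : Stab ⟶ X` over a
point `x` is a group scheme over `κ(x)`.  If it has only one point then it is trivial, when `k` has
characteristic zero (Cartier) or `G` is étale over `k`.
-/

set_option autoImplicit false
universe u

open CategoryTheory CategoryTheory.Limits MonoidalCategory CartesianMonoidalCategory MonObj
  AlgebraicGeometry

namespace Groth.Agent.H63.StabFibre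

open Groth.Agent.H63.StabGrp

/-- a reduced scheme over a field, injective on points and with a section, is trivial -/
theorem isIso_of_injective_of_section_of_isReduced {F : Scheme.{u}} {K : CommRingCat.{u}}
    [Subsingleton (Spec K)]
    (p : F ⟶ Spec K) (σ : Spec K ⟶ F) (hσ : σ ≫ p = 𝟙 _)
    [IsReduced F] (hinj : Function.Injective p.base) : IsIso p := by
  haveI : IsClosedImmersion σ := isClosedImmersion_of_comp_eq_id p σ hσ
  haveI : Surjective σ := ⟨fun y => ⟨p.base y, hinj (by
    have := congrArg (fun t => t.base (p.base y)) hσ
    simpa using this)⟩⟩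
  haveI : IsIso σ := isIso_of_isClosedImmersion_of_surjective σ
  have : p = inv σ := by rw [← cancel_epi σ, hσ, IsIso.hom_inv_id]
  rw [this]; infer_instance

/-- a section of a morphism with open diagonal is an open immersion -/
theorem isOpenImmersion_of_section {X Y : Scheme.{u}} (f : X ⟶ Y) (σ : Y ⟶ X) (hσ : σ ≫ f = 𝟙 Y)
    [IsOpenImmersion (pullback.diagonal f)] : IsOpenImmersion σ := by
  let t : X ⟶ pullback f f := pullback.lift (f ≫ σ) (𝟙 X) (by
    rw [Category.assoc, hσ, Category.comp_id, Category.id_comp])
  haveI : Mono σ := by
    haveI : IsSplitMono σ := ⟨⟨⟨f, hσ⟩⟩⟩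
    infer_instance
  have sq : IsPullback σ σ (pullback.diagonal f) t := by
    refine ⟨⟨?_⟩, ⟨PullbackCone.IsLimit.mk _ (fun s => s.snd ≫ f) ?_ ?_ ?_⟩⟩
    · apply pullback.hom_ext
      · simp only [Category.assoc, pullback.diagonal_fst, Category.comp_id, t, pullback.lift_fst]
        rw [← Category.assoc σ f σ, hσ, Category.id_comp]
      · simp only [Category.assoc, pullback.diagonal_snd, Category.comp_id, t, pullback.lift_snd]
    · intro s
      have h1 := congrArg (fun m => m ≫ pullback.fst f f) s.condition
      have h2 := congrArg (fun m => m ≫ pullback.snd f f) s.condition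
      simp only [Category.assoc, pullback.diagonal_fst, pullback.diagonal_snd, Category.comp_id, t,
        pullback.lift_fst, pullback.lift_snd] at h1 h2
      rw [Category.assoc, ← h1]
    · intro s
      have h1 := congrArg (fun m => m ≫ pullback.fst f f) s.condition
      have h2 := congrArg (fun m => m ≫ pullback.snd f f) s.condition
      simp only [Category.assoc, pullback.diagonal_fst, pullback.diagonal_snd, Category.comp_id, t,
        pullback.lift_fst, pullback.lift_snd] at h1 h2
      rw [Category.assoc, ← h1, h2]
    · intro s m hm1 hm2
      rw [← cancel_mono σ, hm2, Category.assoc]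
      have h1 := congrArg (fun m => m ≫ pullback.fst f f) s.condition
      have h2 := congrArg (fun m => m ≫ pullback.snd f f) s.condition
      simp only [Category.assoc, pullback.diagonal_fst, pullback.diagonal_snd, Category.comp_id, t,
        pullback.lift_fst, pullback.lift_snd] at h1 h2
      rw [← h1, h2]
  exact MorphismProperty.of_isPullback (P := @IsOpenImmersion) sq inferInstance

/-- an unramified scheme over a field, injective on points and with a section, is trivial -/
theorem isIso_of_injective_of_section_of_unramified {F Z : Scheme.{u}}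
    (p : F ⟶ Z) (σ : Z ⟶ F) (hσ : σ ≫ p = 𝟙 _)
    [FormallyUnramified p] [LocallyOfFiniteType p] (hinj : Function.Injective p.base) :
    IsIso p := by
  haveI : IsOpenImmersion σ := isOpenImmersion_of_section p σ hσ
  haveI : Surjective σ := ⟨fun y => ⟨p.base y, hinj (by
    have := congrArg (fun t => t.base (p.base y)) hσ
    simpa using this)⟩⟩
  haveI : IsIso σ := (isIso_iff_isOpenImmersion_and_surjective σ).mpr ⟨inferInstance, inferInstance⟩
  have : p = inv σ := by rw [← cancel_epi σ, hσ, IsIso.hom_inv_id]
  rw [this]; infer_instance

section Action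

variable {k : Type u} [Field k] {G X : Over (Spec (CommRingCat.of k))} [GrpObj G]
  (a : AlgGrp.Action G X)

/-- the stabilizer projection -/
noncomputable abbrev stabπ :
    pullback (lift a.act (snd G X)).left (lift (𝟙 X) (𝟙 X)).left ⟶ X.left :=
  pullback.snd _ _

/-- the unit section of the stabilizer -/
noncomputable def stabε :
    X.left ⟶ pullback (lift a.act (snd G X)).left (lift (𝟙 X) (𝟙 X)).left :=
  pullback.lift (lift (1 : X ⟶ G) (𝟙 X)).left (𝟙 X.left) (by
    rw [Category.id_comp, ← Over.comp_left]
    congr 1
    apply CartesianMonoidalCategory.hom_ext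
    · rw [Category.assoc, lift_fst, lift_fst, Groth.Agent.H37.act_one a.act a.one_act]
    · rw [Category.assoc, lift_snd, lift_snd, lift_snd])

lemma stabε_π : stabε a ≫ stabπ a = 𝟙 _ := pullback.lift_snd _ _ _

/-- the unit section of a fibre of the stabilizer -/
noncomputable def fibreσ (x : X.left) :
    Spec (X.left.residueField x) ⟶ (stabπ a).fiber x :=
  pullback.lift (X.left.fromSpecResidueField x ≫ stabε a) (𝟙 _) (by
    rw [Category.assoc, stabε_π, Category.comp_id, Category.id_comp])

lemma fibreσ_comp (x : X.left) :
    fibreσ a x ≫ (stabπ a).fiberToSpecResidueField x = 𝟙 _ := pullback.lift_snd _ _ _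

lemma lft_psi [LocallyOfFiniteType G.hom] [LocallyOfFiniteType X.hom] :
    LocallyOfFiniteType (lift a.act (snd G X)).left := by
  haveI : LocallyOfFiniteType ((lift a.act (snd G X)).left ≫ (X ⊗ X).hom) := by
    rw [Over.w]
    show LocallyOfFiniteType (pullback.fst G.hom X.hom ≫ G.hom)
    infer_instance
  exact locallyOfFiniteType_of_comp _ (X ⊗ X).hom

lemma lft_fibre [LocallyOfFiniteType G.hom] [LocallyOfFiniteType X.hom] (x : X.left) :
    LocallyOfFiniteType ((stabπ a).fiberToSpecResidueField x) := by
  haveI := lft_psi a
  haveI : LocallyOfFiniteType (stabπ a) :=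
    MorphismProperty.pullback_snd (P := @LocallyOfFiniteType) _ _ inferInstance
  exact MorphismProperty.pullback_snd (P := @LocallyOfFiniteType) _ _ inferInstance

/-- Characteristic zero: a one-point fibre of the stabilizer is trivial (Cartier). -/
theorem fibre_isIso_of_charZero [CharZero k] [LocallyOfFiniteType G.hom]
    [LocallyOfFiniteType X.hom] (x : X.left)
    (hinj : Function.Injective ((stabπ a).fiberToSpecResidueField x).base) :
    IsIso ((stabπ a).fiberToSpecResidueField x) := by
  obtain ⟨str, -⟩ := exists_grpObj_stab a
  letI := str
  let K : Type u := X.left.residueField x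
  let B : Over (Spec (CommRingCat.of K)) :=
    (Over.pullback (X.left.fromSpecResidueField x)).obj (stabObj a)
  letI : GrpObj B := Functor.grpObjObj
  haveI : CharZero K := by
    let φ : CommRingCat.of k ⟶ X.left.residueField x :=
      Spec.preimage (X.left.fromSpecResidueField x ≫ X.hom)
    exact charZero_of_injective_ringHom (f := φ.hom) φ.hom.injective
  haveI : LocallyOfFiniteType B.hom := lft_fibre a x
  haveI : Smooth B.hom := Groth.Agent.S0353.result K B
  haveI : IsReduced B.left := Groth.Agent.H51.isReduced_of_smooth B.hom
  haveI : IsReduced ((stabπ a).fiber x) := ‹IsReduced B.left›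
  haveI : Subsingleton (Spec (X.left.residueField x)) :=
    inferInstanceAs (Subsingleton (PrimeSpectrum K))
  exact isIso_of_injective_of_section_of_isReduced _ (fibreσ a x) (fibreσ_comp a x) hinj

/-- `G` étale: a one-point fibre of the stabilizer is trivial. -/
theorem fibre_isIso_of_etale [Etale G.hom] [LocallyOfFiniteType X.hom] (x : X.left)
    (hinj : Function.Injective ((stabπ a).fiberToSpecResidueField x).base) :
    IsIso ((stabπ a).fiberToSpecResidueField x) := by
  haveI : LocallyOfFiniteType G.hom := inferInstance
  haveI : FormallyUnramified (lift a.act (snd G X)).left := by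
    haveI : FormallyUnramified ((lift a.act (snd G X)).left ≫ (snd X X).left) := by
      rw [← Over.comp_left, lift_snd]
      show FormallyUnramified (pullback.snd G.hom X.hom)
      infer_instance
    exact FormallyUnramified.of_comp _ (snd X X).left
  haveI : FormallyUnramified (stabπ a) :=
    MorphismProperty.pullback_snd (P := @FormallyUnramified) _ _ inferInstance
  haveI : FormallyUnramified ((stabπ a).fiberToSpecResidueField x) :=
    MorphismProperty.pullback_snd (P := @FormallyUnramified) _ _ inferInstance
  haveI := lft_fibre a x
  exact isIso_of_injective_of_section_of_unramified _ (fibreσ a x) (fibreσ_comp a x) hinj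

end Action

end Groth.Agent.H63.StabFibre
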