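import Mathlib
import Groth.Prelude.Def_GLinSh
import Groth.Agent.H63.GeomQuot3
import Groth.Agent.H63.QuotFinite
import Groth.Agent.H63.RatPt

/-!
# Finiteness of stabilisers of geometric points via groups of points (helper63)
-/

set_option autoImplicit false
set_option linter.style.haveILetI false
universe u
open CategoryTheory CategoryTheory.Limits AlgebraicGeometry MonoidalCategory
  CartesianMonoidalCategory MonObj Topology TopologicalSpace

namespace Groth.Agent.H63.StabFinite

open Groth.Agent.H63.ActionTranslate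

section Top

theorem finite_of_finite_closedPoints {Z : Type*} [TopologicalSpace Z] [JacobsonSpace Z]
    (h : (closedPoints Z).Finite) : Finite Z := by
  have hall : ∀ z : Z, z ∈ closedPoints Z := by
    intro z
    have h1 : closure (closure {z} ∩ closedPoints Z) = closure {z} :=
      JacobsonSpace.closure_inter_closedPoints isClosed_closure
    have hfin : (closure {z} ∩ closedPoints Z).Finite := h.subset Set.inter_subset_right
    have hcl : IsClosed (closure {z} ∩ closedPoints Z) := by
      rw [← Set.biUnion_of_singleton (closure {z} ∩ closedPoints Z)]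
      exact hfin.isClosed_biUnion (fun c hc => hc.2)
    rw [hcl.closure_eq] at h1
    have hz : z ∈ closure ({z} : Set Z) := subset_closure rfl
    rw [← h1] at hz
    exact hz.2
  exact Set.finite_univ_iff.mp (h.subset fun z _ => hall z)

end Top

section A1

variable {Ω : Type u} [Field Ω] [IsAlgClosed Ω]

theorem isFinite_iff_finite_points (Z : Over (Spec (CommRingCat.of Ω)))
    [LocallyOfFiniteType Z.hom] [QuasiCompact Z.hom] :
    IsFinite Z.hom ↔ Finite (𝟙_ (Over (Spec (CommRingCat.of Ω))) ⟶ Z) := by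
  haveI : Subsingleton ↥(Spec (CommRingCat.of Ω)) :=
    inferInstanceAs (Subsingleton (PrimeSpectrum Ω))
  let pt : ↥(𝟙_ (Over (Spec (CommRingCat.of Ω)))).left := IsLocalRing.closedPoint Ω
  constructor
  · intro hfin
    haveI : Finite Z.left := by
      have h1 := Z.hom.finite_preimage_singleton (IsLocalRing.closedPoint Ω)
      refine Set.finite_univ_iff.mp (h1.subset fun z _ => ?_)
      exact Set.mem_singleton_iff.mpr (Subsingleton.elim _ _)
    refine Finite.of_injective (fun s : 𝟙_ (Over (Spec (CommRingCat.of Ω))) ⟶ Z =>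
      s.left.base pt) ?_
    intro s s' hss
    exact Groth.Agent.H63.RatPt.over_ext s s' pt hss
  · intro hfin
    have hc : ∀ z : closedPoints Z.left, ∃ s : 𝟙_ (Over (Spec (CommRingCat.of Ω))) ⟶ Z,
        s.left (IsLocalRing.closedPoint Ω) = z.1 := fun z => exists_section_of_isClosed Z z.1 z.2
    choose sec hsec using hc
    haveI : Finite (closedPoints Z.left) := by
      refine Finite.of_injective sec ?_
      intro z z' hzz
      apply Subtype.ext
      rw [← hsec z, ← hsec z', hzz]
    haveI : JacobsonSpace Z.left := LocallyOfFiniteType.jacobsonSpace Z.hom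
    haveI : Finite Z.left := finite_of_finite_closedPoints (Set.toFinite _)
    haveI : LocallyQuasiFinite Z.hom :=
      LocallyQuasiFinite.of_finite_preimage_singleton Z.hom (fun _ => Set.toFinite _)
    haveI : IsLocallyArtinian (Spec (CommRingCat.of Ω)) := by
      rw [Scheme.isLocallyArtinianScheme_Spec]
      infer_instance
    exact IsFinite.of_locallyQuasiFinite Z.hom

theorem isFinite_iff_finite_sections {Z T : Scheme.{u}} (p : Z ⟶ T)
    (e : T ≅ Spec (CommRingCat.of Ω)) [LocallyOfFiniteType p] [QuasiCompact p] :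
    IsFinite p ↔ Finite {s : T ⟶ Z // s ≫ p = 𝟙 T} := by
  let Z' : Over (Spec (CommRingCat.of Ω)) := Over.mk (p ≫ e.hom)
  haveI : LocallyOfFiniteType Z'.hom := by
    change LocallyOfFiniteType (p ≫ e.hom)
    infer_instance
  haveI : QuasiCompact Z'.hom := by
    change QuasiCompact (p ≫ e.hom)
    infer_instance
  have h1 : IsFinite p ↔ IsFinite Z'.hom := by
    constructor
    · intro h
      change IsFinite (p ≫ e.hom)
      infer_instance
    · intro h
      haveI h' : IsFinite (p ≫ e.hom) := h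
      have hp : p = (p ≫ e.hom) ≫ e.inv := by
        rw [Category.assoc, e.hom_inv_id, Category.comp_id]
      rw [hp]
      infer_instance
  rw [h1, isFinite_iff_finite_points Z']
  have hF : ∀ s : 𝟙_ (Over (Spec (CommRingCat.of Ω))) ⟶ Z', (e.hom ≫ s.left) ≫ p = 𝟙 T := by
    intro s
    have h2 : s.left ≫ p ≫ e.hom = 𝟙 _ := Over.w s
    have h3 : s.left ≫ p = e.inv := by
      have := congrArg (fun t => t ≫ e.inv) h2
      simp only [Category.assoc, e.hom_inv_id, Category.comp_id, Category.id_comp] at this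
      exact this
    rw [Category.assoc, h3, e.hom_inv_id]
  have hG : ∀ s : {s : T ⟶ Z // s ≫ p = 𝟙 T}, (e.inv ≫ s.1) ≫ Z'.hom =
      (𝟙_ (Over (Spec (CommRingCat.of Ω)))).hom := by
    intro s
    change (e.inv ≫ s.1) ≫ p ≫ e.hom = 𝟙 _
    rw [Category.assoc, ← Category.assoc s.1, s.2, Category.id_comp, e.inv_hom_id]
  constructor
  · intro hfin
    refine Finite.of_injective (fun s : {s : T ⟶ Z // s ≫ p = 𝟙 T} =>
      (Over.homMk (e.inv ≫ s.1) (hG s) : 𝟙_ (Over (Spec (CommRingCat.of Ω))) ⟶ Z')) ?_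
    intro s s' hss
    have h2 := congrArg (fun t => e.hom ≫ t.left) hss
    simp only [Over.homMk_left, e.hom_inv_id_assoc] at h2
    exact Subtype.ext h2
  · intro hfin
    refine Finite.of_injective (fun s : 𝟙_ (Over (Spec (CommRingCat.of Ω))) ⟶ Z' =>
      (⟨e.hom ≫ s.left, hF s⟩ : {s : T ⟶ Z // s ≫ p = 𝟙 T})) ?_
    intro s s' hss
    have h2 := congrArg (fun t => e.inv ≫ t.1) hss
    simp only [e.inv_hom_id_assoc] at h2
    exact Over.OverMorphism.ext h2

end A1

section B

variable {S : Scheme.{u}} {G X : Over S} [GrpObj G] (a : AlgGrp.Action G X) {T : Over S}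
  (x : T ⟶ X)

lemma psi_point (h : T ⟶ G) :
    lift h (𝟙 T) ≫ GIT.psi a x = lift (lift h x ≫ a.act) (𝟙 T) := by
  simp only [GIT.psi]
  rw [comp_lift, lift_snd, ← Category.assoc, lift_whiskerLeft, Category.id_comp]

/-- the `T`-points of `G` fixing `x` -/
abbrev StabPts : Type u := {h : T ⟶ G // lift h x ≫ a.act = x}

/-- sections of the stabiliser scheme -/
abbrev Sections : Type u :=
  {s : T.left ⟶ pullback (GIT.psi a x).left (lift x (𝟙 T)).left //
    s ≫ pullback.snd (GIT.psi a x).left (lift x (𝟙 T)).left = 𝟙 T.left}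

lemma toSection_cond (h : StabPts a x) :
    (lift h.1 (𝟙 T)).left ≫ (GIT.psi a x).left = 𝟙 T.left ≫ (lift x (𝟙 T)).left := by
  have h1 := congrArg (fun t => t.left) (psi_point a x h.1)
  simp only [Over.comp_left] at h1
  rw [h1, h.2, Category.id_comp]

noncomputable def toSection (h : StabPts a x) : Sections a x :=
  ⟨pullback.lift (lift h.1 (𝟙 T)).left (𝟙 T.left) (toSection_cond a x h), pullback.lift_snd _ _ _⟩

lemma toSection_injective : Function.Injective (toSection a x) := by
  intro h h' hh
  have h1 := congrArg (fun s : Sections a x => s.1 ≫ pullback.fst _ _) hh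
  simp only [toSection, pullback.lift_fst] at h1
  have h2 : lift h.1 (𝟙 T) = lift h'.1 (𝟙 T) := Over.OverMorphism.ext h1
  have h3 := congrArg (fun t => t ≫ fst G T) h2
  simp only [lift_fst] at h3
  exact Subtype.ext h3

lemma section_fst_w (s : Sections a x) :
    (s.1 ≫ pullback.fst (GIT.psi a x).left (lift x (𝟙 T)).left) ≫ (G ⊗ T).hom = T.hom := by
  have h1 : (s.1 ≫ pullback.fst (GIT.psi a x).left (lift x (𝟙 T)).left) ≫ (GIT.psi a x).left =
      (lift x (𝟙 T)).left := by
    rw [Category.assoc, pullback.condition, ← Category.assoc, s.2, Category.id_comp]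
  rw [← Over.w (GIT.psi a x), ← Category.assoc, h1, Over.w]

/-- the point of `G ⊗ T` attached to a section -/
noncomputable def sectionPt (s : Sections a x) : T ⟶ G ⊗ T :=
  Over.homMk (s.1 ≫ pullback.fst (GIT.psi a x).left (lift x (𝟙 T)).left) (section_fst_w a x s)

lemma sectionPt_psi (s : Sections a x) : sectionPt a x s ≫ GIT.psi a x = lift x (𝟙 T) := by
  apply Over.OverMorphism.ext
  rw [Over.comp_left]
  change (s.1 ≫ pullback.fst _ _) ≫ (GIT.psi a x).left = _
  rw [Category.assoc, pullback.condition, ← Category.assoc, s.2, Category.id_comp]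

lemma sectionPt_eq (s : Sections a x) :
    sectionPt a x s = lift (sectionPt a x s ≫ fst G T) (𝟙 T) := by
  have h1 : sectionPt a x s ≫ snd G T = 𝟙 T := by
    have h2 : GIT.psi a x ≫ snd X T = snd G T := by
      simp only [GIT.psi, lift_snd]
    rw [← h2, ← Category.assoc, sectionPt_psi, lift_snd]
  apply CartesianMonoidalCategory.hom_ext
  · rw [lift_fst]
  · rw [lift_snd, h1]

noncomputable def ofSection (s : Sections a x) : StabPts a x :=
  ⟨sectionPt a x s ≫ fst G T, by
    have h1 := sectionPt_psi a x s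
    rw [sectionPt_eq a x s, psi_point] at h1
    have h2 := congrArg (fun t => t ≫ fst X T) h1
    simp only [lift_fst] at h2
    exact h2⟩

lemma ofSection_injective : Function.Injective (ofSection a x) := by
  intro s s' hss
  have h1 : sectionPt a x s ≫ fst G T = sectionPt a x s' ≫ fst G T :=
    congrArg Subtype.val hss
  have h2 : sectionPt a x s = sectionPt a x s' := by
    rw [sectionPt_eq a x s, sectionPt_eq a x s', h1]
  have h3 : s.1 ≫ pullback.fst (GIT.psi a x).left (lift x (𝟙 T)).left =
      s'.1 ≫ pullback.fst (GIT.psi a x).left (lift x (𝟙 T)).left :=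
    congrArg (fun t => t.left) h2
  apply Subtype.ext
  apply pullback.hom_ext h3
  rw [s.2, s'.2]

lemma finite_sections_iff : Finite (Sections a x) ↔ Finite (StabPts a x) :=
  ⟨fun _ => Finite.of_injective _ (toSection_injective a x),
    fun _ => Finite.of_injective _ (ofSection_injective a x)⟩

/-- finiteness of the stabiliser scheme of a geometric point in terms of points -/
theorem isFinite_stabTo_iff {Ω : Type u} [Field Ω] [IsAlgClosed Ω]
    (e : T.left ≅ Spec (CommRingCat.of Ω)) [LocallyOfFiniteType G.hom] [QuasiCompact G.hom]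
    [QuasiSeparated X.hom] :
    IsFinite (GLinSh.stabTo a x) ↔ Finite (StabPts a x) := by
  have hΘ : (GIT.psi a x).left ≫ (snd X T).left = (snd G T).left := by
    have h2 : GIT.psi a x ≫ snd X T = snd G T := by
      simp only [GIT.psi, lift_snd]
    rw [← Over.comp_left, h2]
  haveI : LocallyOfFiniteType (snd G T).left := by rw [Over.snd_left]; infer_instance
  haveI : QuasiCompact (snd G T).left := by rw [Over.snd_left]; infer_instance
  haveI : QuasiSeparated (snd X T).left := by rw [Over.snd_left]; infer_instance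
  haveI : LocallyOfFiniteType ((GIT.psi a x).left ≫ (snd X T).left) := by rw [hΘ]; infer_instance
  haveI : QuasiCompact ((GIT.psi a x).left ≫ (snd X T).left) := by rw [hΘ]; infer_instance
  haveI : LocallyOfFiniteType (GIT.psi a x).left :=
    locallyOfFiniteType_of_comp (GIT.psi a x).left (snd X T).left
  haveI : QuasiCompact (GIT.psi a x).left :=
    QuasiCompact.of_comp (GIT.psi a x).left (snd X T).left
  change IsFinite (pullback.snd (GIT.psi a x).left (lift x (𝟙 T)).left) ↔ _
  rw [isFinite_iff_finite_sections _ e]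
  exact finite_sections_iff a x

end B

section C

open Groth.Agent.H63.GeomQuot

variable {S : Scheme.{u}} {H N Q X Y : Over S} [GrpObj H] [GrpObj N] [GrpObj Q]
  (i : N ⟶ H) (q : H ⟶ Q) (a : AlgGrp.Action H X) (aN : AlgGrp.Action N X)
  (π : X ⟶ Y) (aQ : AlgGrp.Action Q Y) {T : Over S} (x : T ⟶ X)

omit [GrpObj N] [GrpObj Q] in
lemma stab_inv (h : StabPts a x) : lift h.1⁻¹ x ≫ a.act = x := by
  calc lift h.1⁻¹ x ≫ a.act = lift h.1⁻¹ (lift h.1 x ≫ a.act) ≫ a.act := by rw [h.2]
    _ = lift (h.1⁻¹ * h.1) x ≫ a.act := (act_mul a _ _ _).symm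
    _ = x := by rw [_root_.inv_mul_cancel, act_one']

omit [GrpObj N] in
lemma stab_map (hequiv : (q ⊗ₘ π) ≫ aQ.act = a.act ≫ π) (h : StabPts a x) :
    lift (h.1 ≫ q) (x ≫ π) ≫ aQ.act = x ≫ π := by
  have h1 : lift (h.1 ≫ q) (x ≫ π) = lift h.1 x ≫ (q ⊗ₘ π) := (lift_map _ _ _ _).symm
  rw [h1, Category.assoc, hequiv, ← Category.assoc, h.2]

/-- the map on stabilisers induced by `q` -/
def stabMap (hequiv : (q ⊗ₘ π) ≫ aQ.act = a.act ≫ π) :
    StabPts a x → StabPts aQ (x ≫ π) :=
  fun h => ⟨h.1 ≫ q, stab_map q a π aQ x hequiv h⟩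

omit [GrpObj Q] in
lemma act_restrict (haN : aN.act = (i ▷ X) ≫ a.act) (n : T ⟶ N) :
    lift n x ≫ aN.act = lift (n ≫ i) x ≫ a.act := by
  rw [haN, ← Category.assoc, lift_whiskerRight]

theorem stabMap_surjective [IsMonHom q] {Ω : Type u} [Field Ω] [IsAlgClosed Ω]
    (e : T.left ≅ Spec (CommRingCat.of Ω)) [LocallyOfFiniteType q.left]
    (hqs : Function.Surjective q.left.base) [LocallyOfFiniteType aN.act.left]
    (haN : aN.act = (i ▷ X) ≫ a.act) (hπ : GIT.IsGeomQuot aN π)
    (hequiv : (q ⊗ₘ π) ≫ aQ.act = a.act ≫ π) (hiq : i ≫ q = toUnit N ≫ η[Q]) :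
    Function.Surjective (stabMap q a π aQ x hequiv) := by
  intro g
  obtain ⟨h₀, hh₀⟩ := exists_lift_geomPoint q hqs e g.1
  have hy : (lift h₀ x ≫ a.act) ≫ π = x ≫ π := by
    rw [Category.assoc, ← hequiv, ← Category.assoc, lift_map, hh₀, g.2]
  -- a point of the kernel pair
  let K : Over S := Over.mk (pullback.fst π.left π.left ≫ X.hom)
  have hPw : GIT.PsiY aN π hπ.inv ≫ K.hom = (N ⊗ X).hom := by
    change GIT.PsiY aN π hπ.inv ≫ pullback.fst π.left π.left ≫ X.hom = _
    rw [GIT.PsiY, pullback.lift_fst_assoc, Over.w]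
  let P : N ⊗ X ⟶ K := Over.homMk (GIT.PsiY aN π hπ.inv) hPw
  haveI : LocallyOfFiniteType P.left := by
    change LocallyOfFiniteType (GIT.PsiY aN π hπ.inv)
    haveI : LocallyOfFiniteType (GIT.PsiY aN π hπ.inv ≫ pullback.fst π.left π.left) := by
      rw [GIT.PsiY, pullback.lift_fst]; infer_instance
    exact locallyOfFiniteType_of_comp _ (pullback.fst π.left π.left)
  have hyl : (lift h₀ x ≫ a.act).left ≫ π.left = x.left ≫ π.left := by
    rw [← Over.comp_left, ← Over.comp_left, hy]
  have htKw : pullback.lift (lift h₀ x ≫ a.act).left x.left hyl ≫ K.hom = T.hom := by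
    change pullback.lift _ _ _ ≫ pullback.fst π.left π.left ≫ X.hom = _
    rw [pullback.lift_fst_assoc, Over.w]
  let tK : T ⟶ K := Over.homMk (pullback.lift (lift h₀ x ≫ a.act).left x.left hyl) htKw
  obtain ⟨w, hw⟩ := exists_lift_geomPoint P hπ.orbit e tK
  have hwl : w.left ≫ GIT.PsiY aN π hπ.inv =
      pullback.lift (lift h₀ x ≫ a.act).left x.left hyl := by
    have h0 : w.left ≫ P.left = tK.left := by
      have := congrArg (fun t => t.left) hw
      simpa only [Over.comp_left] using this
    exact h0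
  have hw1 : w ≫ aN.act = lift h₀ x ≫ a.act := by
    apply Over.OverMorphism.ext
    have := congrArg (fun t => t ≫ pullback.fst π.left π.left) hwl
    simp only [Category.assoc, GIT.PsiY, pullback.lift_fst] at this
    rw [Over.comp_left]
    exact this
  have hw2 : w ≫ snd N X = x := by
    apply Over.OverMorphism.ext
    have := congrArg (fun t => t ≫ pullback.snd π.left π.left) hwl
    simp only [Category.assoc, GIT.PsiY, pullback.lift_snd] at this
    rw [Over.comp_left]
    exact this
  have hwn : w = lift (w ≫ fst N X) x := by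
    apply CartesianMonoidalCategory.hom_ext
    · rw [lift_fst]
    · rw [lift_snd, hw2]
  set n : T ⟶ N := w ≫ fst N X with hn
  have hnx : lift (n ≫ i) x ≫ a.act = lift h₀ x ≫ a.act := by
    rw [← act_restrict i a aN x haN, ← hwn, hw1]
  refine ⟨⟨(n ≫ i)⁻¹ * h₀, ?_⟩, ?_⟩
  · rw [act_mul, ← hnx, ← act_mul, _root_.inv_mul_cancel, act_one']
  · apply Subtype.ext
    change ((n ≫ i)⁻¹ * h₀) ≫ q = g.1
    rw [MonObj.mul_comp, GrpObj.inv_comp, Category.assoc, hiq, hh₀]
    have h1 : n ≫ toUnit N ≫ η[Q] = (1 : T ⟶ Q) := by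
      rw [Hom.one_def, ← Category.assoc, toUnit_unique (n ≫ toUnit N) (toUnit T)]
    rw [h1, inv_one, _root_.one_mul]

theorem finite_fibre_stabMap [IsMonHom q] (haN : aN.act = (i ▷ X) ≫ a.act)
    (hequiv : (q ⊗ₘ π) ≫ aQ.act = a.act ≫ π) (hker : IsPullback i (toUnit N) q η[Q])
    [Finite (StabPts aN x)] (b : StabPts aQ (x ≫ π)) :
    (stabMap q a π aQ x hequiv ⁻¹' {b}).Finite := by
  by_cases hne : ∃ h : StabPts a x, stabMap q a π aQ x hequiv h = b
  swap
  · have : stabMap q a π aQ x hequiv ⁻¹' {b} = ∅ := by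
      ext h'
      simp only [Set.mem_preimage, Set.mem_singleton_iff, Set.mem_empty_iff_false, iff_false]
      exact fun hh => hne ⟨h', hh⟩
    rw [this]
    exact Set.finite_empty
  obtain ⟨h, rfl⟩ := hne
  have hq' : ∀ h' : StabPts a x, stabMap q a π aQ x hequiv h' = stabMap q a π aQ x hequiv h →
      (h'.1 * h.1⁻¹) ≫ q = toUnit T ≫ η[Q] := by
    intro h' hh'
    have h1 : h'.1 ≫ q = h.1 ≫ q := congrArg Subtype.val hh'
    rw [MonObj.mul_comp, GrpObj.inv_comp, h1, _root_.mul_inv_cancel, Hom.one_def]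
  -- the map to the stabiliser in `N`
  have key : ∀ h' : {h' : StabPts a x // stabMap q a π aQ x hequiv h' =
      stabMap q a π aQ x hequiv h}, ∃ n : StabPts aN x, n.1 ≫ i = h'.1.1 * h.1⁻¹ := by
    intro h'
    refine ⟨⟨hker.lift (h'.1.1 * h.1⁻¹) (toUnit T) (hq' h'.1 h'.2), ?_⟩, hker.lift_fst _ _ _⟩
    rw [act_restrict i a aN x haN, hker.lift_fst, act_mul, stab_inv a x h, h'.1.2]
  choose F hF using key
  haveI : Finite {h' : StabPts a x // stabMap q a π aQ x hequiv h' =
      stabMap q a π aQ x hequiv h} := by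
    refine Finite.of_injective F ?_
    intro h' h'' hh
    have h1 : h'.1.1 * h.1⁻¹ = h''.1.1 * h.1⁻¹ := by rw [← hF h', ← hF h'', hh]
    have h2 : h'.1.1 = h''.1.1 := mul_right_cancel h1
    exact Subtype.ext (Subtype.ext h2)
  have hfin : Finite ↑(stabMap q a π aQ x hequiv ⁻¹' {stabMap q a π aQ x hequiv h}) := this
  exact Set.finite_coe_iff.mp hfin

theorem finite_stabPts_iff [IsMonHom q] {Ω : Type u} [Field Ω] [IsAlgClosed Ω]
    (e : T.left ≅ Spec (CommRingCat.of Ω)) [LocallyOfFiniteType q.left]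
    (hqs : Function.Surjective q.left.base) [LocallyOfFiniteType aN.act.left]
    (haN : aN.act = (i ▷ X) ≫ a.act) (hπ : GIT.IsGeomQuot aN π)
    (hequiv : (q ⊗ₘ π) ≫ aQ.act = a.act ≫ π) (hker : IsPullback i (toUnit N) q η[Q])
    [Finite (StabPts aN x)] :
    Finite (StabPts aQ (x ≫ π)) ↔ Finite (StabPts a x) := by
  constructor
  · intro hfin
    have h1 : (stabMap q a π aQ x hequiv ⁻¹' Set.univ).Finite :=
      Set.Finite.preimage' Set.finite_univ
        (fun b _ => finite_fibre_stabMap i q a aN π aQ x haN hequiv hker b)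
    rw [Set.preimage_univ] at h1
    exact Set.finite_univ_iff.mp h1
  · intro hfin
    exact Finite.of_surjective _
      (stabMap_surjective i q a aN π aQ x e hqs haN hπ hequiv hker.w)

end C

end Groth.Agent.H63.StabFinite
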