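import Mathlib

/-!
# Flat base change of Stein morphisms (helper63)

If `f : X ⟶ Y` is quasi-compact quasi-separated with `O_Y(U) ⟶ O_X(f⁻¹U)` bijective for every
open `U`, the same holds for the base change of `f` along any flat `g : Y' ⟶ Y`.
-/

set_option autoImplicit false
universe u
open CategoryTheory CategoryTheory.Limits AlgebraicGeometry Opposite

namespace Groth.Agent.H63.SteinBC2

variable {X Y X' Y' : Scheme.{u}} {f : X ⟶ Y} {g : Y' ⟶ Y} {f' : X' ⟶ Y'} {g' : X' ⟶ X}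

/-- the affine-local step -/
theorem isIso_app_of_le (H : IsPullback g' f' f g) [Flat g]
    [QuasiCompact f] [QuasiSeparated f]
    (hf : ∀ U : Y.Opens, IsIso (f.app U))
    (V : Y.Opens) (hV : IsAffineOpen V) (U : Y'.Opens) (hU : IsAffineOpen U)
    (hUV : U ≤ g ⁻¹ᵁ V) : IsIso (f'.app U) := by
  have hUP : f' ⁻¹ᵁ U = g' ⁻¹ᵁ (f ⁻¹ᵁ V) ⊓ f' ⁻¹ᵁ U := by
    simp_rw [← Scheme.Hom.comp_preimage, H.w, Scheme.Hom.comp_preimage,
      ← Scheme.Hom.preimage_inf, inf_eq_right.mpr hUV]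
  have hiso := isIso_pushoutSection_of_isQuasiSeparated_of_flat_right H
    (US := V) (UT := U) (UX := f ⁻¹ᵁ V) hUV le_rfl hUP hV hU
    (f.isCompact_preimage hV.isCompact)
    (f.isQuasiSeparated_preimage hV.isQuasiSeparated)
  have hpo := (isIso_pushoutSection_iff H hUV le_rfl hUP).mp hiso
  haveI : IsIso (f.appLE V (f ⁻¹ᵁ V) le_rfl) := by
    rw [← Scheme.Hom.app_eq_appLE]
    exact hf V
  have h3 := hpo.isIso_inr_of_isIso
  rw [Scheme.Hom.app_eq_appLE]
  exact h3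

/-- flat base change of a Stein morphism is Stein -/
theorem isIso_app_of_isPullback_of_flat (H : IsPullback g' f' f g) [Flat g]
    [QuasiCompact f] [QuasiSeparated f]
    (hf : ∀ U : Y.Opens, IsIso (f.app U)) (U' : Y'.Opens) : IsIso (f'.app U') := by
  let φ : Y'.sheaf ⟶ (TopCat.Sheaf.pushforward CommRingCat f'.base).obj X'.sheaf := ⟨f'.c⟩
  let ι : Type u := {U : Y'.Opens // IsAffineOpen U ∧
    ∃ V : Y.Opens, IsAffineOpen V ∧ U ≤ g ⁻¹ᵁ V}
  let B : ι → TopologicalSpace.Opens Y' := fun i => i.1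
  have hB : TopologicalSpace.Opens.IsBasis (Set.range B) := by
    rw [TopologicalSpace.Opens.isBasis_iff_nbhd]
    intro W x hxW
    obtain ⟨V, hV, hyV, -⟩ := exists_isAffineOpen_mem_and_subset
      (x := g x) (U := ⊤) trivial
    have hx2 : x ∈ W ⊓ g ⁻¹ᵁ V := ⟨hxW, hyV⟩
    obtain ⟨U₁, hU₁, hxU₁, hU₁W⟩ := exists_isAffineOpen_mem_and_subset hx2
    refine ⟨U₁, ⟨⟨U₁, hU₁, V, hV, fun z hz => (hU₁W hz).2⟩, rfl⟩, hxU₁, fun z hz => (hU₁W hz).1⟩
  have hφ : IsIso φ := by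
    refine TopCat.Sheaf.isIso_iff_isIso_basis (B := B) hB ?_
    rintro ⟨U₁, hU₁, V, hV, hle⟩
    exact isIso_app_of_le H hf V hV U₁ hU₁ hle
  have h1 : IsIso φ.hom := by
    exact @Functor.map_isIso _ _ _ _ _ _ (TopCat.Sheaf.forget CommRingCat _) φ hφ
  exact NatIso.isIso_app_of_isIso φ.hom (op U')

end Groth.Agent.H63.SteinBC2
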