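import Mathlib
import Groth.Agent.H2.IsoDescFam
import Groth.Agent.H54.SteinDesc

/-!
# Descent of the Stein property along an fpqc base change (helper63)

Assembly of `Groth.Agent.H54.SteinDesc` (helper54) and `Groth.Agent.H2.IsoDescFam` (helper2).
-/

set_option autoImplicit false
universe u
open CategoryTheory CategoryTheory.Limits AlgebraicGeometry

namespace Groth.Agent.H63.SteinDescent

theorem d1 : Groth.Agent.H54.SteinDesc.D1Statement.{u} := by
  intro A A' φ ι _ B P β inl inr hpo hflat hcov hiso
  exact Groth.Agent.H2.IsoDescFam.isIso_of_isPushout_family φ B P β inl inr hpo hflat hcov hiso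

/-- descent of the Stein property along an fpqc base change. -/
theorem isIso_app_of_isPullback_of_flat_surjective {X Y X' Y' : Scheme.{u}} {f : X ⟶ Y}
    {g : Y' ⟶ Y} {f' : X' ⟶ Y'} {g' : X' ⟶ X} (H : IsPullback g' f' f g) [Flat g] [Surjective g]
    [QuasiCompact g] [QuasiCompact f] [QuasiSeparated f]
    (hf' : ∀ U' : Y'.Opens, IsIso (f'.app U')) (U : Y.Opens) : IsIso (f.app U) :=
  Groth.Agent.H54.SteinDesc.isIso_app_of_isPullback_of_flat_surjective' d1 H hf' U

end Groth.Agent.H63.SteinDescent
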