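import Mathlib

/-!
# Small facts on morphisms to the spectrum of a field (helper63)
-/

set_option autoImplicit false
set_option linter.style.haveILetI false
universe u
open CategoryTheory CategoryTheory.Limits AlgebraicGeometry Opposite TopologicalSpace

namespace Groth.Agent.H63.SteinPt

variable {k : Type u} [Field k]

/-- over a field, `O(Y) = k` implies that `Y ⟶ Spec k` is Stein -/
theorem isIso_app_of_isIso_appTop {Y : Scheme.{u}}
    (p : Y ⟶ Spec (CommRingCat.of k)) (h : IsIso p.appTop)
    (U : (Spec (CommRingCat.of k)).Opens) : IsIso (p.app U) := by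
  haveI : Subsingleton (Spec (CommRingCat.of k)) :=
    inferInstanceAs (Subsingleton (PrimeSpectrum k))
  by_cases hU : U = ⊤
  · subst hU; exact h
  · have hU' : U = ⊥ := by
      rw [eq_bot_iff]
      intro x hx
      exfalso
      apply hU
      rw [eq_top_iff]
      intro z _
      rw [Subsingleton.elim z x]
      exact hx
    subst hU'
    haveI : Subsingleton Γ(Y, p ⁻¹ᵁ ⊥) := by
      rw [Scheme.Hom.preimage_bot]
      infer_instance
    rw [ConcreteCategory.isIso_iff_bijective]
    exact ⟨fun a b _ => Subsingleton.elim _ _, fun b => ⟨0, Subsingleton.elim _ _⟩⟩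

/-- a morphism out of a finite type `k`-scheme is quasi-compact -/
theorem quasiCompact_of_lft_qc (G : Over (Spec (CommRingCat.of k)))
    [LocallyOfFiniteType G.hom] [QuasiCompact G.hom] {Z : Scheme.{u}} (q : G.left ⟶ Z) :
    QuasiCompact q := by
  haveI : IsLocallyNoetherian G.left := LocallyOfFiniteType.isLocallyNoetherian G.hom
  haveI : CompactSpace G.left := QuasiCompact.compactSpace_of_compactSpace G.hom
  haveI : IsNoetherian G.left := {}
  haveI : NoetherianSpace G.left := inferInstance
  exact ⟨fun U _ _ => NoetherianSpace.isCompact _⟩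

/-- a nonempty `k`-scheme surjects onto `Spec k` -/
theorem surjective_of_nonempty (G : Over (Spec (CommRingCat.of k))) [Nonempty G.left] :
    Surjective G.hom := by
  haveI : Subsingleton (Spec (CommRingCat.of k)) :=
    inferInstanceAs (Subsingleton (PrimeSpectrum k))
  obtain ⟨g⟩ := ‹Nonempty G.left›
  exact ⟨fun x => ⟨g, Subsingleton.elim _ _⟩⟩

end Groth.Agent.H63.SteinPt
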