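import Mathlib
import Groth.Agent.H93.Transp2

/-!
# Closed conditions which are only "closed" on points landing in an affine open

Variant of `Groth.Agent.H93.Transp.ClosedCond` (same argument, copied): the closedness axiom
`ideal` is only required for points `g : Spec C ⟶ Y` landing in an affine open of `Y`.  This covers
equaliser-type conditions with values in a non-separated scheme, as soon as both sides land in a
common affine open.
-/

set_option autoImplicit false
universe u

namespace Groth.Agent.H63.TranspLoc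

open CategoryTheory CategoryTheory.Limits AlgebraicGeometry
open Groth.Agent.H93.Centre
open Groth.Agent.H93.Transp (tmap_incl_left tmap_incl_right tlmul_incl_left tlmul_incl_right algV
  ptV ptV_left)
open Groth.Agent.H93
open scoped TensorProduct

variable {K : Type u} [Field K]

/-- A condition on pairs of points of `Y` and `X`, closed on points landing in affine opens. -/
structure LocClosedCond (Y X : Over (Spec (CommRingCat.of K))) where
  /-- the condition -/
  P : ∀ ⦃T : Over (Spec (CommRingCat.of K))⦄, (T ⟶ Y) → (T ⟶ X) → Prop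
  /-- stability under base change -/
  comp : ∀ ⦃T T' : Over (Spec (CommRingCat.of K))⦄ (h : T' ⟶ T) (g : T ⟶ Y) (x : T ⟶ X),
    P g x → P (h ≫ g) (h ≫ x)
  /-- closedness on affines landing in an affine open -/
  ideal : ∀ (U : Y.left.affineOpens) (C : Type u) [CommRing C] [Algebra K C]
    (g : SpecO K C ⟶ Y) (x : SpecO K C ⟶ X), (∀ s, g.left s ∈ U.1) →
    ∃ I : Ideal C, ∀ (R : Type u) [CommRing R] [Algebra K R] (θ : C →ₐ[K] R),
      P (SpecO.map θ ≫ g) (SpecO.map θ ≫ x) ↔ I ≤ RingHom.ker θ.toRingHom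
  /-- Zariski locality -/
  loc : ∀ ⦃T : Over (Spec (CommRingCat.of K))⦄ (g : T ⟶ Y) (x : T ⟶ X),
    (∀ p : T.left, ∃ (W : T.left.Opens) (hW : IsAffineOpen W), p ∈ W ∧
      ∀ (alg : Algebra K Γ(T.left, W)) (w : @SpecO K _ Γ(T.left, W) _ alg ⟶ T),
        w.left = hW.fromSpec → P (w ≫ g) (w ≫ x)) → P g x

variable {Y X : Over (Spec (CommRingCat.of K))} (c : LocClosedCond Y X)

section AC

variable {A R B : Type u} [CommRing A] [Algebra K A] [CommRing R] [Algebra K R]
  [CommRing B] [Algebra K B]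

/-- An `R`-point of `Y` satisfying the condition against all `B`-points of `X`, over `R ⊗ B`. -/
def ACc (z : SpecO K R ⟶ Y) : Prop :=
  ∀ (B : Type u) [CommRing B] [Algebra K B] (y : SpecO K B ⟶ X),
    c.P (SpecO.map (Algebra.TensorProduct.includeLeft : R →ₐ[K] R ⊗[K] B) ≫ z)
      (SpecO.map (Algebra.TensorProduct.includeRight : B →ₐ[K] R ⊗[K] B) ≫ y)

/-- The universal form of the condition on a `T`-point of `Y`. -/
def Univ {T : Over (Spec (CommRingCat.of K))} (g : T ⟶ Y) : Prop :=
  ∀ (T' : Over (Spec (CommRingCat.of K))) (h : T' ⟶ T) (x : T' ⟶ X), c.P (h ≫ g) x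

lemma Univ.comp {T T₁ : Over (Spec (CommRingCat.of K))} {g : T ⟶ Y} (hg : Univ c g)
    (t : T₁ ⟶ T) : Univ c (t ≫ g) := fun T' h x => by
  have := hg T' (h ≫ t) x
  rwa [Category.assoc] at this

lemma Univ.ac {z : SpecO K R ⟶ Y} (hz : Univ c z) : ACc c z := fun B _ _ y =>
  hz (SpecO K (R ⊗[K] B))
    (SpecO.map (Algebra.TensorProduct.includeLeft : R →ₐ[K] R ⊗[K] B))
    (SpecO.map (Algebra.TensorProduct.includeRight : B →ₐ[K] R ⊗[K] B) ≫ y)

lemma ACc.diag {z : SpecO K R ⟶ Y} (hz : ACc c z) (y : SpecO K R ⟶ X) : c.P z y := by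
  have h := c.comp (SpecO.map (Algebra.TensorProduct.lmul' K (S := R))) _ _ (hz R y)
  rwa [tlmul_incl_left, tlmul_incl_right] at h

/-- The universal condition can be tested on affine test objects mapping into affine opens. -/
lemma univ_of_forall_affine {T : Over (Spec (CommRingCat.of K))} (g : T ⟶ Y)
    (H : ∀ (R : CommRingCat.{u}) (_ : Algebra K R) (t : SpecO K R ⟶ T)
      (U : Y.left.affineOpens), (∀ s, (t ≫ g).left s ∈ U.1) → ACc c (t ≫ g)) :
    Univ c g := by
  intro T' h x
  apply c.loc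
  intro p
  obtain ⟨_, ⟨U, hU, rfl⟩, hpU, -⟩ := Y.left.isBasis_affineOpens.exists_subset_of_mem_open
    (Set.mem_univ ((h ≫ g).left p)) isOpen_univ
  obtain ⟨_, ⟨W, hW, rfl⟩, hpW, hWU⟩ := T'.left.isBasis_affineOpens.exists_subset_of_mem_open
    (show p ∈ ((h ≫ g).left ⁻¹ᵁ U : Set T'.left) from hpU) ((h ≫ g).left ⁻¹ᵁ U).isOpen
  refine ⟨W, hW, hpW, ?_⟩
  intro alg w hw
  let _ := alg
  have hac : ACc c ((w ≫ h) ≫ g) := H _ alg (w ≫ h) ⟨U, hU⟩ (fun s => by
    have : ((w ≫ h) ≫ g).left s = (h ≫ g).left (hW.fromSpec s) := by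
      rw [Category.assoc, Over.comp_left, hw]; rfl
    rw [this]
    exact hWU (ZR.fromSpec_mem hW s))
  have := ACc.diag c hac (w ≫ x)
  rwa [Category.assoc] at this

lemma comp_mem {A' B' : Type u} [CommRing A'] [Algebra K A'] [CommRing B'] [Algebra K B']
    (U : Y.left.affineOpens) (g : SpecO K A' ⟶ Y) (hg : ∀ s, g.left s ∈ U.1)
    (t : SpecO K B' ⟶ SpecO K A') : ∀ s, (t ≫ g).left s ∈ U.1 := by
  intro s
  rw [Over.comp_left]
  exact hg (t.left s)

/-- The ideal of `A ⊗ B` cutting out the locus where the condition holds for `g_B` and `y_A`. -/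
noncomputable def pairIdeal (U : Y.left.affineOpens) (g : SpecO K A ⟶ Y)
    (hg : ∀ s, g.left s ∈ U.1) (y : SpecO K B ⟶ X) : Ideal (A ⊗[K] B) :=
  (c.ideal U (A ⊗[K] B)
    (SpecO.map (Algebra.TensorProduct.includeLeft : A →ₐ[K] A ⊗[K] B) ≫ g)
    (SpecO.map (Algebra.TensorProduct.includeRight : B →ₐ[K] A ⊗[K] B) ≫ y)
    (comp_mem U g hg _)).choose

lemma pairIdeal_spec (U : Y.left.affineOpens) (g : SpecO K A ⟶ Y)
    (hg : ∀ s, g.left s ∈ U.1) (y : SpecO K B ⟶ X) {R' : Type u} [CommRing R']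
    [Algebra K R'] (θ : A ⊗[K] B →ₐ[K] R') :
    c.P (SpecO.map θ ≫ SpecO.map (Algebra.TensorProduct.includeLeft : A →ₐ[K] A ⊗[K] B) ≫ g)
      (SpecO.map θ ≫ SpecO.map (Algebra.TensorProduct.includeRight : B →ₐ[K] A ⊗[K] B) ≫ y) ↔
      pairIdeal c U g hg y ≤ RingHom.ker θ.toRingHom :=
  (c.ideal U (A ⊗[K] B)
    (SpecO.map (Algebra.TensorProduct.includeLeft : A →ₐ[K] A ⊗[K] B) ≫ g)
    (SpecO.map (Algebra.TensorProduct.includeRight : B →ₐ[K] A ⊗[K] B) ≫ y)
    (comp_mem U g hg _)).choose_spec R' θ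

/-- The ideal of `A` cutting out the locus where the point `g` satisfies the condition
universally. -/
noncomputable def univIdeal (U : Y.left.affineOpens) (g : SpecO K A ⟶ Y)
    (hg : ∀ s, g.left s ∈ U.1) : Ideal A :=
  sSup {J | ∃ (B : Type u) (_ : CommRing B) (_ : Algebra K B) (y : SpecO K B ⟶ X),
    J = coeffIdeal (pairIdeal c U g hg y)}

lemma acc_comp_iff (U : Y.left.affineOpens) (g : SpecO K A ⟶ Y)
    (hg : ∀ s, g.left s ∈ U.1) (φ : A →ₐ[K] R) :
    ACc c (SpecO.map φ ≫ g) ↔ univIdeal c U g hg ≤ RingHom.ker φ.toRingHom := by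
  rw [univIdeal, sSup_le_iff]
  constructor
  · rintro h J ⟨B, _, _, y, rfl⟩
    rw [coeffIdeal_le_ker_iff, ← pairIdeal_spec, tmap_incl_left, tmap_incl_right]
    exact h B y
  · intro h B _ _ y
    have := h _ ⟨B, inferInstance, inferInstance, y, rfl⟩
    rw [coeffIdeal_le_ker_iff, ← pairIdeal_spec, tmap_incl_left, tmap_incl_right] at this
    exact this

end AC

section Ideal

/-- The ideal of the condition on an affine open. -/
lemma ptV_mem (U : Y.left.affineOpens) : ∀ s, (ptV Y U).left s ∈ U.1 := by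
  intro s
  rw [ptV_left]
  exact ZR.fromSpec_mem U.2 s

noncomputable def idealV (U : Y.left.affineOpens) : Ideal Γ(Y.left, U.1) :=
  letI := algV Y U
  univIdeal c U (ptV Y U) (ptV_mem U)

lemma ac_iff_idealV_le (U : Y.left.affineOpens) {R : Type u} [CommRing R] [Algebra K R]
    (ρ : Γ(Y.left, U.1) ⟶ CommRingCat.of R) (z : SpecO K R ⟶ Y)
    (hz : z.left = Spec.map ρ ≫ U.2.fromSpec) :
    ACc c z ↔ idealV c U ≤ RingHom.ker ρ.hom := by
  letI := algV Y U
  have hK : ρ.hom.comp (algebraMap K Γ(Y.left, U.1)) = algebraMap K R := by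
    have h1 : Spec.map (CommRingCat.ofHom (algebraMap K Γ(Y.left, U.1)) ≫ ρ) =
        Spec.map (CommRingCat.ofHom (algebraMap K R)) := by
      rw [Spec.map_comp]
      have h2 : (ptV Y U).left ≫ Y.hom =
          Spec.map (CommRingCat.ofHom (algebraMap K Γ(Y.left, U.1))) := Over.w (ptV Y U)
      have h3 : z.left ≫ Y.hom = Spec.map (CommRingCat.ofHom (algebraMap K R)) := Over.w z
      rw [← h2, ptV_left, ← Category.assoc, ← hz, h3]
    have := Spec.map_injective h1
    exact congrArg (fun m => m.hom) this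
  let φ : Γ(Y.left, U.1) →ₐ[K] R :=
    { ρ.hom with commutes' := fun k => congrArg (fun m : K →+* R => m k) hK }
  have hzφ : z = SpecO.map φ ≫ ptV Y U := by
    apply Over.OverMorphism.ext
    rw [Over.comp_left, ptV_left, hz]; rfl
  rw [hzφ, acc_comp_iff c U (ptV Y U) (ptV_mem U) φ]
  rfl

lemma idealV_map_basicOpen (U : Y.left.affineOpens) (f : Γ(Y.left, U.1)) :
    (idealV c U).map (Y.left.presheaf.map (homOfLE <| Y.left.basicOpen_le f).op).hom =
      idealV c (Y.left.affineBasicOpen f) := by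
  have hfs : Spec.map (Y.left.presheaf.map (homOfLE <| Y.left.basicOpen_le f).op) ≫
      U.2.fromSpec = (Y.left.affineBasicOpen f).2.fromSpec :=
    U.2.map_fromSpec (Y.left.affineBasicOpen f).2 _
  letI := algV Y (Y.left.affineBasicOpen f)
  have key : ∀ M : Ideal Γ(Y.left, (Y.left.affineBasicOpen f).1),
      idealV c (Y.left.affineBasicOpen f) ≤ M ↔
        idealV c U ≤
          M.comap (Y.left.presheaf.map (homOfLE <| Y.left.basicOpen_le f).op).hom := by
    intro M
    let z : SpecO K (Γ(Y.left, (Y.left.affineBasicOpen f).1) ⧸ M) ⟶ Y :=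
      SpecO.map (Ideal.Quotient.mkₐ K M) ≫ ptV Y (Y.left.affineBasicOpen f)
    have hz1 : z.left = Spec.map (CommRingCat.ofHom (Ideal.Quotient.mk M)) ≫
        (Y.left.affineBasicOpen f).2.fromSpec := by
      rw [Over.comp_left, ptV_left]; rfl
    have hz2 : z.left = Spec.map ((Y.left.presheaf.map
        (homOfLE <| Y.left.basicOpen_le f).op) ≫ CommRingCat.ofHom (Ideal.Quotient.mk M)) ≫
        U.2.fromSpec := by
      rw [hz1, Spec.map_comp, Category.assoc, hfs]
      rfl
    have e1 := ac_iff_idealV_le c (Y.left.affineBasicOpen f)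
      (CommRingCat.ofHom (Ideal.Quotient.mk M)) z hz1
    have e2 := ac_iff_idealV_le c U ((Y.left.presheaf.map
        (homOfLE <| Y.left.basicOpen_le f).op) ≫ CommRingCat.ofHom (Ideal.Quotient.mk M)) z hz2
    have h1 : RingHom.ker (CommRingCat.ofHom (Ideal.Quotient.mk M)).hom = M := Ideal.mk_ker
    have h2 : RingHom.ker ((Y.left.presheaf.map
        (homOfLE <| Y.left.basicOpen_le f).op) ≫
          CommRingCat.ofHom (Ideal.Quotient.mk M)).hom =
        M.comap (Y.left.presheaf.map (homOfLE <| Y.left.basicOpen_le f).op).hom := by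
      exact ker_comp_mk _ M
    rw [h1] at e1
    rw [h2] at e2
    exact e1.symm.trans e2
  apply le_antisymm
  · rw [Ideal.map_le_iff_le_comap]
    exact (key _).mp le_rfl
  · exact (key _).mpr Ideal.le_comap_map

/-- The ideal sheaf of the condition. -/
noncomputable def condIdeal : Y.left.IdealSheafData where
  ideal U := idealV c U
  map_ideal_basicOpen U f := idealV_map_basicOpen c U f

theorem representable :
    ∃ (Z : Over (Spec (CommRingCat.of K))) (incl : Z ⟶ Y), IsClosedImmersion incl.left ∧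
      ∀ (T : Over (Spec (CommRingCat.of K))) (g : T ⟶ Y),
        (∃ z : T ⟶ Z, z ≫ incl = g) ↔ Univ c g := by
  refine ⟨Over.mk ((condIdeal c).subschemeι ≫ Y.hom),
    Over.homMk (condIdeal c).subschemeι rfl, ?_, ?_⟩
  · show IsClosedImmersion (condIdeal c).subschemeι
    infer_instance
  intro T g
  constructor
  · rintro ⟨z, rfl⟩
    apply Univ.comp
    apply univ_of_forall_affine
    intro R alg t U hU
    let _ := alg
    obtain ⟨ρ, hρ⟩ := ZR.exists_factor_fromSpec U.2
      ((t ≫ (Over.homMk (condIdeal c).subschemeι rfl :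
        Over.mk ((condIdeal c).subschemeι ≫ Y.hom) ⟶ Y)).left) hU
    rw [ac_iff_idealV_le c U ρ _ hρ.symm]
    intro a ha
    rw [RingHom.mem_ker]
    apply app_factor U.2 ρ _ hρ
    have h0 : ((condIdeal c).subschemeι.app U.1).hom a = 0 := by
      have := (condIdeal c).ker_subschemeι_app U
      rw [← RingHom.mem_ker, this]
      exact ha
    show ((t.left ≫ (condIdeal c).subschemeι).app U.1).hom a = 0
    rw [Scheme.Hom.comp_app]
    show (t.left.app _).hom (((condIdeal c).subschemeι.app U.1).hom a) = 0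
    rw [h0, map_zero]
  · intro hg
    have hI : condIdeal c ≤ g.left.ker := by
      rw [Scheme.Hom.ker, Scheme.IdealSheafData.le_ofIdeals_iff]
      intro U a ha
      refine RingHom.mem_ker.mpr ?_
      apply section_eq_zero_of_affine
      intro W hW hWU
      obtain ⟨alg, w, hw⟩ := exists_specO_of_hom T Γ(T.left, W) hW.fromSpec
      let _ := alg
      have hac : ACc c (w ≫ g) := (hg.comp c w).ac c
      have hz : (w ≫ g).left = Spec.map (g.left.appLE U.1 W hWU) ≫ U.2.fromSpec := by
        rw [Over.comp_left, hw, IsAffineOpen.SpecMap_appLE_fromSpec g.left U.2 hW hWU]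
      have hle := (ac_iff_idealV_le c U (g.left.appLE U.1 W hWU) (w ≫ g) hz).mp hac
      have := hle ha
      rw [RingHom.mem_ker] at this
      exact this
    refine ⟨Over.homMk (IsClosedImmersion.lift (condIdeal c).subschemeι g.left
      (by rw [(condIdeal c).ker_subschemeι]; exact hI)) ?_, ?_⟩
    · show IsClosedImmersion.lift _ _ _ ≫ ((condIdeal c).subschemeι ≫ Y.hom) = T.hom
      rw [← Category.assoc, IsClosedImmersion.lift_fac]
      exact Over.w g
    · apply Over.OverMorphism.ext
      show IsClosedImmersion.lift (condIdeal c).subschemeι g.left _ ≫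
        (condIdeal c).subschemeι = g.left
      exact IsClosedImmersion.lift_fac _ _ _

end Ideal

end Groth.Agent.H63.TranspLoc
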