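import Mathlib
import Groth.Agent.H63.TranspLoc
import Groth.Prelude.Def_AlgGrp

/-!
# Fixed points of a family of endomorphisms stabilising every open subscheme

`fixed_representable`: for `a : Y ⊗ X ⟶ X` over a field such that every open of `X` is stable,
the fixed point functor of `a` is represented by a closed subscheme of `X` (no separatedness).
-/

set_option autoImplicit false
universe u

namespace Groth.Agent.H63.TranspLoc

open CategoryTheory CategoryTheory.Limits AlgebraicGeometry MonoidalCategory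
  CartesianMonoidalCategory
open Groth.Agent.H93.Centre
open scoped TensorProduct

variable {K : Type u} [Field K]

lemma exists_factor_open {X : Over (Spec (CommRingCat.of K))} (U : X.left.Opens)
    {T : Over (Spec (CommRingCat.of K))} (g : T ⟶ X) (hg : ∀ s, g.left s ∈ U) :
    ∃ g' : T ⟶ Over.mk (U.ι ≫ X.hom),
      g' ≫ (Over.homMk U.ι rfl : Over.mk (U.ι ≫ X.hom) ⟶ X) = g := by
  have hr : Set.range g.left ⊆ Set.range U.ι := by
    rw [Scheme.Opens.range_ι]
    rintro _ ⟨s, rfl⟩
    exact hg s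
  refine ⟨Over.homMk (IsOpenImmersion.lift U.ι g.left hr) ?_, ?_⟩
  · show IsOpenImmersion.lift U.ι g.left hr ≫ U.ι ≫ X.hom = T.hom
    rw [IsOpenImmersion.lift_fac_assoc]
    exact Over.w g
  · apply Over.OverMorphism.ext
    show IsOpenImmersion.lift U.ι g.left hr ≫ U.ι = g.left
    exact IsOpenImmersion.lift_fac _ _ _

section Fixed

variable {X Y : Over (Spec (CommRingCat.of K))} (a : Y ⊗ X ⟶ X)
  (hstab : ∀ U : X.left.Opens, (snd Y X).left ⁻¹ᵁ U ≤ a.left ⁻¹ᵁ U)

include hstab in
lemma act_mem (U : X.left.Opens) {T : Over (Spec (CommRingCat.of K))} (g : T ⟶ X) (x : T ⟶ Y)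
    (hg : ∀ s, g.left s ∈ U) : ∀ s, (lift x g ≫ a).left s ∈ U := by
  intro s
  rw [Over.comp_left]
  have h1 : (lift x g).left s ∈ (snd Y X).left ⁻¹ᵁ U := by
    show (snd Y X).left ((lift x g).left s) ∈ U
    have : (lift x g).left ≫ (snd Y X).left = g.left := by
      rw [← Over.comp_left, lift_snd]
    have h2 : (snd Y X).left ((lift x g).left s) = g.left s := by
      rw [← this]; rfl
    rw [h2]
    exact hg s
  exact hstab U h1

include hstab in
lemma fixed_ideal (U : X.left.affineOpens) (C : Type u) [CommRing C] [Algebra K C]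
    (g : SpecO K C ⟶ X) (x : SpecO K C ⟶ Y) (hg : ∀ s, g.left s ∈ U.1) :
    ∃ I : Ideal C, ∀ (R : Type u) [CommRing R] [Algebra K R] (θ : C →ₐ[K] R),
      lift (SpecO.map θ ≫ x) (SpecO.map θ ≫ g) ≫ a = SpecO.map θ ≫ g ↔
        I ≤ RingHom.ker θ.toRingHom := by
  obtain ⟨g', hg'⟩ := exists_factor_open U.1 g hg
  obtain ⟨l', hl'⟩ := exists_factor_open U.1 (lift x g ≫ a) (act_mem a hstab U.1 g x hg)
  haveI : IsAffine (Over.mk (U.1.ι ≫ X.hom)).left := U.2
  haveI : IsSeparated (Over.mk (U.1.ι ≫ X.hom)).hom := by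
    show IsSeparated (U.1.ι ≫ X.hom)
    haveI : IsAffine (U.1 : Scheme) := U.2
    infer_instance
  obtain ⟨I, hI⟩ := exists_eqIdeal (Over.mk (U.1.ι ≫ X.hom)) l' g'
  refine ⟨I, fun R _ _ θ => ?_⟩
  rw [← hI R θ]
  haveI : Mono (Over.homMk U.1.ι rfl : Over.mk (U.1.ι ≫ X.hom) ⟶ X) := by
    haveI : Mono (Over.homMk U.1.ι rfl : Over.mk (U.1.ι ≫ X.hom) ⟶ X).left := by
      show Mono U.1.ι
      infer_instance
    exact Over.mono_of_mono_left _
  have e1 : lift (SpecO.map θ ≫ x) (SpecO.map θ ≫ g) ≫ a =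
      (SpecO.map θ ≫ l') ≫ (Over.homMk U.1.ι rfl : Over.mk (U.1.ι ≫ X.hom) ⟶ X) := by
    rw [Category.assoc, hl', ← Category.assoc, comp_lift]
  have e2 : SpecO.map θ ≫ g =
      (SpecO.map θ ≫ g') ≫ (Over.homMk U.1.ι rfl : Over.mk (U.1.ι ≫ X.hom) ⟶ X) := by
    rw [Category.assoc, hg']
  rw [e1, e2, cancel_mono]

/-- the fixed point condition as a locally closed condition -/
def fixedCond : LocClosedCond X Y where
  P := fun _ g x => lift x g ≫ a = g
  comp := Groth.Agent.H93.Transp.eq_comp (fun _ g x => lift x g ≫ a) (fun _ g _ => g)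
    (fun T T' h g x => by rw [← Category.assoc, comp_lift]) (fun T T' h g x => rfl)
  ideal := fixed_ideal a hstab
  loc := Groth.Agent.H93.Transp.eq_loc (fun _ g x => lift x g ≫ a) (fun _ g _ => g)
    (fun T T' h g x => by rw [← Category.assoc, comp_lift]) (fun T T' h g x => rfl)

include hstab in
theorem fixed_representable :
    ∃ (W : Over (Spec (CommRingCat.of K))) (incl : W ⟶ X), IsClosedImmersion incl.left ∧
      ∀ (T : Over (Spec (CommRingCat.of K))) (g : T ⟶ X),
        (∃ z : T ⟶ W, z ≫ incl = g) ↔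
          ∀ (T' : Over (Spec (CommRingCat.of K))) (h : T' ⟶ T) (x : T' ⟶ Y),
            lift x (h ≫ g) ≫ a = h ≫ g :=
  representable (fixedCond a hstab)

end Fixed

end Groth.Agent.H63.TranspLoc
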