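import Mathlib
import Groth.Prelude
import Groth.Agent.H63.UnrSecA

set_option autoImplicit false
universe u
open CategoryTheory CategoryTheory.Limits AlgebraicGeometry TensorProduct

namespace Groth.Agent.H63.UnrSecB

/-- A surjective ring map whose `Spec` is an open immersion is split by an idempotent. -/
theorem exists_idempotent_of_isOpenImmersion {C B : Type u} [CommRing C] [CommRing B]
    (φ : C →+* B) (hφ : Function.Surjective φ)
    (h : IsOpenImmersion (Spec.map (CommRingCat.ofHom φ))) :
    ∃ e : C, φ e = 1 ∧ ∀ c, φ c = 0 → c * e = 0 := by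
  haveI := h
  set f := Spec.map (CommRingCat.ofHom φ) with hf
  -- the range is clopen
  have hopen : IsOpen (Set.range f) := f.isOpenEmbedding.isOpen_range
  haveI : IsClosedImmersion f := IsClosedImmersion.spec_of_surjective _ hφ
  have hclosed : IsClosed (Set.range f) := f.isClosedEmbedding.isClosed_range
  obtain ⟨e, he, hrange⟩ := (PrimeSpectrum.isClopen_iff (R := C)
    (s := Set.range f)).mp ⟨hclosed, hopen⟩
  set g := Spec.map (CommRingCat.ofHom (algebraMap C (Localization.Away e))) with hg
  have hrg : Set.range g = (PrimeSpectrum.basicOpen e : Set (PrimeSpectrum C)) :=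
    PrimeSpectrum.localization_away_comap_range (Localization.Away e) e
  have hfg : Set.range f = Set.range g := by rw [hrg]; exact hrange
  let ι := IsOpenImmersion.isoOfRangeEq f g hfg
  have hι : ι.hom ≫ g = f := IsOpenImmersion.isoOfRangeEq_hom_fac f g hfg
  obtain ⟨ψ, hψ⟩ : ∃ ψ : CommRingCat.of (Localization.Away e) ⟶ CommRingCat.of B,
      Spec.map ψ = ι.hom := ⟨Spec.preimage ι.hom, Spec.map_preimage _⟩
  have hcomp : CommRingCat.ofHom (algebraMap C (Localization.Away e)) ≫ ψ =
      CommRingCat.ofHom φ := by
    apply Spec.map_injective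
    rw [Spec.map_comp, hψ]
    exact hι
  have hψiso : IsIso ψ := by
    haveI : IsIso (Spec.map ψ) := by rw [hψ]; infer_instance
    haveI : IsIso (Scheme.Spec.map ψ.op) := ‹IsIso (Spec.map ψ)›
    haveI : IsIso ψ.op := isIso_of_reflects_iso ψ.op Scheme.Spec
    exact isIso_of_op ψ
  have hψinj : Function.Injective ψ.hom := (ConcreteCategory.bijective_of_isIso ψ).1
  have hφψ : ∀ c : C, φ c = ψ.hom (algebraMap C (Localization.Away e) c) := by
    intro c
    have := congrArg (fun θ : CommRingCat.of C ⟶ CommRingCat.of B => θ.hom c) hcomp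
    exact this.symm
  have he1 : algebraMap C (Localization.Away e) e = 1 := by
    have hu : IsUnit (algebraMap C (Localization.Away e) e) :=
      IsLocalization.Away.algebraMap_isUnit e
    have hi : algebraMap C (Localization.Away e) e * algebraMap C (Localization.Away e) e =
        algebraMap C (Localization.Away e) e := by
      rw [← map_mul, he.eq]
    exact (IsUnit.mul_eq_left hu).mp hi |> fun h => h
  refine ⟨e, ?_, ?_⟩
  · rw [hφψ, he1, map_one]
  · intro c hc
    have h0 : algebraMap C (Localization.Away e) c = 0 := by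
      apply hψinj
      rw [← hφψ, hc, map_zero]
    rw [IsLocalization.map_eq_zero_iff (Submonoid.powers e)] at h0
    obtain ⟨⟨m, n, hm⟩, hn⟩ := h0
    have hn' : e ^ n * c = 0 := by
      have : (e ^ n : C) = m := hm
      rw [this]; exact hn
    rcases n with _ | n
    · simp only [pow_zero, one_mul] at hn'
      rw [hn', zero_mul]
    · rw [he.pow_succ_eq n] at hn'
      rw [mul_comm]; exact hn'

/-- (U3b) ring level: if `Spec B ⟶ Spec (B ⊗[K] B)` is an open immersion then `B` is finite. -/
theorem finite_of_isOpenImmersion_lmul {K B : Type u} [Field K] [CommRing B] [Algebra K B]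
    (h : IsOpenImmersion (Spec.map (CommRingCat.ofHom
      (Algebra.TensorProduct.lmul' K : B ⊗[K] B →ₐ[K] B).toRingHom))) : Module.Finite K B := by
  have hsurj : Function.Surjective (Algebra.TensorProduct.lmul' K : B ⊗[K] B →ₐ[K] B).toRingHom := by
    intro b
    exact ⟨b ⊗ₜ 1, by simp⟩
  obtain ⟨e, he1, he2⟩ := exists_idempotent_of_isOpenImmersion _ hsurj h
  refine Groth.Agent.H63.UnrSecA.finite_of_free_of_elem (R := K) (S := B) e ?_ ?_
  · intro s
    apply he2
    simp
  · exact he1

end Groth.Agent.H63.UnrSecB
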