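import Mathlib
import Groth.Prelude
import Groth.Agent.H37.GrpObjGrpd
import Groth.Agent.S7453
import Groth.Agent.H75.ArtinResidueRU

set_option autoImplicit false
universe u
open CategoryTheory CategoryTheory.Limits MonoidalCategory CartesianMonoidalCategory MonObj GrpObj AlgebraicGeometry
open Groth.Agent.H37.GrpObjGrpd

namespace Groth.Agent.H63.UnrSecMain

/-- (U1) a section of a morphism with open-immersion diagonal is an open immersion -/
theorem isOpenImmersion_of_section {X S : Scheme.{u}} (f : X ⟶ S)
    [IsOpenImmersion (pullback.diagonal f)] (σ : S ⟶ X) (hσ : σ ≫ f = 𝟙 S) : IsOpenImmersion σ := by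
  have h := (MorphismProperty.hasOfPostcompProperty_iff_le_diagonal (P := @IsOpenImmersion)
    (Q := (@IsOpenImmersion : MorphismProperty Scheme.{u}).diagonal)).mpr le_rfl
  refine h.of_postcomp σ f ?_ ?_
  · exact (inferInstance : IsOpenImmersion (pullback.diagonal f))
  · rw [hσ]; exact (inferInstance : IsOpenImmersion (𝟙 S))

/-- (U2) the diagonal of a group scheme is a base change of its unit section -/
theorem isOpenImmersion_diagonal_of_unit {S : Scheme.{u}} (G : Over S) [GrpObj G]
    (h : IsOpenImmersion η[G].left) : IsOpenImmersion (pullback.diagonal G.hom) := by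
  have hw : pullback.fst (ofGrpObj G).s (ofGrpObj G).s ≫ (ofGrpObj G).s =
      (pullback.snd (ofGrpObj G).s (ofGrpObj G).s ≫ (ofGrpObj G).i) ≫ (ofGrpObj G).t := by
    rw [Category.assoc, (ofGrpObj G).i_t]; exact pullback.condition
  have sq := Groth.Agent.S7453.isPullback_diagonal_s (ofGrpObj G) hw
  have h' : IsOpenImmersion (ofGrpObj G).e := h
  exact MorphismProperty.of_isPullback (P := @IsOpenImmersion) sq.flip h'

end Groth.Agent.H63.UnrSecMain
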